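import Cfsg.Agent.Co2Type.TGroup
import Mathlib
set_option linter.all false

-- part: Co2Type/TCard
section
/-!
Orders of `E`, `T` and of centralisers in `T` of elements of `E`.
-/

set_option autoImplicit false

namespace Cfsg.Agent.Co2Type.TCard

open Cfsg Cfsg.Agent.SporadicA.GolayBase Cfsg.Agent.SporadicA.GolayPerm
open Cfsg.Agent.SporadicStructure.M24El
open Cfsg.Agent.Co2Type.Mono Cfsg.Agent.Co2Type.TData Cfsg.Agent.Co2Type.TGroup

/-- The indices of the masks of `E`. -/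
def S10 : List ℕ := (List.range 4096).filter fun i => Nat.beq (Nat.land (enc i) 8388609) 0

theorem length_S10 : S10.length = 1024 := by decide +kernel

theorem masks_eq : {m | inE m = true} = enc '' {i | i ∈ S10} := by
  ext m
  constructor
  · intro h
    have h' : inE m = true := h
    unfold inE at h'
    rw [Bool.and_eq_true] at h'
    obtain ⟨i, hi, rfl⟩ := isCode_iff_exists.1 h'.1
    exact ⟨i, List.mem_filter.2 ⟨List.mem_range.2 hi, h'.2⟩, rfl⟩
  · rintro ⟨i, hi, rfl⟩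
    have h := (List.mem_filter.1 hi).2
    show inE (enc i) = true
    unfold inE
    rw [isCode_enc, Bool.true_and]
    exact h

theorem ncard_list {l : List ℕ} (h : l.Nodup) : {i | i ∈ l}.ncard = l.length := by
  have : {i | i ∈ l} = (l.toFinset : Set ℕ) := by ext i; simp
  rw [this, Set.ncard_coe_finset, List.toFinset_card_of_nodup h]

theorem ncard_masks : {m | inE m = true}.ncard = 1024 := by
  rw [masks_eq, Set.InjOn.ncard_image, ncard_list, length_S10]
  · exact List.nodup_range.filter _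
  · intro i hi j hj h
    exact enc_injOn (List.mem_range.1 (List.mem_filter.1 hi).1)
      (List.mem_range.1 (List.mem_filter.1 hj).1) h

/-- The number of elements of `T` whose permutation satisfies `q`. -/
theorem ncard_filter (q : ℕ → Bool) :
    {g : Spor.Co2 | ∃ m P, inE m = true ∧ P ∈ L22 ∧ q P = true ∧ g = mo2 m P}.ncard =
      1024 * (L22.filter q).length := by
  have h : {g : Spor.Co2 | ∃ m P, inE m = true ∧ P ∈ L22 ∧ q P = true ∧ g = mo2 m P} =
      (fun x : ℕ × ℕ => mo2 x.1 x.2) '' ({m | inE m = true} ×ˢ {P | P ∈ L22.filter q}) := by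
    ext g
    constructor
    · rintro ⟨m, P, hm, hP, hq, rfl⟩
      exact ⟨(m, P), ⟨hm, List.mem_filter.2 ⟨hP, hq⟩⟩, rfl⟩
    · rintro ⟨⟨m, P⟩, ⟨hm, hP⟩, rfl⟩
      exact ⟨m, P, hm, (List.mem_filter.1 hP).1, (List.mem_filter.1 hP).2, rfl⟩
  rw [h, Set.InjOn.ncard_image, Set.ncard_prod, ncard_masks, ncard_list (nodup_L22.filter _)]
  rintro ⟨m, P⟩ ⟨hm, hP⟩ ⟨n, Q⟩ ⟨hn, hQ⟩ h2
  obtain ⟨h3, h4⟩ := mo2_injT hm hn (List.mem_filter.1 hP).1 (List.mem_filter.1 hQ).1 h2
  exact Prod.ext h3 h4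

theorem card_T : Nat.card T = 2 ^ 18 := by
  rw [← SetLike.coe_sort_coe, Nat.card_coe_set_eq]
  have h : ((T : Subgroup Spor.Co2) : Set Spor.Co2) =
      {g : Spor.Co2 | ∃ m P, inE m = true ∧ P ∈ L22 ∧ (fun _ : ℕ => true) P = true ∧ g = mo2 m P} := by
    ext g
    constructor
    · rintro ⟨m, P, hm, hP, rfl⟩
      exact ⟨m, P, hm, hP, rfl, rfl⟩
    · rintro ⟨m, P, hm, hP, -, rfl⟩
      exact ⟨m, P, hm, hP, rfl⟩
  rw [h, ncard_filter, List.filter_true, length_L22]
  norm_num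

theorem card_E : Nat.card E = 2 ^ 10 := by
  rw [← SetLike.coe_sort_coe, Nat.card_coe_set_eq]
  have h : ((E : Subgroup Spor.Co2) : Set Spor.Co2) =
      {g : Spor.Co2 | ∃ m P, inE m = true ∧ P ∈ L22 ∧ (fun P : ℕ => Nat.beq P idP) P = true ∧
        g = mo2 m P} := by
    ext g
    constructor
    · rintro ⟨m, hm, rfl⟩
      exact ⟨m, idP, hm, idP_mem, Nat.beq_refl _, rfl⟩
    · rintro ⟨m, P, hm, hP, h1, rfl⟩
      have h2 : P = idP := Nat.eq_of_beq_eq_true h1
      rw [h2]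
      exact mo2_mem_E hm
  rw [h, ncard_filter]
  have : (L22.filter fun P : ℕ => Nat.beq P idP).length = 1 := by decide +kernel
  rw [this]
  norm_num

/-- Commuting with an element of `E`. -/
theorem comm_E_iff {m n P : ℕ} (hm : inE m = true) (hn : inE n = true) (hP : okP P = true)
    (h : P < 2 ^ 120) : mo2 m P * mo2 n idP = mo2 n idP * mo2 m P ↔ pimg P n = n := by
  rw [mo2_conj_E hm hn hP h]
  constructor
  · intro h1
    have h2 := mul_right_cancel h1
    exact (mo2_inj (inE_pimg hP hn) hn okP_idP okP_idP idP_lt idP_lt h2).1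
  · intro h1
    rw [h1]

end Cfsg.Agent.Co2Type.TCard
end

-- part: Co2Type/Facts
section
/-!
The facts on the second Conway group `H` used in the closing argument (`C_G(z) ≤ H ≤ G` implies `H = G`), as one
structure: `T` is a Sylow 2-subgroup of `H` of order `2^18`, `E` an elementary abelian normal subgroup of `T`;
`z`, `y`, `v` are representatives of the three classes of involutions (2A, 2B, 2C).
All special elements lie in `E`. The theorem `CloseFacts Spor.Co2 ...` is in `Cfsg.Agent.Co2Type.FactsCo2`.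
-/

set_option autoImplicit false

namespace Cfsg.Agent.Co2Type.Facts

/-- `C_T(x)`. -/
def cent {H : Type*} [Group H] (T : Subgroup H) (x : H) : Subgroup H := T ⊓ Subgroup.centralizer {x}

/-- `C_T(x) ∩ C_T(y)`. -/
def cent2 {H : Type*} [Group H] (T : Subgroup H) (x y : H) : Subgroup H :=
  T ⊓ Subgroup.centralizer {x} ⊓ Subgroup.centralizer {y}

theorem mem_cent {H : Type*} [Group H] {T : Subgroup H} {x g : H} :
    g ∈ cent T x ↔ g ∈ T ∧ x * g = g * x := by
  simp only [cent, Subgroup.mem_inf, Subgroup.mem_centralizer_singleton_iff, eq_comm]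

theorem mem_cent2 {H : Type*} [Group H] {T : Subgroup H} {x y g : H} :
    g ∈ cent2 T x y ↔ g ∈ T ∧ x * g = g * x ∧ y * g = g * y := by
  simp only [cent2, Subgroup.mem_inf, Subgroup.mem_centralizer_singleton_iff, eq_comm, and_assoc]

/-- The facts on `H = Co2`. The class of an involution `x` is 2A, 2B, 2C if `IsConj z x`, `IsConj y x`, `IsConj v x`. -/
structure CloseFacts (H : Type*) [Group H] (T E : Subgroup H) (z y v : H) (z1 z2 u p : H) (a b c d : H) :
    Prop where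
  /-- the order of `T` -/
  cardT : Nat.card T = 2 ^ 18
  /-- `T` is a Sylow 2-subgroup of `H` -/
  odd_index : ¬ 2 ∣ T.index
  E_le : E ≤ T
  E_normal : ∀ t ∈ T, ∀ e ∈ E, t * e * t⁻¹ ∈ E
  E_comm : ∀ e ∈ E, ∀ f ∈ E, e * f = f * e
  E_sq : ∀ e ∈ E, e * e = 1
  cardE : Nat.card E = 2 ^ 10
  zE : z ∈ E
  yE : y ∈ E
  vE : v ∈ E
  z1E : z1 ∈ E
  z2E : z2 ∈ E
  uE : u ∈ E
  pE : p ∈ E
  aE : a ∈ E
  bE : b ∈ E
  cE : c ∈ E
  dE : d ∈ E
  /-- the centre of `T` -/
  z_comm : ∀ t ∈ T, t * z = z * t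
  center_T : ∀ t ∈ T, (∀ s ∈ T, s * t = t * s) → t = 1 ∨ t = z
  z_ne : z ≠ 1
  y_ne : y ≠ 1
  v_ne : v ≠ 1
  /-- the three classes of involutions -/
  classes : ∀ x : H, x * x = 1 → x ≠ 1 → IsConj z x ∨ IsConj y x ∨ IsConj v x
  not_zy : ¬ IsConj z y
  not_zv : ¬ IsConj z v
  not_yv : ¬ IsConj y v
  /-- centralisers in `T` of elements of 2A -/
  cent_le : ∀ x ∈ T, IsConj z x → x ≠ z → Nat.card (cent T x) ≤ 2 ^ 16
  cent_le_of_C : ∀ x ∈ T, IsConj z x → IsConj v (z * x) → Nat.card (cent T x) ≤ 2 ^ 14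
  /-- (D1): `v = z1 z2` is in 2C -/
  v_eq : v = z1 * z2
  z1A : IsConj z z1
  z2A : IsConj z z2
  cardv : Nat.card (cent T v) = 2 ^ 15
  only_v : ∀ x ∈ cent T v, IsConj z x → IsConj z (x * v) → x = z1 ∨ x = z2
  /-- (D2'): `Y = <y, p>`, pure 2B -/
  zy : IsConj y (z * y)
  zp : IsConj z (z * p)
  zyp : IsConj z (z * (y * p))
  p_ne : p ≠ 1
  pB : IsConj y p
  ypB : IsConj y (y * p)
  cardy : Nat.card (cent T y) = 2 ^ 17
  cardyp : Nat.card (cent2 T y p) = 2 ^ 16
  only_yp : ∀ x ∈ cent2 T y p, IsConj z x → IsConj y (x * y) → IsConj z (x * p) →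
    IsConj z (x * (y * p)) → x = z
  /-- (D2''): `u` is central in `C_T(y)` modulo `<y>` -/
  uA : IsConj z u
  uyA : IsConj z (u * y)
  u_comm : ∀ t ∈ cent T y, t * u * t⁻¹ = u ∨ t * u * t⁻¹ = u * y
  /-- the elements `s y = u x y` with `x` in `C_T(y)` of class 2A and `x y` of class 2B: they are in 2C or conjugate
  to `p` under the centraliser of `y` in `H` -/
  uxy : ∀ x ∈ cent T y, IsConj z x → IsConj y (x * y) →
    IsConj v (u * (x * y)) ∨ ∃ h : H, h * y * h⁻¹ = y ∧ h * (u * (x * y)) * h⁻¹ = p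
  /-- five elements of 2A in a subgroup of `E` of order 16 -/
  aA : IsConj z a
  bA : IsConj z b
  cA : IsConj z c
  dA : IsConj z d
  abcdA : IsConj z (a * b * c * d)

end Cfsg.Agent.Co2Type.Facts
end
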