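import Cfsg.Agent.SporadicRecognition.CosetCert
import Cfsg.Agent.Co2Type.AbsPs_m3
import Cfsg.Agent.SporadicRecognition.CosetChain
import Cfsg.Agent.Co2Type.PresDef
import Cfsg.Agent.SporadicRecognition.HypFast
import Cfsg.Agent.SporadicRecognition.CertFast
import Cfsg.Agent.Co2Type.Rels
import Cfsg.Agent.Co2Type.Up9Chk15_m3
import Cfsg.Agent.SporRec.TwoSp6.Invol
import Cfsg.Prelude.Def_CaseTheorems
import Cfsg.Prelude.Def_TwoFusion
import Cfsg.Agent.S0215
import Cfsg.Agent.S1180
import Cfsg.Agent.Co2Type.Up9Chk29_m3
import Cfsg.Agent.SporRec.TwoSp6.Sp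
import Cfsg.Agent.Co2Type.Pair
import Cfsg.Agent.Co2Type.PairCard
import Mathlib
import Cfsg.Agent.ClassicalGeometry.SympBasic
import Cfsg.Agent.S0765
import Cfsg.Agent.Co2Type.Setup
import Cfsg.Agent.Co2Type.CCode
import Cfsg.Agent.FastGrp
import Cfsg.Agent.Prune
set_option linter.all false

section
prune_inst 0x7ffcfcfbaffc39dfffff7e7fa7decffc39911fffe6dff94bffe0ebff1bff03ab0be5fbaf0de490feded6e01410b87853f9fffe7fe26bdc7ffffd5ff45ffbee1ff7ffbd0c51deb8b41ffc6ffff3f0778e7f3fffffffffffffffffffffffffffffffbfffffffff

-- part: Co2Type/UpBound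
section
set_option linter.all false
open scoped Cfsg.Agent.FastGrp

-- part: Co2Type/Up4Data
section
set_option autoImplicit false
set_option maxRecDepth 100000

namespace Cfsg.Agent.Co2Type.Up4Data

open Cfsg.Agent.SporadicRecognition.CosetCert

noncomputable def tree : Tr := beta% (fun (N : Nat → Tr → Tr → Tr) (L : Nat → Tr) => (N 64 (N 32 (N 16 (L
  0xffff302112862e20299e2ffff2b1f291e120910860ffff269c0f85281d19942ffff0e84261c249b17933ffff241b1f970d84231a1ffff0b8322190d051d963ffff21180a831f171b952ffff1d161b15118f09830ffff07821914149109053ffff17130582161207042ffff141113100482110f1ffff0381100e0c8b08883ffff0f0d02810e0c06872ffff0c0b0b0a01810a091ffff08080607050600810ffff0405030402030102f)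
  (L
  0xffff55362f122d9053351ffff2a8f51342d162c113ffff4f33288f4d322a102ffff4ab045ad278e4c311ffff270e258d4a3036a52ffff238c492f250d47ae3ffff472e3faa32a3228c0ffff43ac218b452d3da92ffff208a432c41ab3ba83ffff412b200c1e8a3f2a1ffff1c893d292c9f1e0b3ffff3b281a893a271c0a2ffff37a5188839261a0e2ffff1687362534a4180d3ffff34242ea0158732231ffff1386312215082b9f3))
  (N 48 (L
  0xffff4b1d75c6499c77471ffff6dc2489b754673c52ffff469a73455cb9481b3ffff6fc3461d449971441ffff441942986f4367bf2ffff40976d4242186bc13ffff6b41401a63bd3e970ffff68bf3c966a403e192ffff3a95673f65be3c183ffff653e4db23995633d1ffff5fbb59b83894613c1ffff381435935f3b371c2ffff33925e3a35135bb93ffff5b3953b5331a31920ffff57b73091593851b42ffff2f90573755b64fb33)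
  (L
  0xffff96d581cb69a998561ffff692966a89655682c2ffff64a79554662892d33ffff925379c8642a62a70ffff8fd289cf623160a60ffff60268dd15ea58f521ffff85cd5da48d518bd02ffff5aa38b505d2e5c243ffff87ce5a2658a2894f1ffff582256a1874e7eca2ffff54a0854d562183cc3ffff834c54237ac852a00ffff7fca509f814b52222ffff4e9e7e4a7cc950213ffff7c494e274c9e79481ffff77c771c461bc4b9d0)))
  (N 96 (N 80 (L
  0xffffb0e08ab9b7638c3a2ffffb5e28a3caddf88b80ffff8838b3e186b7b5621ffff863a84b6b261afe02ffff82b5af60a6dc84363ffffaade824080b4ac5f1ffff80347db3aa5e7f372ffff7bb2a85d7d33a5dc3ffffa55c7a3d7b3578b20ffff7831a3db90d276b00ffff9dd8763074afa35b1ffff9bd772aea25a742f2ffffa0d9723198d670ad0ffff702d9ed86eaca0591ffff6e2f6cab9d589ad72ffff6aaa9a5793d36c2b3)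
  (L
  0xffffb150aeccd26eb04d2ffffcfedad56ae4fabcb0ffffab4bcdeca9cacf6d1ffffa954a7c9cc6cc9eb2ffffa4c8c96ba74ca6493ffffc5e9a447c7eaa2c60ffffc2e8b7e3a1c5c76a1ffffa144c4e9c0e79fc30ffff9e469f439cc2c4691ffff9c4599c1c2689b422ffffbfe7acdf994497c00ffff9740bde695bfbf671ffffa8dd94bebd66bbe52ffff91bdbb659441933e3ffff903cb9e491478ebb0ffffb2e18e3b8cbab9641))
  (N 112 (L
  0xffffe7f6d86ad964d6e30ffffd664d562e8f6d3e10ffffd363e2f4d1e0e7761ffffd05fe4f5d162cede0ffffcd66ce5ecbdde4751ffffcb65c8dce174ca5d2ffffdef3d7f0c85bc6da0ffffc65bc559dff3c3d80ffffc35adaf1c1d7de731ffffc056dcf2c159bed50ffffccecbe55bcd4dc721ffffcaebbad3da71bc542ffffd5efba52d8f0b8d10ffffd2eeb85ab6d0d7701ffffb64fd4efd0edb4ce0ffffb351b44eb1cdd46f1)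
  (L
  0xffffef77ee76f075ecf40ffffeef8eb73ec72e9f10ffffe870edf8e96fe6ee0ffffe672e56deff8e3ec0ffffe271e36ee0ebed781ffffdf6aeaf7e069dde80ffffe5f5dd67ebf7dbe60ffffe1f4db68d9e5ea771)))))
  Tr.N Tr.L

noncomputable def wtree : WT := beta% (fun (N : Nat → WT → WT → WT) (L : Nat → List Nat → WT) (c : Nat → List
  Nat → List Nat) (n : List Nat) => (N 4 (N 2 (N 1 (L 0 (c 2 (c 0 (c 2 n)))) (L 0 (c 3 (c 0 (c 3 n))))) (N 3 (L
  1 (c 3 (c 1 (c 3 n)))) (L 1 (c 0 (c 1 (c 0 (c 1 (c 0 n)))))))) (N 6 (N 5 (L 2 (c 1 (c 2 (c 1 (c 2 (c 1
  n)))))) (L 3 (c 2 (c 3 (c 2 (c 3 (c 2 n))))))) (N 7 (L 2 (c 0 (c 2 (c 0 n)))) (N 8 (L 3 (c 1 (c 3 (c 1 n))))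
  (L 3 (c 0 (c 3 (c 0 n))))))))) WT.N WT.L (@List.cons Nat) (@List.nil Nat)

noncomputable def stree : ST := (.L 4 [] [])

noncomputable def C : Cert where
  data := tree
  lm := 15
  rb := 84
  fb := 16
  mask := 65535
  B := 128
  k := 4
  N := 120
  inv := fun x => x
  words := wtree
  subs := stree

def rels : List (List Nat) := [[0,3,0,3], [0,2,0,2], [3,1,3,1], [0,1,0,1,0,1], [1,2,1,2,1,2], [2,3,2,3,2,3]]

def subw : List (List Nat) := []

end Cfsg.Agent.Co2Type.Up4Data
end

-- part: Co2Type/Up4Chk0
section
set_option autoImplicit false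
set_option maxRecDepth 100000

namespace Cfsg.Agent.Co2Type.Up4Chk0

open Cfsg.Agent.SporadicRecognition.CosetCert Cfsg.Agent.Co2Type.Up4Data

private theorem alC : Cfsg.Agent.SporadicRecognition.CertFast.al (Nat.succ C.lm) C.data = true := by decide +kernel

theorem c0 : Part C 0 64 64 := Cfsg.Agent.SporadicRecognition.CertFast.part_fast C alC 64 (by decide +kernel : Cfsg.Agent.SporadicRecognition.CertFast.runF C 8 255 0x73430102020102020102021302630201836302010243010253010203010202027302010202010203010202130202330153010202010223020202010283633301024301025301020301022302730201020201020301020213020233015301020201022302024301027343010202010202010202130263020153010203010223130202010201020202020102027343010202010203010202130263330153010203010223130202010201022302020102025301020201022302024301020102021302010203020202015301020301022313024301020102021302010203020233010102230202010202020201020102231302010203020201020202020102020202 1 1 0 0 64 = 65)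

theorem c1 : Part C 64 120 56 := Cfsg.Agent.SporadicRecognition.CertFast.part_fast C alC 56 (by decide +kernel : Cfsg.Agent.SporadicRecognition.CertFast.runF C 8 255 0x202020183020201026302010202330102020102026302018302330173020102830202010202330102430102026302010202010202010202836302010202330102430102026302017302010253010202830233017302010202633301020201020201020283020201024301020201020301020202830233017343010202633301020201020201020283630201024301025301020301020202026302017302010253010202830233010243010202010203010223027302010202010202010202130202020102633301730201025301020283023301024301020201020301022302 1 1 0 64 56 = 57)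

theorem all : Part C 0 120 120 := (c0).append C c1

end Cfsg.Agent.Co2Type.Up4Chk0
end

-- part: Co2Type/Up4All
section
set_option autoImplicit false
set_option maxRecDepth 100000

namespace Cfsg.Agent.Co2Type.Up4All

open Cfsg.Agent.SporadicRecognition.CosetCert Cfsg.Agent.Co2Type.Up4Data

theorem part : Part C 0 C.N 120 := Cfsg.Agent.Co2Type.Up4Chk0.all

end Cfsg.Agent.Co2Type.Up4All
end

-- part: Co2Type/Up6Data
section
set_option autoImplicit false
set_option maxRecDepth 100000

namespace Cfsg.Agent.Co2Type.Up6Data

open Cfsg.Agent.SporadicRecognition.CosetCert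

noncomputable def t0 : Tr := beta% (fun (N : Nat → Tr → Tr → Tr) (L : Nat → Tr) => (N 208 (N 96 (N 48 (N 16 (L
  0xfffff827840130120f8190800d03b060138209fffff0460403d06412c120920f0700b82403d7ffffe082070750c03905c1141c088090660aafffffc1bc2e0800d03c038358580fc100c0143fffff8328540e8180be140390601d8300dc0e1fffff0530881b02c16826066060560901a82cbffffe0640602c028180281442205e0a02e0527ffffc09c0809a1004a0781581410c1c052095fffff82383c09410044040260401f034090107fffff0420701001c0f41a0420701e0201c0307ffffe0620a0190180e8180d0160380601b0327ffffc0500405a0a0180281502405c0a02c055fffff81402404c08046080100100f81c048085fffff00a0080d01803c0601c0300d0180600d7ffffe02a050050080480804408010020070127ffffc02c0600c02004008018040080200201f)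
  (N 32 (L
  0xfffff84f8503ec6014a150f7178518802882ebfffff0f4178770b82783e134140e91684e858bffffe1b82a0990f04a84839458130130e0159fffffc354521261d0df158490742503a120120fffff84704c33c501141108f0e06d0a8230387fffff0880906489c364541121b085088698a47ffffe1041a084088668a01fc20190270810d17ffffc1f8320f20f07d080618982e4480f6194fffff83c0601d01c176240bf1283b8402a0429fffff06e0685c0901cc1c16823071078508817ffffe164230ad110368581a81a0d81609c0f97ffffc1901814e210a4100348541a02a0ce0e5fffff85008018c280bc0c09b0f8310501841a7fffff08d0e02e04c164160ba130970f02d84cfffffe10e1b0570904b078160240aa0b0910e8fffffc150161061a08b0e028028218360a4112)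
  (L
  0xfffff8808c03e840200211662187f0c03f4489fffff0f30f8b09083e45e1f0201562007b08d7ffffe2b6410ed0f8788b83c85c2a03f0f01127ffffc5508029c3f0ea168760b43a03e1d62d1fffff89f8f05247c1ce2c0e40f0730b05147a5fffff13b1d8718ac3783a2883d0e215870878fffffe1ba1e1331d06c06c4f8781b61c1381d9fffffc3583a256391371d86a0a435c521a41b0fffff8688a0340381981a1271c0988e8338507fffff0cb1386506c4c074230350c70d0950e47ffffe18a260c6130918e03083223e370c41317ffffc3004a1822511b1b05f0604546a208312fffff85e8902dc2e178181121a05d0643f0609fffff0b10b0870cc2d84616a170b31187a8bd7ffffe212320ac0b0578882c04415c220ef1727ffffc2ac4214c150ff180818c42a842152184)))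
  (N 64 (L
  0xfffff8a98b4748ae2b240158200ab8bc55480bfffff1cc2b0a68b45487e38e55151170a78fd3ffffe38454148160a58f85307c2943e1bd29a7ffffc6bca0378531471e8a18ac6dca428c2c2fffff8a00b06cca22843c13d150a08f06b4a05fffff13c158d29384d8523585013a1d89c8a8fffffe26a3a1341509789c6a49e264281a2271fffffc4b472258291a1270c59284b872252270fffff8930e04947024426128140ce134490707fffff1211b8900dc66c9a3044811e130cb1307ffffe23a3611c1b08d09461c923224b171229fffffc45c6a22c351902588c89c4504a3144a1fffff8898d05f48e30a49111120c012059c865fffff1792308688c440662f84710f198b11093ffffe21022176230860c842c642143215c20afffffc4186220e31170228810845ac8820a252)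
  (N 80 (L
  0xfffff8d80f48f4d4362501ab1d91b1a46b8785fffff1aa279191a0878c83503a22a3311719cbffffe34e4e1a61d8d00e48b4ce3484e1a31d1fffffc67c9a33c4d19a1b91419867470444653fffff8cc13065c984426520d308cc9306546e1fffff194258c992c63c6a438641921b10b98cfffffe31c4a18d2510b18c630723e85c1891a87ffffc61892410601841a0c40d8848c43d45b3fffff8c092080cbe422621831b8bf8d0830c23fffff1fe2f0bf0d081cc02f6332022f8f0164bffffe2f433175190bc1187f4bc2ee461d92c27ffffc5d08a2e64516f188f696c7e0ba2e4363fffff8b69105b0883ee5d16e220b50c47c0b83fffff169218f11647a4b62ca301e52d0b40d0bffffe3b858160178b210877cb23a85716319a7ffffc5685c3b05815f208af104738ac2ba325)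
  (L
  0xfffff94e9e88249240c4720a301539f09e0e87fffff2973c902120a98f840a5f201239509ec7ffffe3fe472002f14d9e87f08c52a7926d3917ffffc7ecba3f45d1f6221489e07e48a514773fffff8f99707c8b8512771f12e0fa9287bc881fffff1ec2d93d1d07a0863dc452853b0f5924fffffe3cc5a274399421d879cb43c84327e3a8fffffc9bce43c6432773a0ef1089cce63c2472fffff8ee90875c823b65826c391311c07688c9fffff265380e8900758ae4d0711d5210e995d3ffffe3963f260380e8158974de39e411cd2b2fffffc968de39455254370e30fc724aa390552fffff8e08f8914d638a541c42a0e195093cdabfffff24e368dd8f46fca63805324a360df0f93ffffe47069248360dc1486e8a436c3d1b9290fffffc908d63643c1b5289199a06d0a247c6a4))))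
  (N 144 (N 112 (L
  0xfffff93315c97cac4c87030146131960984e09fffff2592a97e22cbe5144bc5625c3792d9bd7ffffe5ea8a25737129954960dc4ac6e255371fffffc934a65ce87252369289b4bc5124a0545fffff977a2491ca44986c2ea4412594c924d89fffff24128923150910d65b2852433597221d7ffffe5c68723c281201a8b55085be8623f28a7ffffc8e4a45ba862373491d9a48d4a0474691fffff96c2148c49e5808023428965208b4d089fffff23033969210af0fe4584e2ce4191793cbffffe452662c94115a9f889c9a4564f2c54097ffffc898ca44a6522026162204890ca4464d3fffff90e990afd0043e4f21b259599f8ae4fe5fffff21a3190c98c854945707f28c3b90c12cfffffe428622a93e108120ac4fc426492ad3e9fffffc83cc25467b2ac3e907130a04ea416480)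
  (N 128 (L
  0xfffff9b827caf8c8582682c2401afa70da93c9fffff2bb3f9b4a78af4ce56e633644e95d190bffffe5647e35e4e15b198ac0c4568643584d97ffffcabcfa6a0992ab309aba6ccb12655c623fffff9a5260aa8c454a5f3534d154180d39327fffff3434b952184d35325447b3204895017c3ffffe53c6029c3d14d178a7cf468e98316481fffffca60be52c793464c14c9e4a50bc680971fffff9491e0cf12c526782902e999250cdd2a5fffff28f3b9471dca20b866c9528d31945974fffffe50e7632649141968cc12850c5b32a499fffffca00ea63c913294993f9d4a08c24fa5a0fffff98ca409ecb64ec5927c3a1922489e4c07fffff3124793a968c8d246108d2722c98ea447ffffe4e0592713918aa409acb06208f26e2f17ffffcc0d184d47130b4713395cc191a4d2712)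
  (L
  0xfffff98d1d0c61206287231b481eb2c0c5cf47fffff31339988a3cf5560774ab30f391e72bc7ffffe77eac30d471851c4c391c794ae30c471fffffcee15660e8d3c9571849ccc14e2786ad1fffff9821c4ed15477aac300381dbaacc09185fffff2ff4597d9bceb552762aa2fe4597ea2d3ffffe5e86e3aa5497d1bcbe1145ee8a2f6452fffffcbb8d8736a62f3449d3aa0bc8da5e0895fffff9d22a0bb51073ca72e936176220bad105fffff2e2351741b4b990e71ca4398531729ad7ffffe72ca62dc34970a18e494a5c06a2de4327ffffcb5cd05b6853724f96d1ace0944718a45fffff9c5a90b44ce6d89e2d6351c428cb50d09fffff2cf419c3a8cd953a5a0832cd339bc2807ffffe702a22c8331b0a70b31045966837d50a7ffffcb1d026f8a135b4d961994dd94058c662)))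
  (N 176 (N 160 (L
  0xfffff9bba810f582838bc37a501baa04de5063fffff36f401ba27cdcd0a6e29f4295f21b3017ffffe86ac03683f9b6a10db93c860bf36b4027ffffcd9d3a85ebf366419faad4d8cfe83ebc1fffffa142f8d74fc6c4824185d9b020108d7a9fffff35a4da112f4d71026ac7d41b5e1ac9f8bffffe816b94155d9aaa68d48f86a89a4115d17ffffd01d706a27d34c3da082e8f7d6269e7c3fffff9a59f0d253068a7940a5c9a41e9011707fffff3443d9a125d00d70682973d25799f9e43ffffe7fcb733b3c19ea58cf92c7dcb43f95b27ffffcce52a7f0b633a4a99a9dcfc96a670782fffff998a50fb5686689432f3b1999e0fa1665fffff32e499f0ac4ca0ea7ceb332d3e9959d8fffffe7b2b03273b1911ccf916464a743dd589fffffcf415e63e753dc589e22b4c84f6638730)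
  (L
  0xfffff9ed248f61607a88f49b689eba4124da07fffff3d1489e7abd249a08f6cc3d34b9e6a3c3ffffe908cd3cc571e42352359e7968e488671fffffd1f59878cad487671e2a44f1d5a7848d0fffff9e02391d9967788c3c156241334ef9587fffff3b946a37b292059a7768f3b64623d3307ffffe766aa3b54623a32cec1168dcca3b25517ffffcebd527528a3ae45a34b24eb152756a94fffff9d1a21191908c2c73a8449d32a0e9550bfffff45d639d0a9ce7510744a73a0539cfa9cfffffe72a8639c449cd2991698c73287397532fffffd1618c728a5453629c8a1912986726a52fffff9c5210e4148872c038f43a27b10e350abfffff44e621c320d0c97e892c33894221f3053ffffe7008238551215af8e114470685444612fffffd10d846f6814255e9bfa85101826fc824))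
  (N 192 (L
  0xfffffa1a2790ed80874a44386027c3850dd3ebfffff4f770a172750cd469e8e04314f2733793ffffe84e9c42d5f216289385ba8549f4ee6fafffffd3b5be8429b42650a6e3713a1bc8489c4fffffa0f2f1395bc83aa04ae6a20d26d0813a3fffff4df6ea0a26905d768329c4165da6cb713ffffe996d94d86e209ae903d329a8db4124d17ffffd0313499eda40e5ca04a6103572992d92fffffa0426501970804974c86ca4ab41015307fffff3fd4b200add0016e7feb74b76b2613617ffffe982d83f74a9fdad8ff16c97ad73fa4b27ffffcfd16a978d73f35a9fb274fc52a958d41fffffa5b358fb1287e0b44a6699f7a592c9aa9fffff3ea59a58b54fad667cc934a96a1f4a50bffffe938d14a469a47b3cf8d247cab24a16917ffffd261a07c4933db48a50348f81327bc923)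
  (L
  0xfffffa4cac525da0922af55d78a4b2e1251607fffff54b772abbc124164918ae48e67aa93bcbffffea8eed48b672432b5545de914ce489571fffffd2155ca7eec48055aa53b920d58a88ed3fffffa3f2b54ddd6a86ed47c57a3fb311e5561fffff47865a3bab11cd54a64ea53d7623ab2cfffffe8e2ca47055a9e3b11c9948daaa535758fffffd1ad928d8c952e752342a54a5d28d4c92fffffa33b2118d50a4ae851e73a33321195909fffff45c53a913a1189508c0c745f63a2f31d7ffffe8aea551c73a8cb9916d4ca22e5459632fffffd459cc8aac545252a2b315431c88a8c53fffffa26a8d145889f4e151372a28291415c6bfffff51072a2630d42dc8890a344b52a7fb88bffffe884a14476127837d11984a0ee3445512fffffd411c6878a04ea6f27f3891054287ea34)))))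
  (N 320 (N 256 (N 224 (L
  0xfffffae0c09619f0b79014f35fa7ab816c1fe5fffff4ec5ea7937d3c584b56fe5b680277af97ffffeb67004e45e275b056bdfe9d2bd4e75fa7ffffd37976b3efc4e36ea712f9381bab52fe5fffffad43f935d749b6dc4dd5ead23f5369769fffff5917d2d13f5355b6ad2f34d35d26b36c7ffffeb36fc4ce5ca68b69349b49a0da5967da7ffffd33174b2afb4cd6ca63ae163df4994b92fffffa602d9319b098ad84c46c2c53e530d6ebfffff5897ca5dad52fdaeb08f84be5b2bc3d93ffffe96ab44ba6b25cb595d1ea970b757f7bafffffd5f9ee960b34b46aab7bd15e9ec966b44fffffa55b515ddec954d44af5e2542cd2b56a3fffff5727aa51ac9565e094eb44a569ab6bd13ffffeac0f156c7a2aa3bd27d62acef34a25917ffffd27564ac6f254e7724d2c1279a2abcf12)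
  (N 240 (L
  0xfffffb0e4455599eab4d355b782ac3c185a209fffff60586b0ac41555a4aa0ce60f87aa9b3cbffffea98cf60a872a7b455259aa9aee6038697ffffd5219cbf50b54266301435519daa8acd3fffffaa0bb15019aa76ca5fe8629f32d7de167fffff53975a9c3317da16a6ceb53a75a9a3283ffffea62ea53075296b254cd96be30a52f751fffffd4add2a54e95f0852963a54a192bd5091fffffa93ba14858ea4cc85e5842923a148dd09fffff52073a8db197860ea3ec85da8328eb9d3ffffea2ac55df83a8d319461ccba905517732fffffd43d86bb3065d682a8a3114498cb9b045fffffae9c15439c8a14c35be80a86b1571e067fffff50360a84b8d6e200ba104508612833117ffffeb9904502712e340d3f582a02e25006197ffffd3d97e9f8e14fb622e1c093e580b69005)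
  (L
  0xfffffad93796ea00b72e367a902dbb7d6d5c2bfffff6779032145d9c63eb5cde6688ead8b80bffffeb4edc6638e2d6bf96b1becdb1e5aa6eafffffd9ae3cb42db5a67eb33475695b8b46fd4fffffacd369681bab3cfc59d7e2ce3f197e38bfffff65e8e2ca365661f6b32fb65a8dacbb693ffffeb24db6588dac83e989a24b1cd95937d0fffffd621aeb1af958c7cb2ac6962db0c8d185fffffb29c6961dc0c9b195836bac2be19022e5fffff57d6aac13dd605eec79166488c2c03597ffffec8b185766a2be3d98fe2eaf6d55796ba7ffffd5c5a6c631461f88abab595cdeac75165fffffb1cc595ada4c31105706ab1b4555b9a69fffff6238931a4558421ead4db566692b43cc7ffffec5d1456268b06439595e4ac8f262a89a7ffffd585a4c531360786aae34188a24abed12)))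
  (N 288 (N 272 (L
  0xfffffb6ecc1851dec32f461a8836c4bd85de09fffff6c49636b4bd845e6c270f60e77b0943c7ffffed9f2e60977306bc9afa56c170e6ca96a7ffffd819ded932d60878b00bb5b0658c08ee2fffffaffc31af256c010c5fd763594a5ade545fffff5fc85afdbb57d5d6d6d2a5f985afc3b0fffffebe90a5f3852f7ba5ac252be4ea6aa941fffffd7b612bd9096a9942f5c257ba12bd2e90fffffaf3c217a210d41265e47435249d79a105fffff5e383aef399789ced3b2669792af041d3ffffebbb065d872b4cc957720cbb6e76909227ffffd749c8d2d255d772b3fc85755ccd13235fffffae5b89a3e48d19235d171ae7c11739cabfffff68891ae540d715c4ce91f5c981ae4390fffffeb80e068491340c85711c2b8502678902fffffd9f642c9f195bb702dfb916f602ce51f3)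
  (L
  0xfffffb3b3fdcda7ce673d67b80394cf19e604bfffff72e9eb7fcd59c1feceb037239db39c04fffffecd4fd71e9d337c79cae78cdcfe66c8f2fffffdc9e78de9337219db32bf59a5feccf1d2fffffb2ebed991fccc51c6618e38dce9981f8bfffff7199d32bbe997236e2b3965b7db2cc6d3ffffeca4f870f9c3864dd959f2ca91a7049b2fffffdc266eca10164c7c328c6593a32dfb353fffffb223d992e30c95187069b324bdd91df2bfffff7039b321bfdbf26ac7cf66f299b20be0bffffec70f46ed99370cc18f5eedf33463b7aafffffdbde68c66f36da97b784cd8dde8c6b154fffffb16bc98c9eada32e6308a317c51baa64bfffff6e9993143c5b325ac59136e698b15bc93ffffec48f36e498b614b189df4c42f1625890fffffd86de0da72e6207ab0f44587622dbd305))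
  (N 304 (L
  0xfffffb6e441e0a94dc5166e0983c6531b7e22bfffff78aa636ac3db6e2af0b4b6d98836bcbd3ffffed9d0e6d488b69451dc690da12e77ea52fffffddf694d910d6cd89bb6d1dde292d970e4fffffb62c3ddda92d87126c796360435b1a583fffff770a435dc31af656d7f0e75fa2bb551d3ffffed732a769a3b5d4a9ad616ec9466b88617ffffdac652ebd456b494b57c29ace18eb3442fffffb574a1ab650d5109758a23564a1aae147fffff6a693b52c9dd3684d4f276a3843a950c7ffffed3f266a293350c21a720ee994269e9317ffffda6e4ad2b0569a833a4505a620ee83404fffffb4a491a3a08e894069392349491a460c9fffff68781ba0501a3608e633d68b91b454157ffffee25386838139ecfda1a44d0b227379f27ffffd9f202e773f682813404159fa42e5f3d5)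
  (L
  0xfffffba3501cfe46e8b247e4ad3a1d01d0a4a9fffff7bea9b9d485cfa44fbf5973c9fbed5613ffffef6f52735903ee561ce67cfad577389127ffffdcb63efb3587349039948df3aace61215fffffb93475f52aefa35672c8f395481ca278bfffff7ccab3d153dc823ae4b3b7248fb914ecfffffee311b71f8f38ece9f26aae391c71a9d2fffffdf1aaaf294d7c1aa38a46dc5e72e2d392fffffb89c89c3a34f79537119c3884e1ed2a49fffff7088cbdd54dc3634e173770a9bbd6d457ffffee05177b3a93d8545c1e30f4f507058d2fffffdeb2a2e011f6fb8bb80cd5e829edfd193fffffb7b455e6e9cf1d4c7a9a837d459be268bfffff7a5a837ac75e7a9eddf156f38bb78cccbffffedd1136ee8b3c0529bb264f334e6eb8a2fffffde5e9cdc71277aa4bc8d35b9e26dcb314))))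
  (N 368 (N 336 (L
  0xfffffbd24ce116d3085687aa9a3d44d9e9aa0bfffff83eb43d1cede7667053647a19abcfd3cfffffef2d3179c9a41058e0eecef3532798a72fffffe0e2cef2b39832b33c84c5e4e9af254d2fffffbc4cbe08ac6f1f3482fb2bc6cc1e2e98bfffff82cb2bc452e096c8f092f787a5bc352cbffffeef92d783983c0cca04ec303d6377f972fffffe072c6eeb2c77b98c0c589de65aeef494fffffbb7caddd290ee74877297402d7e046c2bfffff810b0bb44a9db28eedd2d80cb03b5cad3ffffeecd4680bb03b2d19d9e8cec72a7faae8fffffe012beebb29761a2bb1515d8256fff5e4fffffbadd11ffabceb944757943fbd75d6a525fffff755a1baa50dfc6b8ea743756a1ba8c9c3ffffeea14274fa13a749dfb6b6e97267f0ae0fffffdd2682fc35974aa0ba3c95faab6fcb5a2)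
  (N 352 (L
  0xfffffc4cdda02a8d01d60894bac06d1e21ee69fffff803a2c04d7e022bf00f5f806a44475d17fffff11b747fda2400d7a00abd11373800a2a7ffffdfe6bb10d737f8aebfe575fda88ff7461fffffbfa571fceb8fe543881b93fad71fbe841fffff7ecadc3bdc1faeb6fdd427e9a0c405c87ffffefcf5a872b7bf4569f8e810f7717e6a097ffffe156d6fc5417e0acbef4fe1d6e10df6f2fffffc28da9f627afbb3e86eb7c34db9f6e7e9fffff849b4be9cf21aedd0c96d7d79f3ead5d3ffffef973b867b73e94f1f42acf9f3d7cdab2fffffdf16730c36d85eb63e54e9f22aaf8f555fffffc2d5b20d6ccf81397c4aa3e1d51f0aa87fffff7bf9fbdccddef6710a96b7bba9c26da93ffffef713e7b29b427da9edaa508f697b59c27ffffdeae6b0996a7b19b3d7d46102d0f5d375)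
  (L
  0xfffffc6cdfe1e2b70ed70879b843a5663b3063fffff8d1bf439d6a1c6df0db588e7c1438564bfffff1977d866ab43655e38f030d558868b727ffffe30af90c1558e0c0432d5e18edb0c56d4fffffc2cd52377010bf5585db642e5b216ed8bfffff856acc2c5ae15ed70a7538d6bfc67df8bfffff0a55884ba8c2854a33afd18f7d84ea9a7ffffe12aaf089508c9bec605f2122a508d694fffffc1ed3e316fb087508adbcc20d460fed0bfffff837a6c5edf22eaf70794e83ab3c1cd9d7fffff16f7b836aa418d3628aef06966833b31fffffe0ae971657a8afbcc185320bacb05b655fffffc555e60a2c90494b82aa7c13d9209ac87fffff81ba4c11d320869d14f7881fa540ed8d7fffff14b7881ab144fdde05e9312b75819b117ffffe03e8f02d61815b0c0a52a26aed025485)))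
  (N 400 (N 384 (L
  0xfffffc96632372d91c36d941c846fe0237b009fffff8dab846c5fe35eff1b77f8d5b5c9d63c7fffff1a56f8d4bf469dfa336d52698e8d0b597ffffe332dd189688cab4c97e36322d518d7d4fffffc61db62f2cf2558c8c1b4c5fdf22faf89fffff8b6b3493e322eecf22b898b9bdc5c5ed7fffff16b7a8b1b2c91e2e473151697a8b3bd27ffffe2a6c92418b8b0b2c575a22b2f3157795fffffc5258a46b1522f898a8b1c8762229af0bfffff913c4c50dde27ac514766908c3c505dcffffff1316089dbb44e5da4431113761900c32fffffe4371112f75907c3c49d8225ac51f5852fffffc4657a24ae912374890ba48161a23ebebfffff8ffc3442d7622ee71f38588aaf4445813fffff109728efc1c41dca20ab91ed8487fad87ffffe1f6e31d38287cb8c3f5c61eab51e5841)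
  (L
  0xfffffcbe6665172128981940c04c7e7250b205fffff93fc1c9ee3e4f31f2778f98ccdc9cdfc3fffff27182936c749ae3a613352677e987cd8fffffe4cb032ef9897eccc975f6607352618d2fffffc96e0249af72577c97accc94e324a3189fffff925c5c8fde6492f52e998922c5c90e2d3fffff23d8a919bc4b865e476f52d39691bc527ffffe44aef2dd97918bc48b5ee58b2b229895fffffc865d65a32d2cb95911bb487de256f28bfffff961cac8561e41aeb21787909bbcaa64cffffff1fd73905c348261a57b2920774901bb2fffffe56b291fb85953c9c7c5ce3f30b1f7752fffffc7ae1253b251e9848f3c247bdca3c6e21fffff93ec7c785ca3bb071db83950c9475dc03fffff26f8e8eab8c7460a527231cd6f94cc90fffffe4c71b1cb81943c84715ba51f231c9812))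
  (N 416 (L
  0xfffffcd7e826a72b35d969dcd3cd665e7574c9fffff9a8cfcd16527634d34f9f9a6cfcd2e593fffff335939d4d34d0e5267f3d33d9e99dcaafffffe727493319d9cfd2ccbe4a6673b329910fffffce168e64b3932391993ce4c76427374a3fffff98bc94c4e6e6233738fa498dc7cc36383fffff307919bad14e068e6171d3018d9c6d20fffffe5f72136da197fc6cbce326ff472f7992fffffcbb6625e31b369a1973c5cdce8a5d7305fffff972cbcb6e265c715363a19abd04b7e5d3fffff2d996967c44d6e825af2d2d58a9a4cfa7ffffe5830f355a0966c44b265658f133399e5fffffcace1668f3f3419e95fc34aee5257310bfffff99bcf4abe4e54b0b2b193956c9caae1cffffff3159b94fc24a6e4a65b3b2a38394bc107ffffe60b3529191990ce4a560a51b0332b9d1)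
  (L
  0xfffffd0f6c287761439b0a1bd85106be8675c1fffffa18d7d0bebe85b5f42bada1fd85096b03fffff421aea0fd75076ba8475d419aba1ad80fffffe82b5b413aaa07d4d0a6be82f5b409a80fffffd00eb2803593ffaca03d44fee9e84f5e3fffff9fad5cfe6ae7ef573eda6a0dd74fce9cbfffff3e9a5a08d6cf96927c3553ebaa9eed187ffffe7b3533d7a4a06d6cf4ea67b7533cfa20fffffcf36a2797473c7a2a02d64f06868175a3fffff9ddd3cefe9e77b4f3b7a09fed64fc6acbfffff3b5a69d3cf4ece7e7df573afa69d6d027ffffe7cf553a3a59d0cece769674b4b3999c0fffffce56767ab533e3aa9c8cdce5e92717341fffff9c3ce4f26a270735389a39becccf7ea87fffff379a29bbcd4f16a26f745371989e8d48fffffe6cf4336f999b5cc4d865e78751365a12)))))))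
  Tr.N Tr.L
noncomputable def tree : Tr := t0

noncomputable def wtree : WT := beta% (fun (N : Nat → WT → WT → WT) (L : Nat → List Nat → WT) (c : Nat → List
  Nat → List Nat) (n : List Nat) => (N 15 (N 7 (N 3 (N 1 (L 0 (c 4 (c 0 (c 4 n)))) (N 2 (L 1 (c 4 (c 1 (c 4
  n)))) (L 3 (c 4 (c 3 (c 4 n)))))) (N 5 (N 4 (L 0 (c 5 (c 0 (c 5 n)))) (L 1 (c 5 (c 1 (c 5 n))))) (N 6 (L 2 (c
  5 (c 2 (c 5 n)))) (L 3 (c 5 (c 3 (c 5 n))))))) (N 11 (N 9 (N 8 (L 0 (c 2 (c 0 (c 2 n)))) (L 4 (c 2 (c 4 (c 2
  (c 4 (c 2 n))))))) (N 10 (L 4 (c 1 (c 4 (c 1 n)))) (L 2 (c 1 (c 2 (c 1 (c 2 (c 1 n)))))))) (N 13 (N 12 (L 0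
  (c 3 (c 0 (c 3 n)))) (L 4 (c 3 (c 4 (c 3 n))))) (N 14 (L 2 (c 3 (c 2 (c 3 (c 2 (c 3 n)))))) (L 5 (c 4 (c 5 (c
  4 (c 5 (c 4 n)))))))))) (N 22 (N 18 (N 16 (L 2 (c 0 (c 2 (c 0 n)))) (N 17 (L 4 (c 0 (c 4 (c 0 n)))) (L 1 (c 0
  (c 1 (c 0 (c 1 (c 0 n)))))))) (N 20 (N 19 (L 1 (c 3 (c 1 (c 3 n)))) (L 5 (c 2 (c 5 (c 2 n))))) (N 21 (L 1 (c
  2 (c 1 (c 2 (c 1 (c 2 n)))))) (L 3 (c 2 (c 3 (c 2 (c 3 (c 2 n))))))))) (N 26 (N 24 (N 23 (L 5 (c 1 (c 5 (c 1
  n)))) (L 5 (c 3 (c 5 (c 3 n))))) (N 25 (L 2 (c 4 (c 2 (c 4 (c 2 (c 4 n)))))) (L 5 (c 0 (c 5 (c 0 n)))))) (N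
  28 (N 27 (L 3 (c 1 (c 3 (c 1 n)))) (L 0 (c 1 (c 0 (c 1 (c 0 (c 1 n))))))) (N 29 (L 4 (c 5 (c 4 (c 5 (c 4 (c 5
  n)))))) (L 3 (c 0 (c 3 (c 0 n)))))))))) WT.N WT.L (@List.cons Nat) (@List.nil Nat)

noncomputable def stree : ST := beta% (fun (N : Nat → ST → ST → ST) (L : Nat → List Nat → List Nat → ST) (c :
  Nat → List Nat → List Nat) (n : List Nat) => (N 2 (N 1 (L 0 n n) (L 1 n n)) (N 3 (L 2 n n) (L 3 n n)))) ST.N
  ST.L (@List.cons Nat) (@List.nil Nat)

noncomputable def C : Cert where
  data := tree
  lm := 15
  rb := 151
  fb := 21
  mask := 2097151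
  B := 512
  k := 6
  N := 432
  inv := fun x => x
  words := wtree
  subs := stree

def rels : List (List Nat) := beta% (fun (c : Nat → List Nat → List Nat) (n : List Nat) => ([(c 0 (c 3 (c 0 (c
  3 n)))), (c 0 (c 2 (c 0 (c 2 n)))), (c 0 (c 4 (c 0 (c 4 n)))), (c 0 (c 5 (c 0 (c 5 n)))), (c 3 (c 1 (c 3 (c 1
  n)))), (c 3 (c 4 (c 3 (c 4 n)))), (c 3 (c 5 (c 3 (c 5 n)))), (c 1 (c 4 (c 1 (c 4 n)))), (c 1 (c 5 (c 1 (c 5
  n)))), (c 2 (c 5 (c 2 (c 5 n)))), (c 0 (c 1 (c 0 (c 1 (c 0 (c 1 n)))))), (c 1 (c 2 (c 1 (c 2 (c 1 (c 2
  n)))))), (c 2 (c 3 (c 2 (c 3 (c 2 (c 3 n)))))), (c 2 (c 4 (c 2 (c 4 (c 2 (c 4 n)))))), (c 4 (c 5 (c 4 (c 5 (c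
  4 (c 5 n))))))] : List (List Nat))) (@List.cons Nat) (@List.nil Nat)

def subw : List (List Nat) := [[0], [1], [2], [3]]

end Cfsg.Agent.Co2Type.Up6Data
end

-- part: Co2Type/Up6Chk0
section
set_option autoImplicit false
set_option maxRecDepth 100000

namespace Cfsg.Agent.Co2Type.Up6Chk0

open Cfsg.Agent.SporadicRecognition.CosetCert Cfsg.Agent.Co2Type.Up6Data

private theorem alC : Cfsg.Agent.SporadicRecognition.CertFast.al (Nat.succ C.lm) C.data = true := by decide +kernel

theorem c0 : Part C 0 64 64 := Cfsg.Agent.SporadicRecognition.CertFast.part_fast C alC 64 (by decide +kernel : Cfsg.Agent.SporadicRecognition.CertFast.runF C 9 511 0x808c653010cc04011180804030100447830980e6602a980404020100aa601a19cc04c30080a4602b98080202012cf2602013ce2601b9b0c020291acec6930128c0202b9b0c02d391acec69301008020299a0c0401011cdc60111808260300808c653218ce6683010040402718040402098080202318088602010044783098080402d1a8c03b39980aa601a19cee6c30080a46020130c0202012cc0503013ce2601b980802d391acec6020128c020299a0c0401011ce66830100404737180404020100c02023180886330100447830980dc601118082602008080453218080402a98040402b9b0c0202012cf2703013ce26010130c02d391acc04930128c0202998080401011cdc6010100826037180446020100c02020114c04330100aa601a19cc02023194c86020130c02029180ae6c300b4e46b3b1a4c04a30080804830100404737180446020980c02020114c863300808c653010cc04c30080804b30140c04f38980666830100404730100446020980c02023180886330130c02d391acc04930128c02027180446020980c02023194c86330120c0401011cc02023194c86330100446020980c04021a8942a05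 1 1 0 0 64 = 65)

theorem c1 : Part C 64 128 64 := Cfsg.Agent.SporadicRecognition.CertFast.part_fast C alC 64 (by decide +kernel : Cfsg.Agent.SporadicRecognition.CertFast.runF C 9 511 0x100405830980e6602010040402998080401011cee6c30080a4602b98080202012cf2602013ce26010130c02d391acc04930128c02029980aa601a19cee6c3008080402b9b0c0202012cf2703013cc0401b980802d39180ac6020128c02020120c04010100a66830100404730100446020100c02023180886330130c02d391acc03c33194c86020100446020100c02023194c8633010044783098080402d1a8c03b30100446020980e6602a980404029980aa601011cee6c30080a4602998080401a19cee6c30080a4602b9b0c0202012cf27030100a2601b980802d391acec6020128c02020120c0401011cee6c30080804b3c9c0c04f301006e6c30080a4602b1a4c04a30080a660201004040201004460209809c60111808040300808c653010cc048301006867300f0cc653218cc040111e0c2602b180b46a300ecc040111e0c26030100aa6010100a6602a98068673b980802029180ae6c30080804b3c9c0c04f389806e6c30080804b3c9c0c040289806e6c30080a46b3b1a4c04020080a66020100404730100446020980ee6c300b4e4602b1a4c04a30080a66830100404027180446020980802023194c8602 1 1 0 64 64 = 65)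

theorem c2 : Part C 128 192 64 := Cfsg.Agent.SporadicRecognition.CertFast.part_fast C alC 64 (by decide +kernel : Cfsg.Agent.SporadicRecognition.CertFast.runF C 9 511 0xf0c045321808040101008040300f0c0453010cc04010160c2602b180804a30080804011180826039980aa601010080402a980686730130c02029180803c33194c86330100447830980ac602d180803b30100447830100e6602a980404029980aa601a19cee6020080804020130c0202012cc0503013cc0401b9b0c0202012cf27030100a26010130c02d391acc0493010080202998080401011cdc60101008260300808c602218cc04c300b4e46b300808c653010cc048301006867300f0cc60221808040111808040300f0cc653010cc040111e0c2602b180b46a30080803c30114c86330100405830980ac6020128c03b30100405830100e66020100404029980aa601a19cee6020080a46020130c0202012cc0503013ce26010100447830980e6602a980404029980aa601011cee6c3008080402b98080202012cf2602013cc04010130c02d39180804930128c0202b9b0c02d391acec6930100802020120c0401011cdc601118082603008080453218cc03c33194c04330120c0401a19cc02023194c86020100446020100c03c33180886330100446020980ac602d1a8c03b30100447830100e6602a98040402 1 1 0 128 64 = 65)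

theorem c3 : Part C 192 256 64 := Cfsg.Agent.SporadicRecognition.CertFast.part_fast C alC 64 (by decide +kernel : Cfsg.Agent.SporadicRecognition.CertFast.runF C 9 511 0xf0c045301008048301006860200f0cc60221808040111808040300808c653218cc040111e0c26020100b46a300ecc03c33194c0433010080401a19cc03c33194c86020100446020100803c33180886330100446020980ac602d180803b30100447830980c0402a980404020100405830980e6602010040402010080401a19cc04c30080a4602b98080202012cf2602013ce2601b9b0c020291acec6930128c02027180404020980dc601118082603008080453218cc02023180804330130c02d3012cc03c33194c04020120c0401a180803c30114c04330120c0401a19cc03c30114c86020100404020100803c33180886330100446020980ac602d1a8c03b30100447830980c0402a9804040200f0cc65321808040111808040300f0cc653010cc040111e0c2602b180b46020080804011180826039980aa601010080402a980686730130c02020100a6602010068673b9b0c02029180804c30080804b30140c040289806e60200b4e46b3b180804a30080a66830100404737180447830980c02020114c863300808c602218cc04c300b4e46b300f0cc653010cc048301004047300f0cc653218080401118080402 1 1 0 192 64 = 65)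

theorem c4 : Part C 256 320 64 := Cfsg.Agent.SporadicRecognition.CertFast.part_fast C alC 64 (by decide +kernel : Cfsg.Agent.SporadicRecognition.CertFast.runF C 9 511 0x71804040209809c60101008260371804478309808020201008860200808c602010cc04c300b4c04b300808c653010cc04830100686730100447830980c02020114c863300808c60221808040200b4e460200f0cc653010cc040201004047300808c65321808040111808040300f0c0453218080401010080403008080453218cc04010160c26020100804a300ecc04011180826039980aa6010100a6602a98040473b9b0c02029180ac693d1a8c020299a0c0401011cdc6010100804037180447830980802020114c86027180447830980c020201008863300808c6022180804c30080a460200f0cc653010cc048301004047300808c65321808040111808040300808c602218cc040200b4e46b300f0cc65301008040201006860200f0cc60221808040111808040300808c653218cc040111e0c26020100b460200ecc03c30114c86330100405830980ac6020128c03b30100405830980c04020100404029980aa601a19cee6020080a4602b9b0c0202012cf2703013ce260199a0ea601011cdc6010100826037180447830100c02020114c043300808c6022180804c300b4e460200808c602218cc04c30080a46b3 1 1 0 256 64 = 65)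

theorem c5 : Part C 320 384 64 := Cfsg.Agent.SporadicRecognition.CertFast.part_fast C alC 64 (by decide +kernel : Cfsg.Agent.SporadicRecognition.CertFast.runF C 9 511 0x7180404020980c0493d1a8c02020120ea6010100804010100804030100446020980c02020114c86337180447830980c020201008863300808c602218cc04c30080a46b300f0cc653010cc048301004047300f0cc653218080401118080402c9c0fa60289806c693d1a8c0202b180b46a30080a6602a980404027180404020100dc601118082603008080453218cc0483a9804047301004040209808040111e0c0403008080453010cc02023180886330100802d391acc02023180886330130c020291acc02020114c04330120c0401a19cc03c33180886020100446020100c03c33194c04330100447830980ac602d1a8c0202c9c0c04f389806c693d1808020299a0ea6010100a6602a9804047371804040209809c60111e0c0403008080453010cc02023180886330130c02d391acc04010100826030100447830980802020114c860200808c602010cc040200b4c04b300808c653010cc040201006867300f0c0453010cc048301006867300808045321808040101008040300f0cc602218cc0401118082602b180b46a300ecc040111e0c04039980aa6010100b2703e9bce2601b1a4c04a30080a6683a98040473 1 1 0 320 64 = 65)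

theorem c6 : Part C 384 432 48 := Cfsg.Agent.SporadicRecognition.CertFast.part_fast C alC 48 (by decide +kernel : Cfsg.Agent.SporadicRecognition.CertFast.runF C 9 511 0xc9c0fa6f3010072703e980a2601b1a4f46a30080b2602013ce2601b1a4f46020080a6683a980404020140c04f3898072602e9bce2601b180804a30080a6683a980404737180404020980b2703013ce26010140fa6028980404930128c0202b180b46a30080a66020100404737180404020100dc60111e0c26020080804532180b2703e980a2601b1a4c04a3008080503e9bcc04010124f46020080804830100404739980aa601011cdc6010100826037180447830100c02020114c043300808c6022180804c300b4e4602c980ba6f301006c693d1808020299a0c0401011cc0503e9bce26010124f46a3008080483a980404730100404020980dc6010100826037180446020980c020201008863300808c602010cc04c300b4c04b300f0cc653010080483010068602c9c0fa6f3010072602e9bce2601b180b46a30080a6683a98040473 1 1 0 384 48 = 49)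

theorem all : Part C 0 432 432 := ((((((c0).append C c1).append C c2).append C c3).append C c4).append C c5).append C c6

end Cfsg.Agent.Co2Type.Up6Chk0
end

-- part: Co2Type/Up6All
section
set_option autoImplicit false
set_option maxRecDepth 100000

namespace Cfsg.Agent.Co2Type.Up6All

open Cfsg.Agent.SporadicRecognition.CosetCert Cfsg.Agent.Co2Type.Up6Data

theorem part : Part C 0 C.N 432 := Cfsg.Agent.Co2Type.Up6Chk0.all

end Cfsg.Agent.Co2Type.Up6All
end

-- part: Co2Type/Up7Data
section
set_option autoImplicit false
set_option maxRecDepth 100000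

namespace Cfsg.Agent.Co2Type.Up7Data

open Cfsg.Agent.SporadicRecognition.CosetCert

noncomputable def tree : Tr := (.L 0xfddeb6caeaa66fe265544d245f)

noncomputable def wtree : WT := beta% (fun (N : Nat → WT → WT → WT) (L : Nat → List Nat → WT) (c : Nat → List
  Nat → List Nat) (n : List Nat) => (N 3 (N 1 (L 0 (c 6 (c 0 (c 6 n)))) (N 2 (L 1 (c 6 (c 1 (c 6 n)))) (L 2 (c
  6 (c 2 (c 6 n)))))) (N 4 (L 3 (c 6 (c 3 (c 6 n)))) (N 5 (L 4 (c 6 (c 4 (c 6 n)))) (L 5 (c 6 (c 5 (c 6
  n)))))))) WT.N WT.L (@List.cons Nat) (@List.nil Nat)

noncomputable def stree : ST := beta% (fun (N : Nat → ST → ST → ST) (L : Nat → List Nat → List Nat → ST) (c :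
  Nat → List Nat → List Nat) (n : List Nat) => (N 3 (N 1 (L 0 n n) (N 2 (L 1 n n) (L 2 n n))) (N 4 (L 3 n n) (N
  5 (L 4 n n) (L 5 n n))))) ST.N ST.L (@List.cons Nat) (@List.nil Nat)

noncomputable def C : Cert where
  data := tree
  lm := 15
  rb := 52
  fb := 6
  mask := 63
  B := 4
  k := 7
  N := 2
  inv := fun x => x
  words := wtree
  subs := stree

def rels : List (List Nat) := beta% (fun (c : Nat → List Nat → List Nat) (n : List Nat) => ([(c 6 (c 0 (c 6 (c
  0 n)))), (c 0 (c 3 (c 0 (c 3 n)))), (c 0 (c 2 (c 0 (c 2 n)))), (c 0 (c 4 (c 0 (c 4 n)))), (c 0 (c 5 (c 0 (c 5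
  n)))), (c 3 (c 1 (c 3 (c 1 n)))), (c 3 (c 4 (c 3 (c 4 n)))), (c 3 (c 5 (c 3 (c 5 n)))), (c 3 (c 6 (c 3 (c 6
  n)))), (c 1 (c 4 (c 1 (c 4 n)))), (c 1 (c 5 (c 1 (c 5 n)))), (c 1 (c 6 (c 1 (c 6 n)))), (c 2 (c 5 (c 2 (c 5
  n)))), (c 2 (c 6 (c 2 (c 6 n)))), (c 4 (c 6 (c 4 (c 6 n)))), (c 5 (c 6 (c 5 (c 6 n)))), (c 0 (c 1 (c 0 (c 1
  (c 0 (c 1 n)))))), (c 1 (c 2 (c 1 (c 2 (c 1 (c 2 n)))))), (c 2 (c 3 (c 2 (c 3 (c 2 (c 3 n)))))), (c 2 (c 4 (c
  2 (c 4 (c 2 (c 4 n)))))), (c 4 (c 5 (c 4 (c 5 (c 4 (c 5 n))))))] : List (List Nat))) (@List.cons Nat)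
  (@List.nil Nat)

def subw : List (List Nat) := [[0], [1], [2], [3], [4], [5]]

end Cfsg.Agent.Co2Type.Up7Data
end

-- part: Co2Type/Up7Chk0
section
set_option autoImplicit false
set_option maxRecDepth 100000

namespace Cfsg.Agent.Co2Type.Up7Chk0

open Cfsg.Agent.SporadicRecognition.CosetCert Cfsg.Agent.Co2Type.Up7Data

private theorem alC : Cfsg.Agent.SporadicRecognition.CertFast.al (Nat.succ C.lm) C.data = true := by decide +kernel

theorem c0 : Part C 0 2 2 := Cfsg.Agent.SporadicRecognition.CertFast.part_fast C alC 2 (by decide +kernel : Cfsg.Agent.SporadicRecognition.CertFast.runF C 7 127 0xd386cd193060aac56a94a85 1 1 0 0 2 = 3)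

theorem all : Part C 0 2 2 := c0

end Cfsg.Agent.Co2Type.Up7Chk0
end

-- part: Co2Type/Up7All
section
set_option autoImplicit false
set_option maxRecDepth 100000

namespace Cfsg.Agent.Co2Type.Up7All

open Cfsg.Agent.SporadicRecognition.CosetCert Cfsg.Agent.Co2Type.Up7Data

theorem part : Part C 0 C.N 2 := Cfsg.Agent.Co2Type.Up7Chk0.all

end Cfsg.Agent.Co2Type.Up7All
end

-- part: Co2Type/Up8Chk1
section
set_option autoImplicit false
set_option maxRecDepth 100000

namespace Cfsg.Agent.Co2Type.Up8Chk1

open Cfsg.Agent.SporadicRecognition.CosetCert Cfsg.Agent.Co2Type.Up8Data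

private theorem alC : Cfsg.Agent.SporadicRecognition.CertFast.al (Nat.succ C.lm) C.data = true := by decide +kernel

theorem c34 : Part C 2176 2240 33 := Cfsg.Agent.SporadicRecognition.CertFast.part_fast C alC 33 (by decide +kernel : Cfsg.Agent.SporadicRecognition.CertFast.runF C 17 131071 0x200000000000000106000000000000000000000000000004000000000000800000000000000000000000000000000000000000000010000000000000000000010028c00020002004980008010600730000000000000000100000000000000000000000000000000000000800000000000000000000000000000000000000000200000001000000002000000000000000000000000080000000000000000000000000000000010028c000200330001004cc0106007301218018c0004029300010000403a600530000800000000000000000000000000000459a0044c0326000100010048c000400020000000000000000100000000000000183000000000000200000000000080000000000b18044c0004000145ca0034d1708018300000000000048ba40000800000000000001518030d15c88ae445720040c0002007300010028c0002000200b98000801060013000000000000000000000000040000000000008000000000000000000000000000004c820028c0002032300b98050c0004990400598018c000402830001000040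0460073000080000000000000000000000000000000598028c000200330049804cc0046000201218018c0004036300b980004040600020000000000000000100010040c0000000000008000c000400330001000080046000200010028c000202230001004cc02a6000200008000c06a6000200218048c000400130001003cc0004029300008034c000400e30000000000002000000000000000000002000000000000000000000000040000000200008000000000000000000000000000000000800000000000000000000000000000000080000000000000000000000004000000000000000020000000000000000000000000000000000000100000034c0004000000000000000000002000000000000000010001000000002000000000000000000000000080000000000000000000000000000044ba0028c000200020049804cc00040073000080000000000000000000000000000044a20044c0004000100010000802a6018300008000c0004003300218050c000400130001003cc0004028300008040d2b2800e3000080000000000000000000000000000000000000000000001000000008000000000001003cc04c6003300008040c010600e3000000000000000000000000000002000000598028c000200330049804cc0004007300010018c000400330001000040004005300008000c000400330001000080004001300008000c0004003300218050c0004001300010044c0004000100b98048c000401830001003cc00040002000080008000400e300010018c000402230001000040406005300598028c000200020049804cc0106007300010018c000400020001000040004005300008000c000400330021800080046001300010044c0326000100b98000802a6018300008000c000400020021800080046001300010028c000200020049804cc01060073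 35 34359738367 0xeec000001c8c3ea262bb8000004c6000000000000001558000002230000004762608984ae4c113091c0000000000000000026089846e000000000000002ab000000756000000000000001718000000000000000002b389784e1d712eddc000000000000000001360970ee0000000000000000013084c10700000000000000000000000000000000000000000e66000001c584482593b88884b1770000008ec22412c85c4442588b848483057256895cae4ad12b91c0000000012b44ae37000000000000000000000000000000003b6000000bec0000000005ce41cab800000000000000000000000000000000000000000000000000000000000000000000000000000000000000000000000000000000000000000 2176 64 = 34)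

theorem c35 : Part C 2240 2304 49 := Cfsg.Agent.SporadicRecognition.CertFast.part_fast C alC 49 (by decide +kernel : Cfsg.Agent.SporadicRecognition.CertFast.runF C 17 131071 0x80000000400000000000080000001300008000000040033000100008000000130001000000002000000000000000000000000100000000000010000000000000000000008000c000400330021800080004001300010000000020000000000000000000000001000000000000100b9800000000018300010000000000002000080000000000000001006cc0004000200010068c0386000100b18044c0004000100b98000802a6018300008000c0004003300218050c0046001300010028c00020002004980008010600730001000000004000100b98000802a601830001000000004000200008000003a600e300010030c0004000200010034c0002000200010028c000200020049804cc0106007300010018c000400020001000040004005301218018c03c600020001000040004000200008000c00040002002180b8c0046000200008000c06a6000200218000800460002000000000000400010000000000000000000008000c06a600330001000080046000200010044c04c600010001000080106000200010028c000202930001004cc02a60002000000000000400000109800040004000000008000c00040033002180008000400020000000000000000100000000000040000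000000000000200000000000000004000000010018c03c602230001000040406000200010028c000203230001004cc0004000200010044c000400010001000080004000200010018c000400020109800040406000200598028c000200020049804cc0106000200008000c000400330021800080046000200010044c0326000100b98048c02a6000200008000c000400020021800080046000200010028c000200020049804cc0106000200008000c000400330001000080046000200010028c000200020001000080106000200010044c0004000100010000802a6000200008000c000400330021800080004001300010028c000200020049804cc000402d300010044c0004000100b980008000401830001003cc00040002000080008000400e30001006cc04a6000200010068c0004000100b18044c0326000100b98000802a6000200008000c000400330021800080046000200010028c00020002004980008010600020001000000000000100b98000002a60000000100000000400020000800000000000000010030c0004000200010034c0002000200598028c000200020049804cc0106000200010018c000400020001000040004000200008000c000400330021800080046000200598028c000200020049804cc0004007300010018c000400020001000040004005300008000c000400020021800080004001300010028c000203230049804cc0004007300010018c000402230001000040406005301218028c000200020049804cc0406000201218018c000400020109800040406007300008000c0004000200b9808cc0046005300008000c03c602230001000080406000200010030c0004032301398034c00020002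 35 34359738367 0x1eb09c4ee8a1338c9c7ae270ab8f584e23700000000060013815d61066c838f54cdc470000000000000000000000000000000000058099a6eeb033345dc000000000000000000000000000000000000000000000000000017f8a020e0000000000000000000000000036f17fe6e00000000070e284038e1850407000000000000000000000000000000000000000000000000000000000000000000000000000000000000000000000000000000000000000000000000000000000000000000000000000000000000000000000000000000057399162e3cf32391c00000000000000000000000000000000000000000000000000000000000000000000000000000000000000000000000000000000000000000000000000 2240 64 = 50)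

theorem c36 : Part C 2304 2368 39 := Cfsg.Agent.SporadicRecognition.CertFast.part_fast C alC 39 (by decide +kernel : Cfsg.Agent.SporadicRecognition.CertFast.runF C 17 131071 0x10000000000000000000004000000000000000000000000100000000000000000000080000000000000000000000000000000000000000020000000000000000000000001003cc04c6029300008040c010600e30000000000000000000000000000020000000000000000200000000000000000000000010018c03c6022300010000401060053000080000000000020000000000000000000000000000000001000000000000000000000800000000003300000050c0000001300010028c000200020049800080106007300010044c0004000100b98048c02a6018300010030c000400020139800080002000200010028c000200330001004cc0046001300010018c000400020001000040406005300008000c000400020001000080046001300010018c03c6022301098000401060053000000000000200000000000000000000000000000003c600020001000040004005300008000c06a602930001000080046001300000000000040001000000000000000000000000000002000200000000800000000000000000000402830139800080002000200010018c03c60002010980004000400530000800000000000200000000000040000000080000000000000000000000004000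0000000000000000010000000000000000000008000c06a6003300010050c000400130000000000000000100000000000040000000000000000200000000000000004000001f18018c04c6000200010000402a600e3000080000000400000000000000004000200000000000000001000000008000400000000000000002000000000000800040002000100000000000010001000000004000200b18044c0326000100b98000802a6018300010028c000200020049804cc0106007301218018c000400020001000040004005300008000c000400020021800080046001300598028c000200020049804cc0106007300010018c000402230001000040004005300008000c000400330021800080046001300010044c0004000100b98048c0106018300598028c000200020001004cc0106007300010018c000400020109800040004005300008000c000400330001000080046001300010044c0326000100010000802a6018300008000c000400020001000080046001300010028c000200020001004cc01060073000100000000400000109800040004005300598028c000200020049804cc0004007300010018c000400020001000040046001300008000c000400020021800080004001300010028c000203230049800080004007300008000c000400330001000080004001300010044c000400010001000080004018300008000c0004003300218050c0046000200010044c0004000100b98000802a600020001003cc04c6000200008000803a6000200010018c03c602230001000040004005300598028c000200020049800080106007300008000c00040033002180008004600130001000000000000100000000800000000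 35 34359738367 0xb4c38714215cf84281bb8e185042700000000039b22649c70c2823b80000000017f8a02ee3871420ddab827fbb8000000000000000000000000000000000000000000000000000000000000070c2821ba1504fc270000000002ff1404dc53227d2b9900c293700000000030213e1dc60227bbb8c084f85700000000030213e0dc60227b9b8000000001c709e8ee30213e01c71c27a1b8e304f3370000000000000000000000000000000000000000000000000000000000000000000000000000000000000000000000000000000000000000000000000010046800b80000000000000000000000000000000000000000000000000000000000000000000000000000000000000000000000000000000017ec4e347 2304 64 = 40)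

theorem c37 : Part C 2368 2432 45 := Cfsg.Agent.SporadicRecognition.CertFast.part_fast C alC 45 (by decide +kernel : Cfsg.Agent.SporadicRecognition.CertFast.runF C 17 131071 0x159803cc0004029300008040c000400e300008000c06a600330001004cc0004007300008000c0c0600020001004cc000402d300010018c000403230001000040004000200b18028c000200020049800080004007300b18044c0004000100b9804cc0004018300008000c06a6003300498140c0004000200008000c03260002013980008000400024c020018c000402230001000053008000200598028c000203230001004cc0004000200010018c000400020109800040004000200010028c000200020049804cc00040002000000000000000000000000040000000000598028c000200020001004cc01060002000000000000000000000000040000000000008000c0004000200010040c0004000200008000c0004000200010050c0004000200010018c00040002010980004000400530159803cc000400020000800080004000200010044c0004000100010040c01060002000000000000000000000000040000000000010028c00020002004980008000400730001003cc0004000200008040c000400e300010028c000203230001004cc0004007300010018c0004000200010000404060053000080000000400330000000080004001300010044c0004000100b98048c00040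18300010028c000203230049804cc0004000201998018c000403030001000040004000200008000c000400330001000080004000200010018c0004000201098000400040002000000000000000000000000000002000001998018c03c600020001000040004000200598028c000200020049804cc0106000200008000c000400020021800080004000200008000c0004000200010048c0046000200008000c0004000200010068c004600020001000000002029300010000000000000000000000000000000000000000002000001218018c000400020001000040406005300008000c000400020001004cc0004001300010018c03c600020109800040406005300008000c00040002002180008000400020001003cc04c60002000080008000400020000000000000000100000000000040000015180000000200020000000000004000000008000000000002000000000000400000000000000000000100000000000040000000000000000000010000000000000000000000000000000000000000008000200004a8a00000000095140000000052a280000000080000000000000000000000004000000000000000000000000000008000000010000800000004003300000068c0000000200010044c0004000100b98000802a601830001003cc04c6000200008000803a600e301b98018c03c60002000100004004600024a62000000000000000000000529880000000100000000000010000000000000000000010028c000200020049800080ac6005300b18044c0004000100b980008040601830159803cc0004000200008040c03a600e301518030c0004000200010034c0002007300598028c000203230049804cc01060073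 35 34359738367 0xdc60000000000000037180000000000000000000000000000000000000000000000000dc600000000000000000000000000000000000500356c9c00000000000000000000000000000000000000000000000005c300000000000000000000000000000000000000000000cd92c211c000003418000000000000000000000000000000000000000000009b1032ee17114495c000002b984c0818770358a204e1a314345c26040c0b8000005832300a160ed4135111c0000000000000000000000000038714209c70e2843b80000000000000000000000000000000000000000000 2368 64 = 46)

theorem c38 : Part C 2432 2496 51 := Cfsg.Agent.SporadicRecognition.CertFast.part_fast C alC 51 (by decide +kernel : Cfsg.Agent.SporadicRecognition.CertFast.runF C 17 131071 0x1218018c03c6000200010000402a6005300008000c000400330021804cc0004001300010044c0004000100b98034c0004018300010028c000200020001004cc0004007301518000004a600010001004cc000400e300010028c000200020109800080004000200010044c03260001000100008000401830000800000004003300218050c0046001300010028c000200020049800080106007300010044c0004000100b98048c02a601830001003cc00040002000080008040600e300010030c000400020109800080002000200598000000020002000000000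0000000000010018c000400020001000040004005300008000c000400020021800080046001300010028c000203230049804cc0106007300010044c0326000100b9800080004000200010028c00020002004980008010600020159803cc0004029300008040c02a6000200598028c000200020001004cc0004000200010018c000400020001000040004000200008000c000400330021800080046000200010044c0004000100b98048c02a6000200010030c04a60002013980008000202d300008000c03c600020021800080046000200000000000000001000000000000000020001003cc0004029300008000803a6000200010030c0004028300010034c0002000200010018c03c600020001000040004000200008000c000400330001000080004000200010044c000400010139804cc02a6000200010028c000202830001000080004000200010044c0004000100010000802a6000200008000c000400330001000080004000200010044c03c600010001000080004000200010018c0004022300010000400040053000000000000000000000000000000000100010044c0326000100010000800040183000000000000000000000000000000000100010028c000200020001000080004007300000000000000000000000000000000010151803cc00040293000080008040602d3000000000000000000000000000000000100598018c032600020001000040004000200010044c0326000100498050c0046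000201998028c00020002000100008000400020001003cc0004000200008040c03a60002000080000000000000000000000000000200598044c0004000100218048c0106000200010044c06a6000100010000802a6000200008000c032600020001000080004000200010028c000200020109800080406000200010044c000400010001000080046000201598030c000400330001004cc0002000200010028c000203230001004cc00460002000000000000000010000000000000000000010018c000400330001000040046000200010028c0002003300010000800040002000000000000000010000000000004000000010028c000200330021804cc00040013000000000000000010000000000000000001e18028c0002032300010050c0004018301218018c00040223000100004040600530000800000000000000000000000040000 35 34359738367 0x6c911442e00000000000000000162cd9427000000000000000000000000000000000006990b0eae000000000000000000000000000000000000000000000000000000000000000000000000000000000000000000000000000000000000001b4c000000000000000000000000000000000000000000000000000000000000000000000000000000000000000000000f26000000000000003c9800000000000000f26000000000000003a98000000000000000000000000000000000000000076300000000000000000000000000000000000000000000000000000000000000000003b3000000000000000000000003a18000000000000008e6000000000000000000000007f6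 2432 64 = 52)

theorem c39 : Part C 2496 2560 63 := Cfsg.Agent.SporadicRecognition.CertFast.part_fast C alC 63 (by decide +kernel : Cfsg.Agent.SporadicRecognition.CertFast.runF C 17 131071 0x10018c0004030300010000403a6000200008000c06a600330021800080046000200010044c0326000100b98068c02a6000200008000c058600330001000080046000200010028c000200020001000080106000200010018c000402230001000040004000200008000c000403230001000080004000200598044c000400010001000080004000200010028c000203230049800080106000200008000c03c6000200218000802a6000200008000c0806000200218000802a6000200598028c000202230049800080106000200010030c0004000200218034c0002000200010028c000203030049800080106000200b18018c058603030001000040046000200008000c06a600020021800080046000201998018c000400020249800040106000200008000c04c600020001000080046000200598028c000203230001000080106000200008000c0004003300010050c0046000200010044c0004000100010048c02a600020159803cc0326000200008040c0046001300010028c000202230021800080004007300008000c04a6000200218034c0004001301218018c000402230001000040406005300598028c000203230049800080004007300010018c06a6000200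01000040004005300008000c000400330021800080004001300010044c0004000100b98128c0004018300008000c04a600330021800080004005300010028c00020002004980008000400730001003cc0004029300008040c000400e3000000000000200000000000000000000000010018c000400020001000040106005300008000c06a600330001000080004001300010044c032600010001000080004018300008000c000400020001000080004001300010028c000200020001004cc0004007300010018c000402230001000040004005300008000c000400330021800080046001300010028c000200020049800080004007300010044c0004000100b98000802a6018300598028c000203030249804cc0004000200008000c0004003300218068c0004000200010044c0326000100b9800080004000200008000c000400020021800080004000200010028c000200020049804cc0004000200010018c000402230001000040386000200008000c058600330001000080004000200010028c000200020001004cc0004000200010044c000400010001000080004000200010018c000400020109800040004000200008000c03260002004980008004600020001003cc04c6029300008040c0386000200010030c04a600020001000080002000200010018c04a600020001000040004000200010028c000200020001000080004000200010018c03c600330001000040004000200598028c000200020049804cc0106000200008000c0004003300010040c0046000200010044c000400010049808cc02a6000200008000c000400330021800080004001300010028c000200020139804cc000400730001006cc0004029300010068c00040001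 35 34359738367 0x9060000000000000000000000000000000000000000000000000000000000000000000000000000000000000000000000000000000000000000000000000000000000000000000000000000000000000000000000000000000000000000000000000000000000000000000000000000000000000000000000000000000000000000000000000000000 2496 64 = 64)

theorem c40 : Part C 2560 2624 57 := Cfsg.Agent.SporadicRecognition.CertFast.part_fast C alC 57 (by decide +kernel : Cfsg.Agent.SporadicRecognition.CertFast.runF C 17 131071 0x10044c000400010001000080004007300010028c0002000200010050c0004000200008000c000400020001004cc0004000201518018c04a602230109800040406000201218018c000400020001000040004000200010044c0004000100010034c0004000201598028c00020283010980008040600730159803cc03c6029300008000803a600e300010028c000200020001000080004018301218018c0004022300b9800040004018300010028c0002032300b9800080004000200008000c000400020001004cc0004000201998028c000200020001004cc0004000201998018c000402230001000040004000200008000c0326000200010048c0004000200010044c0326000100b98050c0406018300010028c000203230049804cc0106007301218018c000400020109800040004005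301218028c000200020001004cc0106007300598028c000200020001004cc01060073000080000000400330000008cc0046000000598028c000202230049800080004007300008000c0004000200010048c0004001301218018c03c6022300010000400040053000080000000400020000000080004000000000000003c600020000000040000000000008000c000400330021800080046000200010044c03260001000100008000400020001000000004030300008000803a60002000000000000000000000000000002000000b18044c0004000100010000803a6000200598028c0002029300010034c0004007300010018c04a6000201098000404060053000080000000000000000000080000001300010044c0004000100b98000802a6018300598028c000200020049804cc02a6000200008000c000400020001000080046000200010018c03c600020109800040004000200010018c000400020001000040004000200010044c04a6000100010050c0004000200008000c000400020021800080004000200010028c000200020109800080004000200010044c04a6000100b980008000402d300010028c000200020001000080004000200008000c0004000200010068c0004000201998018c000400020109800040004000200598028c000200020001000080004007300008000c03c6000200218000802a6000200010028c000200020001000080004000200010018c06a602930021800040386000200008000c0004000200498040c0004001300008000c06a602230109800080046000201218044c00040001004980008010600020121803cc04c6036300008000803a6000200010030c04a6000200010034c0002000200010018c0004030300b98000402a6000200008000c058600020001000080386000200010030c0004032300498040c0002018300008000c06a600330001000080046000200010018c03c6003300218000400460002000080000000000000000000000000000000010030c04c602830001000080002005300010018c000403030001000040004000200008000c06a600020049804cc00040002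 35 34359738367 0x2700c00ee000000000000000000000000002718bf6ee1b62c315c0000000000000000026715d2ae000001f0c0000000000000000000000000035538049c00000000000000000000000000000000000000000000000000000000000000000000000000000000000000000000000000000000000000000000000000000000000000000000000000000000000000000000000000000000000000000000000000000000000000000000000000000000000000000f6600000000000000000000000000 2560 64 = 58)

theorem c41 : Part C 2624 2688 60 := Cfsg.Agent.SporadicRecognition.CertFast.part_fast C alC 60 (by decide +kernel : Cfsg.Agent.SporadicRecognition.CertFast.runF C 17 131071 0x10044c000400010001000080004018300598028c000203230049800080106000200008000c000400020021800080004000200008000c000400020021800080004000200010018c000400020001000040004000200008000c0004003300010000803a6000200010028c000200020001004cc0004000200010044c04a600010001000080004000200010018c000400020001000040004000200010018c0004022300010000402a6000201518028c000200020001004cc0004007300000000004a6000100010034c00040183000000000000000000000000000002000000010044c04c600010001000080004018300008000c000400330021805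0c0046001300010028c000200020049800080106007300010044c0004000100b98048c000401830001003cc0004000200008000803a600e3000000000000000000000000000002000000010028c000200020001004cc0004007300010018c000400020001000040004005300008000c000400020001000080004001300010028c000200020001004cc0004007300010044c0004000100b9804cc0004000201998028c0002000200498000802a6000200b18044c04a6000100b980008000400020159803cc0004000200008040c03a6000201518030c032603030001000080002000200010028c000200020001004cc0106000200010018c000400020001000040004000200008000c000400330001000080046000200010044c0004000100010048c02a6000200010030c0004000200010034c0002000201998018c04c60002000100004000400020001003cc04c6000200008040c03a600e300010030c04a6000200010034c0002000200008000c000400020001000080406018301598044c000400010001008cc02a60073000000000000000000000000000000000100010028c000200020001000080046018301218028c00020002002180008000400020059803cc000400020000800080004000200b18044c0004000100b98000802a6018300010028c000200020001000080004007301518030c03c602230109800080002018300008000c0326000200010040c0004001300598018c0004000200010000400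04000200010044c032600010001000080004000200010028c000200020001000080004000201218018c058600020001000040386000200010030c000402830049800080002000200598018c000400020001000040004000200010044c000400010001004cc0004000201218028c000200020001000080046018300010044c000400010001004cc040600730001003cc0004003300008040c0106018300010030c06a602230049800080002001300010028c0002030300010048c0004000200010018c0806032300218000403a6001300598028c000202830001000080004005300010028c000200020001004cc0004018300010018c000403030001000040046000200008000c000400020001000080004007300010018c0004022300010000400040002 35 34359738367 0x2f1064537000000d0600000000000000000000000000000000000000000000000002c180000000000000000000000000000000000000000000000000000000000000000000000000000000000000000000000000000000000000000000000000000000000000000000000000000000000000000000000000003a9800000000000000000000000000000000000000000000000000000000000000000000000000000000000000000000000000000000000000000000000000000000000000000000000000000000000000000000000000000000000000000000000000000000000000000000000000 2624 64 = 61)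

theorem c42 : Part C 2688 2752 63 := Cfsg.Agent.SporadicRecognition.CertFast.part_fast C alC 63 (by decide +kernel : Cfsg.Agent.SporadicRecognition.CertFast.runF C 17 131071 0x1518028c000200020049804cc000400730159803cc00040002000080008000400e301e1806cc0004000200010068c02a6000100010044c0004000100010000802a6000201518044c0004000101098048c02a600020159803cc0004045300008040c03a600e300008000c000400330001000080004001300010028c000203230001000080004007300010044c0004000100010050c03a6000201518028c000203230001000080004007300b1803cc04a60002000080008000400e300010028c000200020001000080046000200010044c0004000100010050c02a6000200010028c000200020001008cc0106000201218018c000402830001000040004005300010044c0004000100010050c0004000200010028c0002000200010050c02a6000201218028c0002000200010000803a6001300010044c00040001010980008004600530001003cc03c602230000800080106007300010030c000400330049800080002001300010028c000203230021800080004007300b18044c0004000100b98050c0004007300008000c03c602230109818cc0406001304018028c000200020049800080106007301218044c04a60001010980008000400730121803cc0004022300008000803a60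00201218030c000402230001000080002000200008000c06a600020001000080046001301598044c0326000100010048c000401830001003cc06a602230000800080106005300010030c08060283004980008000204b300008000c06a6000200010048c000400e300598028c000200020001000080004000200008000c03c600020001000080004000200008000c032600020001000080004001300010028c0002000200010050c0046000200010028c000203230001004cc02a6000200010018c0004000200010000402a6000200008000c0004000200218000802a6000200b18030c00040002013980008000202d300598018c000400020109800040106000200008000c000402930001000080106000201598044c0004000100010068c0004000202898028c0002000200010000802a6000200598028c000200020049800080406007300010030c03c6000200010050c0002000201218018c000402230001000040406000200010028c000203230001004cc0106007300010018c00040002010980004000400e300008000c00040002000100008000400020159803cc0004000200008040c000400e300010028c0002000200498050c0004007300010018c06a600330001000040046005300010018c000400020001000040004005300008000c06a60002002180008000400130001003cc0004000200008040c000400e300598028c000203230001004cc0004007300010018c000400020001000040406005300008000c000400020001000080004001300008000c0004000200010000800040013000000000000402230001000040000005300008000c000400330001000080004001300010028c0002000200010000800040073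 35 34359738367 0x49124b15c00000000000000000 2688 64 = 64)

theorem c43 : Part C 2752 2816 53 := Cfsg.Agent.SporadicRecognition.CertFast.part_fast C alC 53 (by decide +kernel : Cfsg.Agent.SporadicRecognition.CertFast.runF C 17 131071 0x1f1800000004000100010000802a60000000080000000400330021800080004001300010028c00020002004980008000400730001000000004000100b98048c000000000001003cc0004000200008040c000400e30001006cc000400020001000080386000100b18044c0326000100010000802a60183000080000000400330021800080046001300010000000020002000000008000000000001000000000000100000048c0000000000010000000000000000080000000000000001000000000000000000034c0002000200598028c000200020001004cc01060073000000000000400020001000040004005300008000c000400330001000080046001300010018c03c602230001000040004000200598028c000203030049800080106000200008000c000400330021800080046000200010044c0004000100498000802a6000200008000c00040002002180b8c02a6000200008000c0004003300010000803a6000200010028c000203230001004cc0106000200010000004c600010001000080000000000010028c000200020049804cc000400730159803cc000402930000800080004001300b1804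4c0326000100010000802a6000200008000c0004003300218050c0046000200010028c000200020049800080106000200010044c0004000100b98048c02a600020001003cc0004000200008000803a6000200010030c0004000200010034c0002000200598028c000200020001004cc01060002000100000000400020000000040004000200008000c000400020001000080046000200010028c000203230001004cc0106000200008000c000400330001000080004001300010044c000400010001000080004018300008000c04c600020001000080046001300008000c04a6032300218034c000400130001003cc04c60293000080008000400e30001006cc0586030300010068c038600010001003cc04c6000200008040c03a600e300010030c06a60323000100b8c0002000200008000c0326000200010048c0004001300010044c000400010001004cc0046000200b18044c06a6000100218048c0004018300010018c000400330001000040046005300010028c000200020001000080004000200010028c0002022300010000802a6005300008000c000400020001000080004000200010044c03260001000100008000400020159803cc04c6000200008040c03a6000201518030c04a600020001000080002000200008000c000400020049800080004000200b18028c0002000200b9800080004007300b18044c0004000100b98068c0004000200010028c000202230001000080004000200010044c000400010001000080004000200008000c04c600020001000080004000200010044c000400010001000080106000200598018c000400020049800040106018302798028c000200020049800080004018300008000c0004000200010050c03a6018301598028c0002000200010000801060183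 35 34359738367 0x47a9a0aee4fe3b289c0000000033b8d2d77000000000000000000000000003094eb81724b0dd2ae4961ba51c92c3749ba7b8e3227000000000c1a1ba09c000000000000000000000000000000000000000000000000000000000000000000000119e37123800000000000000000000000000000000000000000000000000000000000000000000000000000024b0dd20e0000000000000000000000000000000000000000000000000000000000000000000000000000000000000000000000000000000000000000000000000000000000000000000000000000000000000000000000000000000000000000000000000000000000000000000000000000000000000000000000000000000000000000000000000000000 2752 64 = 54)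

theorem c44 : Part C 2816 2880 61 := Cfsg.Agent.SporadicRecognition.CertFast.part_fast C alC 61 (by decide +kernel : Cfsg.Agent.SporadicRecognition.CertFast.runF C 17 131071 0x10044c0004000100b98048c000400020001003cc0004000200008040c0004000200010028c000200020049800080106000200010018c000400020001000040406000200008000c0c0600020021804cc0046000200010018c032600020249800040386000200598028c000200020049800080106000201b98018c000400020001000040004000200008000c000400330021800080046000200010044c0004000100b98048c02a6000200008000c0004000200218000809c6000200010028c0002032300498000802a600020001003cc0004000200008040c03a6000201218030c032600020001000080002000200598028c000200020001004cc0386000200010018c000400020001000040004000200008000c000400330001000080046000200010044c0326000100010000802a6000200008000c000400020001000080046000200010028c000200020001004cc0106000200010018c000402230001000040004000200008000c000400330001000080046000200010028c000200020001000080106000200010044c0004000100010000802a6000200010030c0004000200010034c000202d301518030c000403230001000080002018300b18030c0004000200b980008000200e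300010028c0002030300b980008000400020001003cc0004003300008040c0004000200008000c000400020049800080046000200b18044c0326000100b98000802a6018300010028c0002000200010040c0106007300008000c0004000200010050c0004001301f18018c0004000200010000403a6001300598028c000200020049804cc00040073000000000000400020001000040406005300008000c000400020001000080004001300008000c000400330021800080046000200010028c000200020001004cc0106000200008000c03c60033002180008010600130001003cc04c6029300008034c000400e300010030c04a60002010980008000200e300010028c000200020049804cc09c6007300010018c000400330001000040046005300008000c0c0600020021800080004001300010018c000400020001000040004005300010028c000203230049800080004007300598028c0002029300010034c0004007300010018c000400020001000040106005300008000c00040033000100008004600130000800000004000200000000800040000000100000000402230109800040000000000008000c03c6000200218048c0004018300008000c000400020001004cc000400e300b18028c00020002000100008010600020159803cc0586000200008040c0046000200010018c03c602230001000040004005300598028c000200020049804cc0106007300008000c000400330021800080046001300010044c0326000100b98000802a6018300008000c0004000200010040c0046001300010028c000200020049804cc0106007300008000c0004045300010048c0046001300010028c0002000200010000801060073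 35 34359738367 0x13acef07700000000000000000000000000000000000000000000000000000000000000000000000000000000000000000000000000000000000000000000000000059037b3b83c0edb77000000000000000000000000000000000000000000000000000000000000000000000000000000000000000000000000000000000 2816 64 = 62)

theorem c45 : Part C 2880 2944 62 := Cfsg.Agent.SporadicRecognition.CertFast.part_fast C alC 62 (by decide +kernel : Cfsg.Agent.SporadicRecognition.CertFast.runF C 17 131071 0xb18018c000402230049800040106005300008000c00040293000100008000400130001006cc0004029300010068c0004000100010044c0326000100010048c02a6000200008000c06a6003300010050c0046000200010030c0004029300010034c0002000200598028c0002000200010040c000400e301218018c04c600020001000040004000201598044c000400010001004cc02a6000200010028c000202930001004cc0106007300010018c000402930001000040004001300008000c000400020001000080046001300598018c000400020001000040106018303e98018c03c602230001000040004005300598028c0002000200b9800080004000200008000c000400330021800080046001300010044c032600010139800080004018300598028c000200020049804cc0106007300008000c032600020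001000080004000200010028c000200020001004cc02a60073015980000000400010001000080046000000010044c0004000100b9800080004018300008000c000400330021800080106001300010044c0326000100b98048c02a601830001003cc0004000200008040c010600e300008000c0004000200010050c0004001301518044c0004000100b9800080004018300008000c06a600020021804cc000402d301218044c0004000100b980008000401830001003cc0004000200008040c000400e300010028c0002028300498050c0004007301518018c06a600020001000040004005300008000c06a600020021804cc00040013000000000000200000000000000004000000598018d6bc803230049800056bc8005300008000c0004000200218050c0004001300008000c000400020001000080004001300010028c000203230001004cc0004007300b18044c032600010001000080004018300008000c0004003300218050c0046001300010028c000200020049800080004007300010044c0004000100b98048c02a601830001003cc0004000200008000803a600e300010030c03c600020001000080002000200010028c000200020001004cc0004007300010018c000400020001000040004005300008000c04c600020001000080004001300010018c03c602230001000040004005300598028c000200020001004cc0004007300010018c000400020001000040004005300008000c000400330001000080004001300010044c000400010001000080004018300008000c000400330021800080004001300010028c00020002004980008000400730001003cc00040223000080008000400e300598028c000200020001004cc0106007300010018c000400020001000040004005300008000c000400330001000080046001300010044c0326000100010000802a6018300008000c000400020001000080046001300010028c000200020001004cc0106007300010018c0004000201098000402a6005300b18044c0326000100b9800080004000200010028c0002000200498000800040002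 35 34359738367 0x644911cee00000000000000000000000000000000000000000000000000000000000000000000000000000000000000000000000000000000000000204c0000000000000000000000000000000000000000000000000000000000000000000000000000000000000000000000000000000000000000000000000000000000000000000000000000000000000000000000000000000000000000000000000000000000000000000000000000000000000000000000000000000000000000000000 2880 64 = 63)

theorem c46 : Part C 2944 3008 64 := Cfsg.Agent.SporadicRecognition.CertFast.part_fast C alC 64 (by decide +kernel : Cfsg.Agent.SporadicRecognition.CertFast.runF C 17 131071 0x10028c000200020049804cc0106000201218018c000400020001000040004000200008000c000400020021800080046000200010028c000200020049804cc0106000200008000c000400330021800080004000200010044c0004000100b980008000400020001003cc04c6000200008000803a600e300010030c04a600020001000080002000200010018c000400020001000040004000200010044c000400010021800080004000200598044c000400010001000080004000200010028c0002000200b9800080004000201218044c000400010049800080106018300010028c000203230001000080004001300b18028c000203230001000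080004000200010030c0004029300010034c0002000200008000c032600020021800080004001300008000c000400330001018cc0046001300010044c0326000100010048c03a6018300008000c000400020021800080004001300010028c000202930001004cc0004007300010018c000400020109800040004005300010028c00020223004980008010600020159803cc0004029300008000803a6000200010028c0002003300498000802a6001300008000c000402930001000080046000201598028c000202930001004cc010600e301598044c0c0600010001004cc02a6007300008000c032602830021800080004001301518028c0002000200498034c0004007301518044c04a6000100b980008000401830001003cc00040002000080008000400e30001006cc0004000200010068c038600010159803cc000403230000804cc0046018300010028c000200330021804cc0004001300598028c000202230049800080106005300010044c06a6000100218048c0106000200010030c0004036300218034c0002000200008000c03c600020109800080406000200010044c03c6000100b98048c02a600130121803cc04c6000200008040c03a600e302798030c04a600020001000080002000201218030c04c600020001000080002018300010028c000200020049800080106000200010018c0004003300b9800040106007300598028c000203230001000080106007301218018c0004029300010000400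0400e300008000c000400020001000080046001301598044c000400010001000080106000201518044c00040001000100008000402d30059803cc000400020000800080004007301218018c000400020001000040106000202318018c000400330001000040004000201518028c000202830049800080106000200010018c032603630139800040406000200008000c04a600020021804cc0046000200008000c0004000200010040c03a600020159803cc03260002000080008000400e300010018c000402930001000040004000201218044c0004000100b98048c0004000200008000c0326000200010050c0004000200010044c000400010001000080004000200b18030c0004000200010128c000200e300010028c0002022300498000800040013 35 34359738367 0 2944 64 = 65)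

theorem c47 : Part C 3008 3072 56 := Cfsg.Agent.SporadicRecognition.CertFast.part_fast C alC 56 (by decide +kernel : Cfsg.Agent.SporadicRecognition.CertFast.runF C 17 131071 0x402230001000040000000000598028c000200020049800080004000200008000c000400020021800080004000201998028c0002032300498034c0004000201998018c04a602230001000040004000200008000c000400330001000080004000200010044c00040001000100008000402d300010018c03c600020109800040406005300010044c04a6000101398034c000400020001003cc04c602830000800080004000200598028c000200020049804cc0106000200008000c0004000200218000802a6000200010028c000203230049800080106000200008000c0004003300010000803a6000200010044c0004000100010000802a6000200b18044c0004000100b980008000401830159803cc04c60002000080008000400e30001006cc0586000200010068c0004000100b18044c0326000100b98000802a600020000000000002000000000000000000000000000000000400000000000000002000000598028c000200020049804cc01060002000100000000400000000000040000000000008000c000400330021800080046000200598028c000200020049804cc0004007301518018c000400020001000040004005300008000c000400020021800080004001300010028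c000203230049804cc0004007300010018c000402230001000040004005300008000c000400020001000080004000200b18044c000400010001000080406000200598028c000200020001004cc02a6000200008000c080600020001000080004000200010028c000203230109800080004000200010018c000400020001000040106007300010018c04a6000200b9800040004000200008000c04c600020001004cc010600020001003cc04c60002000080008000400e300008000c0c0600020001004cc0004000201218018c00040323013980004000402d300008000c04a600330001000080004001300010018c03c600020001000040406005300598028c000200020049804cc0004007301218018c000400020001000040004005300008000c000400330021800080004001300010044c0326000100b98048c0004018300008000c000400020021800080004001300010028c000200020049804cc0004007300008000c04a6003300218034c09c600020001003cc04c6029300008040c03a6000200010030c04a6028300010034c0002000200008000c06a600330001000080046000200008000c000400330021800080046000200010028c000200020049800080106000200010044c0004000100b98048c02a6000200010030c0004000201398034c0002000200010044c0326000100b9800080004018300000000000020000000000000000000000000000000000000100000048c000001830000000000000000000008040c03a60000000000000000000000001000000002000000598028c000200020049804cc0004007300010018c000400020001000040004005300008000c0004000200218000800040013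 35 34359738367 0x1e910d00e000000000000000000000000000000000000000000000000000000000000000000000000000000000000000000000000000000000000000000000000000000000000000000000000000000000000013608405726c10802e0000000009d4428038000000000000000000000000000000000000000000000000000000000000000000000000000000000000000000000000000000000000000000000000000000000000000000000000000000000000000000000000000000000000000000000000000000000000000000000000000000000000000000000000000000000000000000000000000000000000000000000000000000000a74200d5d4dc7d813a7a0e332728d9f686e00000000000000000000000000 3008 64 = 57)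

theorem c48 : Part C 3072 3136 47 := Cfsg.Agent.SporadicRecognition.CertFast.part_fast C alC 47 (by decide +kernel : Cfsg.Agent.SporadicRecognition.CertFast.runF C 17 131071 0x10030c0004000200010034c0002000200010018c000402230001000040004000200598028c000200020049804cc0106000201b98018c000400020001000040004000200008000c000400330021800080046000200010044c0326000100b98000802a6000200008000c000400020021800080046000200010028c000200020049804cc0106000200008000c000400330021800080004001300010028c000200020049804cc0004007300010044c0004000100b9800080004018301218028c00020223004980008000400530001003cc00040033000080008000400e300b18044c0004000100010040c03a60073000080000000000000021800000000001300010028c000200020001000080004007300010044c0004000100b98000802a6018300010030c03c600020049800080002000201518028c000202930001004cc00040013000100000000400330021800040004005300008000c04a6003300010000803a600730000000000002000000000000000000000000000000000402830001000080002000200010018c04c60002000100004000400e300598028c00020293000100008000400e300598018c04c6000200010000403a6018300008000c03c600020001000080004005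300008000c0004000200010040c0004000200008000c04c6045300010048c0004000200b18044c0326000100b98000802a6018300598028c000200020049804cc0106007301e980000000400000000000040046000000008000c000400330021800080046001300598028c000200020001004cc01060073000000000000400000000000040000000000008000c000400020001008cc0046001300010028c000203230001004cc010600730000000000004000000010000400040000000000000000200020000000000000000000000000000000000000000004000004b300008000c000400020021800080004001300010028c000203230049800080004007300008000c000400330001000080004001300010044c000400010001000080004018300008000c0004003300218034c09c6000200010044c0004000100b98000802a600020001003cc04c6000200008000803a6000200010018c03c60223000100004000400530000000000002000000000000000000000000000000000000010000000080000000000010028c000200000000004cc0000000000b18044c0004000100b98000802a601830000800000004000000000000000000000000000000000200000000000000000000000000044c0004000100b980000000000000001000000000000200008040c000000000000000000000000000000034c0002000000010028c000200020049804cc0106007300010018c000400020001000040004005300010018c03c600330001000040004000200598028c000203230001004cc0106000200010018c000400020109800040004000200008000c06a600020001000080046000200010028c000203230001004cc01060002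 35 34359738367 0x1f30435bb800000000000000000000000000000000002bf8930170000000003d221a15d4d66ec138000000000000000000000000000000000000000000000000000000000000000000000349c85d27000000000000000001a4c42d938000000000000000003d221a11da4a42cabb7f8fa707000000000000000000000000000000000000000000000000000000000000000000000027e10a8ae4fb214d1c3744292b80000000027510a0ee4ea21415c9d44282393a88503767a1f5c4e0000000000000000000000000000000000000000000000000000000000000 3072 64 = 48)

theorem c49 : Part C 3136 3200 55 := Cfsg.Agent.SporadicRecognition.CertFast.part_fast C alC 55 (by decide +kernel : Cfsg.Agent.SporadicRecognition.CertFast.runF C 17 131071 0x8000004a6003300218050c0004001300010028c000200020049800080106007300010044c0004000100b98048c02a601830001003cc0004000200008040c03a600e300010030c00040002000100008000204b300598028c000200020049804cc0004007300010018c000400020001000040004005300008000c000400330021800080004001300008000c000400330021800080046001300010028c00020002004980008010600730001003cc0004029300008040c03a600e301598044c0004000100010068c03a6000200010028c0002000200010000800040002000100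44c0004000100010050c0004000201598028c000200020001000080106000200010000006a6000200008040c0000000001998028c000200020001000080106000200010028c000200330001000080046000200010018c0004000200010000402a6000200008000006a600000000000000000000000010028c000200020001004cc00040073000000000000400000109800040406005300010028c000200020049800080004007300008000c000400020001000080004001301518028c00020283004980008000400730000000000004000000008034c000400e300010030c03260002010980008000204b300598028c000200330001004cc0004007300010018c000400330001000040004005300010028c000200020049804cc0004007300008000c000400020021808cc0004001300010028c000200020049804cc00040073000080000000400330001000000000001300010044c000400010001000080004018300008000c0004003300218050c004600130001003cc0004029300008000803a600e300b18044c0326000100b98000802a60183000080000000402230021800080386000200010028c000200020049800080106007300010044c0004000100b98048c02a601830001000000004000200008040c000000e301c18030c0004000200010034c0002000200010028c000200020049804cc0106007300010018c000400020001000040004005300008000c000400020021800080046001300010018c0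3c600020001000040406005300598028c000200020049804cc0106007300010018c000400020001000040004005300008000c000400330021800080046001300010044c0004000100b98000802a6018300010028c000200020049800080004000201518044c00040001000100008000400020001003cc000400020000800080004000200008000c0004003300218050c000400020001003cc0004000200008040c0004000200b18000004c6000200008040c0000000000598028c000200330049804cc0046000200b18018c0004000200010000402a6000200008000c000400330001000080046000200008000c06a60002002180008000400020001003cc04c6029300008068c0004000200008000c0004003300218034c09c6000200010044c0004000100b98048c02a600020001003cc0004000200008000803a60002 35 34359738367 0x46421466e0000000000000000000000000000000000000000000000000000000000000000000000000000000000000000000000000000000000000000000000000041d0aba07000000000000000000000000003430c3347000000000a71375c5c00000000000000000000000000cf73d89dc00000000000000000000000000000000000000000000000000007a3110eee00000000000000000000000000000000000f4322249c000000000000000003a020f4ee00000000000000000000000000000000000000000000000000000000000000000000000000000000000000000000000000000000000000000000000000322cae7470000000000000000000000000000000000000000000000000000000000000000000000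 3136 64 = 56)

theorem c50 : Part C 3200 3264 49 := Cfsg.Agent.SporadicRecognition.CertFast.part_fast C alC 49 (by decide +kernel : Cfsg.Agent.SporadicRecognition.CertFast.runF C 17 131071 0x10018c03c6022300010000402a6000200010018c03c600020001000040004000200008000c000400020001000080046000200010018c03c602230109800040004000200008000c06a602930001000080046000200000000000020002000000008000000000000000000000000000000034c0002000201998018c00040002000100004000400020001003cc04c6029300008040c03a6000200008000c000400330001000080004000200010000003c600000001000040004000000008000c0004003300218050c0046000200010028c000200020049800080106000200010044c0004000100b98000802a6000200b18044c0326000100b98000802a6000200010028c000200020049804cc0106000201218018c000400020001000040406000200008000c000400020021800080046000200598028c000200020049804cc0106000200010018c000402230001000040004000200008000c000400330021800080046000200010044c0004000100b98048c02a6000200598028c000200020001004cc0106000200010018c000400020109800040004000200008000c000400330001000080046000200010044c0326000100010000802a6000200008000c0004000200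01000080046000200010028c000200020001004cc01060002000000000000400000000000040000000000598028c000200020049804cc0004007300008000c000400330021800080004005300010044c0326000100b9800080004018300008000c000400020021800080004001300010028c000200020049804cc0004007300010018c000402230001000040406005300008000c000400330001000080004001300010028c000200020001004cc000400e300010044c000400010001000080004018300010018c000400020109800040004005300008000c000400330021807cc0004000200010044c0004000100b980008000400020001003cc04c600020000800080004000200010018c03c602230001000040004000200598028c000200020049800080106000200008000c00040033002180008004600020001000000000000100000000800000000000080000000000000000000080046000000008000000040000000000008000000000001000000002000000000000000000000000000000000000010000000000000000000008000c000400330021800080004000200010000000020000000000000000000000001000000000000100b980008000401830001000000000000200008000000000000012180000000000020001000080004000100b18044c0004000100b98000802a6000200008000c0004003300218050c0046000200010028c00020002004980008010600020001000000000000100b98000002a600000001000000004000200008000003a6000000010030c0004000200010034c0002000200010028c000200020049804cc0106000200010018c000400020001000040004000200b18044c0326000100b98000800040183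 35 34359738367 0x484239d5d77688a838000000000000000000000000017cc8878b80000000000000000000000000000000000000000000000000000000000000000000000000000000000000000000000000000000000000000000000000000000000000000000000000000245921a0e00000000000000000000000000000000000000000000000000000000000000000000000000000000000000000000000000000000000000000000000000000000000000000000a2323411cdc4467bb9b8c8ce77371919cae6e2233cdc0000000031208cd5774fa1804e6e142f91d6da85ea3800000000000000000000000001d3085bbbba690b67700000000000000000000000000000000000 3200 64 = 50)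

theorem c51 : Part C 3264 3328 37 := Cfsg.Agent.SporadicRecognition.CertFast.part_fast C alC 37 (by decide +kernel : Cfsg.Agent.SporadicRecognition.CertFast.runF C 17 131071 0xb18044c0326000100b9800080004018300010028c000200020049800080106007300b1800000000000100000048c00000000015980000000400000000800000000000000598028c000200020049804cc0004007300010018c000400020001000040004005300008000c000400330021800080004001300598028c000200020001004cc0004007300b18018c000400020001000040004005300008000c000400020001000080004001300010028c000203230001004cc0004007300010018c0004000200010000402a6005300598028c000200020049804cc0106000200008000c000400020021800080046000200010028c000203230049800080106000200008000c000400330001000080046000200010044c0004000100010000802a6000200008000c00040033002180008004600130001000000000000000008000000000000000100000000000000000000000002000000b18044c0326000100b98000802a6018300010028c000200020049804cc0106007301218018c000400020001000040004005300008000000000000000000008000000000001000000000000200000000400000000000000000000200020000000000000000001218000000000000002180004000400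53005980000000200020000000000000000000000000000040002000000004000000530000800000004000000000000000000000000080000000000020000000080000000000598028c000200020049804cc00040073000080000000400000000000000000000000008000000000000000000000000000000000800000004000000000000000000000000000000000000010000000000000000000008000c000400330021807cc0004000200000000000020000000000000000000000001000000000000100b98000002a60002000100000000000020000800000000000000010018c000402230001000040004005300598028c000200020049804cc0106007300008000c000400330021800080046001300010044c0326000100b98000802a601830000800000004000200010040c03a6001300000000000020002000000000000000000000800000004000200000048c02a60013000100000000200020000000000000000001f180000000000010001000000000000000008000c0004000200b9800080004001300010028c000200020049804cc00040073000000000000000010000000000000000000010000000040033000080000000000e30001006cc0004000200010068c0386000100010044c0326000100b98000802a6018300008000c0004003300218050c0046001300010028c000200020049800080106007300010044c0004000100b98048c02a601830001000000004000200008000003a600e300010030c0004000200010034c0002000200b18044c0004000100b98000802a600020159803cc04c6000200008040c03a6000201518030c000400020001000080002000200598028c000203230049804cc01060002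 35 34359738367 0x16da85ebb92a90bc7700000000000000000000000000000000000000000000000000000000000000000000000000000000000000000000000000000000000000000000000000199c8b0bbac0d160770000000000000000000000000024451592749822b0ee6f823fd5d0d67cc1b9be88fe5743722a68e35a23f5dc53c8a8938000000001ad91f4ee6f223e5dc6ba47c3b9bc88f93700000000095a23dd5d6da85e8b9bc514a470000000000000000000000000000000000037798586e6ec23cd5cdde616239bb48f2573779858ee000000000000000003b14d2c777639a5aee00000000000000000000000000000000000000000002254896bb80000000000000000000000000000000000000000000 3264 64 = 38)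

theorem c52 : Part C 3328 3392 35 := Cfsg.Agent.SporadicRecognition.CertFast.part_fast C alC 35 (by decide +kernel : Cfsg.Agent.SporadicRecognition.CertFast.runF C 17 131071 0x1598000004c600020000800080046000000010044c06a600010021800080004018300b18028c000200020049804cc0046007301518028c000200330001004cc000400e30000000000004000100010040c03a601830159803cc000402930000800080004000200008000c0004000200218048c000400130001003cc04c6029300008040c010600e3000080000000000000000000000000000000010044c0326000100b98048c02a60183000080000000000000000000080000001300010028c000200020049804cc010600730000800000000000000000000000000000000000000000200020000000080000005300010044c0004000100b98050c0004018300000000003c6000200000000804060001000080000000000000000000000000001300010028c00020002004980008010600530151800000004000100010048c000401830151803cc00040283000080008000400e300598028c000203230001004cc0106007300010018c0004000201098000400040053000080000000000330000000080000001300008000000000293032180000004600130000000000004000100000000802a6005300000000004c60000000080008040600000001000000004000200000000000020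00200010018c03c60002000100004040600530000000000326000100000048c000000000000000000002000200000000000000000000000000000400000249800080386000100010030c000400020001000080002000200010018c03c602230001000040004005300010044c0326000100b98000802a6018300010028c00020002004980008010600730000000000000000100b98000802a601830000000000004000200008000003a600e301518030c0004000200010068c000202d300598028c000200020049804cc01060073000100000000400330021800040000005300b18044c0004000100b98000802a6018300008000c0004022300b9800080046001300010028c000200020049800080106007301f1800000004000000008000003a6000000010030c0004028300010034c0002000200010028c000200020049804cc0106007300010018c000400020001000040004005300008000c000400020021800080046001300b18044c0326000100010000802a60183000080000000000330000000080000000000010028c00020002004980008010600730001000000004000100000000002a60000000000000000400020000000000002000000010028c000200020001004cc01060073000000000000400000000000040000000000008000c000400020001000080046001300010018c03c6000201098000402a6005300598028c000200020001004cc010600730001000000004000200b9800040406005300008000c000400330001000080046001300010044c0004000100010000801060183000080000000000000000000080000000000000000000020002000000000000000000000000000000000200000048c00020000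 35 34359738367 0x84fa39e8e000000000000000000000000002781dda4e000000000000000000000000004b31268ee0000000023da499bb8000000004d99264ee96624d05c0000000026a905d5757f1260ee0000000022b0498238000000000000000000000000012dc8deab923ceb4372481d66ee48f3ad1dc91c8dd3b80000000024692528e45924a15d4c28161b8000000000000000000000000000000000034b0ec52728323568e0000000000000000034b0ec547000000000000000000000000003344b032700000000000000000000000000000000000000000000c6c2449dc00000000334cb01275c3a31c8e000000001638488938000000000000000000000000019a6580a380000000000000000048b2435dc916486abaf04e3827 3328 64 = 36)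

theorem c53 : Part C 3392 3456 53 := Cfsg.Agent.SporadicRecognition.CertFast.part_fast C alC 53 (by decide +kernel : Cfsg.Agent.SporadicRecognition.CertFast.runF C 17 131071 0x10044c0004000100b9800080004018300008000c0004029300010050c0046000200008000c00040283002180008000400130001003cc00040293000080008000400e30001006cc0004030300010068c000400010001003cc04c6000200008000803a6000200010030c06a6000200010034c0002000200008000c000400020001000080004000200010018c000400020001000040046000200008000c000400020001000080004000200008000c00040002004980008040600020059803cc0004029300008000803a600e300010030c000402830001000080002000201218018c000400020001000040004005300010044c0004000100010050c0004018300008000c000400020049800080004000200010028c000200020001000080004000200010028c00020002000100008000400020001003cc05860002000080008000400020159803cc000402930000804cc03a600e300008000c00040002002180008000400020001003cc000403230000800080004000200010018c00040002000100004040600020001003cc000402930000800080004000201518028c000200020049800080004000200010044c0004000100b9800080004000200010028c000200020001004cc0004000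200008000c00040033002180008000400130001000000004000100b9800000004000000010018c000400020109800040004000200010028c000200020001004cc000400730000800000000003300218050c0000001300010028c000200020049800080106007300010044c0004000100b98048c000401830001003cc0004000200008000803a600e300010000000020002000000000000000000001000000000000000000000400040053000080000000400000000000000000000000010028c000200020049804cc0004007300010028c00020002004980008000400020001003cc0004000200008040c0004000200010028c000203230001004cc0004000200010018c0004000200010000400040002000080000000400330000000080046000000010044c0004000100b98048c02a6000200010030c000400020139800080002000200010044c03c6000101098000802a6000200010028c0002032300498050c0004000201218018c000400020001000040004000200010028c000202230001004cc0106000200598028c000202230001000080106000200008000000040000000100000000400000159803cc000400020000804cc03a600e3000080000000400330021800000000001300010044c0004000100b98000802a6018301218018c000400020001000040004000200008000c000400020001004cc0004000200010018c03c600020109800040004000200598000000020000000000000000000000000800000000000200218050c0000018300010028c0002022300498000801060073000080000000000330000000000000000000010044c0004000100010000802a6018300b18044c0004000100b98000800460002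 35 34359738367 0x42a9a464e0000000000000000024c0afe570000000000000000000000000024d096657498a3d8ee93425991c000000000000000000000000000000000000000000023891e127000000000000000000000000000000000000000000000000000000000000023dc95a77000000001117475c1c000000000000000000000000000000000012904a52bc74516e27000000000949474d1c00000000000000000 3392 64 = 54)

theorem c54 : Part C 3456 3520 49 := Cfsg.Agent.SporadicRecognition.CertFast.part_fast C alC 49 (by decide +kernel : Cfsg.Agent.SporadicRecognition.CertFast.runF C 17 131071 0x10018c058600020109800040004000200008000c06a600330001000080004000200010044c032600010001000080004000200008000c000400020001000080004000200010028c000200020001004cc0004000200010018c0004022300010000400040002000080000000000330000000080046000000010028c000200020049800080106000200010044c0004000100b98000802a6000200010030c00040002013980008000202d300008000c04a60002004980008000400730001006cc0586000200b980008000400010001003cc00040002000080008000400020001003cc04c603630000800080046000200010030c04a6003300218034c0002000201598044c03c6000101098048c02a6000200010028c00020293000100008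0106000200008000c0004000200010050c0046000200598028c000200020049804cc0004007300010018c000400020001000040406005300008000c000400330001000080004001300010044c000400010001000080004007300008000c000400330021800080004000200010028c0002032300b9804cc000400020159803cc04c6000200008040c000400e300008000c000400020021804cc00040013000080000000000330000000000000000000010044c000400010001000080004018300010018c03c6022300010000400040053005980000000200000000000000000000000008000c000400330021800080046001300010044c0326000100b98000802a6018300010028c000200020049804cc01060073000080000000000000000000000000000000010028c00020002000100008040600730000000000004000100010048c00040183000080000000000000021800000000001300010028c000200020109800080004007301518044c0004000100010040c000401830001006cc000400020109800080386000100b180000032600010000000000000000000008000000000000000000008000000000000000000002000000000000000000000000000000000000010000365900000000000000000000000000000080000000000000000000000000000000000034c0002000000598028c000200020049804cc0106007301e98018c000400020001000040004005300008000c000400330021800080046001301218018c03c600020001000040004000200008000c000400330021804cc0004000200010044c0004000100b98068c0004000200010028c000200020001004cc0106000200010044c03260001000100008000400020000800000000000200218048c0046000000010028c000200020049800080106000200010044c0004000100b98048c02a600020001003cc0004000200008000803a6000200010030c00040002000100008000200020059800000002000000000000001060000000000000000000020000000040000000000008000c000400020021800080046000200010028c000203230049804cc0106000200008000c0004003300218000800040013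 35 34359738367 0x108e92993800000000000000000000000000000000000000000000000000000000000000000000000000000000000000000000000000000000000000000000000000000000000000000000000000000000000000000000012246362b8000000000000000009b526e15c000000000000000000000000009b526e0dc0000000026c51c8274da93702e0000000000000000000000000049913668e00000208d3764d92ba6ec9b2474dd93646e65f47ac9c000000000000000000000000000000000000000000000000000000000000000000000135a908938000000000000000000000000000000000023811e2774dd93640e00000000000000000000000000 3456 64 = 50)

theorem c55 : Part C 3520 3584 55 := Cfsg.Agent.SporadicRecognition.CertFast.part_fast C alC 55 (by decide +kernel : Cfsg.Agent.SporadicRecognition.CertFast.runF C 17 131071 0x10028c000203230049800080106007300598028c0002029300010068c02a6000200010018c0586000201098000400040002000080000000000000000000080046000000010044c0004000100b98000802a6000200010030c04a6000201398034c000202d30001003cc0004000200008040c03a6000200010030c000400020001004cc0002000200010028c000200020001000080004000200008000c058600020001000080004000200010030c0004032301398000800020002000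08000c00040283013980008000400130151803cc04c60002000080008000400e30001006cc0586000200010068c000400010001003cc0004000200008000803a6000200010030c000400020001000080002000200008000c000403230001000080004000200008000c058600020109800080004000200008000c0004045300010040c0046000201f18044c0326000100010000802a6000200010018c000402230249800040406000200010028c000200020001000080004000200010018c000400020249800040004000200010028c000203030001004cc0106000200008000c06a6000200010048c004600020159803cc0004029300008040c03a600e30001003cc06a6000200008040c03a600e300010030c000400020001000080002018300010028c000200020049804cc0004007300010018c000400020001000040004005300008000c000400020021800080004001300008000c000403230021800080004001300010044c0326000100b980b8c000402d300008000c04a60033000100008000400e300010028c000200020001004cc000400730000800000000003300218050c0046001300010044c0004000100b98048c02a601830001003cc04c600020000800080106005300010018c03c6000200010000403a6005300008000004a6000200010034c0004001300000000003c602230001000040004000000598028c000203230001004cc0004007300010018c00040002000100004000400530000800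0c000400330001000080004001300010044c0004000100010000800040183000080000000000330021800080000000000000000000020002004980008000000730001003cc00040293000080008000400e3005980000000200000000004cc010600000001000000004000200000000400000053000080000000400330000000080000001300010044c0326000100b9800080004018300008000c000400020021800080046001300010028c000200020049804cc0106007300010018c0004000200010000402a6005300010028c000202230021800080004000200008000c0586000200218068c0004000201998018c000402230001000040406000200598028c0002032300498128c0004000201218018c06a602230001000040004000200008000c000400330021800080004000200010044c0004000100b98128c0004000200010028c00020283004980008000400020159803cc0004029300008040c00040002 35 34359738367 0x17b929c27000000000000000000000000000000000000000000000000000000000000000000000000000000000000000000000000000000000000000000000000000000000000000000000000000000000000000000000000000000000000000000000000000000000000000000000000000000000000000000000000000000000000000000000000000000027a9277270000000000000000000000000038d89dc7771b13b84e00000000000000000000000000000000000ed72765ddd926af8b8000000006e724ec4ef7649d51cb4893a2b800000000000000000000000000000000000000000000000000000000000000000000000000000000000000000000000000000000000000000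 3520 64 = 56)

theorem c56 : Part C 3584 3648 48 := Cfsg.Agent.SporadicRecognition.CertFast.part_fast C alC 48 (by decide +kernel : Cfsg.Agent.SporadicRecognition.CertFast.runF C 17 131071 0x598028c000200020049804cc0106007300008000c000400330021800080046001300010044c0326000100b98000802a6018300008000c000400020021808cc0046001300010028c000200020049804cc0106007300008000c000400330001000080046001300010028c0002000200010000801060073000100000000400010000000080000018300010044c0326000100010000800040183000080000000402230021800080046001300000000000020000000000000000000000001000000000000100000050c000001830001000000000000000008000800000000000100000000000000000000080002000200598028c000200020001004cc0004007300010018c000400330021800040004005300008000c000400020001000080004001301998028c000200020001004cc0004000200000000004a6000100000068c000400020159803cc000400020000800080004000200010044c04c600010001000080106000200008000c0004003300218050c0046000200010028c000200020049800080106000200010044c0004000100b98048c02a600020001003cc0004000200008000803a6000200010030c0004000200010034c000202d300010028c000200020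001004cc0106000200010018c000400020001000040004000200008000c000400020001000080046000200010028c000200020001004cc0106000200008000c000400330001000080004000200010044c00040001000100008000400020001003cc04c60002000080008000400e30001006cc0586000200010068c0386000100010044c00040001000100008000400020059803cc0004000200008000803a6000200b18030c000400020001000080002000200010018c0004000200b9800040406000200010044c000400010001000080004000200010028c00020002000100008000400020001003cc058600020000800080004000200010018c00040002000100004000400020159803cc000400020000800080004000201998028c00020002000100008000400020159803cc058602930000800080004000201998028c000200020001000080004000200b18044c000400010001000080004000201218044c000400010001000080106005300010044c0004000100010000803a60053000000000000203230000000000000000001218028c00020323000100008000400730159803cc04c60293000080008000400e300000000000020293000100000000000000001000000004000200010000404060000000000000000400010000000000000000000598028c000202230049800080106000200008000c0004000200010068c0046000201998018c03c6022300010000400040002000080000000400000000000080046000000000000003c60002000000004000000000000800000000000000218050c0000001300010044c0004000100b9800080406018300010000000000000000000004000000530000800000000000000000000800000013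 35 34359738367 0x3ec92d9770000000005a649cd1dbb0535ab9699273772d5a5aaee5b24b51dc0000000000000000000000000000000000100069093800000000000000000000000000000000000000000000000000000000000000000000000000000000000000000000000000000000000000000000000000000000000000000000000000000000000000000000000000000000000000000000000000000000000000000000000000000000000000000000000000000000000000000000008fb28ad5c00000000000000000480944eae901289c9c592513238000000000000000000000000011a0511bb8afcea3576eca50c6e000000000be29513b98fd2a127 3584 64 = 49)

theorem c57 : Part C 3648 3712 59 := Cfsg.Agent.SporadicRecognition.CertFast.part_fast C alC 59 (by decide +kernel : Cfsg.Agent.SporadicRecognition.CertFast.runF C 17 131071 0x1003cc04c6029300008000803a600020001003cc06a60323000080008000400e30001006cc06a60323000100b8c038600010001003cc0004003300008040c004600e30159803cc04c60002000080008000400e30199806cc058600020001000080004000101598028c000200020001004cc0004018301598028c000200020001004cc0004007300010018c000400020139800040004005301998028c000200020049804cc02a600020159803cc0004000200008000802a6000200000000003c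60000000080008000400e301e98028c000200020001000080106000201518028c00020002004980008000400730159803cc0004000200008034c000400e30121806cc0004000200010000802a6000100010018c0326036300010000403a6000200010044c000400010001000080004000200010018c000400020049800040004001300008000c058600330001000080046000201998028c0002000200010000802a6000200010044c0004000100010048c000401830001003cc000400020000800080004000200008000c04c603230021800080046005301218028c000203230049800080106007300598044c04a600010001000080004000200010030c0004029300010034c0002000200010018c00040002024980004010600020001003cc06a6003300008040c004600e30001003cc0004000200008040c000400e300010018c03c600330001000040004005300008000c06a60002000100008000400130000800000000000001398050c0046001300010028c000200020001000080106007300010044c0004000100218048c02a601830151803cc03c600330000800080406005300010028c000200020001004cc0004007300010018c000400020001000040004005300010018c0004000200010000404060053000100000000002230000800080004000000598028c000200020001004cc0004007300010018c000400020001000040004005300008000c000400330001000080004001300010044c0326000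10001000080004018300008000c000400020001000080004001300010028c000200020001004cc00040073000000000000400000109800040000000000010028c0002000200498050c0004000200010018c06a600330001000040046000200010018c0004000200010000402a6000200008000c06a6000200218000802a600020001003cc0004000200008040c0386000200b18030c000400020249800080002000200598028c000203230001004cc0106000200010018c000400020109800040004000200008000c000400020001000080004000200008000c0004000200010000800040002000000000000002230001000040004000000008000c000400330001000080046000200010028c000200020001000080106000200010044c0004000100010000802a6000200010030c0004000200010034c0002000200008000c04c600020001000080046000200010018c0004022300498000404060053 35 34359738367 0x2464d3b1700000000000000000000000000000000000000000000000000000000000000000000000000000000000000000000000000000000000000000000000000000000000000000000000000000000000000000000000000000004359f302e0000000000000000000000000000000000000000000000000000216cd2657000000000000000000000000000000000000000000000000000010bc54123800000000000000000000000000000000000000000000000000000000000000000000000000000000000000084532d55c0000000000000000000000000000000000000000000000000000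 3648 64 = 60)

theorem c58 : Part C 3712 3776 44 := Cfsg.Agent.SporadicRecognition.CertFast.part_fast C alC 44 (by decide +kernel : Cfsg.Agent.SporadicRecognition.CertFast.runF C 17 131071 0x1003cc0004000200008040c03a6000200000000003c60223000100004000000530059800000002000200000000000000073000080000000400330000000000000000000010000000000001000000008000000000000800000000000000000050c000000000000800000000045300010048c0000000000008000000000000000000008000400130001000000000000000000068c0004000100b18044c0004000100010000802a6018300000000000020000000000000000000000159800000000000100010000002a6000000b1800000000000200008000003a600e30000000000000000200010034c0002000000010028c000200020001004cc0106007300010018c000400020001000040004005300008000c05860002002180008000400020001003cc04c6029300008040c0386000200010030c04a6003302498034c0002001300010028c000202230049820cc0046000200010018c032600330001000040106000200008000c0c0600020021800080386000201b98018c000400020001000040046000200010028c000203230049800080106000200598028c0002029300010068c0106000200010018c058600020001000040004000200008000c0004003300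0100008004600020000800000004000000000000000000000000000000000400000000000040000000000008000c06a603030021800080004007301998044c000400010001000080004000200010028c000200020001004cc0004000200010018c000400020109800040406005300010018c03c602230001000040004000200598028c000200020049804cc0106000200008000c000400330021800080046000200010044c0326000100b98000802a6000200008000c0004000200010040c0046000200010028c000200020049804cc0106000200008000c0004045300010048c0046000200010028c000200020001000080106000201f1800000004000100010000002a6000000008000c000400330021800080004001300010028c000200020049804cc0004007300010044c0004000100b980008000401830001003cc00040002000080008000400e30001006cc0004000200010068c0004000100b18044c0326000100010000802a60002000080000000400000000000080046000200000000000020000000000000000000000000000000000000100000048c000000000001000000000000200000034c0002005300598028c000200020001004cc01060002000000000000400020001000040000000000008000c000400330001000080046000200598028c000200020001004cc0004007300010018c000400020001000040004005300008000c000400020001000080004001300010028c000203230001004cc0004007300010018c000402230001000040406005300010018c000400020001000040106001300008000c04a603230001000080004001300010018c03c600020109800040406005300008000c0586032300218068c00460002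 35 34359738367 0x6ea4ded1dcc89bc8bbdd92755775e26f8ee86a2be11d0d457c1ba48d37a273a925a64e0000000010b45792b8a70af62742d15e46f0184b409c000000000000000000000000000000000000000000000000000000000000000000000000000000000000000000000000000000000000000001338ae97726715d24e000000000000000000000000000000000000000000000000000000000000000000000000000000000000000000000000000000000c8743bddc000000000000000000000000000000000000000000000000000043515f00e84a2b7d5d09456fa3bdd927507000000000fe92b789c000000000000000000000000000000000000000000000000000000000000000000000000000000000000000 3712 64 = 45)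

theorem c59 : Part C 3776 3840 39 := Cfsg.Agent.SporadicRecognition.CertFast.part_fast C alC 39 (by decide +kernel : Cfsg.Agent.SporadicRecognition.CertFast.runF C 17 131071 0x598028c000200020001004cc0106000200010018c000400020109800040004000200008000c000400330001000080046000200010044c0326000100010000802a6000200008000c000400020001000080046000200010028c000200020001004cc0106000200010018c000400020109800040004000200008000c000400330001000080004001300010028c000200020001004cc0004007300010044c000400010001000080004018300008000c000400020049800080004000200010018c000400020001000040004000200010044c0004000100010000802a600e300010028c000200020001004cc0004007300b18044c00040001004980008000401830000800000000000000000050c0046000000000000000020000000000000010600000000000000000000100000000002a60000000000000000002230000800080000000000010028c0002000200010240c00040073000000000000000000000000040406000000598028c000200020049823cc01060002000000000000000000000000040000000000008000c0004000200010050c0046000200008000c04a600020001000080004001300598028c00020002004980008000401830001003cc0004003300008040c004600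e300010018c000402230049800040004005300008000c06a60002000100008000400020151803cc00040002000080008000400e300008000c0004022300010050c0046001301218000000040001000000008000000000000000000002029300010000001060073000000000000000000001000040004005300000000000020323000000000000000000001000000000003300000000404060000000080000000004530021800000000000000008000c000400330021800080046001300010030c04a60283010980008000200e300b18044c0326000100b98000802a601830001000000002000200000000000000000012180000000000000000000040000000000008000c000400020021800080046001300010018c03c600020001000040004005300598028c000200020049804cc0106007300008000c000400330021800080046001300010044c0004000100b98000802a6018300598028c000200020001004cc0106007300008000c000400330001000080046001300010044c0326000100010000802a60183000100000000200020000004cc000000000121800000004000000000000400000000005980000000200020049804cc000000730001000000004000200010000404060053000080000000400330021800080004001300010044c0326000100b98048c000401830000800000004000200000000800000000000100000000200020049804cc000400000000800000004000200010048c0000001300010028c0002000200010040c000400730151800000004000100010000000040000000080000000400330021800080046000000010028c00020002004980008010600020001000000000000100b98048c02a60000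 35 34359738367 0xb51396274889638ae9112c711d22258e1b80000000091b16364e00000000122258e0380000000000000000000000000000000000000000000000000000000000000000000003450c2f379851620eebd54eb8dc9c8586ab93a4f69170daa3048e000000000000000000000000006e8960aaedd12c149c00000000000000000000000000000000000000000000000000000000000000000000009bc57fab86d5182774b3a724ee2d44e59dd2d09c89380000000049815fc8e8f64aa89d26057f1b8000000006671a30ee8ea4e189c0000000023492a527 3776 64 = 40)

theorem c60 : Part C 3840 3904 61 := Cfsg.Agent.SporadicRecognition.CertFast.part_fast C alC 61 (by decide +kernel : Cfsg.Agent.SporadicRecognition.CertFast.runF C 17 131071 0x10018c000402230001000040004005300598028c00020002847a423d000040073000000000000000000000000040000000000008000c000400330021800080004001300010044c0326000100b9800080004018300008000ded8800330001000080004005300010028c000200020001000080004007300b18044c0326000100010000802a6018300008000000000000000000008000000007ae20028c0002f5c47ae200009eb88007379ba0044debc800017af23cdd1ebc801837afa003cdebe8f5f4000080009ebe8f5f47c0a0030df028f8147c0a0034c0002f81400010028c000200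020001004cc0106007398e20018c000531c498e2000066388005300008000c0004000200010000800460013912a0018c03c6000200b98000402a6005300598028c000200020001004cc0106007301e98018c000400020321800040004005300008000c000400330001000080046001300010044c0004000100010000802a6018300008000c000400020021c20900004001300010028c000200020049800080004007300010018c03c602230001000040406000200008000c000400330021800080004000200010044c032600010249800080004000200598028c000200020001000080004000200010028c000203030001004cc00040002000000000000000010000000000000000000010044c0004000100b9800080004000200008000c000400330021800080004000200010044c0326000100b98048c000400020001003cc0004000200008040c03a6000200008000c03c6000200010050c0004000201998044c0004000100b9800080004000200010044c0004000100010000800040002823a003cc000504740000c11d208e8000200010030c06a6030382420034c0002000200010028c0002030300498050c0106000201998018c06a600020001000040004000200008000c06a600020021804cc0046000201518018c0586028300b9800040406000200008000c04a6000200498050c0046000200008000c0004000200010050c03a6000200598028c000203230001004cc02a600020159803cc0326000200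00800080004000200b18044c032600010001000080004000200008000c06a6000200218048c0046000200010028c000200020049800080106000200010044c0004000100b98048c02a600020001003cc0004000200008000803a6000200010030c0004000200010034c0002000200010028c000200020001004cc0046000200010018c000400020001000040004000200008000c04c6000200010000800460002915a0018c03c602230001000040004000200598028c000200020001004cc0106000282920018c000400028292000040004000200008000c000400330001000080046000200010044c0004000100010000802a6000200008000c000400330001417900046000200010028c00020002004980008010600020001003cc0004022300008000803a6000200010030c0004028300010034c00020002 35 34359738367 0x18d45a5938000000000000000000000000000000000000000000000000104600000000000000000000000000000000000000000000000000000000000000000000000000000000000000000000000000000000000000000000000000000000000000000000000000000000000000000000004669890ee000000000000000000000000000000000000000000000000000000000000000000000000000000000000000000000000000000000000000000000000000000000000000000000000000000000000000000000000000000000000000000000000000000000000000000000000000000000000000000000000000000000000000000000000000000000000000000000000000000000000000000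 3840 64 = 62)

theorem c61 : Part C 3904 3968 47 := Cfsg.Agent.SporadicRecognition.CertFast.part_fast C alC 47 (by decide +kernel : Cfsg.Agent.SporadicRecognition.CertFast.runF C 17 131071 0xb1803cc0004000200008000803a6000200b18030c000400020001000080002000201598028c000202930001000080106000200010000003c6000000010000400040000000000000000400000000000040000000000008000c000402930001008cc0004000200008000c06a6000200014c110000400130001006cc04c6029300010068c0004000101598044c0004000100010048c0004000200010030c00040002000149d500002000200010028c000203230001000080004007300010030c04c6029300010034c0002000200010028c000202930001000080004001300010018c04c6029300010000403a601830159803cc04c6029300008040c000400e300010028c000200020021800080004000200008000c04a600020021800080004001300010018c032600020001000040004005300b18044c0004000100498048c0004018300000000003c602230000000040000000200008000c06a6003300010040c010600130059800000002032300000000000000000000000000000000000000000040004000000008000c00040002837a0050c0004001300008000c000507040001000080106001383920044c00040001000141c9002a6018300598028c000202230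001004cc0004005300010018c000402830001000040004005300008000006a6000000000000000000000015180000000400010000000000004000000010044c0004000100b98048c000402d30159803cc0004000200008040c010600e300010000000020002000000000000402d3000000000000200000001000000004000000010000000000033000000004000000000000800000000000200010034c0004000000010018c03c60223000100004040600530000000000002000000000000000000000000080000000000000000000000000000000b18044c0326000100b9800080004018300010028c000200020001004cc0106007300008000deb48f5d400013d750004600137aca0028c0002000200010000800040073000000000000000010001000000000000000008000c06a602830021bf4100004001301518044c0004000100b98048c000401830001003cc00040002000080008000400e30001006cc000400020001000080386000100010044c0326000100010230c0004018300008000c000400330021cc4126208001301218028c000200020001000080406007300010044c0004000100b98048c02a601830001003cc03c60002000080008040600e398a20030c03c6000201098000800020002923a0018c0004000200498000648e80053000080000000000000000000000000000001598044c00040001000100008000401830000800000000000000000000000000000842a0028c000200020109800080004007384220044c000400018422000080004018300000000003c600000000800080000000000010028c000202930001004cc0004007301218018c000400020001000040004005300008000c06a6000200010000800040013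 35 34359738367 0x4644b862742ba6eeee000000000000000000000000000000000000000000000000000000000000000000000000000000000000000000000000000000000000000000000000002d2cc6a3700000000090b2dad5d2165b5938000000000000000000000000000000000000000000062d16c4eec5a2d891c0000000000000000062b96c84e000001c996aa8bcbbad213ad27000000000000001c4dbb46ee0b8000000000000000000000000000000000045e0b56370000000000000000000000000000000000000000000000000000000000000000000000000000000000000000000000002d40d9b370000000004eb3bc05c0000000000000000062f969c6e00000000000000000000000000 3904 64 = 48)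

theorem c62 : Part C 3968 4032 53 := Cfsg.Agent.SporadicRecognition.CertFast.part_fast C alC 53 (by decide +kernel : Cfsg.Agent.SporadicRecognition.CertFast.runF C 17 131071 0x10018c03c600020001000040004000200598028c000200020049800080106000201218018c04c602930001000040004000200008000c000400330021800080046000200010044c0326000100b98048c02a6000200008000c000400020021800080046000200010028c000200020049804cc0106000200008000c0004003300218140c0004000200010028c000200020049804cc0004000200010044c0004000100b980008000400020000000000000000000000000400000000000000000000000000000800000000000000b18044c0004000100b9800080004018300008000c0004029300010050c03a6001300010028c0002000296c20000a5b08007300000000000000001000000008000000000159800000000000000008050c00000000000000000000000000000000080002000000010028c000200020049804cc0004007300010018c000400020001000040004005300010044c0326000100b98000802a60002000000000000200000000000000000000000000000000000001000000000000000000000000000000000000008040c00000000015180000000000000000000080002000200598028c000200020049804cc0106000200010018c00052c449622000040004000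200008000c000400020021800080046000200010028c000200020049800080004000201998018c000400020001000040004000200008000c000400020021800080004000200010028c000200020049804cc0004000200010018c00040223000100004040600020001003cc04c60002000080008000400e30001006cc058600020001000080386000100010018c000400020001000040004000200008000c058600020001000080004000200598018c0004000200b9800040004005300008000c0004000200014ead000040013000080000000000000001000000004000097320028c000200020109800080004007300010044c0004000100010048c0004018300008000c000400020021800080046000200010028c000202930001004cc01060002800a0018c00040002800a000040004000200010028c0002000200010000802a6000201518018c0326000200b9800040406005300008000c0326029300010198c0004001301518028c000200020001004cc0004007301598044c04a60001000145cd00004018300010018c000400020109800040406005300008000c04a603030021800080046000201998028c0002000200498068c0386000201998044c0586000100b98068c010600020001003cc0004000200008000803a6000200010028c00020283004980008000400730001006cc0004000200218068c0004000100010044c04c6000100010000802a6000200010044c0004000100b980008000401830159803cc04c60002000080008000400e30279806cc058600020001000080386000101518030c0004032300010128c000200e300010000000020002000100000000000e30159803cc0004000200008000801060002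 35 34359738367 0x23685e3939914bc4170000000000000000000000000038e92847771e24e2ef16e4745dc00000000000000000000000000e2d2ef95cc885e283b71d2bb27716977c2e00000000000000000000000000000000000000000000000000000000000000000000000000000000000000000000000000000000000000000000000000125ceba27000000000000000000000000000000000000000000000000000000000000000000000000000000000000000000000000000000000000000000000000000000000000000000000000000000000000000000000000000000000000000000000000260c77913800000000 3968 64 = 54)

theorem c63 : Part C 4032 4096 48 := Cfsg.Agent.SporadicRecognition.CertFast.part_fast C alC 48 (by decide +kernel : Cfsg.Agent.SporadicRecognition.CertFast.runF C 17 131071 0xb18044c0004000100b98000802a6000201518030c0004000201398034c000200020001000000000003300218000400000000000000000000200000000000000000000000010018c00040002000100004000400020001003cc0004029300008040c0004000200598028c0002000200010040c00040002930a0018c04c600020001000040004000200008000c0004000200014d0100004000201998028c000203230001004cc0004000299a20018c00040223000100006668933440000800000000000000000000000000000928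20044c0004000100b98000802a72504000000000000000000000000040004000000b18044c0326000100b9cba9002a6000200598028c0002000200498000801060002000000000000000000000000040000000000008000c000400330021800080046000200598028c0002000200014bc9001060002000000000000000000000000040000000000008000c000400020001008cc02a6000200010028c0002032300014cf9001060002000000000000000000000000040000000000010028c000203230049804cc0004007301c18018c000402230001000040004005300b18044c0004000100010000800040183926a0018c03c600020109800040004005300b18044c0004000100b980008000400020159803cc04c600020000800080004000200010018c03c71f648fb20000400040002000000000000200000000000000000000000b18044c0004000100b98000802a600020000800000000000000000000000000000000000000000200000000000000000000000010028c000200020049804cc0106000200010018c000400020001000040004000200b18044c0326000100b9800080004018300598028c0002000200498000800052f1400010044c0004000100b98048c000401830001003cc0004000200008040c000400e300598028c000200020049804cc0004007300010018c000400020001000040004005300008000c000400330021800080004001300008000c00040033002180008000400530001002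8c00020002004980008000400730001003cc0004029300008040c000400e30000000000000000000000000404060000000000000000000000000000040000000000008000e36a80002000146d500046001301598044c0004000100010048c02a6018300b18044c0326000100b98048c00040183000000000000200000000000080000000000000000000000001000000000000000000000000000000000000008040c00000000000000000000000000000000080002000000010028c000200020049cca10000400738e6a0018e39a91cd48e6a0000639a8005300008000c000400020021800080004001300598028c000200020049804cc0004007301518018c000400330139800040004005300008000c000400330021800080004001300010044c0004000100b98048c0004018300008000c04c6003300010050c03a600020159803cc04c6000200008000800040002 35 34359738367 0xdde616039b78bff57000000000000000000000000000000000000000000000000000000000000036e4bf877000000000dce2fd89c0000000000000000088497e84e000000000000000004440bf227000000000000000000dbc5ffa3800000000000000000000000000000000000000000000000000000000000011c25f5ab80000000046c17d2ee8d82fa55c0000000000000000000000000000000000000000000000000000000000000000000000000000000000000000000000000000000013b07f90b800000923000000000000000000000000004ec4bd4579d897a88f3b12f50ddce868d038000000000000000000000000000000000000000000000000000000000000000000000000000000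 4032 64 = 49)

theorem c64 : Part C 4096 4160 37 := Cfsg.Agent.SporadicRecognition.CertFast.part_fast C alC 37 (by decide +kernel : Cfsg.Agent.SporadicRecognition.CertFast.runF C 17 131071 0x10044c0004000100b98000802a6000200598028c000200020049804cc0004007301998018c000400020139800040004000200008000c000400330021800080004001300010044c0326000100b9800080004018300008000c000400020021800080004001300010028c000200020049804cc0004007300010018c000402230001000040406005301598028c000202930001004cc000400e3000080000000000000000000000000000001f1800000000000100010000000000000000080000000000000000000000000000000010028c000200020049804cc0106007300008000000000000000000000000000008cf20044c0004000100b9800080004018397ca006cc0004000200010000803860001000000000000200000000000000000000001e98018c000400020001000040004007300000000000020000000000000000000000000000000000000000010000000000001000000000000000000000000040000000000b18044c000400010049cbf925fc80183000000000000200000000000000000000000010028c000200020049804cc0106007300010018c000400020001000040004005300000000000000001000000000000000000000000000002000000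00000000000000000598028c000203230001004cc0106007300008000c000400330001000080046001300000000000020000000000000000000000121800000000000200000048c00020000000000000000000010000000000000000000598028c000200020049804cc0004007300010018c000400338d02000040406005300008000c00040033002180008000400130000000000002000000000000000000000000000000000000000000000040000000000008000c000400020001000080004001300010028c000203230001004cc0004007301518018c0004000200010000402a60183000000000000200000000000000000000000008000c0004000200218000802a6000200010028c000203230049800080106000200008000c03c6003300010000803a6000200010044c0004000100010048c02a6000200008000c00051f948fca0048e3f2800130000000000000000000008040c00000000000000000000000000000000000002000000000000000000000000000004000000000000800000000000000000050c0000000000010018c00051f848fc2000063f080053000000000000200000000000000000000002798028c00020000000000008000000000000800000000000200000048c0000000001f180000000000010001000000000000000010044c0326000100b98000802a6018300008000c000400330021800080046001300010028c00020002004980008010600730001000000004000100b98048c02a601830001003cc0004000200008040c03a600e300010030c0004000200010034c000200020001003cc04c6003300008000800040002000080000000000000021800000000000000010028c0002000202498000801060002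 35 34359738367 0x11a040791e33c8189bb450c2f77000000000e5f30b9dc000000000000000003779858ae000000000c80614abb89125d2772898444e0000000012666102b800000000000000000e5830791d27660eab8000000000000000006e830695cc80614a3a87cc1947000000000000000000000000003decc15577bd982a4e000000000000000000000000008dc1826ae000000000000000000000000000000000000000000010aa9bf93b58cc10172a1981c4e2d43035dc00000000243cc0b571659812ae2cc3021dc59860423800000000000000000000000002970a5d2b80000000000000000000000000175461883800000000 4096 64 = 38)

theorem c65 : Part C 4160 4224 43 := Cfsg.Agent.SporadicRecognition.CertFast.part_fast C alC 43 (by decide +kernel : Cfsg.Agent.SporadicRecognition.CertFast.runF C 17 131071 0x3e98018c03c60033000100004010600530000000000002000000000000000000000000080000000000000000000000000000094920044e52480001949200b8e52480183845a0028c000308b4845a004ce11680073000080000000002930001000000000000000000000000020000000000000000000000159800000000000100010000000000000000000000000200000000000000000000000000000000000001000000000000000000000000000000000000008000000000000000000000000002830000000000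004000100010044c0326000100b98000802a60183000080000000000000000000080000000090220028c0003204490220000a408800730000000000000000100000000000000000000000000000000000000800000000000090120030e404920249012480900003202400598028c000200020049804cc0106007300010018c000402230001000040004005300008000c0004000200218048c004600130001003cc04c6000200008000803a600e300b18044c0004000100b98000802a601830000800000000000200000050c0000000000010028c000200020049800080106007301218044c00040001844a0000a11280183834200000000106840000c1a1000000000832a0030c00050654832a41950000200e300010028c000200020049804cc0106007300010018c000400020001000040004005300008000c00040002002180b8c0046001301218018c000400020001000040406005300010028c000200020001004cc000400020000000000000000000010000400000000000000000000400000000000040000000000010028c000200020049800080004000200008000c000400020001000080004000201998028c0002030300498000800040002000000000000000000000800000000000000598028c000203230001004cc0046000200b18018c0004000200b9800040004000200008000006a600000000000000004000000010028c000200020049804cc0106000200008000c0004000200b9808cc02a60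00200010028c000200020049804cc01060002000080000000000000001000000000000000b18044c000400010001008cc02a6000200b18044c0004000100b98034c000400020151803cc000400020000c83100004000200008000c06a60033002180008004600020001003cc0004029300008000a1408000200010030c0004028385120034c000202d300b18044c0326000100b98000802a6000200598028c000200020049800080106000200010044c0004000182ca0048c09c600020000000000000000000008000000000000000100000000002230000000080002078300010028c000200020049804cc0106000202318018c000400330021800040406000200008000c000400020021800080046000200010018c03c600020001000040004000200598028c000200020049804cc0106000200010018c000400020001000040004000200008000c0004003300218000800460002 35 34359738367 0xb6231695e41062cbb800000000000000000b623168dd6c862babad8d1727763818acaec7031591d8e062b1bad88c5a1700000000000000238c0000000000000044300000082600000000000000000000000000000000000000000000000000000000004430000000000000000000000046b00000000000000000000000000000000000000000000000000000b4b31a81cb0e699038000000000000000000000000018b0633038000000000000000010f640091c00000000000000000000000000b4e317c1c0000000000000000000000000000000000000000000000000000000000000000000000000000002d90c57075b118b40e0000000000000000000000000000000000000000000000000000000000000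 4160 64 = 44)

theorem c66 : Part C 4224 4288 40 := Cfsg.Agent.SporadicRecognition.CertFast.part_fast C alC 40 (by decide +kernel : Cfsg.Agent.SporadicRecognition.CertFast.runF C 17 131071 0x80000000000000000000000000000000000000000000001000000000000000000001000000000000100000140c00040002000100000000000000000800000000000000010018c000402230001000040004000200598028c000200020001000080106000200008000c000400330001000080046000200010044c0004000100498000802a600020000800000000000200000068c000000020000800000000000000000068c00000002000000000000200000000000000000000001f180000000000010001000000000000000008000c000400020001000080004001300010028c000200020001004cc00040073000000000000000010000000000000000000000000000000000000080000000000000001006cc0004000202498068c0004000100010044c0326000100b98048c02a6000200008000c0004003300218050c0046000200010028c000203230049800080106000200010044c04c6000100b98048c02a600020001003cc0004000200008040c0386000200010030c0004000200010034c0002000200010018c03c602230001000040004005300008000c06a600330021800080046001300010044c0326000100010000803a6018300008000000000000000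0000000004000000010028c000200020049804cc0106007300008000000000000000100000000000000000000000002000000010000000000000852a000000000000100010000214a80183000000000000200000000000000004000000010044c000400018e7a473d000040002000000000000000000000800000004000000b18044c0004000100b98000800040183000080000000000000000000000000000000010028c000200020049800080106007384e20044c0004000101098000802a6018301f1803cc0004045300008040c03a600e300010030c000400020001000080002000200010028c000200020049804cc0004007300010018c000400020001000040004005300598028c000200020049804cc01060073850a0018c00050a14850a000061428005300008000c000400330021800080046001300010044c0326000100b98048c02a6018300008000c000400330001000080046001300010028c000200020001004cc01060073000000000000200000109800080000000000010044c000400010139800080004018300010028c000202830001000080004007301218018c03c6029301098000400040053015980000000202830001000000004000000010028c0002022300498000801060073000000000000000000109800080002000000010044c0326000100b9800080004018300598028c000200020049804cc0004007300008000c000400020021800080004001300010000000020000000000000000000000000800000000000000010040c0000000000010028c000200020001004cc000400730000000000000000001098000404060000000000000000200000000000000000000000008000e1028003300010000800460013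 35 34359738367 0x43d1914eeae7322cdded879d13a238c8937000000000000000000000000000000000005729ffa6eae53ff51d5c66422bab94ffd770000000000000000015c46428bab8cc841700000000000000000000000000000000000000000000000000000000000000000000000000000000000000018f863fa380000000063d9a7e2ec7f31f15c0000044b34fcc7b57000000000d3f31ecdc000000000000009330000000000000000000000000000000000000000000000000000000000000000000000000000000000000000000000000000000005a598d4ae0000000000000000000000000062c18ccae0000000018b06331380000000000000000000000000169c62fabad38c5f47000000000e3c49c45d8b86a2bb800000000 4224 64 = 41)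

theorem c67 : Part C 4288 4352 45 := Cfsg.Agent.SporadicRecognition.CertFast.part_fast C alC 45 (by decide +kernel : Cfsg.Agent.SporadicRecognition.CertFast.runF C 17 131071 0x10028c0002000200498000801060002000000000000000000000800000000000000010030c0004029300010034c0002000200010028c000200020049804cc0106000200010018c000400020001000040004000200008000c000400020021800080046000200b18044c0326000100010000802a60002000080000000000000000000000000000090fa0028c0002000290fa0000a43e800020000000000000000100000000000000000000000000000000000000000000002000000010028c0002000200010000801060002000000000000000000000000040000000000008000c0004000200010048c0046000201218018c03c600020109800040004000200598028c0002000200015561001060002000100000000000000249800040000000200008000c000400330001000080046000200010044c0004000100010000802a60002000000000000200000000000000000000000b18044c0326000100b9800080004018300010028c000200020049804cc0004007300008000c000400020021800080004018301b98018c03c602230001000040406000200598028c000200020049804cc0004007301218018c000402230001000040004005300008000c000400330021800080004001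300010044c0004000100b98000800040073000080000000000000000000000000000000010028c00020002004980008010600730159803cc0004029300008040c03a600e300598028c000200020001004cc0004007301218018c000400020109800040ac6005300008000c00040033000100008000402d300010044c032600010001000080004018300008000c000400020001000080004001300010028c000200020001004cc0004007300010018c000402230001000069028005300008000000000000000000000000000008ef20028c0002000200498000800051de400b18044c0004000100b9800080004018300598028c000200020049800080004000200008000c000400020021800080004000200010028c000203230049804cc00040002871a0018c000402230001000040004000200008000c000400330001000080004000200010044c000400010001000080004000286ca0018e41a800020109800040004000200008000c000511e488f20000800460002000000000000000000000800000000000000010030c04a7344400010034c0003344400b18044c0004000100010000802a6000200010028c00020002953a004cc0106000201218018c000400029532000040004000200008000000000000000000000000000000000000000000000000000000400000000000000000000000000000000040000000200000000000020000000000000000000000000000000000000000000000400000000000080000000000000000000000000000000598028c000200029faa0000800040002000080000000000000000000000000000000008000000000000000000000000400000199800000000000002498000400000002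 35 34359738367 0x10b63a689c00000000000000000000000000000000000000000004158ca8770000000010b73a609e0ac6540b800000000774994e4e0000000000000000000000000085b9d308e0000000000000000020fcca3570000000000000000000000000000000000000000000000000000000000000000000000000000fc60000000000000000000000000000000000000000000000000000000000000000000000000000001a6065a0b8000000000000000000000000000000000000000000000000000000000000000000000000000000000000000ec03254dc00000000000000000000000000000000000dfe6493b9bfcc922757599224eaec32415d1426718397e8c8f77000000000c493231dd5ce645bbc178f0337 4288 64 = 46)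

theorem all : Part C 2176 4352 1700 := (((((((((((((((((((((((((((((((((c34).append C c35).append C c36).append C c37).append C c38).append C c39).append C c40).append C c41).append C c42).append C c43).append C c44).append C c45).append C c46).append C c47).append C c48).append C c49).append C c50).append C c51).append C c52).append C c53).append C c54).append C c55).append C c56).append C c57).append C c58).append C c59).append C c60).append C c61).append C c62).append C c63).append C c64).append C c65).append C c66).append C c67

end Cfsg.Agent.Co2Type.Up8Chk1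
end

-- part: Co2Type/Up8Chk3
section
set_option autoImplicit false
set_option maxRecDepth 100000

namespace Cfsg.Agent.Co2Type.Up8Chk3

open Cfsg.Agent.SporadicRecognition.CosetCert Cfsg.Agent.Co2Type.Up8Data

private theorem alC : Cfsg.Agent.SporadicRecognition.CertFast.al (Nat.succ C.lm) C.data = true := by decide +kernel

theorem c102 : Part C 6528 6592 64 := Cfsg.Agent.SporadicRecognition.CertFast.part_fast C alC 64 (by decide +kernel : Cfsg.Agent.SporadicRecognition.CertFast.runF C 17 131071 0x1006cc06a6032300218068c0386000100010030c04a600020001000080002001301218018c0004032300b980004000400530001003cc00040002000080008000400e30001006cc000400330001000080386000100010028c00020002000100008000400730001003cc000400330000804cc000400e300010028c000200020001004cc0004007300b18018c000402230109800040046005300008000c0004000200010050c0046001300008000c000400330001000080004001300010028c000200020001000080106000200008000c0004032300010048c0004001300008000c04a600020049804cc0004001300008000c000403230001004cc0046001300598044c000400010001000080004018300010044c04a6000100010050c000401830121806cc00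0400020001000080386000100010044c06a600010001000080004018300008000c032600020049804cc03a6001301518044c0004000100010050c0004018301518044c000400010001000080004018300010028c000202830001000080004001300598018c04c602930001000040106005300008000c000400020001004cc0004001300008000c0004000200b98048c038600020001003cc04c6003300008048c03a6000200010030c0004000200010034c0002001301998018c000403230001000040046000200598028c000200020001000080106000200008000c000400330001000080046000200010044c000400010001004cc02a6000200008000c000400020001000080004000200010028c000200020001004cc000400730001006cc0004000200010068c0004000100010044c0586000100b98068c02a6000200008000c03c600330021800080046000200010028c000203230249800080106000200010044c0004000100b98048c02a600020001003cc058600020000804cc03a6000200010030c0004000200010034c0002000200b18044c000400010001004cc02a6000200010028c0002000200010040c0106000200010018c000400020049800040004000200008000c06a600330001000080046000200010044c0004000100010048c02a6000200010028c000200020001004cc0004000200010044c0004000100010034c0004018300008000c000400020001000080004001301518044c000400010001000080004018300010028c0002000200010050c0004007300010044c0326000100b9804cc0004001300010018c000402830001000040004000201998028c000203030001004cc000400020199806cc04a602830001000080004000100010028c000203230109804cc0106000200010044c000400010139800080004018300010044c0004000100010000802a6000200010044c0326000100b98048c000400020001003cc0004000200008068c0004000200010028c000200020049804cc0046000200b18018c000400020001000040004000200008000c0004000200218068c0046000200598028c0002032300498000801060002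 35 34359738367 0 6528 64 = 65)

theorem c103 : Part C 6592 6656 64 := Cfsg.Agent.SporadicRecognition.CertFast.part_fast C alC 64 (by decide +kernel : Cfsg.Agent.SporadicRecognition.CertFast.runF C 17 131071 0x1003cc04c6003300008050c000400130001006cc058600330021800080004000100010018c000400020001000040004000201218018c03c600020139800040004000200008000c06a60002004980008000400e300010018c03c600020001000040406005300010044c000400010021800080004018300008000c000400020021800080046001300010028c00020002004980008010600020001003cc0004000200008040c03a600e300008000c000403230001000080004001300598044c00040001000100008000402d300008000c06a602930021800080004000201598044c032600010139800080004000201998028c0002000201398034c0004000200010028c000200330001004cc000402d300008000c000400020021800080046001300010028c00020002004980008010600530001003cc0004000200008040c03a600e300010030c00040223000100008000202d300010028c000200330049804cc0004001300010018c000400020001000040406005300010028c000200330021804cc0106000200008000c058600020001000080046000200010044c000400010049804cc02a6007300008000c06a6000200010048c004600130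1598028c000203230001004cc0106018302798028c000200020049804cc0004007301218044c0004000100b98048c09c6000201518030c000400020109800080002000200b18044c000400010001000080004018301598018c000400020001000040406000200008000c0326036300b9800080046000200598044c0004000100218000802a6000200010044c06a6000100010000802a6000200010028c000200330001000080106000200010044c0326000100b9800080004000200010028c000200020049804cc0004007300010018c00040002000100004000402d300010028c000200020001000080004000200b18044c000400010001008cc000400e300008000c06a600020021800080004000200008000c0004000200218048c0004000201b98028c0002032300b980008000400020001003cc0326000200008040c02a6000200008000c06a600330001000080004000200010028c000203230049800080004007300010018c06a6000200b9800040004005300008000c0004000201398000802a600130151803cc00040002000080008000400e300b18030c0004032300498034c0002000200010018c0004000200b98000402a6005300010018c03c60223000100004000400020001003cc04a6000200008040c000400e300010030c04c6000200010040c0002000200010018c0004032300010000403a6007300008000c000400330001000080046001300598028c000203230001000080106007300008000c06a6000201098048c0046000200008000c06a600020001008cc0046000203e98018c03c600330001000040106005300598028c000203230001000080106000200598044c0004000100498000802a600020159803cc0586000200008000803a60002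 35 34359738367 0 6592 64 = 65)

theorem c104 : Part C 6656 6720 64 := Cfsg.Agent.SporadicRecognition.CertFast.part_fast C alC 64 (by decide +kernel : Cfsg.Agent.SporadicRecognition.CertFast.runF C 17 131071 0x8000c0004022300218068c0046000200010028c00020002004980008010600730001003cc0004029300008040c03a600e301518028c000200020001000080004000200008000c04a6003300010050c0004001300010044c032600010001000080004018300010030c04a6000200010034c000202d300598018c000403230001000040004000200008000c06a600020001000080046000200010028c000203230001004cc0004018300010044c0004000100010000802a6000200008000c000400020001000080046000201998028c00020303002180008010600020199803cc06a6030300008000803a6000200010030c0004000200010034c0002000201218018c03c602230001000040004000200008000c06a6003300010040c0004000200010044c032600010001000080004000200010028c000200020001004cc0106000200b18044c03c600010001000080004000200b18044c000400010001000080004000200010028c000200020049800080106000201218044c0004000100b980008040600020159803cc0004000200008000803a6000200010030c000402230001000080002005300010028c000200020001004cc0004000200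010018c0004000200b9800040004000200010028c000200020049804cc0106000200008000c000402830001004cc03a6000200008000c000400330001018cc0046000201218028c000203230049800080106007301e98044c0004000100218000802a6000200010030c0004000200010034c0002000200010018c03c600020021800040406005300008000c06a600020021800080046000200010028c000200020049804cc0004000200010018c000400020001000040004000200008000c000400020021800080004001300010018c000400330001000040004000200008000c000400020001000080004001300008000c06a600020021800080046000200010028c000203230049804cc0004018301518018c000400020001000040004005300598028c000202930001000080106000200010044c000400010001000080004000200010018c000402230001000040106000200008000c06a6000200218048c0046000201598028c000203230001004cc0106000201518028c000203230049804cc0004000200b1803cc0004000200008048c0004000200010018c03c600020001000040406000200008000c06a600330021800080004001300010044c0004000100b9800080004000200008000c000400020021800080406001301998028c00020002004980008010600020001003cc0004000200008040c03a600e300010030c000400020001000080002000200008000c000400020001000080046000201598044c000400010001008cc02a6000200010028c000200330049804cc0106000201218028c000202230109800080406000200b18044c0004000101098000802a6000200010044c0004000100010048c02a6000200010030c0004028300010000800020002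 35 34359738367 0 6656 64 = 65)

theorem c105 : Part C 6720 6784 64 := Cfsg.Agent.SporadicRecognition.CertFast.part_fast C alC 64 (by decide +kernel : Cfsg.Agent.SporadicRecognition.CertFast.runF C 17 131071 0xb18028c000203230001004cc0106007300008000c032600020001000080046000200598028c0002000200010034c0004007300008000c0004000200b9808cc0046000200010028c000203230049804cc0106000200008000c04a6003301398034c000402d300010044c0004000100b98048c0004000201218028c000203230001000080106007300b18044c0004000100010000802a6000201518030c03c600020001000080002005301218028c000200020001000080106000201518028c0002028300010034c0004000200b18044c000400010139800080004000200008000c06a600020001000080046001300008000c000400020021800080046000200010044c0004000100010050c02a6000201518044c032600010001000080004018300010028c000200020049804cc0004007300010028c000200330049800080004007300b18044c000400010021800080004001300010028c000200020049800080106000201598028c000200020001000080106000200598044c0004000100010000802a6000200b18044c0004000100010000809c600020159803cc0004000200008000802a6000201518030c0004000200b98128c00020183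00010028c000203230001004cc09c6000200008000c04c600020001004cc0046000200010044c032600010001000080004000200598028c000203030001000080004000200010044c0004000100010050c0004000200010028c000202830001000080004000201218018c04a600020001000040004000200008000c000400020001000080004000202798018c03c600020001000040004000200010028c0002000200010050c0004000200008000c000400330001004cc0004000200010044c000400010001000080004000200010028c00020002004980008040600020159803cc0004029300008000803a6000200010044c000400010001000080004018300010028c000200020049804cc0004007300598028c000200020001000080106007300010018c03c60002013980004000400530001006cc000403230049800080386000100010044c0326000100010000802a6000200598028c000200020049800080106000200010018c058600020001000040004000200b18030c04a6000200b98034c000202d301598044c0004000100b98000802a6000200010028c000202930049800080106000200010018c058603030249800040004000200008000c000400020021800080046000201998018c0004000200b9800040004000200010044c0326000100010000802a6000200008000c000400020001000080046000200b18044c0326000100b9800080004018300010028c000200020139804cc0004007300008000c00040002002180b8c0004001301218018c03c602230001000040004005300598028c000200020049804cc0004007300010018c000402830001000040004005300008000c000400330021800080004001300010044c0004000100b98000800040183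 35 34359738367 0 6720 64 = 65)

theorem c106 : Part C 6784 6848 64 := Cfsg.Agent.SporadicRecognition.CertFast.part_fast C alC 64 (by decide +kernel : Cfsg.Agent.SporadicRecognition.CertFast.runF C 17 131071 0x10028c000203030001004cc0106000200010030c0004028300010050c0002000200010028c000200020001004cc0106000200010018c000400020001000040004000200598028c000200020049804cc0004018300010018c000402230001000040406005300008000c00040033002180008004600130001003cc04c6029300008040c03a600e300010030c000402230001000080002000200b18044c000400010001004cc0004018300010028c000200020049800080106007301218044c0004000100b980008040601830159803cc0004000200008000803a600e300010028c000200020001004cc0004007300010018c000402930139800040004000200008000c00040002000100b8c0004005301218018c000402230001000040046000200598028c000200020049804cc0106007300008000c000402230001000080046005300010044c0326000100b98000802a6000200008000c0004003300010040c0046001300b18028c00020002000100008010600e300010044c0004000100010050c0004018300008000c000400020001000080004018300010018c000402230001000040004005300008000c06a60033004980008000402d30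0010044c0326000100b9800080004018300010028c000200020049800080004007300010018c04a602230001000040406000200b18044c000400010001000080004000200010018c000400020249800040004000200008000c000400020001000080106000200010028c0002000200010050c0106000200008000c0004000200010000802a6000200598028c000202830001004cc0004007300b1803cc04a60002000080008000400e30001006cc0004003300010068c000400010159803cc04c6029300008000803a600e301518044c032600010001000080004018300010028c0002028300010034c0004001301598018c04a60283000100004000400e300008000c000400020001000080004001300b18018c03c600020001000040406005300598028c000200020049804cc0004007300008000c000400020001000080004001301518044c0004000100b9800080004018300010044c032600010001000080004000201518028c000200020001000080004005301598018c000400330001000040406005300008000c06a600330021800080046001300010044c0326000100b98000802a6018300010028c000200020109800080106007300010028c000200020001000080106007301598044c03c6000100010000803a6018300010044c032600010001000080004018300008000c000400330021800080406007304c98028c000200020049800080106007300010044c0004000100010040c02a600e30001003cc0004022300008000803a6018301218030c000400020001000080002000200010044c0004000100010000802a6018300010028c0002000200b9800080106005301518018c04a600020049800040004007300008000c0004000200010000800460002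 35 34359738367 0 6784 64 = 65)

theorem c107 : Part C 6848 6912 64 := Cfsg.Agent.SporadicRecognition.CertFast.part_fast C alC 64 (by decide +kernel : Cfsg.Agent.SporadicRecognition.CertFast.runF C 17 131071 0x8000c000400330001000080004000200010044c032600010001000080004000200008000c0004000200010048c004600020001003cc0004000200008000802a6000201e98018c000400020021800040004000200598028c000203230001000080106000201218018c0004000202498000402a6000201c18028c000203230049804cc000400130001006cc06a6000200010050c0004000100010028c00020002000100008000400020001003cc058600020000800080004000200010030c0326000200b98034c000202d300598018c000400020109800040004000200008000c0004000200010048c0046000200010030c0004028300010034c0002000201f18044c0004000100010000802a6000200010028c000202230001000080106000200008000c03c6000200218068c0046000201998018c000400020249800040004000200598028c000200020001004cc0004000200010018c000400020139800040004000200008000c00040033002180b8c0004000200010044c0004000100b9800080004000200010018c03c602830001000040406005300598028c000202830001004cc0004007300010044c06a600010001000080004000200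010028c000200330001004cc0004007300010018c000400330001000040046000200008000c06a6003300218068c004607830001003cc04c6029300008000803a600e300010030c04a600020001000080002000201598044c000400010001000080004018301998028c00020002004980008010600020001003cc0004003300008000803a6001301218030c000400330001000080002001300010028c000202930001000080004000201998018c0586032300b9800040004000200008000c0326000200010050c0004001300010018c000402230001000040004005300598028c000200020049804cc0106007300008000c0004000200b98034c09c6001300b18044c0326000100010000802a6018300008000c0004003300010000803a600e300010028c000209e30001000080106007301218028c00020002004980008000400020159803cc000402930000800080004000200010030c0004028300010050c0002000200010028c000203230001000080004007300008000c000400020001000080004001300010018c06a603230001000040106005300010018c000400020049800040004005300008000c0586032300010000802a6000200010028c000203030001000080106000200010044c03260001000100008004600020199803cc0586030300008000803a6000200008000c0004000200b9800080046000200008000c0004030300498050c0046000201998044c0004000100b98000802a6000200008000c058600020001000080004000200008000c00040002000100008000400020059806cc0004000200b98068c0004000100010044c0004000100010000802a6000200010028c000202230021800080106000202318030c00040283000100008000202d3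 35 34359738367 0 6848 64 = 65)

theorem c108 : Part C 6912 6976 64 := Cfsg.Agent.SporadicRecognition.CertFast.part_fast C alC 64 (by decide +kernel : Cfsg.Agent.SporadicRecognition.CertFast.runF C 17 131071 0x10044c000400010001004cc02a6000200010044c032600010139800080004000201518028c000200020001000080004000200b18028c000202230049800080106000201518028c000202830139800080004005300010044c0004000100b9800080004018300010028c000200020001000080004007300010044c0004000100010000802a6000200010030c04a6000200010034c000202d300010018c000402930001000040004000200008000c06a600020001000080046001300010018c000400020021800040004005300008000c000400020001000080004001300010018c0004000200b9800040106005300010028c000200020001000080004007300010044c0004000100010050c02a6000200010044c03260001000100008000400e300010028c000200020001000080106007300010028c000202830001000080004007301e18028c000200020001004cc000400730001003cc058603030000800080004000201218030c04a600020249800080002005300008000c06a6000200218048c0046000200010018c000402230049800040004000201998018c03c600020001000040046000200008000c00040033002180008000400730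0010044c0004000100b9800080004000200010028c00020002004980008000400730001003cc0004029300008040c0004001300010044c032600010001000080004000200010028c000200020049804cc0004000200010028c000200020021800080106000200010044c000400010001004cc0406000200008000c06a600020001000080046000200010028c000202830021800080004000200008000c000400020021800080004000201598028c000209e300b9804cc0004018300010018c000400020001000040004005301998028c0002000200b980008000400020001003cc000402930000800080386000200010030c000402830249800080002000200010018c03c600020001000040004000200008000c000400330001000080046000200010044c0004000100010000802a6000200010044c032600010001000080004000200010028c000200020001000080004000200010028c000202230021800080106000200b18044c0004000100010000802a6000201518028c000202830001000080004000200b18044c0004000100b980008000401830151803cc04a600020000800080004007300010044c0326000100010000802a6000200010030c000400020001000080002000200008000c000400020001004cc0004000200010044c06a6000100010048c02a6000200010028c000200330049804cc0106000200010018c000400020001000040004000200010030c04a6000200010034c0002000200008000c000400020001000080046000200b18044c032600010001000080004000200010028c0002000200010040c0004000200010018c000400020049800040004000200008000c0004000200218050c0004000200010018c03c6000200010000400040002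 35 34359738367 0 6912 64 = 65)

theorem c109 : Part C 6976 7040 64 := Cfsg.Agent.SporadicRecognition.CertFast.part_fast C alC 64 (by decide +kernel : Cfsg.Agent.SporadicRecognition.CertFast.runF C 17 131071 0xb18028c00020323000100008000400530001003cc04a6000200008040c0004018300598028c0002029300010040c000400e300010018c000400020049800040004005300010044c03260001000100008000400e300010028c00020002004980008010600e301598030c00040293000100008000200e300010028c000202230001000080004001300010018c03c600020001000040004018300008000c03c6000200010048c0004001300010028c0002032300010050c0004007301b98018c000402230001000040406005300b18044c0004000100010048c02a6000200010028c000200330021804cc0004007300010044c0326000100498048c0004000200010018c000400020001000040406000200010044c032600010001000080004000201518028c000200020049800080004000201218018c00040002004980004040600020159803cc04c6029300008040c03a6000200010044c0004000100b98050c0004000200010028c00020002004980008010600020001003cc0004000200008050c03a6000200010030c000400020001000080002000200010028c000203030001004cc0004000201218018c0004000201098000404060002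00008000c04a600020021800080004000200010018c000402230001000040406000200008000c06a600330021800080046000200010044c0326000100b98000802a6000200010028c000200020001004cc0106000200010028c000200020001000080004007300010028c0002000200b9800080106000200010044c0004000100010050c02a6000200010028c0002030300010040c0106000200008000c0004000200010048c0046000200598028c000200020001004cc0004000200008000c000400330001000080004001300010044c000400010001000080004018300010028c000200020049804cc000400730001006cc0004029300218050c0004000100008000c0004003300218140c000400020001003cc04c6029300008040c03a6000200008000c000400330139800080004000201518028c000200020001000080004000200010018c000402230001000040106000200008000c06a600020021800080046000201598044c0326000100010000802a6000200010028c000200020049800080106000200010028c000209e30001004cc0106000201598044c0004000100010000802a6000200010028c000200020049800080004007301518044c0004000100b980008000400020159803cc000400020000800080004001300010044c0004000100b98034c0004000200008000c03c6061300b9800080406000200010028c000200020049800080106000201598044c000400010109800080046000200b1803cc0004045300008048c0046000201218030c000400330021800080002001300b18018c03c6000200b98000402a6000200008000c04c600020021800080046000200008000c06a6003300010048c0046000200010030c04a6028300010034c00020002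 35 34359738367 0 6976 64 = 65)

theorem c110 : Part C 7040 7104 61 := Cfsg.Agent.SporadicRecognition.CertFast.part_fast C alC 61 (by decide +kernel : Cfsg.Agent.SporadicRecognition.CertFast.runF C 17 131071 0x10028c00020002004980008000400730001003cc0004000200008040c000400e300010018c03c600020001000040004000200008000c0004003300218068c0004000200010044c0326000100b98048c0004000200010028c000200020001004cc0004000200008000c04a600330001004cc0004000200010028c00020002004980008040600020001003cc0004029300008000803a6000200598028c000203230049804cc0004000200010018c000400020001000040406000200010028c000203230049804cc0106000200008000c00040033002180008000400020001003cc0004000200008000803a6000200010030c000400020001000080002000200010028c000200020001004cc0004000200010018c000400020001000040004000200008000c04a60002000100008000402d301518044c000400010001000080004001300008000c000400020001000080004001301518028c000202830001004cc0004007300010018c000402230109800040406005300008000c04a6003300218140c0004000201518028c000200330049804cc000400020001003cc000403030000800080004000200010028c0002032300b9804cc010600730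0010018c000400020139800040004000200008000c032600020001000080046001300008000c00040002002180008000400020001003cc04c6000200008040c0004000200008000c08060002004980008000400130001003cc04c6000200008040c000400e300010018c000400020001000040004005300008000c06a6000200218140c0004001301218018c000402230001000040004007301c18018c03c602230001000040004000200008000c0004003300010050c000402d300010044c00040001000100008000400020001003cc0004029300008040c03a600e300010030c000402830001000080002007300010044c032600010021804cc02a6018300010028c0002032300b9804cc0106001301218018c00040223de8a000077a280053000080000000000020000000000000000000b18018c03c600020001000040004005300008000c06a6000200b9800080046001300598044c0004000100498000802a6018300010028c000200330001004cc010600730000800000000000000010000000000000000000000000000010001000000000000000b18028c000203230001000080106007300008000c06a6000200b9800080046001301218044c1406000100010000802a6018300008000c0004000200010048c004600e300010028c000200330021804cc0106007300008000c04c600020001000080046018300010028c000202930001004cc0106007301998044c000400010001008cc02a6005300008000c04a600330021800080004005300010028c000200020049800080004007300010044c0004000100b980008000401830001003cc00040002000080008000400e30121806cc000400020001000080046000100010044c04c6000100010040c00040013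 35 34359738367 0xa260000000000000000000000000000000000000000142c000001d0c00000000000000000000000000000000000000000000000000000000000000000000000000000000000000000000000000000000000000000000000000 7040 64 = 62)

theorem c111 : Part C 7104 7168 63 := Cfsg.Agent.SporadicRecognition.CertFast.part_fast C alC 63 (by decide +kernel : Cfsg.Agent.SporadicRecognition.CertFast.runF C 17 131071 0x598044c0004000100218000802a6018302318028c000200330001004cc0106007300010028c00020002004980008000400730001003cc0004000200008048c0004018300598028c0002022300010000803a6007300010044c0004000100b98048c010601830159803cc04a6000200008000802a6005301518030c04c609f300b9800080002018300010028c0002000200b9804cc0004000200010018c000400020001000040046005300008000c06a6028301398050c000400130151803cc0004000200008040c000400e301598030c0004000204e980008000202d300008000c03c6000200218048c0046001300010018c03c600020001000040004005300008000c000400330001000080046001300010044c0326000100010000802a6018301518030c04a6000200010034c0002000200010028c000203230001000080004007300010028c000203230049800080106000200010044c06a6000100010050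c040600020001003cc0004022300008068c0406000200008000c000400020001000080046000200010028c000202830001004cc000400020001003cc0004000200008000803a6000200010030c0326000200010034c0002001301218028c00020002000100008010600020001006cc000400020021800080386000100010028c000200330021800080004007300008000c0004000200010068c0046000201998028c000200020001004cc0106000201998018c000402230109800040004000200008000c04a600330001000080004001300010028c00020002004980008000400530001003cc00040293000080008000400e300010018c03c602230001000040004000200008000c0004003300010050c0046000200010028c000203230001004cc0004018300010018c000400020001000040004005300008000c000400330049800080046000200008000c058600020001004cc09c6000200598028c000203230001000080106000200010044c04c600010001000081366000200008000c058603230001000080004000200010028c0002032300498034c0004007300010044c04a6000100010040c0004005300000000000000000000080000000400000151806cc0004022300010298c0004000100010044c032600010001000080046000200010044c0004000100010048c09c600020001003cc000400020000800080406000200010030c0004000200010040c0002007300008000c03c600330021800080046001300010044c04c6000100010048c03a601830001003cc04c6028300008034c000400e300010030c04a602930109800080002018300008000c000400020021800080004001300008000c06a600330001000080004001300010044c032600010001008cc0004018300010018c06a6029300010000403a6007300008000c000400330021804cc0004001300010044c0326000100010048c0004018300010028c000202230001000080004007300008000c0004003300218000800040073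 35 34359738367 0x51980000000000000000000000000000000000000000000000000000000000000000000000000000000000000000000000000000000000000000000000000000000000000000000000000000 7104 64 = 64)

theorem c112 : Part C 7168 7232 64 := Cfsg.Agent.SporadicRecognition.CertFast.part_fast C alC 64 (by decide +kernel : Cfsg.Agent.SporadicRecognition.CertFast.runF C 17 131071 0x10018c0004032300b9800040004005301e98018c140600020021800040004005300b18044c000400010521808cc03a6018302318028c000200330001000080046007300010030c06a6000200010034c000200e300010018c03c602230001000040046005300010028c000200330001004cc000400730001006cc0004000200010040c0386000100010044c04a6000100010034c1366018300010028c0002032301398000802a600730001003cc04a60002000080008000400e300010030c0326000200218034c000201830001006cc000400020001000080386000100008000c000400020001000080004001300008000c000400020001000080004001300010044c000400010001000080004018300010018c000400020001000040004005300010018c000402230109800040406005300010028c0002000200010000802a6000200008000c06a60002000100008004600020001003cc06a6000200008040c03a6000200010030c04a600020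0010034c000202d300010018c000400020021800040004000200008000c0586032300010050c0046000200598028c0002000200b9800080106000200598044c0586000102498000802a600020199803cc032603030000808cc03a6000200010030c0004000200010034c0002000201218018c03c600020001000040004000200008000c06a6000200010050c0004000200598028c00020002000100008010600020001003cc06a600020000800080004000201518030c04a6000200b98034c0002018301998018c000400020049800040004000201218028c0002000200010128c0106000200008000c03c600330021800080046000200010044c0004000100498068c02a6000200010028c000203230001000080106000200010028c0002000200498128c000400730001006cc0004000200010068c0004000100010028c000200020001000080004000200010028c000200020001000080004007301218018c000402830049800040406005300010018c03c600020001000040004000200008000c0c0600020311800080046000200008000c000404530001000080046000200008000c06a600330021800080004001300010044c0326000100b9800080004018300008000c00040002000100008000402d301518044c00040001000100008000400530151806cc0326000200010048c0004000100008000c0004003300218068c004607830001003cc0004029300008040c03a600e300010030c000402830001000080002007300010018c000400020001000040004000200008000c000403030021800080004000201998044c0004000100b98050c0004000200010018c03c602230001000040004005300010044c000400010021800080004018300b18028c00020002002180008004600130159803cc0004032300008040c0004007301518030c00040223010980008000200020159803cc00040293000080008000400e300008000c0004032300b98000800460013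 35 34359738367 0 7168 64 = 65)

theorem c113 : Part C 7232 7296 64 := Cfsg.Agent.SporadicRecognition.CertFast.part_fast C alC 64 (by decide +kernel : Cfsg.Agent.SporadicRecognition.CertFast.runF C 17 131071 0x10028c000200020001004cc0106007301598044c0004000100010040c02a600e300010044c04c6000100b9800080004018300010028c000200020049800080106007300010044c04c6000100010040c000400e300b1803cc000402830000800080004005300598028c000202930049804cc0004007300010018c000402930109800040406000200008000c00040613000100008000400530001003cc04c6000200008040c02a600e300010030c0004000200b9800080002007300b18044c0326000100b9800080004000200010028c00020002004980008000400020001003cc0004029300008040c0004000200010028c000200020049804cc0004000200010018c000402930109800040004000201218018c03c602230001000040004000200008000c0004036300b9800080004000200010028c000202230049800080106005300010044c06a6000100010000802a6000200b1803cc0004030300008000803a6000201218018c058600020001000040406001300010018c000400020001000040004000200008000c0004000200010140c0046000200010018c03c6000200b9800040004000200008000c03260002000100008000400020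0010044c0004000100010050c02a6018302898028c000203230001000080004007300010028c0002000200010050c0106007300598028c000200020049800080004000200008000c000400330001018cc0004000201598028c000202830049804cc0004007300008000c000400020001000080046001300008000c06a60002002180008000400020001003cc04c6000200008040c0004000200008000c000400020001004cc004600130001003cc0326003300008000803a600e300010030c04a6028300010034c0002000200b1803cc0004000200008000803a600e301518030c000402830001000080002007300010018c000400020249800040004000200010028c000202930001004cc010600730001003cc000400020000800080004000201598030c04a6000200010040c000200e300598018c000400020049800040046005300598018c000400020049800040004005300010018c03c600020249800040004000201598018c03c6000203118000403a6005300008000c000400020001000080004001301518044c000400010021800080004018300008000c06a609f30001000080046000200010044c0326000100b98000802a6000200010028c000200020049800080106000200b18028c0002000200010040c0106000200008000c03c60002000100008004600130001003cc04c6045300008040c03a600e303e98018c04c600020311800040406005300008000c06a600020001007cc0004001300010044c0004000100010040c0004018301998018c000400020249800040004000200010044c0004000100010048c0004000200b18028c000200020001000080004000200008000c04c6003300010040c03a600130001003cc04c6000200008040c004600e3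 35 34359738367 0 7232 64 = 65)

theorem c114 : Part C 7296 7360 64 := Cfsg.Agent.SporadicRecognition.CertFast.part_fast C alC 64 (by decide +kernel : Cfsg.Agent.SporadicRecognition.CertFast.runF C 17 131071 0x598030c0004000200b9800080002005300010044c032600010001000080004018300010028c0002000200010268c0004001300598018c000403030249800040004000200b18018c03c6000200010000403a6018300010028c000202830001000080004007300008000c00040002002180008000400020001003cc04c6000200008040c03a6000200010018c03c600020001000040004005300008000c000400020021800080004000200010018c000402230001000040406000200008000c06a600020001000080004005301598044c000400010001000080004018300b18028c000200020001004cc0004007300008000c00040002002180008004600020001003cc04c6000200008040c03a6000200010030c04a600020001000080002000200010018c000402230001000040004000200008000c000400020001000080046000201998044c0004000100218000802a6000200010028c000200330001004cc0106000200010028c00020002004980008000400730001003cc00040002000080008000400e30001006cc000400020001000080004000100010044c0586000100b9807cc0004000200598028c0002000200498000801060002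01e18044c0004000100b98048c02a600020159803cc0004000200008040c03a6000200010030c000400020001000080002000200008000c04c6000200010048c0004000200008000c000409e30001000080004000200010044c032600010001000080004000203e98018c03c602230001000040406000200b18044c000400010001000080004000200b18044c000400010001000080004000200010028c000200020001004cc0004000200010018c000400020001000040004000200008000c06a6000200b98140c0106000200b18044c0326000100010048c02a6000200010028c000202930001000080106000200008000c000400020021800080004000200010028c000200020049800080106000200b1803cc0004000200008040c03a6000201518028c000200020001004cc000402d300b18044c000400010001004cc0004000200010028c000200020049800080106000201218044c0004000100b980008040600020159803cc0004000200008000803a6000201518030c00040223000100008000202d300008000c06a602830001000080004000201518044c03c600010001000080004000200010028c000202230049800080004007300010044c0004000100218050c02a6000200010028c000200020001004cc0004000200008000c000400020001000080046000201598044c06a6000100010000802a6000200010028c000200020001004cc0004000200010028c0002000200010050c0406000200010018c000402230001000040106005300598028c000200020049800080004000200008000c0004003300218034c0046001300010044c0326000100b98000802a6018301518028c000200020049804cc0106007300008000c0004029300010068c00040002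 35 34359738367 0 7296 64 = 65)

theorem c115 : Part C 7360 7424 64 := Cfsg.Agent.SporadicRecognition.CertFast.part_fast C alC 64 (by decide +kernel : Cfsg.Agent.SporadicRecognition.CertFast.runF C 17 131071 0x8000c0004032300b9800080046000204c98044c0326000100010000802a6000200b18028c00020223000100008010600020001003cc0004029300008040c03a600e300010030c000402830001000080002005300010018c03c600020021800040046005300b18018c03c600020001000040004005300008000c06a600020001000080004001301518044c032600010021800080004018300010028c000200330001004cc0004007300010028c00020002004980008010600020159803cc0004029300008040c03a6000200010044c0004000100010000802a6018301518028c0002029300010040c0004007300b18028c000200020001004cc0106007301598044c0004000100010034c0004018300598028c000200020049800080004007301518044c000400010049804cc000400730159803cc00040002000080008000401830001006cc000409f300b9800080386000100008000c03c6000200218048c0046005300010028c000202230049800080406005301218044c00040001004980008010601830001003cc0004000200008000802a600e300010030c03c609f300b9800080002000200b18018c000403030249800040004000200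008000c0004000200010048c0046000200598028c000200020001008cc0106000200008000c00040002052180008004600020001003cc04c6000200008000803a6000200010018c03c600330109800040004005300008000c0586000200010068c0046000201518018c03c6000200b980004000400530159803cc04c6029300008000803a600e300010030c04a600020001000080002000201998018c000400020001000040004000200008000c0004000200b9800080004018301518018c03c600020001000040004005300008000c000402830001000080004000201518044c000400010001000080004000201218018c03c600330001000040004005300008000c0004029300010068c0004000201598044c03260001024980b8c0004000200010028c000200020049804cc0004000201598044c000400010001000080004018301218028c0002029300010000802a600020001003cc14a600330000800080106000200008000c06a600330001000080106000200008000c04a60002004980008000400130539803cc0004029300008040c000400e300010018c000402230001000040004005300008000c0004032300b9800080004000200010044c032600010021800080004000202798028c000200020049800080004000200010028c000200330001000080004000200010044c000400010001000080004000200010044c04c600010001000080004018300008000c000400020321804cc0406007302898028c000200020049800080106007300b18044c06a6000100010050c02a601830001003cc0004003300008000803a600e302798030c000400020001000080002001300010028c00020293000100008000400130001003cc0004000200008000800040002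 35 34359738367 0 7360 64 = 65)

theorem c116 : Part C 7424 7488 64 := Cfsg.Agent.SporadicRecognition.CertFast.part_fast C alC 64 (by decide +kernel : Cfsg.Agent.SporadicRecognition.CertFast.runF C 17 131071 0x1003cc04a60002000080008000400730151806cc0004000200498068c0004000100010044c06a6000100010000802a6000200008000c058600020049804cc02a6000201598044c0004000100010050c0046000202318030c0004003300010034c0002000200598018c000402930001000040004000200008000c03c600020001000080046000200008000c06a600330001000080004000200010044c000400010001000080004000200008000c000400330001000080004000200010028c000200020139800080004007300010044c0004000100010050c0004000200010028c00020323024980008010600020001003cc0586000200008040c03a6000200b18030c0004000200010034c0002000200598028c000203230001000080106000200598028c000203230049804cc0004001300010018c000400020001000040004005300008000c00040002000100008000402d301998018c06a600020109800040406000200008000c06a600020139800080004000200010030c0004032300b9808cc0002000200008000c000400020001004cc02a600020121803cc0004032300008128c0004005301f18030c0004000200498034c000200020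0598028c00020002004980008000400730001003cc000400020000800080004018300010018c03c600020001000040406005300008000c06a60002000100b8c0004000201218018c000402230001000040004000200008000c06a600020021800080004000201218018c05860033002180004040602d300008000c04a600020049800080004007301998018c03c600020249800040106000200008000c04a603230001000080004001300b18028c000203230001004cc000402d3eb8a0018c000400020109800040406001300008000c0586032300218034c0004000201998028c000203230139804cc0004000200598044c0004000100498298c000400020001003cc04a60002000080008000400020001006cc06a6032300218068c0004000100008000c0004000201398068c0004000200b1806cc0586000200010068c0004000100b18030c04a6000200b98034c0002001300598018c0004032300b980004000400020001003cc0004000200008000802a6000200010030c0004000200b98034c0002000200008000c04a6000200b980008000402d300010028c000200330001004cc0004000201518044c04a600010139800080004001300b1803cc04a60283000080008000400730151806cc000400330049808cc0004000100008000c06a600020021800080004001300010028c000200330049804cc0106007301518018c0004028300b980004000402d300008000c000400330001000080046001300008000c00040033002180008000400130001003cc04c60293000080008000400e30001006cc03c603030001000080386000100008000c06a6003300218034c09c600130001003cc0004029300008040c03a600e301218030c0004022300010000800020053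 35 34359738367 0 7424 64 = 65)

theorem c117 : Part C 7488 7552 63 := Cfsg.Agent.SporadicRecognition.CertFast.part_fast C alC 63 (by decide +kernel : Cfsg.Agent.SporadicRecognition.CertFast.runF C 17 131071 0x1218018c03c600020001000040406005300008000c06a6000200218048c004600130001003cc04c6000200008040c03a600e301218018c000402230001000040106005300010028c000200020049804cc0106001300008000c0586000200b98068c0046000200598044c0004000100498000802a6000200008000c0004000200010040c0046001300b18028c000203230001004cc010600e301518018c000402830139800040004000200010018c03c602230001000040004000200010018c03c600020001000040406000200010044c000400010139800080004000200598028c0002000200498000800040073000080000000000000000000000000000000b18044c0326000100b98048c02a6005300008000c000400020001008cc0046001301f18028c000200020001004cc010600e300008000c03c600020021800080004001302798028c00020002004980008000402d30001003cc00040002000080008000400e300008000c04a600020001000080004000201218028c000200020049800080106005300010044c04c6000103118040c03a600e300b1803cc0004045300008040c0004018302798028c000200020049804cc0106000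200010028c000200020001000080004007301598044c0004000100010000802a6000201998018c03c600020001000040406000200008000c0326000200b9800080004000201e18044c000400010021800080004000201518028c00020002004980008000400730159803cc000400020000808cc000400e300010044c06a600010001000080004000202318028c0002003300010128c0004007300010018c03c6061300b9800040004000200008000c0004000200010048c0004000200b1806cc0004032300010068c0386000100008000c00040002004980008004600020059803cc0004000200008000803a6000200010030c04a6028300010034c000200020001006cc04c6000200010040c0386000103e98018c03c600330001000040406000200010030c000400020001000080002007300598028c000200020001000080004007300008000c000400020001000080046000200010044c0004000100010050c02a6000200010028c00020002000100008038600020001003cc06a60002000080008000402d30001003cc000400330000804cc0046000200010028c000200020001004cc0106000200b18018c000402230109800040004000200008000c0004000200010050c0046000200598028c000200020001000080004000200008000c000400330001000080004001300010044c000400010001000080004000200010028c000200020001004cc0004000200008000c0004032300010048c0046000200008000c058600020049804cc0046000200008000c000403230001004cc0046000200598044c04c6000100010000802a6000200008000c04a60033002180008000402d300010028c000203230001004cc0004000200010044c0004000100b98000800040183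 35 34359738367 0x42b000000000000000000000000000000000000000000000000000000000000000000000000000000000000000000000000000000000000000000000000000000000000000000000000000000000000000000000000000000000000000000000000000000000000000000000000000000000000000000000000000000000000000000000000000000000000000000000000000000000000000000000000000000000000000000000000000000000000000000000000000000000000000000000000000000000000000000000000000000000000000000000 7488 64 = 64)

theorem c118 : Part C 7552 7616 64 := Cfsg.Agent.SporadicRecognition.CertFast.part_fast C alC 64 (by decide +kernel : Cfsg.Agent.SporadicRecognition.CertFast.runF C 17 131071 0x10028c00020293004980b8c0004007300010018c06a609f300b9800040004000200008000c00040002002180b8c0004001301218018c000402230001000040004005300598028c0002000200b98000802a6000200008000c000409f30001000080004005300010044c0326000100b98000803a6018300008000c14a6029300010040c0106000200b18028c000200020001004cc02a6007300010044c032600010001000080004000200008000c0004000200010050c0004001301518018c03c602830001000040004005300598030c00040002000100008000202d300010018c0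3c600020249800040406000200008000c06a6028300010298c0004001300008000c0004000200010048c0004000201998028c000202830021804cc000400020151803cc06a60283000080008000400730001006cc04a6032300498068c000400010159803cc000400020000800080004000201518030c00040002000100008000202d300008000c000400020001000080004000201998018c000400020049800040004000200008000c06a600020001000080004000201518044c000400010001000080004000201998018c000400020249800040004000200008000c06a6029300010000803a6000201598044c0004000100010034c0004000200010028c000203230139800080106000201518028c000200020001000080004000201598044c04a6000100010000803a6000201598028c00020223000100008000400530159803cc04c60293000080008000400e300010044c000400010001000080004000200010028c000200020021800080106000200010030c0004000200b9800080002000200010044c0004000100010040c0004000200b18028c000200020001004cc0046000201218028c000203230049800080106000200010044c00040001000100b8c0004000200010018c03c6000200218000403a6000200008000c06a600020021800080004000200008000c0806000200498068c0004000202898028c0002061300b980008000400020059803cc0806000200008040c0004000201518028c00020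0020021800080004007300010030c00040033000100008000202d300008000c06a600020021800080004001300010028c00020002004980008000400530001003cc0004000200008040c000400e301598028c000203230001000080004000200008000c0586000200010048c004600020539803cc0326000200008040c03a6000201518018c03c609f300b9800040004005300008000c06a6000200218048c0004000200010018c0004000200b9800040106000200598028c000200020049800080106007300598044c0004000100498040c02a6000200008000c0004000200010000803a6001300b18028c000203230001004cc010600e301998028c00020002004980008000400020159803cc000400020000800080004000200010030c0004000200010034c0002000200b18044c0004000101398048c00040002 35 34359738367 0 7552 64 = 65)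

theorem c119 : Part C 7616 7680 64 := Cfsg.Agent.SporadicRecognition.CertFast.part_fast C alC 64 (by decide +kernel : Cfsg.Agent.SporadicRecognition.CertFast.runF C 17 131071 0x10028c0002000200010050c0004007301218018c00040002004980004000400530159803cc0004000200008040c03a6000200010044c000400010001000080004018300010028c000200020001004cc0004001303e98018c000402230109800040406005301c18018c032600020001000040004000200010044c0004000100010048c0004000200008000c04c60002010980008004600e300008000c06a6003300218050c0046001300010044c0004000100b98000802a6000200008000c06a6045300010040c0046000201218044c032600010001000080406000200010018c03c600330001000040046005300010044c04c6000100218050c0046018300008000c000400020001000080004018300010028c000202930001004cc03a6007300008000c000400020001004cc0004007301e98028c000200330001000080046001300010028c000200330021800080004001300010044c04c60001000100008000400020001003cc06a6000200008048c000400020001006cc06a606130021800080386000101598018c0004022300010000402a6000200010044c0004000100010048c0004000200010018c000400020001000040106000200010018c03c60002004980004000400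0200598028c000200020001004cc0106000200008000c0004000200b98050c000402d301518028c000203230049804cc0004007301218028c000203230001000080106000200b18044c0004000100010034c0004018301f18028c0002000200010048c0004000200010018c03c602230001000040406005300008000c0004000200218050c000402d301518044c000400010001000080004018301218018c03c600020001000040004005300008000c06a600020001000080004000200010018c03c603030001000040004000200598028c000203030001004cc0004000200b18044c000400010001000080004000200010028c00020002000100008000400020159803cc032600020000800080004000200b18044c000400010001000080004000200008000c058600020001000080004000200598018c0004000200b9800040004000200008000c000400020001000080406000201998044c04a6000100218040c0004000200010028c0002003300010000803a6000200010044c0004000100010000802a6000200010030c0004000200010128c0002000200010030c000400020001000080002000200010028c000200020049804cc0106000200010030c0004000200b98034c0002000200598028c000200020001000080106000201518018c03c602830001000040004005300010044c032600010001000080004018300598028c000200020049804cc000400730159803cc04c6029300008040c03a600e300010030c04a60002000100008000202d301598044c0004000100b9800080004018300008000c000400330049800080004000201218028c00020002004980008000400730539803cc0004029300008000800040002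 35 34359738367 0 7616 64 = 65)

theorem c120 : Part C 7680 7744 64 := Cfsg.Agent.SporadicRecognition.CertFast.part_fast C alC 64 (by decide +kernel : Cfsg.Agent.SporadicRecognition.CertFast.runF C 17 131071 0x10018c03c600020001000040004000201998028c0002032300b980008010600020001003cc032600020000800080046000200008000c00040002000100008004600e300008000c03c60002002180008000400020001003cc04c600020000800080004000200010018c000402230109800040406005300010044c0326000100010000803a6000201998028c0002000200010000802a6000201518028c0002000200b980008000401830001003cc14a600330000800080004007300010030c00040033000100008000202d30059803cc0004022300008000803a6018300598030c000402830001000080002000200010044c0326000100010000802a6000200010028c000200020001000080046000200b18018c04c60002010980004000400e300010028c000200020001000080106000200010044c032600010001000080004000200b18028c000200020001004cc0004000200008000c000400020001000080106000200010018c06a603230001000040004000200010018c000400020049800040406000200010028c000203230001000080106000200010018c000400020049800040004000200010028c00020293000100008000400730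0010028c000203230001000080106000200010030c0004000200010050c0002000200010028c00020002004980008040600530001003cc0004029300008040c03a600e300598028c000200020049800080406001300008000c000400330001000080046001300008000c03c60033002180008000400530001003cc0004029300008040c000400e30121806cc000402230001000080004000100008000c06a600330021800080046001300010044c0326000102498048c02a6018300010028c000200020049800080106007300010028c000203030001000080106007301598044c0004000100010050c03a6018300010044c000400010001000080004018300010028c000202930139800080004000200010028c00020283000100b8c000400530001003cc000400020000800080004000200010044c0326000100010000802a6018300010028c000200020001000080106007301598018c03c6000200010000403a6000200010028c000200330001004cc0106007300010028c000200020001004cc0004001300010018c000402230001000040046005300008000c0004003300218034c000400130001003cc00040293000080008000400e300008000c0004000200b9800080004000200010018c03c600020001000040004005300008000c000403030049800080004007301998044c0004000100b9800080004018300008000c06a60033002180008004600020001003cc0004029300008040c03a6000200010018c000402230001000040386000200010030c0004000200010050c0002000200010018c0004032300b9800040004001300598028c00020303000100008000400020001003cc05860002000080b8c0004000201218018c03c6022300218000400040013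 35 34359738367 0 7680 64 = 65)

theorem c121 : Part C 7744 7808 64 := Cfsg.Agent.SporadicRecognition.CertFast.part_fast C alC 64 (by decide +kernel : Cfsg.Agent.SporadicRecognition.CertFast.runF C 17 131071 0xb18028c000203230001000080004007301598044c06a600010001000080004000200008000c0004061300b9800080406000201598044c0004000100010000802a6000200010028c000203030001000080004000200b18028c0002000200010128c0106000201218028c000200020049800080004007300010018c04c6000200b9800040004000201218018c03c600020001000040406000200010044c000400010001000080004000200b18028c000202830049804cc0004001300010018c000402230001000040004018300010028c000200020001000080106000200010044c00040001000100b8c0004000200010030c000402930001000080002000200010028c000200020001000080106000200008000c06a6000200010000809c6000201218030c000402830049804cc000200730001003cc04c6000200008040c0046000200010018c000400020001000040046007300008000c06a600020021800080004000200598018c000402230001000040106000200008000c0004032300b9800080004007300010044c03260001000100008000400e300b18028c000200020001004cc0004018300010018c03c6000200010000400040002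00010028c0002000200498050c0004000200010018c000402830001000040406000201218028c00020283000100008000401830159803cc03260002000080008000400e30001003cc0326000200008000802a6000200010030c04a6000200b9800080002000200010018c000400020021800040004000200008000c000400020001000080046000200010018c0004000200b9800040004000200010018c03c600020001000040004000200008000c0004003300010050c0004000200010044c000400010001000080004000200010028c0002028300218050c0004007300b18044c140600010001000080004000200010044c0326000100010050c000401830001006cc000400020001000080004000100010028c000200020001000080106000200010030c000400020001000080002018300010028c000200020001000080106000201518018c03c600020001000040004000200010044c06a6000100010050c0004000200010044c000400010001000080004000200010028c0002003300498050c000400020159803cc04c6000200008040c03a6000200010030c04a600020001000080002078300008000c000400020001000080004000201998018c03c602830001000040406000201e18028c000200020001004cc0106000200010030c0004000200218034c0002000200598030c000400020139800080002007300008000c000400020001000080004000200010030c0004000200010034c0002000201518044c000400010001000080004000200598028c000200020049800080004000200010028c000202830001004cc0004000200008000c04a600020021804cc0004000201218018c00040223000100004000400020001003cc03c6029300008000803a600e3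 35 34359738367 0 7744 64 = 65)

theorem c122 : Part C 7808 7872 64 := Cfsg.Agent.SporadicRecognition.CertFast.part_fast C alC 64 (by decide +kernel : Cfsg.Agent.SporadicRecognition.CertFast.runF C 17 131071 0x10030c000400020049800080002018301518018c03c602230139800040004018301598018c0004000200010000403a600e300010018c000400020249800040004000202318028c0002003300218000803a6001300010018c000402230001000040004005300008000c06a6000200b9804cc0004001301598044c14060001000100008000400e300008000c04c600020249800080004018300010028c000200330001000080004000200b18018c04a600020001000040004007300008000c04c60303000100008000400e300b18028c0002022300010298c0004005301998044c04a600010001000080004000200010018c032600020001000040004018300010028c000202930109800080106000200b18044c000400010001004cc000400020159803cc03c6028300008048c0004000200008000c06a6000200010050c0046001300010030c00040002000100008000200e300010018c03c600020109800040004000200008000c000402230001000080046000201218044c0326000100b9800080406000200010028c000202230001000080004007300008000c06a6003300498050c010600130059803cc00040283000080008000401830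0598030c0004000200b980008000200730159803cc0004029300008000803a600e301f1803cc0004000200008040c0004000201218018c000400020001000040406000200010044c000400010001000080004000200008000c0004032300b98034c09c6000200598044c000400010001000080406000200b18028c000200020001000080406000200010028c000209e3010980008000400020001003cc000400020000804cc0004000200598028c000203030001000080406000201218044c04c6000100010040c0106000200010018c04c602930109800040004000200008000c06a60002000100008004600020199803cc0004003300008048c03a6000200008000c03c6000200218048c0046000200010018c03c600020021800040406000200008000c06a600330001000080046000200010044c032600010001008cc02a6000200010028c000200020001000080106000200010044c000400010001000080004000200010028c0002028300010050c0004000200010018c06a602930109800040406005300008000c000400020001000080004001300010018c000402230001000040406005300010028c000200020021804cc0004000200010028c0002032300b9800080004000200008000c032603630001000080004000200010018c00040002000100004040600020001003cc000403230000800080106000200010018c03c602230249800040004000200010018c0004000200498000402a6000200008000c06a6000200010048c02a6000201598044c0004000100010040c0046000201998028c000200020001000080046000200008000c06a609f300b9800080004007300598044c140600010049800080004018300010028c0002003300218000800040002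 35 34359738367 0 7808 64 = 65)

theorem c123 : Part C 7872 7936 64 := Cfsg.Agent.SporadicRecognition.CertFast.part_fast C alC 64 (by decide +kernel : Cfsg.Agent.SporadicRecognition.CertFast.runF C 17 131071 0x10044c0326000100b98048c0004005300010028c00020002000100008000400e30001003cc04c6029300008000803a6000200010030c04a600020001000080002000200008000c000400330001000080004001300010028c00020002004980008000400530001003cc00040002000080008000400e300010018c000400020001000040004000200008000c000400330049800080004000200010028c000203230001018cc0004000200008000c0004000200010068c0004000200008000c0326000200010048c0004001300008000c04a600020001000080004005300598028c0002000200010040c0004007300010018c04c600020109800040406005300b18018c03c6022301098000402a6005300008000c04a600020001000080004001300008000c000400020001000080004001300008000c000400020001004cc0004001300010018c000402830139800040004007300008000c000400330021800080004001300010044c0004000100498048c000402d300010028c000203230001004cc000402d300008000c058600020021800080046000200010044c0004000100010048c010600020001003cc0004030300008000802a600020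0010030c03c609f300b9800080002005300008000c000400020021800080004000200008000c000400330001000080004000200010044c032600010001000080004000200008000c000400330021800080046000200010044c04a6000100010048c0004000200010028c000200020001000080004000200010028c0002000201398000802a600020001003cc04a6000200008040c03a6000200010028c000203230049804cc0004000200010018c00040002013980004000400020001003cc00040002000080008000400130001006cc000400020021800080004000101218028c000202830049800080004000200010044c06a6000100010048c000400020001003cc0004028300008040c0004000200010018c00040002000100004040602d301218018c000402230001000040004005300010018c000400020001000040406005300010028c0002032300b9800080004018300008000c000400020001000080004000201998028c0002000200010298c0004000201998018c032609f300b9800040004000201218028c000203230001000080004000201218018c000403230001000040106005300010028c0002032300b9800080004000200008000c032600020001008cc0004000200008000c0004003300218034c09c6001300010044c0004000100010000803a600020001003cc000403030000800080406000200010030c00040293010980008000201830001003cc00040002000080008000401830001003cc000402930000800080004000200008000c06a600020001000080004000200010018c00040002024980004000400020001003cc0004000200008040c0004000200598028c00020323000100008000400530001003cc0004000200008000800040073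 35 34359738367 0 7872 64 = 65)

theorem c124 : Part C 7936 8000 64 := Cfsg.Agent.SporadicRecognition.CertFast.part_fast C alC 64 (by decide +kernel : Cfsg.Agent.SporadicRecognition.CertFast.runF C 17 131071 0x10018c000402230049800040106005301598018c03c6000200010000402a6000200008000c000400020001000080046000201998044c0004000100218000802a6000200010030c0004032300b9800080002001300010030c140600020021804cc000200730001003cc04c60002000080008000400e300010028c000200330001004cc0106000200008000c000400020001000080004001300008000c06a600020001008cc000400020151803cc06a600020000800080004001300010030c0004000200218050c0002000200008000c000403230001000080004000200598028c0002000200b98034c0004018300598044c04a60001000100008000400020151803cc0004028300008034c000401830001006cc0326000200b98048c0004000101218044c04c6000105218000803a600020159803cc04c6028300008034c0004000201518030c04a602930109800080002018300b18044c0004000100010000802a6000200b18018c03c600020109800040406000201c18030c0004000200498034c0002001300010044c0004000100010000802a6000200008000c000400020001000080046000200008000c00040002000100008000400020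0008000c04a6003300010040c000402d300010044c0004000100498048c0004018301518028c0002000200010128c0004000200010030c04a600020001008cc0002000200010018c000400020001000040406000200010018c000402230109800040004000200010018c03c609f30021800040046005300008000c03c60002013980008000402d300010018c03c602230001000040406005300010018c0004000200b9800040406000200008000c0004003300010040c0004005300008000c000402230109800080004005301f1803cc000402930000800080004007300008000c06a60002002180008040600020001003cc0004000200008040c03a6000201218030c14060002000100008000202d300598018c000402230001000040004000200008000c00040223002180008000400530001003cc04c6029300008040c03a600e301218030c04a602230001000080002005300010018c00040223000100004000400020199806cc140602230109800080406000100010018c000402830001000040004000200008000c000400020001000080004000200010044c000400010001000080004018300010028c000200020001004cc0004007300b18028c000200020001000080106000200010044c000400010001000080004000200b1803cc058600020000800080004000200010018c0004000201098000403a6005300008000c04a600020001000080004001300010028c0002032300010000809c6000200008000c00040002000100008000400020001003cc000400020000800080004018300010028c0002003300218000802a6000200010030c032600020139800080002005300010018c06a600020001000040406000200008000c0004003300218000800040053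 35 34359738367 0 7936 64 = 65)

theorem c125 : Part C 8000 8064 64 := Cfsg.Agent.SporadicRecognition.CertFast.part_fast C alC 64 (by decide +kernel : Cfsg.Agent.SporadicRecognition.CertFast.runF C 17 131071 0x1003cc03c6030300008048c000400020001006cc03c609f30139800080004000100010018c0004000201098000403a6000200010018c03c60002000100004000400020159803cc04c6029300008000803a6000201998018c000400020001000040004000200010018c000402230001000040106000200010044c06a600010001000080004000200010028c000200330021800080046000200010044c03c6000100010040c02a600020001003cc06a6000200008000803a6000200598030c000400020001000080002007301218018c000400020021800040046000200010044c0004000100010000802a6000200010028c000200020001004cc0106000200008000c000400330139800080004000200010044c04c6000100010040c0004000200010028c000202930109800080406000201518028c000200020001000080004000201598044c03c6000100010000803a6000201218028c00020223000100008000402d30159803cc03c60293000080008000400e300010044c000400010001000080004000200008000c000400020001000080004000200010044c000400010001000080004000200008000c03c60033002180008010600020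001003cc140600020000804cc0106000200010044c032600010001000080004000200010028c000200020001000080004000200008000c000400020001000080004007300010018c0004000200010000402a6000200010044c0004000100010000802a6000200010028c000200020001000080004000200008000c000400020001000080004018301518044c000400010001000080004000205398028c000200020001000080106000201518018c03c602230001000040004005300008000c000400330021800080106000200010044c04c6000100010000802a600e300010028c000202230001000080004005300010028c000200020109800080406000200598028c000200020001000080004007300010018c000400020139800040004000200008000c0004032300b9804cc0004000200598044c000400010001000080004000200b18028c000200020001004cc0004000200010044c0326000100b9800080004000200010028c00020293010980008000400020001003cc04c600020000800080004000200598028c0002032300b9800080004000200008000c000400020021800080406000200010028c000202930001000080106000200010044c0004000100010048c0004000200b1803cc04c6000200008000803a6000200010044c000400010001000080004000200010028c00020002000100b8c0004000200008000c000400020001000080004000200008000c00040002000100008000400020151803cc03260033000080008000401830059806cc0004032300b9800080386000100b1803cc0004000200008040c0004000200010030c00040002000100008000200e300598030c000400020001004cc000200e300010018c0004030302498000400040002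 35 34359738367 0 8000 64 = 65)

theorem c126 : Part C 8064 8128 64 := Cfsg.Agent.SporadicRecognition.CertFast.part_fast C alC 64 (by decide +kernel : Cfsg.Agent.SporadicRecognition.CertFast.runF C 17 131071 0x10018c000400020001000040406005300010028c0002032300b9800080406000200008000c0004003300b9804cc0406007300008000c04c60002000100008004600e300b18028c0002022300010000803a600e300008000c03c60002002180008000400130001006cc03c6000200010000802a6000100010030c04c6003300010048c000200130001003cc04c600020000808cc000400e30001006cc0586000200010000802a6000100b18044c000400010001000080004000201518028c000203230049804cc0004007300010018c00040033000100004004600020159803cc04a6000200008040c000400e302318018c000400330021800040046000201218018c00040033013980004000400020159803cc0004003300008000803a600e301518030c04a602230001000080002005300008000c0004000200010050c0004000200010044c000400010249804cc0004000200b18018c0004022300b9800040004005300008000c06a6000200010050c004600130001003cc0004003300008000803a600e300010030c000402830001000080002000201e98018c06a600020021800040004000200010044c0004000100010050c000400020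0010028c000200020001000080004000202318018c03c600330001000040004005300010044c06a6000100218050c02a6001300010028c000200330001000080106001300010028c000200020049800080004005300010044c000400010001004cc000400130001003cc000402830000800080004001301e98018c03c600020021800040004005300010028c0002032300b9800080004000200008000c032600020001000080004000200008000c03c602930109800080406005301598044c1406000100498048c02a601830001003cc06a6032300008040c03a6001303e98030c06a600020001000080002001300010018c000400020049800040004000200008000c04a6003301098068c0004000201f1803cc0004000200008040c0004000200010018c000400020001000040004000200010028c000200330021800080046000200008000c06a600020001008cc0046000200008000c06a60002002180008000400530001003cc14060002000080008000400730121806cc00040002004980008000400010001003cc0004003300008040c0046000200010030c000400330021800080002000200010018c000400020139800040004000200010018c000400020021800040046000200008000c0004000200010048c0004005301518044c000400010021800080004018300010028c000200330001000080004005300010028c00020002010980008000400020001003cc03c600020000800080004000200010044c0004000100010000803a6000200010028c0002000200010040c0004000200b18028c0002000200010050c09c6000200010044c000400010001000080004000200010028c000202930109800080004005300b18044c0004000100010000800040002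 35 34359738367 0 8064 64 = 65)

theorem c127 : Part C 8128 8192 64 := Cfsg.Agent.SporadicRecognition.CertFast.part_fast C alC 64 (by decide +kernel : Cfsg.Agent.SporadicRecognition.CertFast.runF C 17 131071 0x10018c06a600020139800040046005300008000c000400020001000080004000200010018c000402230001000040004000200008000c000400020001000080004000201218018c04a600330001000040004001300008000c000403230001000080004000200008000c058600020049800080004000201998018c0004022300b9800040004000200008000c000403230001000080004001300598044c000400010001000080004000201998018c0004032300b9800040004000200010044c04a600010001000080004000200598030c0004029300010034c0002007300010018c03c602930109800040004000200008000c04a60002000100b8c0004000201218018c000402230001000040406000200010028c000203230001008cc000400e30001003cc0586000200008068c000400020001006cc04c6000200b98128c0004000100008000c032600020021800080004001301218028c0002032300b980008000400530001003cc0326000200008040c000400e300010028c000203230001000080004007300010018c06a600020001000040004000200010018c03c600020001000040406000200010044c0004000100010048c000400020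0010028c000200020001000080004000200008000c0004003300010000802a6001301598044c14060001031180008004601830001003cc0326000200008040c000400e30159803cc000400020000800080004000201218030c000400020001000080002000200010018c03c600020001000040406000200010018c000400020001000040004000200010018c000400020109800040004001300010028c000200020049800080004000200010044c04c6000100010000802a6001300008000c0004032300010050c0004000200598030c0004032300b98034c000200730001006cc0004000200010068c0004000101218018c04a600020001000040004000200010018c0004032300b9800040406005300010018c000400020109800040004000201998028c000200020049800080004000200010028c0002000200010050c0004001300010018c06a6029300010000403a6000200010028c000200330001004cc0004007300008000c000400330001000080004005300010018c000402930001000040046000200008000c0004000201098068c000400020121803cc000403230000800080106000200008000c06a6000200010000803a600130159803cc0004000200008040c000400e300598018c00040223024980004000400020001003cc000400020000800080004000200598044c00040001002180008000400020001003cc06a600020000800080004001300010030c06a600020311800080002018300b18018c03c600020001000040386000200008000c03c6000200010068c0406000201998044c0326000100218000802a6000200010028c0002003300010040c0406000200010044c0004000100010048c0004007300b18028c000200020001004cc00040183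 35 34359738367 0 8128 64 = 65)

theorem c128 : Part C 8192 8256 64 := Cfsg.Agent.SporadicRecognition.CertFast.part_fast C alC 64 (by decide +kernel : Cfsg.Agent.SporadicRecognition.CertFast.runF C 17 131071 0x159803cc04c6000200008040c000400e301218018c000402230001000040004005300b18044c04a600010001000080004018301598028c000200020001000080004000200010028c000200020049800080004000201e1803cc0004000200008040c03a600e300010030c000402230001000080002007300010028c000200020001000080004000201598018c03c600020001000040406005301218018c03c600020001000040004000200598028c00020002000100008000400730159803cc04c60293000080008000400e301218018c03c6000200b9800040004001300010028c0002000200010050c0004000201218018c140600020049800040004000200010018c06a600020109800040046000200008000c06a600020021800080004000200010018c000402930001000040004000200010044c04c6000100010040c03a6000200010028c00020293002180008000400020001006cc03c600020001000080004000101e18028c0002000200010050c0004000201218018c03c600020001000040004005300010044c000400010001000080004005300b18028c000200020001004cc000400e300008000c0004003300010068c0004000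200010044c0004000100010040c02a6000200b18028c000200020001000080106000200010044c0004000100010048c0004000201998028c000200020001000080004000200010044c03c6000100b980008000400020159803cc04c600020000804cc03a6005300008000c000400020001000080046001300b1803cc0004000200008040c0004000200010044c0004000100010040c02a6000200598018c000400020001000040106000200b18028c000200020001004cc010600020159803cc04c6029300008000803a600e300010030c000400020001000080002000200008000c06a6000200218068c004600020001003cc0004000200008040c03a6000201218018c0004000200b9800040406000200b18044c0004000100010034c0004007300598028c000200020001004cc0004018300010044c000400010001000080406000200b18044c0326000101098048c000402d300008000c000400020001000080004001301218028c00020223000100008000400e300010044c0004000100010048c03a6018302798028c000200020001004cc0004007300010028c00020002000100008010600020001003cc04c6000200008040c03a6000200010018c03c6000200b9800040004000201218018c000402230001000040004000200010044c000400010049800080004018301518028c000203230001000080004007301218018c03c600020001000040004000200008000c0004000200498050c000401830059803cc0004000200008128c0004000200b1806cc000403230049800080004000100010018c06a600330109800040046000200598028c0002000200010000803a6000200b18030c04c6028300010128c0002001300010028c0002000200010050c00040002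 35 34359738367 0 8192 64 = 65)

theorem c129 : Part C 8256 8320 64 := Cfsg.Agent.SporadicRecognition.CertFast.part_fast C alC 64 (by decide +kernel : Cfsg.Agent.SporadicRecognition.CertFast.runF C 17 131071 0x1518030c00040293010980008000200020001003cc0004000200008000803a6000200010030c000400020001000080002000200008000c000400020001007cc0004000200008000c000402830021800080004001300010018c04a60002000100004004600020059803cc000400020000800080004000200010018c04c602230001000040046000200b18030c0004000200010040c0002000200010018c0004000200010000403a6000200010030c06a6029300010050c000200e300010028c000203230001004cc0004000200008000c000409f30109800080406000201598044c03c600010001000080406005300010028c0002000200010048c03a600e300010044c000400010001000080004001300010028c000200020001000080406001300010018c04c6029300010000403a6005300008000c000400330001004cc0004005301f1803cc000402930000800080004000200008000c06a6000200218048c0046001300008000c06a602930109800080046001301598044c0004000101098000802a600e300008000c06a6003300010268c0046000202798028c000202230001000080106005300598018c000402930139800040004005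302798018c04c602230021800040046005301518028c0002061300b980008010600530159803cc00040293000080008004600e300010028c000200020021804cc0004001300008000c06a600330001018cc0004001300010028c000203230001004cc0004000200010018c000400020001000040004000200008000c03c60002002180008000400530001003cc0326000200008040c000400e300010018c000402930109800040046001301218018c0004000200b9800040004005300008000c06a600330001000080046000200008000c06a60223002180008000400020001003cc0004029300008000803a6000200010018c0004000200b9800040004007300010028c00020002004980008040600130001003cc000400020000800080004000200008000c000400020049800080046000200b18028c000200020001004cc0004000201598018c0004000200010000402a6005300008000c14a602930001000080004001301218018c0004000200010000403a6000200008000c06a6032300010050c0046001300598044c000400010001000080106000200008000c000400020001000080046000200010044c000400010001000080004000200010030c0004032300010034c0002000200010028c0002000200010050c000402d301518028c000203230001000080004007300008000c06a60223002180008040600020001003cc04c6029300008000803a600e301218018c00040223000100004040600530159803cc00040002000080008000400e30001003cc03c602930000800080004000200010018c00040223010980004000400020001003cc04c6029300008040c000400e300010018c000400020001000040004001300010044c0004000100010034c00040002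 35 34359738367 0 8256 64 = 65)

theorem c130 : Part C 8320 8384 64 := Cfsg.Agent.SporadicRecognition.CertFast.part_fast C alC 64 (by decide +kernel : Cfsg.Agent.SporadicRecognition.CertFast.runF C 17 131071 0x1218028c000202930001000080004000200008000c0004061300b980008040602d301598044c03c6000100010000802a600e300b1803cc0004022300008000803a600530159803cc000400020000800080004000200008000c000400020001000080046000200010044c03c60001000100008000400020121803cc000402830000800080004000200010018c000400020001000040004000200008000c000400020001000080004000200008000c0004000200010050c0046000200008000c000400020001000080004000200008000c000400020001000080004005301598030c0004000200010040c000200e300010018c000400020001000040004000200010018c04a602230021800040406018302318018c03c6003301098000403a600e300008000c000400330021800080106000200008000c06a600020001000080004000200008000c00040002000100008000400020159803cc0004000200008000803a6000200010018c03c6000201098000403a6000200008000c000400020001000080046000201218018c0004022300b9800040406000200010028c0002000200010050c0004000200010018c06a602930109800040406000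200008000c04a60002000100008000400530001003cc0004003300008000803a600e301218018c000403230001000040106000200008000c000400020001000080106000204c98018c03c600020021800040406005301598044c000400010001000080004000200008000c000400020001000080046000200010030c0004000200010034c000200020159803cc04c6000200008040c03a6000200010018c000400020001000040004000201218028c0002028300b980008000400530001003cc032604530000800080004018300010028c0002000200010050c0004000200010044c04c6000100218048c004600e30001003cc0004003300008034c0004001301218018c03c60002000100004040600020001003cc0004000200008040c0004000201598018c00040002000100004000400020001003cc04c60002000080008000400020001003cc000402930000804cc03a6000200010030c0004000200010050c0002000200010030c0004000200b980008000200020001003cc06a600020000800080004000200008000c000400020001000080004000201998018c000400020021800040004000200010018c03c600020109800040004000200010044c0326000100010050c0004000200010028c00020002000100008000400730159803cc04c600020000800080004000200010028c0002000200010050c000400020001003cc03c600020000800080004000200010028c000200020001008cc0004000200010018c06a60002010980004000400020001003cc04c6029300008000803a6000200010018c000400020001000040406000201218018c000402230001000040004000201598044c00040001000100008000400020001003cc0004000200008040c09c60002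 35 34359738367 0 8320 64 = 65)

theorem c131 : Part C 8384 8448 64 := Cfsg.Agent.SporadicRecognition.CertFast.part_fast C alC 64 (by decide +kernel : Cfsg.Agent.SporadicRecognition.CertFast.runF C 17 131071 0x1218018c000400020001000040004000200008000c0004000200010050c0004000200008000c000402830021800080046000201518044c04c6000100010040c02a6000200b18044c0004000100010040c0004018300010018c03c6000200b9800040004000200010028c0002032300b9800080004000200008000c0326000200010040c0406000201f18028c000200020001004cc0004000200010018c000400020001000040004000200010018c03c60223000100004040600e300008000c000400020001000080046001300010018c000400020001000040106000200010018c03c600020109800040046000200010018c000400020001000040046000200008000c000400020001000080004000200010044c0004000100010048c0004000200010030c00040002000100008000200020001003cc04c600330000800080004000200b18018c0004000200010000403a6000200008000c0004000200010050c03a600020159803cc00040002000080008000400e30001003cc000400020000800080406000200010030c000402930109800080002005300010028c000200020001000080004000200008000c0004029300010040c000400e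30001003cc0004029300008050c000400530001003cc000400020000800080004000200010030c00040002000100008000200530059803cc0004000200008050c0004000200010018c000400020021800040004000200008000c06a600020001000080004001300010044c000400010021800080004018300010018c000400330021800040004000200010018c000402930109800040004005300010044c04c6000105218048c03a600020001003cc000402830000800080004000200008000c03c6000201098048c0004018300008000c0004045300010040c000400e301218044c03c60001000100008000400020001003cc000400020000800080004000200010018c0004003300b9800040406005300008000c000400330109800080004000200010044c0004000101098048c0004005301218028c00020223000100008000400e301218018c0004032300b9800040004000200008000c0004000200010050c0004000201598028c000200020001000080004000200010018c04a600020001000040004005300008000c000400330021800080004007300010018c00040283013980004000402d300008000c000400020049800080004001300008000c000400020001000080004001300008000c0586000200010050c0004000200008000c000400020001000080004000200598028c000200020001000080004000201598018c0586000200010000403a6000202318018c000400330109800040004000200008000c000400020001000080004000200008000c000400020001000080004000200008000c0004000200010040c0004000200008000c0004003300218034c0004000200598028c000200020001000080004000200010018c0004022300010000400040053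 35 34359738367 0 8384 64 = 65)

theorem c132 : Part C 8448 8512 64 := Cfsg.Agent.SporadicRecognition.CertFast.part_fast C alC 64 (by decide +kernel : Cfsg.Agent.SporadicRecognition.CertFast.runF C 17 131071 0x1003cc04c6000200008048c0004000200010018c0004061300b98000402a6000201218018c000402230109800040004000200010018c0004061300b9800040004005300010018c000400020001000040004000200010030c00040293000100008000200020001003cc0004000200008000803a6000200008000c00040002000100008000400020001003cc000400020000800080004000200008000c03260002000100008000400020001003cc0004000200008000803a6000200008000c000400020001000080406000200010044c06a6000100218000802a6000201f1803cc0004003300008000803a6000200010044c0004000100010048c0004000200010044c00040001000100008000400020001003cc04c6000200008040c000400e300010044c04a600010001000080004000200010028c000200020001000080004000201e98018c06a600020021800040406001300010028c000200020001000080004000200008000c00040002000100008000400020001003cc0326000200008000802a6000200010028c000200020001004cc0004000200010028c00020613000100008010600020001003cc04a60002000080008000400020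159803cc0004022300008040c000400e300010030c0004000200b9800080002007300008000c00040002000100008000400020151803cc00040033000080008000401830121806cc0004032300b9800080406000100010030c000400020021800080002007300010044c000400010049800080004018300010028c000203230001000080004000200010018c000402830001000040004007300b18030c000400020001000080002005300010044c04a60001000100008000400130159803cc000400020000800080004000200008000c000400020109800080004000200010044c04c600010001000080004000200008000c000400020001000080004000200008000c06a6000200010040c000400e300010018c03c602230001000040046000200b18018c000400020001000040004000200010044c000400010001000080004000200b18018c00040002000100004000400020159803cc000400020000800080004000200008000c06a60002000100008000400020001003cc0004003300008000802a6000201f18018c03c600330001000040004000200010044c0004000100010040c000401830001003cc000402830000800080004007300010044c04c6000100010000803a6000200008000c04c6000200010048c0004000200008000c000402930001000080004000201518018c000400020001000040004000201218018c000400020021800040004000200010018c000402930109800040004000200008000c0c0600020001004cc0106000201598018c032600020001000040406000200008000c03c6000200010000802a6000200010018c00040002013980004000401830159803cc03c600020000800080004000200008000c04c6000200010000802a60002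 35 34359738367 0 8448 64 = 65)

theorem c133 : Part C 8512 8559 47 := Cfsg.Agent.SporadicRecognition.CertFast.part_fast C alC 47 (by decide +kernel : Cfsg.Agent.SporadicRecognition.CertFast.runF C 17 131071 0x10018c000400020001000040004000200008000c000400020001000080004000200010018c000400020001000040004000200008000c000400020001000080004000200010030c000400020001000080002000200010018c000400020001000040046000201218018c000400020001000040004000200008000c000400020001000080004000200010044c000400010021800080004000200008000c000400020001007cc000400020001003cc000400020000800080004000200010044c03c600010001000080046000200b1803cc04a6000200008034c0004000200010018c00040223000100004000400020001003cc000400020000800080004000201598018c00040002000100004000400020001003cc000400020000800080004000200010044c00040001000100008000402d300010028c00020002000100008000400020001003cc058600020000800080004000200008000c0004000200010040c0004005300010018c000400020001000040004000200008000c06a602230001007cc0004000200010044c000400010001000080406000200b18028c000200020001000080406000200008000c000400020001007cc000400020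0008000c0004000200010040c000400020001003cc00040002000080008004600e300008000c00040002000100008000400020001003cc00040002000080008000400130001003cc00040002000080008000400e301598018c00040002000100004000400530001003cc0004000200008040c000400020121803cc000400020000800080004000200010044c140600010001000080004018300b1803cc0326000200008048c000400e300010044c03c600010001000080004000200010018c00040033000100004004600020001003cc000400020000800080004000200008000c00040002000100008004600020001003cc0004000200008050c0004000201598018c00040002000100004000400020121803cc06a600020000800080004000200010044c0004000100010050c0004005300010018c00040033013980004040600020001003cc000400020000800080004000200010018c0004022301098000400040002 35 34359738367 0 8512 47 = 48)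

theorem all : Part C 6528 8559 2026 := (((((((((((((((((((((((((((((((c102).append C c103).append C c104).append C c105).append C c106).append C c107).append C c108).append C c109).append C c110).append C c111).append C c112).append C c113).append C c114).append C c115).append C c116).append C c117).append C c118).append C c119).append C c120).append C c121).append C c122).append C c123).append C c124).append C c125).append C c126).append C c127).append C c128).append C c129).append C c130).append C c131).append C c132).append C c133

end Cfsg.Agent.Co2Type.Up8Chk3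
end

-- part: Co2Type/Up8All
section
set_option autoImplicit false
set_option maxRecDepth 100000

namespace Cfsg.Agent.Co2Type.Up8All

open Cfsg.Agent.SporadicRecognition.CosetCert Cfsg.Agent.Co2Type.Up8Data

theorem part : Part C 0 C.N 7168 := (((Cfsg.Agent.Co2Type.Up8Chk0.all).append C Cfsg.Agent.Co2Type.Up8Chk1.all).append C Cfsg.Agent.Co2Type.Up8Chk2.all).append C Cfsg.Agent.Co2Type.Up8Chk3.all

end Cfsg.Agent.Co2Type.Up8All
end

-- part: Co2Type/UpBound
section
/-!
# Order bound for groups satisfying the presentation `PC` of `2^{1+8}_+ : Sp₆(2)` (R03, helper907)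
-/

set_option autoImplicit false
set_option maxRecDepth 100000

namespace Cfsg.Agent.Co2Type.UpBound

open Cfsg.Agent.SporadicRecognition.CosetCert Cfsg.Agent.SporadicRecognition.CosetCertHyp
  Cfsg.Agent.SporadicRecognition.CosetChain Cfsg.Agent.Co2Type.PresDef

variable {G : Type*} [Group G]

theorem sq_of_rel (x : ℕ → G) (hx : ∀ r ∈ relC, ev x r = 1) : ∀ k, k < 8 → x k * x k = 1 := by
  have h2 : ∀ k, k < 8 → [k, k] ∈ relC := by decide
  intro k hk
  have := hx _ (h2 k hk)
  rwa [ev2] at this

/-- the closure of the first `n` letters -/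
def cl (x : ℕ → G) (n : ℕ) : Subgroup G := Subgroup.closure (x '' {k | k < n})

theorem cl_zero (x : ℕ → G) : cl x 0 = ⊥ := by
  unfold cl
  rw [show {k : ℕ | k < 0} = ∅ from by ext k; simp, Set.image_empty, Subgroup.closure_empty]

/-- one step -/
theorem step (C : Cert) (x : ℕ → G) (rels : List (List ℕ)) (hx : ∀ r ∈ rels, ev x r = 1)
    (hsq : ∀ k, k < C.k → x k * x k = 1) (hCinv : ∀ k, C.inv k = k) (j : ℕ) (subw : List (List ℕ))
    (hs : ∀ s ∈ subw, ∀ y ∈ s, y < j)
    (hcheck : checkHyp C (restr C.k rels) (restr C.k subw) = true)
    {n : ℕ} (hP : Part C 0 C.N n) {m : ℕ} (hfin : Finite (cl x j)) (hm : Nat.card (cl x j) ≤ m) :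
    Finite (cl x C.k) ∧ Nat.card (cl x C.k) ≤ n * m := by
  have h := card_step C x rels subw (cl x j) (fun k hk => ⟨by rw [hCinv]; exact hk, by rw [hCinv]; exact hsq k hk⟩)
    (fun r hr _ => hx r hr) (fun s hs' _ => sub_letters x j subw hs s hs') hcheck hP hfin
  exact ⟨h.1, h.2.trans (Nat.mul_le_mul_left _ hm)⟩

theorem cl4 (x : ℕ → G) (hx : ∀ r ∈ relC, ev x r = 1) : Finite (cl x 4) ∧ Nat.card (cl x 4) ≤ 120 := by
  have h0 : Finite (cl x 0) := by rw [cl_zero]; infer_instance
  have h0' : Nat.card (cl x 0) ≤ 1 := by rw [cl_zero]; simp
  have := step Up4Data.C x relC hx (fun k hk => sq_of_rel x hx k (lt_of_lt_of_le hk (by decide)))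
    (fun _ => rfl) 0 Up4Data.subw (by decide) (Cfsg.Agent.SporadicRecognition.HypFast.check_fast (by decide +kernel)) Up4All.part h0 h0'
  exact this

theorem cl6 (x : ℕ → G) (hx : ∀ r ∈ relC, ev x r = 1) : Finite (cl x 6) ∧ Nat.card (cl x 6) ≤ 51840 := by
  obtain ⟨h0, h0'⟩ := cl4 x hx
  have := step Up6Data.C x relC hx (fun k hk => sq_of_rel x hx k (lt_of_lt_of_le hk (by decide)))
    (fun _ => rfl) 4 Up6Data.subw (by decide) (Cfsg.Agent.SporadicRecognition.HypFast.check_fast (by decide +kernel)) Up6All.part h0 h0'
  exact this

theorem cl7 (x : ℕ → G) (hx : ∀ r ∈ relC, ev x r = 1) : Finite (cl x 7) ∧ Nat.card (cl x 7) ≤ 103680 := by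
  obtain ⟨h0, h0'⟩ := cl6 x hx
  have := step Up7Data.C x relC hx (fun k hk => sq_of_rel x hx k (lt_of_lt_of_le hk (by decide)))
    (fun _ => rfl) 6 Up7Data.subw (by decide) (Cfsg.Agent.SporadicRecognition.HypFast.check_fast (by decide +kernel)) Up7All.part h0 h0'
  exact this

/-- a group generated by `x 0, ..., x 7` satisfying `relC` has order at most `|2^{1+8}:Sp6(2)|` -/
theorem cl8 (x : ℕ → G) (hx : ∀ r ∈ relC, ev x r = 1) :
    Finite (cl x 8) ∧ Nat.card (cl x 8) ≤ 743178240 := by
  obtain ⟨h0, h0'⟩ := cl7 x hx
  have := step Up8Data.C x relC hx (fun k hk => sq_of_rel x hx k (lt_of_lt_of_le hk (by decide)))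
    (fun _ => rfl) 7 Up8Data.subw (by decide) (Cfsg.Agent.SporadicRecognition.HypFast.check_fast (by decide +kernel)) Up8All.part h0 h0'
  exact this

end Cfsg.Agent.Co2Type.UpBound
end
end

-- part: Co2Type/TwistDead_mg
section
prune_inst 0x200000002200000000000010001c4282000002004800001140000004840c4000000820800002120020000400300000001800000000000000000000411800800000000010000000000000800002000000000000000000000000000000000000000000000
set_option linter.all false
open scoped Cfsg.Agent.FastGrp

-- part: Co2Type/InvData
section
/-!
# Finite checks for the involution classes of `2^{1+8}_+ . Sp6(2)` (R03, helper902)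
-/

set_option autoImplicit false

namespace Cfsg.Agent.Co2Type.InvData

open Cfsg.Agent.Co2Type.QModel Cfsg.Agent.Co2Type.Act Cfsg.Agent.Co2Type.Rels

/-- words of the four types: transvection, `c2`, line, `b3` -/
def rw' (k : ℕ) : List ℕ :=
  match k with
  | 0 => [0]
  | 1 => [0, 3]
  | 2 => [3, 5, 6]
  | _ => [0, 5, 6]

/-- tables `(m, y, w)`: the element with code `m` over the word is conjugate to a representative by `y`, `w` -/
def invT (k : ℕ) : List (ℕ × ℕ × List ℕ) :=
  match k with
  | 0 =>
   [(0, 0, []),
    (2, 1, []),
    (8, 4, []),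
    (10, 5, []),
    (32, 16, []),
    (34, 17, []),
    (40, 20, []),
    (42, 21, []),
    (128, 64, []),
    (130, 65, []),
    (136, 68, []),
    (138, 69, []),
    (160, 80, []),
    (162, 81, []),
    (168, 84, []),
    (170, 85, [])]
  | 1 =>
   [(0, 0, []),
    (18, 3, []),
    (32, 2, []),
    (50, 1, []),
    (73, 12, []),
    (91, 15, []),
    (105, 14, []),
    (123, 13, []),
    (130, 8, []),
    (144, 11, []),
    (162, 10, []),
    (176, 9, []),
    (203, 4, []),
    (217, 7, []),
    (235, 6, []),
    (249, 5, [])]
  | 2 =>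
   [(0, 0, []),
    (1, 0, []),
    (2, 0, [0,1]),
    (3, 0, [0]),
    (16, 4, []),
    (17, 4, []),
    (18, 12, [0,1]),
    (19, 12, [0]),
    (32, 8, []),
    (33, 8, []),
    (34, 4, [0,1]),
    (35, 8, [0]),
    (48, 12, []),
    (49, 12, []),
    (50, 8, [0,1]),
    (51, 4, [0]),
    (64, 8, [2,3,4,3,5,6,2,3,4,2]),
    (65, 8, [2,3,6,2]),
    (80, 12, [2,3,4,3,5,6,2,3,4,2]),
    (81, 12, [2,3,6,2]),
    (96, 0, [2,3,4,3,5,6,2,3,4,2]),
    (97, 0, [2,3,6,2]),
    (112, 4, [2,3,4,3,5,6,2,3,4,2]),
    (113, 4, [2,3,6,2]),
    (128, 0, [0,1,2,3,4,3,5,6,2,3,4,2]),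
    (130, 0, [0,1,2,3,6,2]),
    (144, 12, [0,1,2,3,4,3,5,6,2,3,4,2]),
    (146, 12, [0,1,2,3,6,2]),
    (160, 4, [0,1,2,3,4,3,5,6,2,3,4,2]),
    (162, 4, [0,1,2,3,6,2]),
    (176, 8, [0,1,2,3,4,3,5,6,2,3,4,2]),
    (178, 8, [0,1,2,3,6,2]),
    (192, 8, [0,2,3,4,3,5,6,2,3,4,2]),
    (195, 8, [0,2,3,6,2]),
    (208, 4, [0,2,3,4,3,5,6,2,3,4,2]),
    (211, 4, [0,2,3,6,2]),
    (224, 0, [0,2,3,4,3,5,6,2,3,4,2]),
    (227, 0, [0,2,3,6,2]),
    (240, 12, [0,2,3,4,3,5,6,2,3,4,2]),
    (243, 12, [0,2,3,6,2])]
  | _ =>
   [(0, 0, []),
    (18, 3, []),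
    (32, 2, []),
    (50, 1, []),
    (75, 15, []),
    (89, 12, []),
    (107, 13, []),
    (121, 14, []),
    (130, 10, []),
    (144, 9, []),
    (162, 8, []),
    (176, 11, []),
    (201, 5, []),
    (219, 6, []),
    (233, 7, []),
    (251, 4, [])]

/-- the code of the conjugate modulo `t` -/
def cj (k m y : ℕ) (w : List ℕ) : ℕ := qmul (qmul y (autw w m)) (autw (rw' k) y)

theorem invT_lt : ∀ k, k < 4 → ∀ p ∈ invT k, ∀ j ∈ p.2.2, j < 7 := by decide +kernel

theorem invT_comm : ∀ k, k < 4 → ∀ p ∈ invT k, sameB (p.2.2 ++ rw' k) (rw' k ++ p.2.2) = true := by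
  have h : ∀ k, k < 4 → ∀ p ∈ invT k, AbsTab.fzSame (p.2.2 ++ rw' k) (rw' k ++ p.2.2) = true := by decide +kernel
  exact fun k hk p hp => AbsTab.sameB_of_fz (h k hk p hp)

theorem invT_ok : ∀ k, k < 4 → ∀ p ∈ invT k, cj k p.1 p.2.1 p.2.2 = 0 ∨
    cj k p.1 p.2.1 p.2.2 = 256 ∨
    (k = 2 ∧ (cj k p.1 p.2.1 p.2.2 = 1 ∨ cj k p.1 p.2.1 p.2.2 = 257)) := by
  have h : ∀ k, k < 4 → ∀ p ∈ invT k, (AbsTab.fzOK p.2.2 = true ∧ AbsTab.fzOK (rw' k) = true ∧ p.1 < 512 ∧ p.2.1 < 512) ∧
      (fun n => n = 0 ∨ n = 256 ∨ (k = 2 ∧ (n = 1 ∨ n = 257)))
        (AbsTab.fzMul (AbsTab.fzMul p.2.1 (AbsTab.fzW p.2.2 p.1)) (AbsTab.fzW (rw' k) p.2.1)) := by decide +kernel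
  intro k hk p hp
  obtain ⟨⟨h1, h2, h3, h4⟩, h5⟩ := h k hk p hp
  rw [← (AbsTab.fzW_eq h1 h3).1, ← (AbsTab.fzW_eq h2 h4).1, ← AbsTab.fzMul_eq, ← AbsTab.fzMul_eq] at h5
  exact h5

/-- the square condition -/
def chk (k m : ℕ) : Bool :=
  (fun n => Nat.ble n 511 && (cond (Nat.beq n 0) ((invT k).any fun p => Nat.beq p.1 m) true) &&
    (cond (Nat.ble k 1) (!Nat.beq n 256) true)) (qmul m (autw (rw' k) m))

private noncomputable def _root_.Cfsg.Agent.KO486c9bf.k0 : type_of% @Decidable.decide := @(fun x0 x1 => @Decidable.rec.{1} _ @(fun x2 => @Bool) @(fun x2 => @Bool.false) @(fun x2 => @Bool.true) @x1)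
private theorem _root_.Cfsg.Agent.KO486c9bf.e0 : @Decidable.decide = @_root_.Cfsg.Agent.KO486c9bf.k0 := by delta _root_.Cfsg.Agent.KO486c9bf.k0; rfl'
private noncomputable def _root_.Cfsg.Agent.KO486c9bf.k1l (n : Nat) (P : ∀ k, k < n → Prop) (H : ∀ k h, Decidable (P k h)) (m : Nat) : m ≤ n → Bool := @Nat.rec (fun m => m ≤ n → Bool) (fun _ => true) (fun k ih h => @Decidable.rec (P k h) (fun _ => Bool) (fun _ => false) (fun _ => ih (Nat.le_of_succ_le h)) (H k h)) m
private theorem _root_.Cfsg.Agent.KO486c9bf.k1ls (n : Nat) (P : ∀ k, k < n → Prop) (H : ∀ k h, Decidable (P k h)) (m : Nat) : ∀ h : m ≤ n, _root_.Cfsg.Agent.KO486c9bf.k1l n P H m h = true ↔ ∀ k (g : k < m), P k (Nat.lt_of_lt_of_le g h) := by induction m with | zero => exact fun _ => ⟨fun _ _ g => absurd g (Nat.not_lt_zero _), fun _ => rfl⟩ | succ m ih => intro h; show @Decidable.rec (P m h) (fun _ => Bool) (fun _ => false) (fun _ => _root_.Cfsg.Agent.KO486c9bf.k1l n P H m (Nat.le_of_succ_le h)) (H m h) = true ↔ _; cases H m h with | isFalse q => exact ⟨fun g => absurd g Bool.false_ne_true, fun g => absurd (g m (Nat.lt_succ_self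 m)) q⟩ | isTrue q => exact ⟨fun g k hk => (Nat.lt_succ_iff_lt_or_eq.1 hk).elim ((ih _).1 g k) fun e => by subst e; exact q, fun g => (ih _).2 fun k hk => g k (Nat.lt_succ_of_lt hk)⟩
private noncomputable def _root_.Cfsg.Agent.KO486c9bf.k1 (n : Nat) (P : ∀ k, k < n → Prop) (H : ∀ k h, Decidable (P k h)) : Decidable (∀ k h, P k h) := @Bool.rec (fun b => _root_.Cfsg.Agent.KO486c9bf.k1l n P H n (Nat.le_refl n) = b → Decidable (∀ k h, P k h)) (fun g => isFalse fun q => Bool.false_ne_true (g.symm.trans ((_root_.Cfsg.Agent.KO486c9bf.k1ls n P H n _).2 fun k h => q k h))) (fun g => isTrue fun k h => (_root_.Cfsg.Agent.KO486c9bf.k1ls n P H n _).1 g k h) (_root_.Cfsg.Agent.KO486c9bf.k1l n P H n (Nat.le_refl n)) rfl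
private theorem _root_.Cfsg.Agent.KO486c9bf.e1 : @Nat.decidableBallLT = @_root_.Cfsg.Agent.KO486c9bf.k1 := funext fun _ => funext fun _ => funext fun _ => Subsingleton.elim _ _
private noncomputable def _root_.Cfsg.Agent.KO486c9bf.k2 : type_of% @Bool.decEq := @(fun x0 x1 => @Bool.rec.{1} @(fun x2 => @Decidable (@Eq.{1} _ @x2 @x1)) (@Bool.rec.{1} @(fun x2 => @Decidable (@Eq.{1} _ @Bool.false @x2)) (@Decidable.isTrue _ (@rfl.{1} _ _)) (@Decidable.isFalse _ @(fun x2 => @Bool.noConfusion.{0} _ _ _ @x2)) @x1) (@Bool.rec.{1} @(fun x2 => @Decidable (@Eq.{1} _ @Bool.true @x2)) (@Decidable.isFalse _ @(fun x2 => @Bool.noConfusion.{0} _ _ _ @x2)) (@Decidable.isTrue _ (@rfl.{1} _ _)) @x1) @x0)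
private theorem _root_.Cfsg.Agent.KO486c9bf.e2 : @Bool.decEq = @_root_.Cfsg.Agent.KO486c9bf.k2 := by delta _root_.Cfsg.Agent.KO486c9bf.k2; rfl'
private noncomputable def _root_.Cfsg.Agent.KO486c9bf.k3 : type_of% @instDecidableEqBool := @Cfsg.Agent.KO486c9bf.k2
private theorem _root_.Cfsg.Agent.KO486c9bf.e3 : @instDecidableEqBool = @_root_.Cfsg.Agent.KO486c9bf.k3 := by delta _root_.Cfsg.Agent.KO486c9bf.k3; rewrite [← Cfsg.Agent.KO486c9bf.e2]; rfl'
private noncomputable def _root_.Cfsg.Agent.KO486c9bf.k4 : type_of% @Bool.and := @(fun x0 x1 => @Bool.rec.{1} @(fun x2 => @Bool) @Bool.false @x1 @x0)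
private theorem _root_.Cfsg.Agent.KO486c9bf.e4 : @Bool.and = @_root_.Cfsg.Agent.KO486c9bf.k4 := by delta _root_.Cfsg.Agent.KO486c9bf.k4; rfl'
private noncomputable def _root_.Cfsg.Agent.KO486c9bf.k5.{ku0} : type_of% @cond.{ku0} := @(fun x0 x1 x2 x3 => @Bool.rec.{ku0} @(fun x4 => @x0) @x3 @x2 @x1)
private theorem _root_.Cfsg.Agent.KO486c9bf.e5.{ku0} : @cond.{ku0} = @_root_.Cfsg.Agent.KO486c9bf.k5.{ku0} := by delta _root_.Cfsg.Agent.KO486c9bf.k5; rfl'
private theorem _root_.Cfsg.Agent.KO486c9bf.e6.{ku, kv} {α : Type kv} {M : List α → Sort ku} (φ : ∀ l, M l) {z : M List.nil} {s : ∀ a l, M l → M (List.cons a l)} (h0 : φ List.nil = z) (hs : ∀ a l, φ (List.cons a l) = s a l (φ l)) (l : List α) : φ l = @List.rec α M z s l := List.rec h0 (fun a l ih => (hs a l).trans (congrArg (s a l) ih)) l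
private noncomputable def _root_.Cfsg.Agent.KO486c9bf.k7.{ku0} : type_of% @List.any.{ku0} := @(fun x0 x1 x2 => @List.rec.{(ku0+1), ku0} @x0 @(fun x3 => (@x0 → @Bool) → @Bool) @(fun x3 => @Bool.false) @(fun x3 x4 x5 x6 => @Bool.rec.{1} @(fun x7 => @Bool) (@x5 @x6) @Bool.true (@x6 @x3)) @x1 @x2)
private theorem _root_.Cfsg.Agent.KO486c9bf.e7.{ku0} : @List.any.{ku0} = @_root_.Cfsg.Agent.KO486c9bf.k7.{ku0} := by delta _root_.Cfsg.Agent.KO486c9bf.k7; funext a0 a1 a2; refine (congrFun (_root_.Cfsg.Agent.KO486c9bf.e6 (fun a1 a2 => @List.any.{ku0} a0 a1 a2) ?_ (fun c0 c1 => ?_) a1) a2 :) <;> (rfl')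
private noncomputable def _root_.Cfsg.Agent.KO486c9bf.k8 : type_of% @Bool.not := @(fun x0 => @Bool.rec.{1} @(fun x1 => @Bool) @Bool.true @Bool.false @x0)
private theorem _root_.Cfsg.Agent.KO486c9bf.e8 : @Bool.not = @_root_.Cfsg.Agent.KO486c9bf.k8 := by delta _root_.Cfsg.Agent.KO486c9bf.k8; rfl'
private noncomputable def _root_.Cfsg.Agent.KO486c9bf.k9 : (by first | exact type_of% @Cfsg.Agent.Co2Type.AbsTab.fzMul | exact Unit : Sort _) := by first | (refine @Subtype.val _ (fun g => @Cfsg.Agent.Co2Type.AbsTab.fzMul = @g) (@Subtype.mk _ _ (@(fun x0 x1 => @Nat.xor (@Nat.xor @x0 @x1) (@Nat.mul (nat_lit 256) (@Nat.land (@Nat.xor (@Nat.xor (@Nat.land (@Nat.shiftRight @x0 (nat_lit 4)) (@Nat.shiftRight @x1 (nat_lit 3))) (@Nat.land (@Nat.shiftRight @x0 (nat_lit 5)) (@Nat.shiftRight @x1 (nat_lit 2)))) (@Nat.xor (@Nat.land (@Nat.shiftRight @x0 (nat_lit 6)) (@Nat.shiftRight @x1 (nat_lit 1))) (@Nat.land (@Nat.shiftRight @x0 (nat_lit 7)) @x1))) (nat_lit 1))))) ?_); rfl') | exact @Cfsg.Agent.Co2Type.AbsTab.fzMul | exact ()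
private theorem _root_.Cfsg.Agent.KO486c9bf.e9 : (by first | exact @Cfsg.Agent.Co2Type.AbsTab.fzMul = @_root_.Cfsg.Agent.KO486c9bf.k9 | exact True : Prop) := by first | (delta _root_.Cfsg.Agent.KO486c9bf.k9; exact @Subtype.property _ (fun g => @Cfsg.Agent.Co2Type.AbsTab.fzMul = @g) _) | rfl | trivial
private noncomputable def _root_.Cfsg.Agent.KO486c9bf.k11.{ku0} : type_of% @List.get?Internal.{ku0} := @(fun x0 x1 x2 => @List.rec.{(ku0+1), ku0} @x0 @(fun x3 => ℕ → @Option.{ku0} @x0) @(fun x3 => @Option.none.{ku0} _) @(fun x3 x4 x5 x6 => @Nat.rec.{(ku0+1)} @(fun x7 => @Option.{ku0} @x0) (@Option.some.{ku0} _ @x3) @(fun x7 x8 => @x5 @x7) @x6) @x1 @x2)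
private theorem _root_.Cfsg.Agent.KO486c9bf.e11.{ku0} : @List.get?Internal.{ku0} = @_root_.Cfsg.Agent.KO486c9bf.k11.{ku0} := by delta _root_.Cfsg.Agent.KO486c9bf.k11; funext a0 a1 a2; refine (congrFun (_root_.Cfsg.Agent.KO486c9bf.e6 (fun a1 a2 => @List.get?Internal.{ku0} a0 a1 a2) ?_ (fun c0 c1 => ?_) a1) a2 :) <;> [(funext b0; (rfl')); (funext b0; (cases b0 with | @zero  => (rfl') | @succ b0_0 => (rfl')))]
private noncomputable def _root_.Cfsg.Agent.KO486c9bf.k12 : (by first | exact type_of% @Cfsg.Agent.Co2Type.AbsTab.fzTab | exact Unit : Sort _) := by first | (refine @Subtype.val _ (fun g => @Cfsg.Agent.Co2Type.AbsTab.fzTab = @g) (@Subtype.mk _ _ (@(fun x0 => @Option.rec.{1, 0} ℕ @(fun x1 => ℕ) (nat_lit 0) @(fun x1 => @x1) (@Cfsg.Agent.KO486c9bf.k11.{0} _ ((nat_lit 9344498330853327871756360628844757373876157259613427477329472560306354902784140032060453554120319975736029335579507852626763147915686924368073988122361257844038878665250288321772338336597524716465063782939804243524241099908724205761954312130612087021695117093516067707294600886945978622637239963796474794038572932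711158892464095095675016329175838534568759998835841520228428327209503046653245179265452698005899269889978597189599745566362867147724638001879969209204441743428500032223320014092783335787518363360624347223962661655225884011278996206876529227809379517333683059806867475388214826305625194043460796573955180171352306021560118770685215241527833548139065962287560987288348549138227896369435906371872051254144914859221499070281161633553632983525003504255181395671415709191906333870299012613240668092865460512503878866644883078771682178758082685623772492103972748262771611876627784920389026428051139801927308612091045989274963333188826188405178077555288713843963629997231426341739399193758651060169327032362928800551061879156420105304619933799000598683888295557394364152373941162030221840524545974548347842171946207768162839044829062044011546467285528577577812115762609626413817417363066587042718908619723350796086406316117970927565939654426818103842171222041946405097621131649823575868136093015752575887286210985818952787855687613830567251985343910752487008325316980387133849601536) :: ((nat_lit 116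73758428076084457425916811251995129987699029554673939729356439569054571890617538649087190519873550446349948275704531476757975829392206054314172134953605324394215716886209130242299092124380306139195946162453568061813638451458608975000321046448609598418147010782235548026721144748000946677812921314068598699288076838177798417144302111316099002460706283177082389483920731146351082593382449858135937728422280595121287757099265902974442500558733958772672439131964280029095830193322801845245851915706421372865487107065798835303304144136880137519446904434240904204449702546810672241045084464468386112699772566370233088630527535676259468757131210669169861455276451280882807500668694106521059581404780427119266362538106018028814638742326908687665764677483662067426334076214164998657395801739196887955919371153650371294567157529149997433174376916701690227008385088410817448362409130335622226264209839014794445749430372285732334498116648743896325005716296255912677713829615533171443639329938365635556532569762754506767841238270149613210383054207522301386446788851227390658790852229751997188429241030999993833368038393862193064672563942744930713242048082077188408422591001551637959945788302583869040628734850195603858765251024524028215341187247471251912156114609445641412282298457344320539080430025190975718318833993936680581537480361406666027116223283852793002369673929222326503424668039146897920)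 :: ((nat_lit 11194444668837292380976220270570891671744617972003761157172657657400211676325840267892020621319589515537504238913675504397540609685118273154345872409611791306742711992430065008115628898534443469956206760481369687659338859686672697481332134726344284714921452089160717819120595854745304777864633224720318609657692904293492884666798282547839282680708688633917973686525272748567543836041225141841622976530011504714996234580478718696487238367827992396487777413183399164454944183936334516686666508452993188414689788721632037134267696587110898103734043759882104594522896662332190664918983369917868071373784348875548081063745084577877104207368565165755640007841534938461934293276431435430781820923347855109399862496298985626046651402843105727855016982667706849658493402753683148587833520195378323769274274051190284421415865381476513286674649641704132420204997371623921176510598626495560685296933326472512298254246514385321742158622229586656876523801065415282820046732089438121799123341343131621785406795927225146681699589801238274909419757390207668124656510431574039598873134924445342976802268551218818821746868467932808497731487985634525520832556347234905425119952667151108668201428614876900814193616939706955959078183168684405826707887608185459025642972590715568443402702370385115553298503731979994540558125333109956455802528734812396266459365539630993421283373032386430800833077870543600487936)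 :: ((nat_lit 1657080903612110376695855279272713887802978001898495024372865809629909149526708586834447692872104364193426715769660914944119226247932285928680667036956652333297783098315263411959728346316162054797467858265516315860712410255272929172460857275032733643386803321126186864622693187511409460137266132535518814736420807212246642642676934140860184342470625002719298936937138837690362313831295318282062035994097260175595910889237246720527151802017627382824424771958941020935510622578815118216527492376224634767439903741529446360184473690895209498024156713039218486889869233926921219996474441279723850393464605934550540443420475393587386780183114921115377501161400658474085587890252075234688015884076578673120070160482479396272976983078747070596313243972643058895423703686157350714052327843868227120128152389918790661158662956523346066146497103865156252135502027295628969355792425643666541454864365943461758181670179917281892572243310122069221590706041468548894522727960449254600817629958310531017659680432127578822944320816353593754244627025506005890164857043131523271963220150510598970390058111646146380998510805624129505017731521193773169941722074433718536796811783133693031629621310903661784101318323564556065451238851877785941712255644928380367029455564941587339059544074903823660240516900173648820364452636348534494388953079969647942857200014464252354131073393224844793195217199908203799040)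 :: ((nat_lit 13591973197723295117328303943846861720441935649317496605346246471342853522587885951119334871312948720675333252454675789477380073832352184915638138041533346128485492172330988434340423137135154885700251671232600627102499283434226377686278171003689756558908249491984646940515245675235679440569784833459301214258541997706131946572885641108022923295765572990314167344827214915921396487295954878418603007631187137174214308013253169959106607546931512028032572361245802622947005942326371604137790675215296634345564412173727782538604301549856506678123001103596260773324624390827851995838650158365181390760192758622175894867132061498108013119646011793898567431762117672141416437747836164600176691359763480992592222759091843572724841337246986334700993248207033229416456888583740067842516785427133144176793611959841653485484873598045163970402073079059591972609355777928619170062964671062078868731896087391198209929563958072278740557740906960690439886404621779407189371703190852946274677579491642347564243149863467962647449406180824541847564167888076776494672464626302894340140778790694120160265903016395291108173428399300593606220692042327177547952867481841619292136178613251787852234977897374469568298064046268964577385371178408854710808746393513166732303991073777346490464810636000660089768601951773717431791505830429925290107981783700024002578105018782845749496564824950366129317335520154443317760)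 :: ((nat_lit 7413333165237220957657385274005791173026277569222752486100227630066551014621387078846600061240846439224609119771753762298204458653990798241040597560449570029934355916177015558278485461034336510502023334407841011106196037636144668534270334830475122010329733160833665284423081611351036959033243591046332276160359384084152933994951381786619607709189213741814625074895128251246849517557180005665626491180958241481775031926628375946557936543997860537550674975369761812104973047046158345038700374401143876610993392140064118386861107010843607639656104175794262234687024394794544284326437490828214076766503126747861148189741867185294525158858409776112493212790272843417994119699532689965168770725259328666123767569978139835100685761757759526564891753970370017536389930098120186363300515538530986853109423294458398931647345015038833074801663724481586903817195182484272051504557358739564356094174315485376116772354546158701370832791805028103486435851938056223240298002247562415797422276394618890326531321154166111503012672743591006979500862993389086179599513428679543188875298387600429017992665957034001299330296002658271546740978660649488027491592415793566134532382804284158840196858779300304987399269143998871353345582416120528827418725229486753008652337050735914110939336085563145678362866403709099631042462924464569807027949301015704887718532868487231230175065604529196012475342162176980296192)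 :: ((nat_lit 12605462906249689641320844205988964816498641296191534063409167086397314023014670850936945214107171852410959861914998119711118158253574925185846244998012665631143827280263469410411552981954561197589718523993485638021431999804850021357820517841538394422452036359080902234378143110632238159900829315422650719729936192327872879296465720638607599154122777345527014048744349275687092180608707819871064211984470273385794154090051839090818815474852404877349303671632053256868688459376430372008554353374626851702571440140375427366288128461619844687106189800762963311749884100482747843245604424948441997370294510557640182089592486631514330770048153612224183033534975390245589940494449615244700784611589556405419333421589484047881568044663035871572411406046769767498841259718570765531236737476690173866035282719162032775322197940553769576779959937087914748180636268610370819720851682353555060399203400465673964913253033324857323300613280786522653770242544155145798261496388419107259853900273798575104543252156845583694303588090903369660372295412711066634695826188366618853094802871058974001496824893619012549859577523235764676218097911894124481403309166167087637040668764049252213682290665936597691160536306413612505270850242154058414942132140203201575302453289356532479207028345736093607126052575005024617118461288230396935087194966121946940045104272211665117942439706441091835358379775441471275520)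 :: []))))))) @x0))) ?_); rewrite [← Cfsg.Agent.KO486c9bf.e11.{0}]; rfl') | exact @Cfsg.Agent.Co2Type.AbsTab.fzTab | exact ()
private theorem _root_.Cfsg.Agent.KO486c9bf.e12 : (by first | exact @Cfsg.Agent.Co2Type.AbsTab.fzTab = @_root_.Cfsg.Agent.KO486c9bf.k12 | exact True : Prop) := by first | (delta _root_.Cfsg.Agent.KO486c9bf.k12; exact @Subtype.property _ (fun g => @Cfsg.Agent.Co2Type.AbsTab.fzTab = @g) _) | rfl | trivial
private noncomputable def _root_.Cfsg.Agent.KO486c9bf.k13 : (by first | exact type_of% @Cfsg.Agent.Co2Type.AbsTab.fzT | exact Unit : Sort _) := by first | (refine @Subtype.val _ (fun g => @Cfsg.Agent.Co2Type.AbsTab.fzT = @g) (@Subtype.mk _ _ (@(fun x0 x1 => @Nat.land (@Nat.shiftRight (@Cfsg.Agent.KO486c9bf.k12 @x0) (@Nat.mul (nat_lit 9) @x1)) (nat_lit 511))) ?_); rewrite [← Cfsg.Agent.KO486c9bf.e12]; (try delta Cfsg.Agent.Co2Type.AbsTab.fzT); (try generalize @Cfsg.Agent.Co2Type.AbsTab.fzTab = g0); rfl') | exact @Cfsg.Agent.Co2Type.AbsTab.fzT | exact ()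
private theorem _root_.Cfsg.Agent.KO486c9bf.e13 : (by first | exact @Cfsg.Agent.Co2Type.AbsTab.fzT = @_root_.Cfsg.Agent.KO486c9bf.k13 | exact True : Prop) := by first | (delta _root_.Cfsg.Agent.KO486c9bf.k13; exact @Subtype.property _ (fun g => @Cfsg.Agent.Co2Type.AbsTab.fzT = @g) _) | rfl | trivial
private noncomputable def _root_.Cfsg.Agent.KO486c9bf.k14 : (by first | exact type_of% @Cfsg.Agent.Co2Type.AbsTab.fzW | exact Unit : Sort _) := by first | (refine @Subtype.val _ (fun g => @Cfsg.Agent.Co2Type.AbsTab.fzW = @g) (@Subtype.mk _ _ (@(fun x0 x1 => @List.rec.{1, 0} ℕ @(fun x2 => ℕ) @x1 @(fun x2 x3 x4 => @Cfsg.Agent.KO486c9bf.k13 @x2 @x4) @x0)) ?_); rewrite [← Cfsg.Agent.KO486c9bf.e13]; (try delta Cfsg.Agent.Co2Type.AbsTab.fzW); (try generalize @Cfsg.Agent.Co2Type.AbsTab.fzT = g0); rfl') | exact @Cfsg.Agent.Co2Type.AbsTab.fzW | exact ()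
private theorem _root_.Cfsg.Agent.KO486c9bf.e14 : (by first | exact @Cfsg.Agent.Co2Type.AbsTab.fzW = @_root_.Cfsg.Agent.KO486c9bf.k14 | exact True : Prop) := by first | (delta _root_.Cfsg.Agent.KO486c9bf.k14; exact @Subtype.property _ (fun g => @Cfsg.Agent.Co2Type.AbsTab.fzW = @g) _) | rfl | trivial
private noncomputable def _root_.Cfsg.Agent.KO486c9bf.k15 : type_of% @Nat.decEq := @(fun x0 x1 => @Bool.rec.{1} @(fun x2 => (@Eq.{1} _ (@Nat.beq @x0 @x1) @x2) → @Decidable (@Eq.{1} _ @x0 @x1)) @(fun x2 => @Decidable.isFalse _ (@Nat.ne_of_beq_eq_false _ _ @x2)) @(fun x2 => @Decidable.isTrue _ (@Nat.eq_of_beq_eq_true _ _ @x2)) (@Nat.beq @x0 @x1) (@Eq.refl.{1} _ (@Nat.beq @x0 @x1)))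
private theorem _root_.Cfsg.Agent.KO486c9bf.e15 : @Nat.decEq = @_root_.Cfsg.Agent.KO486c9bf.k15 := by delta _root_.Cfsg.Agent.KO486c9bf.k15; rfl'
private noncomputable def _root_.Cfsg.Agent.KO486c9bf.k16 : (by first | exact type_of% @Cfsg.Agent.Co2Type.InvData.rw' | exact Unit : Sort _) := by first | (refine @Subtype.val _ (fun g => @Cfsg.Agent.Co2Type.InvData.rw' = @g) (@Subtype.mk _ _ (@(fun x0 => @Decidable.rec.{1} _ @(fun x1 => @List.{0} ℕ) @(fun x1 => @Decidable.rec.{1} _ @(fun x2 => @List.{0} ℕ) @(fun x2 => @Decidable.rec.{1} _ @(fun x3 => @List.{0} ℕ) @(fun x3 => (nat_lit 0) :: ((nat_lit 5) :: ((nat_lit 6) :: []))) @(fun x3 => @Eq.rec.{1, 1} ℕ (nat_lit 2) @(fun x4 x5 => @List.{0} ℕ) ((nat_lit 3) :: ((nat_lit 5) :: ((nat_lit 6) :: []))) @x0 (@Eq.symm.{1} _ _ _ @x3)) (@Cfsg.Agent.KO486c9bf.k15 @x0 (nat_lit 2))) @(fun x2 => @Eq.rec.{1, 1} ℕ (nat_lit 1) @(fun x3 x4 => @List.{0} ℕ) ((nat_lit 0) :: ((nat_lit 3) :: [])) @x0 (@Eq.symm.{1} _ _ _ @x2)) (@Cfsg.Agent.KO486c9bf.k15 @x0 (nat_lit 1))) @(fun x1 => @Eq.rec.{1, 1} ℕ (nat_lit 0) @(fun x2 x3 => @List.{0} ℕ) ((nat_lit 0) ::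 []) @x0 (@Eq.symm.{1} _ _ _ @x1)) (@Cfsg.Agent.KO486c9bf.k15 @x0 (nat_lit 0)))) ?_); rewrite [← Cfsg.Agent.KO486c9bf.e15]; rfl') | exact @Cfsg.Agent.Co2Type.InvData.rw' | exact ()
private theorem _root_.Cfsg.Agent.KO486c9bf.e16 : (by first | exact @Cfsg.Agent.Co2Type.InvData.rw' = @_root_.Cfsg.Agent.KO486c9bf.k16 | exact True : Prop) := by first | (delta _root_.Cfsg.Agent.KO486c9bf.k16; exact @Subtype.property _ (fun g => @Cfsg.Agent.Co2Type.InvData.rw' = @g) _) | rfl | trivial

theorem chk_ok : ∀ k, k < 4 → ∀ m, m < 256 → chk k m = true := by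
  have h0 : ∀ k, k < 4 → AbsTab.fzOK (rw' k) = true := by decide +kernel
  have h : ∀ k, k < 4 → ∀ m, m < 256 →
      (fun n => Nat.ble n 511 && (cond (Nat.beq n 0) ((invT k).any fun p => Nat.beq p.1 m) true) &&
        (cond (Nat.ble k 1) (!Nat.beq n 256) true)) (AbsTab.fzMul m (AbsTab.fzW (rw' k) m)) = true := by (first | (refine of_decide_eq_true ?_; rewrite [Cfsg.Agent.KO486c9bf.e0, Cfsg.Agent.KO486c9bf.e1, Cfsg.Agent.KO486c9bf.e3, Cfsg.Agent.KO486c9bf.e4, Cfsg.Agent.KO486c9bf.e5.{1}, Cfsg.Agent.KO486c9bf.e7.{0}, Cfsg.Agent.KO486c9bf.e8, Cfsg.Agent.KO486c9bf.e9, Cfsg.Agent.KO486c9bf.e14, Cfsg.Agent.KO486c9bf.e16]; decide +kernel) | decide +kernel)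
  intro k hk m hm
  have h1 := h k hk m hm
  rw [← (AbsTab.fzW_eq (h0 k hk) (hm.trans (by decide))).1, ← AbsTab.fzMul_eq] at h1
  exact h1

theorem inv_cov (k : ℕ) (hk : k < 4) (m : ℕ) (hm : m < 256) (h : qmul m (autw (rw' k) m) = 0) :
    ∃ p ∈ invT k, p.1 = m := by
  have h1 := chk_ok k hk m hm
  simp only [chk, h, Bool.and_eq_true] at h1
  have h2 := h1.1.2
  simp only [show Nat.beq 0 0 = true from rfl, cond_true, List.any_eq_true] at h2
  obtain ⟨p, hp, h3⟩ := h2
  exact ⟨p, hp, Nat.eq_of_beq_eq_true h3⟩

theorem inv_lt (k : ℕ) (hk : k < 4) (m : ℕ) (hm : m < 256) : qmul m (autw (rw' k) m) < 512 := by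
  have h1 := chk_ok k hk m hm
  simp only [chk, Bool.and_eq_true] at h1
  have h2 := Nat.le_of_ble_eq_true h1.1.1
  omega

theorem inv_ne (k : ℕ) (hk : k < 2) (m : ℕ) (hm : m < 256) : qmul m (autw (rw' k) m) ≠ 256 := by
  intro h
  have h1 := chk_ok k (by omega) m hm
  simp only [chk, Bool.and_eq_true] at h1
  have h2 := h1.2
  rw [h] at h2
  have h3 : Nat.ble k 1 = true := Nat.ble_eq_true_of_le (by omega)
  rw [h3] at h2
  exact absurd h2 (by decide)

private noncomputable def _root_.Cfsg.Agent.KO486c9bf.k17 : type_of% @instDecidableAnd := @(fun x0 x1 x2 x3 => @Decidable.rec.{1} _ @(fun x4 => @Decidable (@And @x0 @x1)) @(fun x4 => @Decidable.isFalse _ (@instDecidableAnd._proof_2 _ _ @x4)) @(fun x4 => @Decidable.rec.{1} _ @(fun x5 => @Decidable (@And @x0 @x1)) @(fun x5 => @Decidable.isFalse _ (@instDecidableAnd._proof_1 _ _ @x5)) @(fun x5 => @Decidable.isTrue _ (@And.intro _ _ @x4 @x5)) @x3) @x2)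
private theorem _root_.Cfsg.Agent.KO486c9bf.e17 : @instDecidableAnd = @_root_.Cfsg.Agent.KO486c9bf.k17 := by delta _root_.Cfsg.Agent.KO486c9bf.k17; rfl'
private noncomputable def _root_.Cfsg.Agent.KO486c9bf.k18 : type_of% @Nat.decLe := @(fun x0 x1 => @Decidable.rec.{1} _ @(fun x2 => @Decidable (@LE.le.{0} _ _ @x0 @x1)) @(fun x2 => @Decidable.isFalse _ (@Nat.not_le_of_not_ble_eq_true _ _ @x2)) @(fun x2 => @Decidable.isTrue _ (@Nat.le_of_ble_eq_true _ _ @x2)) (@Cfsg.Agent.KO486c9bf.k2 (@Nat.ble @x0 @x1) @Bool.true))
private theorem _root_.Cfsg.Agent.KO486c9bf.e18 : @Nat.decLe = @_root_.Cfsg.Agent.KO486c9bf.k18 := by delta _root_.Cfsg.Agent.KO486c9bf.k18; rewrite [← Cfsg.Agent.KO486c9bf.e2]; rfl'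
private noncomputable def _root_.Cfsg.Agent.KO486c9bf.k19 : type_of% @Nat.decLt := @(fun x0 x1 => @Cfsg.Agent.KO486c9bf.k18 (@Nat.succ @x0) @x1)
private theorem _root_.Cfsg.Agent.KO486c9bf.e19 : @Nat.decLt = @_root_.Cfsg.Agent.KO486c9bf.k19 := by delta _root_.Cfsg.Agent.KO486c9bf.k19; rewrite [← Cfsg.Agent.KO486c9bf.e18]; rfl'
private noncomputable def _root_.Cfsg.Agent.KO486c9bf.k20 : type_of% @instDecidableOr := @(fun x0 x1 x2 x3 => @Decidable.rec.{1} _ @(fun x4 => @Decidable (@Or @x0 @x1)) @(fun x4 => @Decidable.rec.{1} _ @(fun x5 => @Decidable (@Or @x0 @x1)) @(fun x5 => @Decidable.isFalse _ (@instDecidableOr._proof_1 _ _ @x4 @x5)) @(fun x5 => @Decidable.isTrue _ (@Or.inr _ _ @x5)) @x3) @(fun x4 => @Decidable.isTrue _ (@Or.inl _ _ @x4)) @x2)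
private theorem _root_.Cfsg.Agent.KO486c9bf.e20 : @instDecidableOr = @_root_.Cfsg.Agent.KO486c9bf.k20 := by delta _root_.Cfsg.Agent.KO486c9bf.k20; rfl'
private noncomputable def _root_.Cfsg.Agent.KO486c9bf.k21 : type_of% @instDecidableEqNat := @Cfsg.Agent.KO486c9bf.k15
private theorem _root_.Cfsg.Agent.KO486c9bf.e21 : @instDecidableEqNat = @_root_.Cfsg.Agent.KO486c9bf.k21 := by delta _root_.Cfsg.Agent.KO486c9bf.k21; rewrite [← Cfsg.Agent.KO486c9bf.e15]; rfl'
private noncomputable def _root_.Cfsg.Agent.KO486c9bf.k24 : (by first | exact type_of% @Cfsg.Agent.Co2Type.QModel.qmul | exact Unit : Sort _) := by first | (refine @Subtype.val _ (fun g => @Cfsg.Agent.Co2Type.QModel.qmul = @g) (@Subtype.mk _ _ (@(fun x0 x1 => @Nat.xor (@Nat.xor @x0 @x1) (@Bool.rec.{1} @(fun x2 => ℕ) (nat_lit 0) (nat_lit 256) (@Cfsg.Agent.Co2Type.QModel.par @x0 @x1)))) ?_); (try delta Cfsg.Agent.Co2Type.QModel.qmul); (try generalize @Cfsg.Agent.Co2Type.QModel.par = g0); rfl') | exact @Cfsg.Agent.Co2Type.QModel.qmul | exact ()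
private theorem _root_.Cfsg.Agent.KO486c9bf.e24 : (by first | exact @Cfsg.Agent.Co2Type.QModel.qmul = @_root_.Cfsg.Agent.KO486c9bf.k24 | exact True : Prop) := by first | (delta _root_.Cfsg.Agent.KO486c9bf.k24; exact @Subtype.property _ (fun g => @Cfsg.Agent.Co2Type.QModel.qmul = @g) _) | rfl | trivial

theorem split_code : ∀ m, m < 512 → (m &&& 255) < 256 ∧
    (m = m &&& 255 ∨ m = qmul (m &&& 255) 256) := by
  (first | (refine of_decide_eq_true ?_; rewrite [Cfsg.Agent.KO486c9bf.e0, Cfsg.Agent.KO486c9bf.e1, Cfsg.Agent.KO486c9bf.e17, Cfsg.Agent.KO486c9bf.e19, Cfsg.Agent.KO486c9bf.e20, Cfsg.Agent.KO486c9bf.e21, Cfsg.Agent.KO486c9bf.e24]; decide +kernel) | decide +kernel)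

theorem sq_code : ∀ m, m < 512 → qmul m m = 0 ∨ qmul m m = 256 := by (first | (refine of_decide_eq_true ?_; rewrite [Cfsg.Agent.KO486c9bf.e0, Cfsg.Agent.KO486c9bf.e1, Cfsg.Agent.KO486c9bf.e20, Cfsg.Agent.KO486c9bf.e21, Cfsg.Agent.KO486c9bf.e24]; decide +kernel) | decide +kernel)

theorem a3_conj : qmul (qmul 128 1) (autw (rw' 2) 128) = qmul 1 256 ∧ qmul 128 128 = 0 := by decide +kernel

theorem b3_conj : qmul 75 (autw (rw' 3) (qmul 75 (qmul 75 75))) = 256 := by decide +kernel

end Cfsg.Agent.Co2Type.InvData
end

-- part: Co2Type/InvClass
section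
/-!
# Involutions of `2^{1+8}_+ . Sp6(2)` outside `O_2` (R03, helper902)

`inv_cases` : representatives modulo `t`; `twist_conj` : in the twist every involution outside `Q` is
conjugate to its product with `t`.
-/

set_option autoImplicit false

namespace Cfsg.Agent.Co2Type.InvClass

open Cfsg Cfsg.Agent.Co2Type.Setup Cfsg.Agent.Co2Type.Spin
open Cfsg.Agent.Co2Type.QModel Cfsg.Agent.Co2Type.Act Cfsg.Agent.Co2Type.Coord
open Cfsg.Agent.Co2Type.Rels Cfsg.Agent.Co2Type.InvData Cfsg.Agent.Co2Type.Abs
open Cfsg.Agent.Co2Type.Abs.Pre Cfsg.Agent.Co2Type.ExistsRels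
open Cfsg.Agent.ClassicalGeometry.SympBasic
open Cfsg.Agent.SporRec.TwoSp6.Sp (tr act conj_tr act_add exists_act exists_pair)
open Cfsg.Agent.SporRec.TwoSp6.Invol (Ind Orth exists_triple classify)

theorem dec_inj {m n : ℕ} (hm : m < 512) (hn : n < 512) (h : dec m = dec n) : m = n := by
  apply Nat.eq_of_testBit_eq
  intro i
  have h2 : ∀ a b : Bool, (if a = true then (1 : ZMod 2) else 0) = (if b = true then 1 else 0) →
      a = b := by decide
  rcases Nat.lt_trichotomy i 8 with h' | rfl | h'
  · exact h2 _ _ (congrFun (congrArg QM.v h) ⟨i, h'⟩)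
  · exact h2 _ _ (congrArg QM.a h)
  · have e : (512 : ℕ) ≤ 2 ^ i := by
      calc (512 : ℕ) = 2 ^ 9 := by norm_num
        _ ≤ 2 ^ i := Nat.pow_le_pow_right (by norm_num) h'
    rw [Nat.testBit_lt_two_pow (lt_of_lt_of_le hm e), Nat.testBit_lt_two_pow (lt_of_lt_of_le hn e)]

variable {C : Type*} [Group C] {t : C} {ev : QM →* C} {psi : C →* Sp6} {D : ℕ → C} {eps : Bool}

/-- the family from the relations -/
theorem fam (R : Rels eps t ev D) (P : Pre t ev psi) (hpsi : ∀ j, j < 7 → psi (D j) = transv (uv j) 1) :
    Fam P D := ⟨hpsi, R.conj⟩

theorem tw_cases (eps : Bool) (t : C) : tw eps t = 1 ∨ tw eps t = t := by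
  cases eps
  · exact Or.inl rfl
  · exact Or.inr rfl

theorem wd_prod (D : ℕ → C) (w : List ℕ) : wd D w = (w.map D).prod := by
  induction w with
  | nil => rfl
  | cons j w ih => rw [wd, ih, List.map_cons, List.prod_cons]

/-- representative elements -/
def rp (ev : QM →* C) (D : ℕ → C) (k m : ℕ) : C := ev (dec m) * wd D (rw' k)

theorem rw_lt (k : ℕ) : ∀ j ∈ rw' k, j < 7 := by
  rcases k with _ | _ | _ | k
  · decide
  · decide
  · decide
  · show ∀ j ∈ [0, 5, 6], j < 7
    decide

/-- the square of the word of the type -/
theorem word_sq (R : Rels eps t ev D) (P : Pre t ev psi) (k : ℕ) (hk : k < 4) :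
    wd D (rw' k) * wd D (rw' k) = if k < 2 then tw eps t else 1 := by
  have hc := tw_cases eps t
  have hpair : ∀ k, k < 4 → (rw' k).Pairwise (fun i j => i ≠ j ∧ adj i j = false) := by decide
  have hp : ((rw' k).map D).Pairwise (Anti (tw eps t)) := by
    rw [List.pairwise_map]
    refine List.Pairwise.imp_of_mem (R := fun i j => i ≠ j ∧ adj i j = false) ?_ (hpair k hk)
    intro a b ha hb hab
    exact R.comm a b (rw_lt k a ha) (rw_lt k b hb) hab.1 hab.2
  have h := P.prod_sq hc hc ((rw' k).map D) hp (by
    intro y hy
    rw [List.mem_map] at hy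
    obtain ⟨j, hj, rfl⟩ := hy
    exact R.sq j (rw_lt k j hj))
  rw [wd_prod, h, List.length_map]
  have hs := P.sq_of hc
  have h3 : tw eps t ^ 3 = tw eps t := by rw [pow_succ, pow_two, hs, one_mul]
  interval_cases k
  · show tw eps t ^ (1 : ℕ).choose 2 * tw eps t ^ 1 = _
    rw [if_pos (by norm_num), show (1 : ℕ).choose 2 = 0 from rfl, pow_zero, one_mul, pow_one]
  · show tw eps t ^ (2 : ℕ).choose 2 * tw eps t ^ 2 = _
    rw [if_pos (by norm_num), show (2 : ℕ).choose 2 = 1 from rfl, pow_one, pow_two, hs, mul_one]
  · show tw eps t ^ (3 : ℕ).choose 2 * tw eps t ^ 3 = _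
    rw [if_neg (by norm_num), show (3 : ℕ).choose 2 = 3 from rfl, h3, hs]
  · show tw eps t ^ (3 : ℕ).choose 2 * tw eps t ^ 3 = _
    rw [if_neg (by norm_num), show (3 : ℕ).choose 2 = 3 from rfl, h3, hs]

/-- squares of the elements over a type -/
theorem rp_sq (R : Rels eps t ev D) (P : Pre t ev psi)
    (hpsi : ∀ j, j < 7 → psi (D j) = transv (uv j) 1) (k m : ℕ) (hk : k < 4) :
    rp ev D k m * rp ev D k m = ev (dec (qmul m (autw (rw' k) m))) *
      if k < 2 then tw eps t else 1 := by
  have F := fam R P hpsi
  have h1 := conj_wd ev D F.conj (fun j _ => P.conj_z (D j)) (rw' k) (rw_lt k) m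
  rw [← word_sq R P k hk, dec_qmul, map_mul, ← h1, rp]
  group

theorem rp_cases (R : Rels eps t ev D) (P : Pre t ev psi)
    (hpsi : ∀ j, j < 7 → psi (D j) = transv (uv j) 1) (k m : ℕ) (hk : k < 4) (hm : m < 256)
    (h : rp ev D k m * rp ev D k m = 1) :
    (k < 2 → eps = false) ∧ qmul m (autw (rw' k) m) = 0 := by
  rw [rp_sq R P hpsi k m hk] at h
  have hlt := inv_lt k hk m hm
  by_cases h2 : k < 2
  · rw [if_pos h2] at h
    cases eps
    · refine ⟨fun _ => rfl, ?_⟩
      have h3 : ev (dec (qmul m (autw (rw' k) m))) = 1 := by
        have : tw false t = 1 := rfl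
        rwa [this, mul_one] at h
      exact dec_inj hlt (by norm_num) ((P.ev_inj (h3.trans (map_one ev).symm)).trans dec_zero.symm)
    · exfalso
      have h3 : ev (dec (qmul m (autw (rw' k) m))) = ev (dec 256) := by
        have : tw true t = t := rfl
        rw [this] at h
        rw [P.ev_z, eq_inv_of_mul_eq_one_left h, P.t_inv]
      exact inv_ne k h2 m hm (dec_inj hlt (by norm_num) (P.ev_inj h3))
  · refine ⟨fun h' => absurd h' h2, ?_⟩
    rw [if_neg h2, mul_one] at h
    exact dec_inj hlt (by norm_num) ((P.ev_inj (h.trans (map_one ev).symm)).trans dec_zero.symm)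

theorem eqv_dec_mul (P : Pre t ev psi) (m : ℕ) : Eqv t (ev (dec (qmul m 256))) (ev (dec m)) := by
  right
  rw [dec_qmul, map_mul, P.ev_z]

theorem eqv_inv_dec (P : Pre t ev psi) (m : ℕ) (hm : m < 512) : Eqv t (ev (dec m))⁻¹ (ev (dec m)) := by
  rcases sq_code m hm with h | h
  · left
    apply inv_eq_of_mul_eq_one_left
    rw [← map_mul, ← dec_qmul, h, dec_zero, map_one]
  · right
    apply inv_eq_of_mul_eq_one_left
    rw [mul_assoc, ← P.cent, ← mul_assoc, ← map_mul, ← dec_qmul, h, P.ev_z, P.t_sq]

/-- conjugation of an element over a type -/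
theorem conj_rp (R : Rels eps t ev D) (P : Pre t ev psi)
    (hpsi : ∀ j, j < 7 → psi (D j) = transv (uv j) 1) (k m y : ℕ) (w : List ℕ)
    (hw : ∀ j ∈ w, j < 7) (hy : y < 512) (hc : sameB (w ++ rw' k) (rw' k ++ w) = true) :
    Eqv t (ev (dec y) * wd D w * rp ev D k m * (ev (dec y) * wd D w)⁻¹) (rp ev D k (cj k m y w)) := by
  have F := fam R P hpsi
  have h1 := conj_wd ev D F.conj (fun j _ => P.conj_z (D j)) w hw m
  have h2 := conj_wd ev D F.conj (fun j _ => P.conj_z (D j)) (rw' k) (rw_lt k) y
  have h3 : Eqv t (wd D w * wd D (rw' k) * (wd D w)⁻¹) (wd D (rw' k)) := by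
    have h4 := F.same _ _ (by
      intro j hj
      rcases List.mem_append.1 hj with hj | hj
      · exact hw j hj
      · exact rw_lt k j hj) (by
      intro j hj
      rcases List.mem_append.1 hj with hj | hj
      · exact rw_lt k j hj
      · exact hw j hj) hc
    rw [wd_append, wd_append] at h4
    have h5 := Eqv.mul' P h4 (eqv_refl (t := t) (wd D w)⁻¹)
    rwa [mul_inv_cancel_right] at h5
  have e1 : ev (dec y) * wd D w * rp ev D k m * (ev (dec y) * wd D w)⁻¹ =
      ev (dec y) * ev (dec (autw w m)) * (wd D w * wd D (rw' k) * (wd D w)⁻¹) * (ev (dec y))⁻¹ := by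
    rw [← h1, rp]; group
  have e2 : rp ev D k (cj k m y w) =
      ev (dec y) * ev (dec (autw w m)) * (wd D (rw' k)) * ev (dec y) := by
    rw [rp, cj, dec_qmul, dec_qmul, map_mul, map_mul, ← h2]; group
  rw [e1, e2]
  exact Eqv.mul' P (Eqv.mul' P (eqv_refl _) h3) (eqv_inv_dec P y hy)

theorem invT_y : ∀ k, k < 4 → ∀ p ∈ invT k, p.2.1 < 512 := by decide +kernel

theorem eqv_rp (P : Pre t ev psi) (k m : ℕ) : Eqv t (rp ev D k (qmul m 256)) (rp ev D k m) :=
  Eqv.mul' P (eqv_dec_mul P m) (eqv_refl _)

/-- reduction to representatives over a fixed involution -/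
theorem reduce_rp (R : Rels eps t ev D) (P : Pre t ev psi)
    (hpsi : ∀ j, j < 7 → psi (D j) = transv (uv j) 1) (k m : ℕ) (hk : k < 4) (hm : m < 256)
    (h : rp ev D k m * rp ev D k m = 1) :
    (k < 2 → eps = false) ∧ ∃ g : C, Eqv t (g * rp ev D k m * g⁻¹) (rp ev D k 0) ∨
      (k = 2 ∧ Eqv t (g * rp ev D k m * g⁻¹) (rp ev D k 1)) := by
  obtain ⟨h1, h2⟩ := rp_cases R P hpsi k m hk hm h
  refine ⟨h1, ?_⟩
  obtain ⟨p, hp, rfl⟩ := inv_cov k hk m hm h2
  have h3 := conj_rp R P hpsi k p.1 p.2.1 p.2.2 (invT_lt k hk p hp) (invT_y k hk p hp)
    (invT_comm k hk p hp)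
  refine ⟨ev (dec p.2.1) * wd D p.2.2, ?_⟩
  have e256 : (256 : ℕ) = qmul 0 256 := by decide
  have e257 : (257 : ℕ) = qmul 1 256 := by decide
  rcases invT_ok k hk p hp with h4 | h4 | ⟨h4, h5 | h5⟩
  · left
    rw [h4] at h3
    exact h3
  · left
    rw [h4, e256] at h3
    exact Eqv.trans' P h3 (eqv_rp P k 0)
  · right
    rw [h5] at h3
    exact ⟨h4, h3⟩
  · right
    rw [h5, e257] at h3
    exact ⟨h4, Eqv.trans' P h3 (eqv_rp P k 1)⟩

/-- every involution of `Sp6(2)` is conjugate to one of the four words -/
theorem classify_words {r : Sp6} (hr : r * r = 1) (h1 : r ≠ 1) (hpsi : ∀ j, j < 7 → psi (D j) = transv (uv j) 1) :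
    ∃ k, k < 4 ∧ ∃ g : Sp6, g * r * g⁻¹ = psi (wd D (rw' k)) := by
  have htr : ∀ j, j < 7 → psi (D j) = tr (uv j) := hpsi
  rcases classify hr h1 with ⟨u, hu, rfl⟩ | ⟨u, w, hu, hw, hne, ho, rfl⟩ | ⟨u, w, hu, hw, hne, ho, rfl⟩ |
    ⟨u, w, s, hi, ho, rfl⟩
  · obtain ⟨g, hg⟩ := exists_act hu (show uv 0 ≠ 0 by decide +kernel)
    refine ⟨0, by norm_num, g, ?_⟩
    rw [conj_tr, hg]
    show _ = psi (D 0 * 1)
    rw [mul_one, htr 0 (by norm_num)]
  · obtain ⟨g, hg, hg'⟩ := exists_pair hu hw hne ho (show uv 0 ≠ 0 by decide +kernel)
      (show uv 3 ≠ 0 by decide +kernel) (show uv 3 ≠ uv 0 by decide +kernel) (by decide +kernel)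
    refine ⟨1, by norm_num, g, ?_⟩
    have e : g * (tr u * tr w) * g⁻¹ = (g * tr u * g⁻¹) * (g * tr w * g⁻¹) := by group
    rw [e, conj_tr, conj_tr, hg, hg']
    show _ = psi (D 0 * (D 3 * 1))
    rw [mul_one, map_mul, htr 0 (by norm_num), htr 3 (by norm_num)]
  · obtain ⟨g, hg, hg'⟩ := exists_pair hu hw hne ho (show uv 3 ≠ 0 by decide +kernel)
      (show uv 5 ≠ 0 by decide +kernel) (show uv 5 ≠ uv 3 by decide +kernel) (by decide +kernel)
    refine ⟨2, by norm_num, g, ?_⟩
    have e : g * (tr u * tr w * tr (u + w)) * g⁻¹ =
      (g * tr u * g⁻¹) * (g * tr w * g⁻¹) * (g * tr (u + w) * g⁻¹) := by group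
    have e2 : uv 3 + uv 5 = uv 6 := by decide +kernel
    rw [e, conj_tr, conj_tr, conj_tr, act_add, hg, hg', e2]
    show _ = psi (D 3 * (D 5 * (D 6 * 1)))
    rw [mul_one, map_mul, map_mul, htr 3 (by norm_num), htr 5 (by norm_num), htr 6 (by norm_num),
      mul_assoc]
  · obtain ⟨g, hg, hg', hg''⟩ := exists_triple hi ho (show Ind (uv 0) (uv 5) (uv 6) by decide +kernel)
      (show Orth (uv 0) (uv 5) (uv 6) from ⟨by decide +kernel, by decide +kernel, by decide +kernel⟩)
    refine ⟨3, by norm_num, g, ?_⟩
    have e : g * (tr u * tr w * tr s) * g⁻¹ =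
      (g * tr u * g⁻¹) * (g * tr w * g⁻¹) * (g * tr s * g⁻¹) := by group
    rw [e, conj_tr, conj_tr, conj_tr, hg, hg', hg'']
    show _ = psi (D 0 * (D 5 * (D 6 * 1)))
    rw [mul_one, map_mul, map_mul, htr 0 (by norm_num), htr 5 (by norm_num), htr 6 (by norm_num),
      mul_assoc]

/-- representatives of the involutions outside `Q`, modulo `t` -/
theorem inv_rp (R : Rels eps t ev D) (P : Pre t ev psi)
    (hpsi : ∀ j, j < 7 → psi (D j) = transv (uv j) 1) {x : C} (hx : x * x = 1)
    (hxQ : x ∉ ev.range) :
    ∃ k, k < 4 ∧ (k < 2 → eps = false) ∧ ∃ g : C, Eqv t (g * x * g⁻¹) (rp ev D k 0) ∨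
      (k = 2 ∧ Eqv t (g * x * g⁻¹) (rp ev D k 1)) := by
  have h1 : psi x * psi x = 1 := by rw [← map_mul, hx, map_one]
  have h2 : psi x ≠ 1 := fun h => hxQ ((P.psi_ker x).1 h)
  obtain ⟨k, hk, g0, hg0⟩ := classify_words (D := D) (psi := psi) h1 h2 hpsi
  obtain ⟨g, rfl⟩ := P.psi_surj g0
  -- g x g⁻¹ = ev q * word
  have h3 : psi (g * x * g⁻¹ * (wd D (rw' k))⁻¹) = 1 := by
    rw [map_mul, map_mul, map_mul, map_inv, map_inv, hg0, mul_inv_cancel]
  rw [P.psi_ker] at h3
  obtain ⟨q, hq⟩ := h3
  obtain ⟨m, hm, rfl⟩ := dec_surj q
  have h4 : g * x * g⁻¹ = rp ev D k m := by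
    rw [rp, hq, inv_mul_cancel_right]
  obtain ⟨h5, h6⟩ := split_code m hm
  have h7 : Eqv t (g * x * g⁻¹) (rp ev D k (m &&& 255)) := by
    rw [h4]
    rcases h6 with h6 | h6
    · rw [← h6]; exact eqv_refl _
    · conv_lhs => rw [h6]
      exact eqv_rp P k _
  have h8 : rp ev D k (m &&& 255) * rp ev D k (m &&& 255) = 1 := by
    rw [← Eqv.sq P h7]
    calc g * x * g⁻¹ * (g * x * g⁻¹) = g * (x * x) * g⁻¹ := by group
      _ = 1 := by rw [hx]; group
  obtain ⟨h9, y, h10⟩ := reduce_rp R P hpsi k _ hk h5 h8
  refine ⟨k, hk, h9, y * g, ?_⟩
  have e : y * g * x * (y * g)⁻¹ = y * (g * x * g⁻¹) * y⁻¹ := by group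
  rw [e]
  have h11 : Eqv t (y * (g * x * g⁻¹) * y⁻¹) (y * rp ev D k (m &&& 255) * y⁻¹) :=
    Eqv.mul' P (Eqv.mul' P (eqv_refl _) h7) (eqv_refl _)
  rcases h10 with h10 | ⟨h10, h12⟩
  · left; exact Eqv.trans' P h11 h10
  · right; exact ⟨h10, Eqv.trans' P h11 h12⟩

/-! ### explicit forms -/

theorem rp_zero (k : ℕ) : rp ev D k 0 = wd D (rw' k) := by
  rw [rp, dec_zero, map_one, one_mul]

/-- the line element -/
def lin (D : ℕ → C) : C := D 3 * D 5 * D 6

/-- the element of type `b3` -/
def bth (D : ℕ → C) : C := D 0 * D 5 * D 6

theorem wd_two (D : ℕ → C) : wd D (rw' 2) = lin D := by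
  show D 3 * (D 5 * (D 6 * 1)) = D 3 * D 5 * D 6
  rw [mul_one, mul_assoc]

theorem wd_three (D : ℕ → C) : wd D (rw' 3) = bth D := by
  show D 0 * (D 5 * (D 6 * 1)) = D 0 * D 5 * D 6
  rw [mul_one, mul_assoc]

/-- every involution outside `Q` is conjugate, modulo `t`, to one of five elements -/
theorem inv_cases (R : Rels eps t ev D) (P : Pre t ev psi)
    (hpsi : ∀ j, j < 7 → psi (D j) = transv (uv j) 1) {x : C} (hx : x * x = 1)
    (hxQ : x ∉ ev.range) :
    (eps = false ∧ ∃ g : C, Eqv t (g * x * g⁻¹) (D 0)) ∨
    (eps = false ∧ ∃ g : C, Eqv t (g * x * g⁻¹) (D 0 * D 3)) ∨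
    (∃ g : C, Eqv t (g * x * g⁻¹) (lin D)) ∨
    (∃ g : C, Eqv t (g * x * g⁻¹) (ev (dec 1) * lin D)) ∨
    (∃ g : C, Eqv t (g * x * g⁻¹) (bth D)) := by
  obtain ⟨k, hk, h1, g, h2⟩ := inv_rp R P hpsi hx hxQ
  rcases h2 with h2 | ⟨rfl, h2⟩
  · rw [rp_zero] at h2
    interval_cases k
    · left
      refine ⟨h1 (by norm_num), g, ?_⟩
      have e : wd D (rw' 0) = D 0 := mul_one _
      rwa [e] at h2
    · right; left
      refine ⟨h1 (by norm_num), g, ?_⟩
      have e : wd D (rw' 1) = D 0 * D 3 := by
        show D 0 * (D 3 * 1) = _
        rw [mul_one]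
      rwa [e] at h2
    · right; right; left
      rw [wd_two] at h2
      exact ⟨g, h2⟩
    · right; right; right; right
      rw [wd_three] at h2
      exact ⟨g, h2⟩
  · right; right; right; left
    rw [rp, wd_two] at h2
    exact ⟨g, h2⟩

/-- `alpha3 ~ alpha3 * t` -/
theorem alpha3_conj (R : Rels eps t ev D) (P : Pre t ev psi)
    (hpsi : ∀ j, j < 7 → psi (D j) = transv (uv j) 1) :
    ev (dec 128) * (ev (dec 1) * lin D) * (ev (dec 128))⁻¹ = ev (dec 1) * lin D * t := by
  have F := fam R P hpsi
  have h1 := conj_wd ev D F.conj (fun j _ => P.conj_z (D j)) (rw' 2) (rw_lt 2) 128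
  rw [wd_two] at h1
  have h2 : (ev (dec 128))⁻¹ = ev (dec 128) := by
    apply inv_eq_of_mul_eq_one_left
    rw [← map_mul, ← dec_qmul, a3_conj.2, dec_zero, map_one]
  calc ev (dec 128) * (ev (dec 1) * lin D) * (ev (dec 128))⁻¹
      = ev (dec 128) * ev (dec 1) * (lin D * ev (dec 128) * (lin D)⁻¹) * lin D := by rw [h2]; group
    _ = ev (dec (qmul (qmul 128 1) (autw (rw' 2) 128))) * lin D := by
        rw [h1, dec_qmul, dec_qmul, map_mul, map_mul]
    _ = ev (dec 1) * (t * lin D) := by
        rw [a3_conj.1, dec_qmul, map_mul, P.ev_z, mul_assoc]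
    _ = ev (dec 1) * lin D * t := by rw [← P.cent, mul_assoc]

/-- `delta ~ delta * t` -/
theorem delta_conj (R : Rels eps t ev D) (P : Pre t ev psi)
    (hpsi : ∀ j, j < 7 → psi (D j) = transv (uv j) 1) :
    ev (dec 75) * bth D * (ev (dec 75))⁻¹ = bth D * t := by
  have F := fam R P hpsi
  have h1 := conj_wd ev D F.conj (fun j _ => P.conj_z (D j)) (rw' 3) (rw_lt 3)
    (qmul 75 (qmul 75 75))
  rw [wd_three] at h1
  have h2 : (ev (dec 75))⁻¹ = ev (dec (qmul 75 (qmul 75 75))) := by
    apply inv_eq_of_mul_eq_one_left
    rw [dec_qmul, dec_qmul, ← map_mul]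
    have h4 : dec 75 * (dec 75 * dec 75) * dec 75 = 1 := by
      rw [← dec_qmul, ← dec_qmul, ← dec_qmul]
      have : qmul (qmul 75 (qmul 75 75)) 75 = 0 := by decide +kernel
      rw [this, dec_zero]
    rw [h4, map_one]
  calc ev (dec 75) * bth D * (ev (dec 75))⁻¹
      = ev (dec 75) * (bth D * ev (dec (qmul 75 (qmul 75 75))) * (bth D)⁻¹) * bth D := by
        rw [h2]; group
    _ = ev (dec 75 * dec (autw (rw' 3) (qmul 75 (qmul 75 75)))) * bth D := by
        rw [h1, map_mul]
    _ = t * bth D := by rw [← dec_qmul, b3_conj, P.ev_z]
    _ = bth D * t := (P.cent _).symm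

/-- in the twist the two line classes coincide -/
theorem lin_conj (R : Rels true t ev D) (P : Pre t ev psi) :
    D 0 * lin D * (D 0)⁻¹ = lin D * t := by
  have h : ∀ j, j < 7 → 0 ≠ j → adj 0 j = false → D 0 * D j * (D 0)⁻¹ = D j * t := by
    intro j hj hne ha
    have h1 : D 0 * D j = t * (D j * D 0) := R.comm 0 j (by norm_num) hj hne ha
    rw [h1, P.cent (D j)]; group
  have e : D 0 * lin D * (D 0)⁻¹ = (D 0 * D 3 * (D 0)⁻¹) * (D 0 * D 5 * (D 0)⁻¹) *
      (D 0 * D 6 * (D 0)⁻¹) := by rw [lin]; group
  rw [e, h 3 (by norm_num) (by norm_num) (by decide), h 5 (by norm_num) (by norm_num) (by decide),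
    h 6 (by norm_num) (by norm_num) (by decide)]
  calc D 3 * t * (D 5 * t) * (D 6 * t) = D 3 * (t * D 5) * (t * D 6) * t := by group
    _ = D 3 * (D 5 * t) * (D 6 * t) * t := by rw [← P.cent, ← P.cent]
    _ = D 3 * D 5 * (t * D 6) * (t * t) := by group
    _ = D 3 * D 5 * D 6 * t := by rw [← P.cent, P.t_sq]; group

/-- transfer of `r ~ r t` -/
theorem conj_t_of (P : Pre t ev psi) {x r h g : C} (hr : h * r * h⁻¹ = r * t)
    (hx : Eqv t (g * x * g⁻¹) r) : ∃ k : C, k * x * k⁻¹ = x * t := by
  have h1 : h * (g * x * g⁻¹) * h⁻¹ = g * x * g⁻¹ * t := by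
    rcases hx with hx | hx
    · rw [hx, hr]
    · rw [hx]
      calc h * (r * t) * h⁻¹ = h * r * (t * h⁻¹) := by group
        _ = (h * r * h⁻¹) * t := by rw [← P.cent]; group
        _ = r * t * t := by rw [hr]
  refine ⟨g⁻¹ * h * g, ?_⟩
  calc g⁻¹ * h * g * x * (g⁻¹ * h * g)⁻¹ = g⁻¹ * (h * (g * x * g⁻¹) * h⁻¹) * g := by group
    _ = x * (g⁻¹ * (t * g)) := by rw [h1]; group
    _ = x * t := by rw [← P.cent]; group

/-- in the twist every involution `x` outside `Q` is conjugate to `x t` -/
theorem twist_conj (R : Rels true t ev D) (P : Pre t ev psi)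
    (hpsi : ∀ j, j < 7 → psi (D j) = transv (uv j) 1) {x : C} (hx : x * x = 1)
    (hxQ : x ∉ ev.range) : ∃ k : C, k * x * k⁻¹ = x * t := by
  rcases inv_cases R P hpsi hx hxQ with h | h | ⟨g, h⟩ | ⟨g, h⟩ | ⟨g, h⟩
  · exact absurd h.1 (by decide)
  · exact absurd h.1 (by decide)
  · exact conj_t_of P (lin_conj R P) h
  · exact conj_t_of P (alpha3_conj R P hpsi) h
  · exact conj_t_of P (delta_conj R P hpsi) h

end Cfsg.Agent.Co2Type.InvClass
end

-- part: Co2Type/InvClass2
section
/-!
# Involutions over a given type (R03, helper902)
-/

set_option autoImplicit false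

namespace Cfsg.Agent.Co2Type.InvClass2

open Cfsg Cfsg.Agent.Co2Type.Setup Cfsg.Agent.Co2Type.Spin
open Cfsg.Agent.Co2Type.QModel Cfsg.Agent.Co2Type.Act Cfsg.Agent.Co2Type.Coord
open Cfsg.Agent.Co2Type.Rels Cfsg.Agent.Co2Type.InvData Cfsg.Agent.Co2Type.Abs
open Cfsg.Agent.Co2Type.Abs.Pre Cfsg.Agent.Co2Type.ExistsRels Cfsg.Agent.Co2Type.InvClass
open Cfsg.Agent.ClassicalGeometry.SympBasic
open Cfsg.Agent.SporRec.TwoSp6.Sp (tr act conj_tr act_add exists_act exists_pair om)
open Cfsg.Agent.SporRec.TwoSp6.Invol (Ind Orth exists_triple classify)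

variable {C : Type*} [Group C] {t : C} {ev : QM →* C} {psi : C →* Sp6} {D : ℕ → C} {eps : Bool}

/-- an involution whose image is conjugate to the `k`-th word -/
theorem over_rp (R : Rels eps t ev D) (P : Pre t ev psi)
    (hpsi : ∀ j, j < 7 → psi (D j) = transv (uv j) 1) {x : C} (hx : x * x = 1) {k : ℕ} (hk : k < 4)
    {g0 : Sp6} (hg0 : g0 * psi x * g0⁻¹ = psi (wd D (rw' k))) :
    (k < 2 → eps = false) ∧ ∃ g : C, Eqv t (g * x * g⁻¹) (rp ev D k 0) ∨
      (k = 2 ∧ Eqv t (g * x * g⁻¹) (rp ev D k 1)) := by
  obtain ⟨g, rfl⟩ := P.psi_surj g0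
  have h3 : psi (g * x * g⁻¹ * (wd D (rw' k))⁻¹) = 1 := by
    rw [map_mul, map_mul, map_mul, map_inv, map_inv, hg0, mul_inv_cancel]
  rw [P.psi_ker] at h3
  obtain ⟨q, hq⟩ := h3
  obtain ⟨m, hm, rfl⟩ := dec_surj q
  have h4 : g * x * g⁻¹ = rp ev D k m := by
    rw [rp, hq, inv_mul_cancel_right]
  obtain ⟨h5, h6⟩ := split_code m hm
  have h7 : Eqv t (g * x * g⁻¹) (rp ev D k (m &&& 255)) := by
    rw [h4]
    rcases h6 with h6 | h6
    · rw [← h6]; exact eqv_refl _
    · conv_lhs => rw [h6]
      exact eqv_rp P k _
  have h8 : rp ev D k (m &&& 255) * rp ev D k (m &&& 255) = 1 := by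
    rw [← Eqv.sq P h7]
    calc g * x * g⁻¹ * (g * x * g⁻¹) = g * (x * x) * g⁻¹ := by group
      _ = 1 := by rw [hx]; group
  obtain ⟨h9, y, h10⟩ := reduce_rp R P hpsi k _ hk h5 h8
  refine ⟨h9, y * g, ?_⟩
  have e : y * g * x * (y * g)⁻¹ = y * (g * x * g⁻¹) * y⁻¹ := by group
  rw [e]
  have h11 : Eqv t (y * (g * x * g⁻¹) * y⁻¹) (y * rp ev D k (m &&& 255) * y⁻¹) :=
    Eqv.mul' P (Eqv.mul' P (eqv_refl _) h7) (eqv_refl _)
  rcases h10 with h10 | ⟨h10, h12⟩
  · left; exact Eqv.trans' P h11 h10
  · right; exact ⟨h10, Eqv.trans' P h11 h12⟩

/-- exact conjugacy if the representative is conjugate to itself times `t` -/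
theorem conj_exact (P : Pre t ev psi) {x r h g : C} (hr : h * r * h⁻¹ = r * t)
    (hx : Eqv t (g * x * g⁻¹) r) : ∃ k : C, k * x * k⁻¹ = r := by
  rcases hx with hx | hx
  · exact ⟨g, hx⟩
  · refine ⟨h * g, ?_⟩
    calc h * g * x * (h * g)⁻¹ = h * (g * x * g⁻¹) * h⁻¹ := by group
      _ = h * r * (t * h⁻¹) := by rw [hx]; group
      _ = (h * r * h⁻¹) * t := by rw [← P.cent]; group
      _ = r := by rw [hr, mul_assoc, P.t_sq, mul_one]

/-- one class of involutions over `b3` -/
theorem delta_unique (R : Rels eps t ev D) (P : Pre t ev psi)
    (hpsi : ∀ j, j < 7 → psi (D j) = transv (uv j) 1) {x : C} (hx : x * x = 1) {u w s : U}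
    (hi : Ind u w s) (ho : Orth u w s) (hxu : psi x = tr u * tr w * tr s) :
    ∃ g : C, g * x * g⁻¹ = bth D := by
  have htr : ∀ j, j < 7 → psi (D j) = tr (uv j) := hpsi
  obtain ⟨g, hg, hg', hg''⟩ := exists_triple hi ho (show Ind (uv 0) (uv 5) (uv 6) by decide +kernel)
    (show Orth (uv 0) (uv 5) (uv 6) from ⟨by decide +kernel, by decide +kernel, by decide +kernel⟩)
  have hg0 : g * psi x * g⁻¹ = psi (wd D (rw' 3)) := by
    have e : g * (tr u * tr w * tr s) * g⁻¹ =
      (g * tr u * g⁻¹) * (g * tr w * g⁻¹) * (g * tr s * g⁻¹) := by group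
    rw [hxu, e, conj_tr, conj_tr, conj_tr, hg, hg', hg'', wd_three, bth, map_mul, map_mul,
      htr 0 (by norm_num), htr 5 (by norm_num), htr 6 (by norm_num)]
  obtain ⟨-, y, h | ⟨h, -⟩⟩ := over_rp R P hpsi hx (by norm_num) hg0
  · rw [rp_zero, wd_three] at h
    exact conj_exact P (delta_conj R P hpsi) h
  · exact absurd h (by norm_num)

/-- involutions over a line: `alpha` or `alpha3` -/
theorem line_cases (R : Rels eps t ev D) (P : Pre t ev psi)
    (hpsi : ∀ j, j < 7 → psi (D j) = transv (uv j) 1) {x : C} (hx : x * x = 1) {u w : U}
    (hu : u ≠ 0) (hw : w ≠ 0) (hne : w ≠ u) (ho : om u w = 0)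
    (hxu : psi x = tr u * tr w * tr (u + w)) :
    (∃ g : C, g * x * g⁻¹ = lin D) ∨ (∃ g : C, g * x * g⁻¹ = lin D * t) ∨
    (∃ g : C, g * x * g⁻¹ = ev (dec 1) * lin D) := by
  have htr : ∀ j, j < 7 → psi (D j) = tr (uv j) := hpsi
  obtain ⟨g, hg, hg'⟩ := exists_pair hu hw hne ho (show uv 3 ≠ 0 by decide +kernel)
      (show uv 5 ≠ 0 by decide +kernel) (show uv 5 ≠ uv 3 by decide +kernel) (by decide +kernel)
  have hg0 : g * psi x * g⁻¹ = psi (wd D (rw' 2)) := by
    have e : g * (tr u * tr w * tr (u + w)) * g⁻¹ =
      (g * tr u * g⁻¹) * (g * tr w * g⁻¹) * (g * tr (u + w) * g⁻¹) := by group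
    have e2 : uv 3 + uv 5 = uv 6 := by decide +kernel
    rw [hxu, e, conj_tr, conj_tr, conj_tr, act_add, hg, hg', e2, wd_two, lin, map_mul, map_mul,
      htr 3 (by norm_num), htr 5 (by norm_num), htr 6 (by norm_num)]
  obtain ⟨-, y, h | ⟨-, h⟩⟩ := over_rp R P hpsi hx (by norm_num) hg0
  · rw [rp_zero, wd_two] at h
    rcases h with h | h
    · exact Or.inl ⟨y, h⟩
    · exact Or.inr (Or.inl ⟨y, h⟩)
  · right; right
    rw [rp, wd_two] at h
    exact conj_exact P (alpha3_conj R P hpsi) h

/-- involutions over a transvection (only in the split extension) -/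
theorem transv_cases (R : Rels eps t ev D) (P : Pre t ev psi)
    (hpsi : ∀ j, j < 7 → psi (D j) = transv (uv j) 1) {x : C} (hx : x * x = 1) {u : U}
    (hu : u ≠ 0) (hxu : psi x = tr u) :
    eps = false ∧ ((∃ g : C, g * x * g⁻¹ = D 0) ∨ (∃ g : C, g * x * g⁻¹ = D 0 * t)) := by
  have htr : ∀ j, j < 7 → psi (D j) = tr (uv j) := hpsi
  obtain ⟨g, hg⟩ := exists_act hu (show uv 0 ≠ 0 by decide +kernel)
  have e0 : wd D (rw' 0) = D 0 := mul_one _
  have hg0 : g * psi x * g⁻¹ = psi (wd D (rw' 0)) := by
    rw [hxu, conj_tr, hg, e0, htr 0 (by norm_num)]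
  obtain ⟨h1, y, h | ⟨h, -⟩⟩ := over_rp R P hpsi hx (by norm_num) hg0
  · rw [rp_zero, e0] at h
    refine ⟨h1 (by norm_num), ?_⟩
    rcases h with h | h
    · exact Or.inl ⟨y, h⟩
    · exact Or.inr ⟨y, h⟩
  · exact absurd h (by norm_num)

/-- involutions over `c2` (only in the split extension) -/
theorem ctwo_cases (R : Rels eps t ev D) (P : Pre t ev psi)
    (hpsi : ∀ j, j < 7 → psi (D j) = transv (uv j) 1) {x : C} (hx : x * x = 1) {u w : U}
    (hu : u ≠ 0) (hw : w ≠ 0) (hne : w ≠ u) (ho : om u w = 0) (hxu : psi x = tr u * tr w) :
    eps = false ∧ ((∃ g : C, g * x * g⁻¹ = D 0 * D 3) ∨ (∃ g : C, g * x * g⁻¹ = D 0 * D 3 * t)) := by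
  have htr : ∀ j, j < 7 → psi (D j) = tr (uv j) := hpsi
  obtain ⟨g, hg, hg'⟩ := exists_pair hu hw hne ho (show uv 0 ≠ 0 by decide +kernel)
      (show uv 3 ≠ 0 by decide +kernel) (show uv 3 ≠ uv 0 by decide +kernel) (by decide +kernel)
  have e0 : wd D (rw' 1) = D 0 * D 3 := by
    show D 0 * (D 3 * 1) = _
    rw [mul_one]
  have hg0 : g * psi x * g⁻¹ = psi (wd D (rw' 1)) := by
    have e : g * (tr u * tr w) * g⁻¹ = (g * tr u * g⁻¹) * (g * tr w * g⁻¹) := by group
    rw [hxu, e, conj_tr, conj_tr, hg, hg', e0, map_mul, htr 0 (by norm_num), htr 3 (by norm_num)]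
  obtain ⟨h1, y, h | ⟨h, -⟩⟩ := over_rp R P hpsi hx (by norm_num) hg0
  · rw [rp_zero, e0] at h
    refine ⟨h1 (by norm_num), ?_⟩
    rcases h with h | h
    · exact Or.inl ⟨y, h⟩
    · exact Or.inr ⟨y, h⟩
  · exact absurd h (by norm_num)

/-- complete list of the involutions outside `Q` -/
theorem inv_list (R : Rels eps t ev D) (P : Pre t ev psi)
    (hpsi : ∀ j, j < 7 → psi (D j) = transv (uv j) 1) {x : C} (hx : x * x = 1)
    (hxQ : x ∉ ev.range) :
    (eps = false ∧ ((∃ g : C, g * x * g⁻¹ = D 0) ∨ (∃ g : C, g * x * g⁻¹ = D 0 * t) ∨
      (∃ g : C, g * x * g⁻¹ = D 0 * D 3) ∨ (∃ g : C, g * x * g⁻¹ = D 0 * D 3 * t))) ∨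
    (∃ g : C, g * x * g⁻¹ = lin D) ∨ (∃ g : C, g * x * g⁻¹ = lin D * t) ∨
    (∃ g : C, g * x * g⁻¹ = ev (dec 1) * lin D) ∨ (∃ g : C, g * x * g⁻¹ = bth D) := by
  have h1 : psi x * psi x = 1 := by rw [← map_mul, hx, map_one]
  have h2 : psi x ≠ 1 := fun h => hxQ ((P.psi_ker x).1 h)
  rcases classify h1 h2 with ⟨u, hu, h⟩ | ⟨u, w, hu, hw, hne, ho, h⟩ | ⟨u, w, hu, hw, hne, ho, h⟩ |
    ⟨u, w, s, hi, ho, h⟩
  · obtain ⟨h3, h4⟩ := transv_cases R P hpsi hx hu h
    left
    rcases h4 with h4 | h4
    · exact ⟨h3, Or.inl h4⟩
    · exact ⟨h3, Or.inr (Or.inl h4)⟩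
  · obtain ⟨h3, h4⟩ := ctwo_cases R P hpsi hx hu hw hne ho h
    left
    rcases h4 with h4 | h4
    · exact ⟨h3, Or.inr (Or.inr (Or.inl h4))⟩
    · exact ⟨h3, Or.inr (Or.inr (Or.inr h4))⟩
  · rcases line_cases R P hpsi hx hu hw hne ho h with h4 | h4 | h4
    · exact Or.inr (Or.inl h4)
    · exact Or.inr (Or.inr (Or.inl h4))
    · exact Or.inr (Or.inr (Or.inr (Or.inl h4)))
  · exact Or.inr (Or.inr (Or.inr (Or.inr (delta_unique R P hpsi hx hi ho h))))

end Cfsg.Agent.Co2Type.InvClass2
end

-- part: Co2Type/ZUse
section
/-!
# Use of the `Z*`-theorem (R03)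

A finite group without odd core and with trivial centre contains, for every involution `t`, a conjugate of `t`
different from `t` and commuting with `t`.
-/

set_option autoImplicit false

namespace Cfsg.Agent.Co2Type.ZUse

open Subgroup

theorem exists_fused {G : Type*} [Group G] [Finite G] (hO : Cfsg.oddCore G = ⊥) (hZ : Subgroup.center G = ⊥)
    {t : G} (ht : t * t = 1) (ht1 : t ≠ 1) : ∃ g : G, g * t * g⁻¹ ≠ t ∧ g * t * g⁻¹ * t = t * (g * t * g⁻¹) := by
  by_contra hcon
  push Not at hcon
  have hiso : ∀ g : G, t * (g * t * g⁻¹) = (g * t * g⁻¹) * t → g * t * g⁻¹ = t := by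
    intro g hg
    by_contra hne
    exact hcon g hne hg.symm
  have : Fact (Nat.Prime 2) := ⟨Nat.prime_two⟩
  have hz : orderOf t = 2 := orderOf_eq_prime (by rw [pow_two, ht]) ht1
  have hiso' : Cfsg.IsIsolatedInvolution t := ⟨hz, fun g hg => hiso g hg⟩
  have hp : IsPGroup 2 (zpowers t) := by
    rw [IsPGroup.iff_card]
    exact ⟨1, by rw [Nat.card_zpowers, hz, pow_one]⟩
  obtain ⟨P, hP⟩ := hp.exists_le_sylow
  have hzP : t ∈ P := hP (mem_zpowers t)
  obtain ⟨N, hN, hodd, hcomm⟩ := Cfsg.Agent.S0215.result P t hz hzP fun g hg =>
    Cfsg.Agent.S1180.eq_of_conj_mem_isPGroup t hiso' (P : Subgroup G) P.isPGroup' hzP g hg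
  have hNle : N ≤ Cfsg.pPrimeCore 2 G :=
    Cfsg.Agent.Lib.Cores.le_pPrimeCore hN (Nat.coprime_two_right.2 hodd)
  have hNb : N = ⊥ := le_bot_iff.1 (hNle.trans (le_of_eq hO))
  have htc : t ∈ Subgroup.center G := by
    rw [Subgroup.mem_center_iff]
    intro g
    have h1 := hcomm g
    rw [hNb, Subgroup.mem_bot] at h1
    have h2 : t * g = g * t := by
      calc t * g = (t * g * t⁻¹ * g⁻¹) * (g * t) := by group
        _ = g * t := by rw [h1, one_mul]
    exact h2.symm
  rw [hZ, Subgroup.mem_bot] at htc
  exact ht1 htc

end Cfsg.Agent.Co2Type.ZUse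
end

-- part: Co2Type/CodeU
section
/-!
# The operators `n_u` for all `u` on codes (R03, letter B, helper595)

`Sp.enc m` (`m < 64`, bits 0,1,2 = coordinates at `e_i`, bits 3,4,5 = coordinates at `f_i`) is the
code of a vector of the natural module (helper609's convention).
-/

set_option autoImplicit false
open Cfsg

namespace Cfsg.Agent.Co2Type.Code

open Cfsg.Agent.Co2Type.Setup Cfsg.Agent.Co2Type.Spin
open Cfsg.Agent.ClassicalGeometry.SympBasic

open Cfsg.Agent.SporRec.TwoSp6

/-- the quadratic form `∑ a_i b_i` on `U` -/
def Qf (u : U) : ZMod 2 :=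
  u (Sum.inl 0) * u (Sum.inr 0) + u (Sum.inl 1) * u (Sum.inr 1) + u (Sum.inl 2) * u (Sum.inr 2)

theorem sf_explicit (u w : U) : sf u w =
    u (Sum.inl 0) * w (Sum.inr 0) + u (Sum.inl 1) * w (Sum.inr 1) + u (Sum.inl 2) * w (Sum.inr 2) +
    (u (Sum.inr 0) * w (Sum.inl 0) + u (Sum.inr 1) * w (Sum.inl 1) +
      u (Sum.inr 2) * w (Sum.inl 2)) := by
  have e1 : w = w (Sum.inl 0) • e 0 + w (Sum.inl 1) • e 1 + w (Sum.inl 2) • e 2 +
      (w (Sum.inr 0) • f 0 + w (Sum.inr 1) • f 1 + w (Sum.inr 2) • f 2) := by
    funext i
    rcases i with i | i <;> fin_cases i <;> simp [e, f]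
  have e2 : ∀ i, sf u (e i) = u (Sum.inr i) := by
    intro i
    rw [sf_comm, sf, e, sympForm_single_inl_left, ZModModule.neg_eq_self]
  have e3 : ∀ i, sf u (f i) = u (Sum.inl i) := by
    intro i
    rw [sf_comm, sf, f, sympForm_single_inr_left]
  have hadd : ∀ x y : U, sf u (x + y) = sf u x + sf u y := fun x y => sympForm_add_right u x y
  have hsm : ∀ (a : ZMod 2) (x : U), sf u (a • x) = a * sf u x := by
    intro a x
    rcases zmod2_cases a with rfl | rfl
    · rw [zero_smul, zero_mul]
      have := hadd 0 0
      rw [add_zero] at this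
      exact (left_eq_add.1 this)
    · rw [one_smul, one_mul]
  conv_lhs => rw [e1]
  simp only [hadd, hsm, e2, e3]
  ring

theorem Qf_add (u w : U) : Qf (u + w) = Qf u + Qf w + sf u w := by
  rw [sf_explicit]
  simp only [Qf, Pi.add_apply]
  ring

theorem Qf_e (i : Fin 3) : Qf (e i) = 0 := by
  (revert i; simp [Qf, e, _root_.Fin.forall_fin_succ])

theorem Qf_f (i : Fin 3) : Qf (f i) = 0 := by
  (revert i; simp [Qf, f, _root_.Fin.forall_fin_succ])

theorem Qf_zero : Qf 0 = 0 := by simp [Qf]

section Ops

variable {V : Type*} [AddCommGroup V] [Module (ZMod 2) V] {rho : Sp6 →* (V ≃ₗ[ZMod 2] V)}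
  {B : Module.Basis (Fin 8) (ZMod 2) V}

/-- `u ↦ n_u + Q(u)` is additive -/
noncomputable def Aop (hs : SpinHyp rho) (hcard : Nat.card V = 2 ^ 8) :
    U →+ Module.End (ZMod 2) V where
  toFun u := n rho u + Qf u • (1 : Module.End (ZMod 2) V)
  map_zero' := by rw [n_zero, Qf_zero, zero_smul, add_zero]
  map_add' u w := by
    rw [n_add hs hcard, Qf_add, add_smul, add_smul]
    have h : sf u w • (1 : Module.End (ZMod 2) V) + sf u w • (1 : Module.End (ZMod 2) V) = 0 :=
      add_self' _
    calc n rho u + n rho w + sf u w • (1 : Module.End (ZMod 2) V) + (Qf u • (1 : Module.End (ZMod 2) V) +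
          Qf w • (1 : Module.End (ZMod 2) V) + sf u w • (1 : Module.End (ZMod 2) V))
        = n rho u + Qf u • (1 : Module.End (ZMod 2) V) + (n rho w + Qf w • (1 : Module.End (ZMod 2) V)) +
          (sf u w • (1 : Module.End (ZMod 2) V) + sf u w • (1 : Module.End (ZMod 2) V)) := by abel
      _ = _ := by rw [h, add_zero]

theorem Aop_apply (hs : SpinHyp rho) (hcard : Nat.card V = 2 ^ 8) (u : U) :
    Aop hs hcard u = n rho u + Qf u • (1 : Module.End (ZMod 2) V) := rfl

theorem Aop_smul (hs : SpinHyp rho) (hcard : Nat.card V = 2 ^ 8) (a : ZMod 2) (u : U) :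
    Aop hs hcard (a • u) = a • Aop hs hcard u := by
  rcases zmod2_cases a with rfl | rfl
  · rw [zero_smul, zero_smul, map_zero]
  · rw [one_smul, one_smul]

theorem enc_eq (m : ℕ) : (Sp.enc m : U) = bz (m.testBit 0) • e 0 + bz (m.testBit 1) • e 1 +
    bz (m.testBit 2) • e 2 + (bz (m.testBit 3) • f 0 + bz (m.testBit 4) • f 1 +
      bz (m.testBit 5) • f 2) := by
  have hb : ∀ k, Sp.bitf m k = bz (m.testBit k) := fun _ => rfl
  funext i
  rcases i with i | i <;> (revert i; simp only [Sp.enc, hb, e, f, Pi.add_apply, Pi.smul_apply, Pi.single_apply, _root_.Fin.forall_fin_succ, _root_.Sum.elim_inl, Fin.isValue, _root_.Sum.inl.injEq, _root_.smul_eq_mul, _root_.mul_ite, _root_.mul_one, _root_.MulZeroClass.mul_zero, _root_.ne_eq, reduceCtorEq, _root_.not_false_eq_true, _root_.Pi.single_eq_of_ne, _root_.add_zero, _root_.Fin.coe_ofNat_eq_mod, _root_.Nat.zero_mod, ↓reduceIte, _root_.zero_ne_one, Fin.reduceEq, _root_.Fin.val_succ, _root_.Fin.succ_ne_zero, _root_.zero_add, _root_.Fin.succ_zero_eq_one, _root_.Fin.val_eq_zero, Nat.reduceAdd, _root_.Fin.succ_one_eq_two, _root_.IsEmpty.forall_iff,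 _root_.and_self, _root_.Sum.elim_inr, _root_.Sum.inr.injEq])

/-- `n_u` on codes -/
def nU (m c : ℕ) : ℕ :=
  (((if m.testBit 0 then nE 0 c else 0) ^^^ (if m.testBit 1 then nE 1 c else 0)) ^^^
    (if m.testBit 2 then nE 2 c else 0)) ^^^
  ((((if m.testBit 3 then nF 0 c else 0) ^^^ (if m.testBit 4 then nF 1 c else 0)) ^^^
    (if m.testBit 5 then nF 2 c else 0)) ^^^
  (if ((m.testBit 0 && m.testBit 3) ^^ (m.testBit 1 && m.testBit 4)) ^^
    (m.testBit 2 && m.testBit 5) then c else 0))

theorem Qf_enc (m : ℕ) : Qf (Sp.enc m) = bz (((m.testBit 0 && m.testBit 3) ^^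
    (m.testBit 1 && m.testBit 4)) ^^ (m.testBit 2 && m.testBit 5)) := by
  rw [bz_xor, bz_xor, bz_and, bz_and, bz_and]
  rfl

theorem bz_smul_enc (p : Bool) (c : ℕ) : bz p • enc B c = enc B (if p then c else 0) := by
  cases p
  · rw [show bz false = 0 from rfl, zero_smul, if_neg (by decide), enc_zero]
  · rw [show bz true = 1 from rfl, one_smul, if_pos rfl]

/-- `n_u` on codes -/
theorem n_enc (hs : SpinHyp rho) (hcard : Nat.card V = 2 ^ 8)
    (hE : ∀ i I, n rho (e i) (B I) = if (I : ℕ).testBit i then 0 else B (I + 2 ^ (i : ℕ)))
    (hF : ∀ i I, n rho (f i) (B I) = if (I : ℕ).testBit i then B (I - 2 ^ (i : ℕ)) else 0)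
    (m : ℕ) {c : ℕ} (hc : c < 256) :
    n rho (Sp.enc m) (enc B c) = enc B (nU m c) := by
  have h1 : n rho (Sp.enc m) = Aop hs hcard (Sp.enc m) + Qf (Sp.enc m) • 1 := by
    rw [Aop_apply, add_assoc, add_self', add_zero]
  have h2 : Aop hs hcard (Sp.enc m) = bz (m.testBit 0) • n rho (e 0) +
      bz (m.testBit 1) • n rho (e 1) + bz (m.testBit 2) • n rho (e 2) +
      (bz (m.testBit 3) • n rho (f 0) + bz (m.testBit 4) • n rho (f 1) +
        bz (m.testBit 5) • n rho (f 2)) := by
    have he : ∀ i, Aop hs hcard (e i) = n rho (e i) := by
      intro i; rw [Aop_apply, Qf_e, zero_smul, add_zero]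
    have hf : ∀ i, Aop hs hcard (f i) = n rho (f i) := by
      intro i; rw [Aop_apply, Qf_f, zero_smul, add_zero]
    rw [enc_eq]
    simp only [map_add, Aop_smul, he, hf]
  rw [h1, h2, Qf_enc]
  simp only [LinearMap.add_apply, LinearMap.smul_apply, Module.End.one_apply]
  rw [n_e_enc hE 0 hc, n_e_enc hE 1 hc, n_e_enc hE 2 hc, n_f_enc hF 0 hc, n_f_enc hF 1 hc,
    n_f_enc hF 2 hc]
  simp only [bz_smul_enc, ← enc_xor]
  rw [nU]
  congr 1
  exact Nat.xor_assoc _ _ _

/-- the action of the transvection `d_u` on codes -/
def stU (m c : ℕ) : ℕ := c ^^^ nU m c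

theorem rho_tr_enc (hs : SpinHyp rho) (hcard : Nat.card V = 2 ^ 8)
    (hE : ∀ i I, n rho (e i) (B I) = if (I : ℕ).testBit i then 0 else B (I + 2 ^ (i : ℕ)))
    (hF : ∀ i I, n rho (f i) (B I) = if (I : ℕ).testBit i then B (I - 2 ^ (i : ℕ)) else 0)
    (m : ℕ) {c : ℕ} (hc : c < 256) :
    rho (Sp.tr (Sp.enc m)) (enc B c) = enc B (stU m c) := by
  have h1 : rho (Sp.tr (Sp.enc m)) (enc B c) = enc B c + n rho (Sp.enc m) (enc B c) := by
    rw [n_apply, ← add_assoc, ZModModule.add_self (enc B c), zero_add]
    rfl
  rw [h1, n_enc hs hcard hE hF m hc, stU, enc_xor]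

theorem nU_lt (m : ℕ) {c : ℕ} (hc : c < 256) : nU m c < 256 := by
  have hx : ∀ x y : ℕ, x < 2 ^ 8 → y < 2 ^ 8 → x ^^^ y < 2 ^ 8 := fun x y => Nat.xor_lt_two_pow
  have hi : ∀ (p : Bool) (k : ℕ), k < 2 ^ 8 → (if p then k else 0) < 2 ^ 8 := by
    intro p k hk; split_ifs; exacts [hk, by norm_num]
  unfold nU
  exact hx _ _ (hx _ _ (hx _ _ (hi _ _ (nE_lt 0 hc)) (hi _ _ (nE_lt 1 hc))) (hi _ _ (nE_lt 2 hc)))
    (hx _ _ (hx _ _ (hx _ _ (hi _ _ (nF_lt 0 hc)) (hi _ _ (nF_lt 1 hc))) (hi _ _ (nF_lt 2 hc)))
      (hi _ _ hc))

theorem stU_lt (m : ℕ) {c : ℕ} (hc : c < 256) : stU m c < 256 :=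
  Nat.xor_lt_two_pow (n := 8) hc (nU_lt m hc)

end Ops

/-! ### the code of a vector -/

section Cd

variable {V : Type*} [AddCommGroup V] [Module (ZMod 2) V] (B : Module.Basis (Fin 8) (ZMod 2) V)

/-- the code of a vector -/
noncomputable def cd (v : V) : ℕ := Classical.choose (exists_enc B v)

theorem cd_lt (v : V) : cd B v < 256 := (Classical.choose_spec (exists_enc B v)).1

theorem enc_cd (v : V) : enc B (cd B v) = v := (Classical.choose_spec (exists_enc B v)).2.symm

theorem cd_inj {v w : V} (h : cd B v = cd B w) : v = w := by
  rw [← enc_cd B v, h, enc_cd]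

end Cd

end Cfsg.Agent.Co2Type.Code
end

-- part: Co2Type/Ctx
section
/-!
# The situation of S1675 in the spin case: context, lifting, transitivity (R03, letter B, helper595)

`Sit.conj S g` : the situation at the conjugate involution.  `Ctx S` : the spin basis.
`exists_lift` : an element of `Sp6(2)` fixing `pr t'` lifts to an element of `C(t) ∩ C(t')`.
`Ctx.exists_rho_B7` : transitivity on the nonzero singular vectors.
-/

set_option autoImplicit false
open Cfsg

namespace Cfsg.Agent.Co2Type.Setup.Sit

open Cfsg.Agent.Co2Type.Quad

variable {G : Type*} [Group G] {Q : Subgroup G} {t : G}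

/-- conjugation `c ↦ g⁻¹ c g` from `C(g t g⁻¹)` to `C(t)` -/
def conjHom (g t : G) : Subgroup.centralizer ({g * t * g⁻¹} : Set G) →*
    Subgroup.centralizer ({t} : Set G) where
  toFun c := ⟨g⁻¹ * c * g, by
    have h := Subgroup.mem_centralizer_singleton_iff.1 c.2
    rw [Subgroup.mem_centralizer_singleton_iff]
    calc g⁻¹ * c * g * t = g⁻¹ * (c * (g * t * g⁻¹)) * g := by group
      _ = g⁻¹ * (g * t * g⁻¹ * c) * g := by rw [h]
      _ = t * (g⁻¹ * c * g) := by group⟩
  map_one' := by
    apply Subtype.ext
    show g⁻¹ * ((1 : Subgroup.centralizer ({g * t * g⁻¹} : Set G)) : G) * g = 1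
    rw [Subgroup.coe_one]; group
  map_mul' c c' := by
    apply Subtype.ext
    show g⁻¹ * ((c : G) * c') * g = g⁻¹ * c * g * (g⁻¹ * c' * g)
    group

theorem conjHom_coe (g t : G) (c : Subgroup.centralizer ({g * t * g⁻¹} : Set G)) :
    ((conjHom g t c : Subgroup.centralizer ({t} : Set G)) : G) = g⁻¹ * c * g := rfl

theorem conjHom_surjective (g t : G) : Function.Surjective (conjHom g t) := by
  intro c
  refine ⟨⟨g * c * g⁻¹, ?_⟩, ?_⟩
  · have h := Subgroup.mem_centralizer_singleton_iff.1 c.2
    rw [Subgroup.mem_centralizer_singleton_iff]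
    calc g * c * g⁻¹ * (g * t * g⁻¹) = g * (c * t) * g⁻¹ := by group
      _ = g * (t * c) * g⁻¹ := by rw [h]
      _ = _ := by group
  · apply Subtype.ext
    rw [conjHom_coe]
    group

/-- the situation at a conjugate of `t` -/
def conj (S : Sit G Q t) (g : G) : Sit G (Q.map (MulAut.conj g).toMonoidHom) (g * t * g⁻¹) where
  large := S.large.conj g
  card := by
    rw [Subgroup.card_map_of_injective (MulAut.conj g).injective]
    exact S.card
  psi := S.psi.comp (conjHom g t)
  psi_surj := S.psi_surj.comp (conjHom_surjective g t)
  psi_ker c := by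
    rw [MonoidHom.comp_apply, S.psi_ker, conjHom_coe]
    constructor
    · intro h
      refine ⟨_, h, ?_⟩
      show g * (g⁻¹ * c * g) * g⁻¹ = c
      group
    · rintro ⟨x, hx, hxe⟩
      have hxe' : g * x * g⁻¹ = c := hxe
      rw [← hxe']
      have : g⁻¹ * (g * x * g⁻¹) * g = x := by group
      rw [this]; exact hx

/-- `psi` of an element of `G` centralising `t` -/
noncomputable def ps (S : Sit G Q t) {x : G} (hx : x * t = t * x) : Sp6 :=
  S.psi ⟨x, Subgroup.mem_centralizer_singleton_iff.2 hx⟩

theorem ps_mul (S : Sit G Q t) {x y : G} (hx : x * t = t * x) (hy : y * t = t * y)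
    (hxy : x * y * t = t * (x * y)) : S.ps hxy = S.ps hx * S.ps hy := by
  unfold ps
  rw [← map_mul]
  rfl

theorem ps_eq_one (S : Sit G Q t) {x : G} (hx : x * t = t * x) : S.ps hx = 1 ↔ x ∈ Q :=
  S.psi_ker _

theorem ps_inv (S : Sit G Q t) {x : G} (hx : x * t = t * x) (hx' : x⁻¹ * t = t * x⁻¹) :
    S.ps hx' = (S.ps hx)⁻¹ := by
  unfold ps
  rw [← map_inv]
  rfl

theorem rho_ps (S : Sit G Q t) {x : G} (hx : x * t = t * x) (y : Q) :
    S.rho (S.ps hx) (S.large.pr y) = S.large.pr ⟨x * y * x⁻¹, S.large.conj_mem x hx y y.2⟩ := by
  unfold ps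
  rw [S.rho_psi, S.large.act_pr]
  rfl

/-- an element of `Sp6(2)` fixing `pr t'` lifts to an element of `C(t) ∩ C(t')` -/
theorem exists_lift (S : Sit G Q t) {t' : G} (ht' : t' ∈ Q) (hne : t' ≠ 1) (hne' : t' ≠ t)
    (k : Sp6) (hk : S.rho k (S.large.pr ⟨t', ht'⟩) = S.large.pr ⟨t', ht'⟩) :
    ∃ a, ∃ (ha : a * t = t * a), a * t' = t' * a ∧ S.ps ha = k := by
  obtain ⟨c, rfl⟩ := S.psi_surj k
  rw [S.rho_psi, S.large.act_pr, S.large.pr_eq_pr, Large.conjQ_coe] at hk
  have hct : (c : G) * t = t * c := Subgroup.mem_centralizer_singleton_iff.1 c.2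
  rcases hk with h | h
  · refine ⟨c, hct, ?_, rfl⟩
    simp only at h
    rw [mul_inv_eq_iff_eq_mul] at h
    exact h
  · -- some element of `Q` does not commute with `t'`
    have hx : ∃ x ∈ Q, x * t' ≠ t' * x := by
      by_contra hno
      push Not at hno
      rcases S.large.cent t' ht' (fun y hy => (hno y hy).symm) with h1 | h1
      · exact hne h1
      · exact hne' h1
    obtain ⟨x, hxQ, hx⟩ := hx
    have hx2 : x * t' = t' * x * t := by
      rcases S.large.comm x hxQ t' ht' with h1 | h1
      · exact absurd h1 hx
      · exact h1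
    have hxt : x * t = t * x := S.large.comm_z x hxQ
    have hxc : x * c * t = t * (x * c) := by
      rw [mul_assoc, hct, ← mul_assoc, hxt, mul_assoc]
    refine ⟨x * c, hxc, ?_, ?_⟩
    · simp only at h
      have h3 : (c : G) * t' = t' * t * c := by rw [← h]; group
      calc x * c * t' = x * (c * t') := by group
        _ = x * t' * (t * c) := by rw [h3]; group
        _ = t' * x * (t * t) * c := by rw [hx2]; group
        _ = t' * (x * c) := by rw [S.large.z_sq]; group
    · rw [S.ps_mul hxt hct, (S.ps_eq_one hxt).2 hxQ, one_mul]
      rfl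

end Cfsg.Agent.Co2Type.Setup.Sit

namespace Cfsg.Agent.Co2Type.Code

open Cfsg.Agent.Co2Type.Quad Cfsg.Agent.Co2Type.Setup Cfsg.Agent.Co2Type.Spin
open Cfsg.Agent.SporRec.TwoSp6

variable {G : Type*} [Group G] {Q : Subgroup G} {t : G}

/-- the spin basis -/
structure Ctx (S : Sit G Q t) where
  hs : SpinHyp S.rho
  B : Module.Basis (Fin 8) (ZMod 2) S.large.V
  hE : ∀ i I, n S.rho (e i) (B I) = if (I : ℕ).testBit i then 0 else B (I + 2 ^ (i : ℕ))
  hF : ∀ i I, n S.rho (f i) (B I) = if (I : ℕ).testBit i then B (I - 2 ^ (i : ℕ)) else 0
  hq : ∀ I, S.large.q (B I) = 0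
  hb : ∀ I J, S.large.b (B I) (B J) = if I + J = 7 then 1 else 0

theorem exists_ctx (S : Sit G Q t) (hs : SpinHyp S.rho) : Nonempty (Ctx S) := by
  obtain ⟨B, h1, h2, h3, h4⟩ := exists_basis_sit S hs
  exact ⟨⟨hs, B, h1, h2, h3, h4⟩⟩

namespace Ctx

variable {S : Sit G Q t} (P : Ctx S)

theorem rho_enc (m : ℕ) {c : ℕ} (hc : c < 256) :
    S.rho (Sp.tr (Sp.enc m)) (enc P.B c) = enc P.B (stU m c) :=
  Code.rho_tr_enc P.hs S.card_V P.hE P.hF m hc

theorem b_enc (c d : ℕ) : S.large.b (enc P.B c) (enc P.B d) = bz (bN c d) :=
  Code.b_enc P.hb c d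

theorem q_enc {c : ℕ} (hc : c < 256) : S.large.q (enc P.B c) = bz (qN c) :=
  Code.q_enc S.large.q_add' P.hq P.hb hc

theorem bz_eq_zero {p : Bool} (h : bz p = 0) : p = false := by
  cases p
  · rfl
  · exact absurd h (by decide)

/-- the depth of a singular vector (distance from `B 7`) -/
def dep (c : ℕ) : ℕ :=
  if c.testBit 0 then 3 else if c &&& 22 ≠ 0 then 2 else if c &&& 104 ≠ 0 then 1 else 0

private noncomputable def _root_.Cfsg.Agent.KO486c9bf.oEq.{ku} (α : Sort ku) (a b : Nat) (f t : α) : α := @Decidable.rec (a = b) (fun _ => α) (fun _ => f) (fun _ => t) (Nat.decEq a b)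
private noncomputable def _root_.Cfsg.Agent.KO486c9bf.k22.{ku} (α : Sort ku) (a b : Nat) (f t : α) : α := @Bool.rec (fun _ => α) f t (Nat.beq a b)
private theorem _root_.Cfsg.Agent.KO486c9bf.e22.{ku} : @_root_.Cfsg.Agent.KO486c9bf.oEq.{ku} = @_root_.Cfsg.Agent.KO486c9bf.k22.{ku} := funext fun α => funext fun a => funext fun b => funext fun f => funext fun t => by delta _root_.Cfsg.Agent.KO486c9bf.oEq _root_.Cfsg.Agent.KO486c9bf.k22; cases h : Nat.beq a b <;> cases Nat.decEq a b <;> rename_i g <;> first | rfl | exact absurd g (Nat.ne_of_beq_eq_false h) | exact absurd (Nat.eq_of_beq_eq_true h) g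
private noncomputable def _root_.Cfsg.Agent.KO486c9bf.k25 : type_of% @forall_prop_decidable := @(fun x0 x1 x2 x3 => @Decidable.rec.{1} _ @(fun x4 => @Decidable ((x5 : @x0) → @x1 @x5)) @(fun x4 => @Decidable.isTrue _ (@forall_prop_decidable._proof_2 _ @x1 @x4)) @(fun x4 => @Decidable.rec.{1} _ @(fun x5 => @Decidable ((x6 : @x0) → @x1 @x6)) @(fun x5 => @Decidable.isFalse _ (@decidable_of_decidable_of_iff._proof_1 _ _ (@forall_prop_decidable._proof_1 _ @x1 @x4) @x5)) @(fun x5 => @Decidable.isTrue _ (@Iff.mp _ _ (@forall_prop_decidable._proof_1 _ @x1 @x4) @x5)) (@x3 @x4)) @x2)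
private theorem _root_.Cfsg.Agent.KO486c9bf.e25 : @forall_prop_decidable = @_root_.Cfsg.Agent.KO486c9bf.k25 := by delta _root_.Cfsg.Agent.KO486c9bf.k25; rfl'
private noncomputable def _root_.Cfsg.Agent.KO486c9bf.k27 : type_of% @instDecidableNot := @(fun x0 x1 => @Decidable.rec.{1} _ @(fun x2 => @Decidable (¬ @x0)) @(fun x2 => @Decidable.isTrue _ @x2) @(fun x2 => @Decidable.isFalse _ (@absurd.{0} _ _ @x2)) @x1)
private theorem _root_.Cfsg.Agent.KO486c9bf.e27 : @instDecidableNot = @_root_.Cfsg.Agent.KO486c9bf.k27 := by delta _root_.Cfsg.Agent.KO486c9bf.k27; rfl'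
private theorem _root_.Cfsg.Agent.KO486c9bf.e28.{ku} {M : Nat → Sort ku} (φ : ∀ n, M n) {z : M Nat.zero} {s : ∀ n, M n → M (Nat.succ n)} (h0 : φ Nat.zero = z) (hs : ∀ n, φ (Nat.succ n) = s n (φ n)) (n : Nat) : φ n = @Nat.rec M z s n := Nat.rec h0 (fun n ih => (hs n).trans (congrArg (s n) ih)) n
private noncomputable def _root_.Cfsg.Agent.KO486c9bf.k29 : type_of% @Nat.decidableExistsLT := @(fun x0 x1 x2 => @Nat.rec.{1} @(fun x3 => @Decidable (@Exists.{1} _ @(fun x4 => @And (@LT.lt.{0} _ _ @x4 @x3) (@x0 @x4)))) (@Decidable.isFalse _ (@Nat.decidableExistsLT._proof_5 _)) @(fun x3 x4 => @Decidable.rec.{1} _ @(fun x5 => @Decidable (@Exists.{1} _ @(fun x6 => @And (@LT.lt.{0} _ _ @x6 (@HAdd.hAdd.{0, 0, 0} _ _ _ _ @x3 ((1 : ℕ)))) (@x0 @x6)))) @(fun x5 => @Decidable.isFalse _ (@decidable_of_decidable_of_iff._proof_1 _ _ (@Nat.decidableExistsLT._proof_10 _ @x3) @x5)) @(fun x5 => @Decidable.isTrue _ (@Iff.mp _ _ (@Nat.decidableExistsLT._proof_10 _ @x3) @x5)) (@Cfsg.Agent.KO486c9bf.k20 _ _ @x4 (@x1 @x3))) @x2)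
private theorem _root_.Cfsg.Agent.KO486c9bf.e29 : @Nat.decidableExistsLT = @_root_.Cfsg.Agent.KO486c9bf.k29 := by delta _root_.Cfsg.Agent.KO486c9bf.k29; rewrite [← Cfsg.Agent.KO486c9bf.e20]; funext a0 a1 a2; refine (_root_.Cfsg.Agent.KO486c9bf.e28 (fun a2 => @Nat.decidableExistsLT a0 a1 a2) ?_ (fun c0 => ?_) a2 :) <;> (rfl')
private noncomputable def _root_.Cfsg.Agent.KO486c9bf.oB.{ku} (α : Sort ku) (c : Bool) (f t : α) : α := @Decidable.rec (c = true) (fun _ => α) (fun _ => f) (fun _ => t) (instDecidableEqBool c true)
private noncomputable def _root_.Cfsg.Agent.KO486c9bf.k30.{ku} (α : Sort ku) (c : Bool) (f t : α) : α := @Bool.rec (fun _ => α) f t c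
private theorem _root_.Cfsg.Agent.KO486c9bf.e30.{ku} : @_root_.Cfsg.Agent.KO486c9bf.oB.{ku} = @_root_.Cfsg.Agent.KO486c9bf.k30.{ku} := funext fun α => funext fun c => funext fun f => funext fun t => by cases c <;> rfl
private noncomputable def _root_.Cfsg.Agent.KO486c9bf.k31 : (by first | exact type_of% @Cfsg.Agent.Co2Type.Code.Ctx.dep | exact Unit : Sort _) := by first | (refine @Subtype.val _ (fun g => @Cfsg.Agent.Co2Type.Code.Ctx.dep = @g) (@Subtype.mk _ _ (@(fun x0 => @Cfsg.Agent.KO486c9bf.k30.{1} ℕ (@Bool.rec.{1} @(fun x1 => @Bool) @Bool.true @Bool.false (@Cfsg.Agent.KO486c9bf.k22.{1} @Bool (@Nat.land (nat_lit 1) (@Nat.shiftRight @x0 (nat_lit 0))) (nat_lit 0) @Bool.false @Bool.true)) (@Decidable.rec.{1} _ @(fun x1 => ℕ) @(fun x1 => @Decidable.rec.{1} _ @(fun x2 => ℕ) @(fun x2 => nat_lit 0) @(fun x2 => nat_lit 1) (@Decidable.rec.{1} _ @(fun x2 => @Decidable (¬ (@Eq.{1} _ (@HAnd.hAnd.{0, 0, 0} _ _ _ _ @x0 ((104 : ℕ))) ((0 : ℕ))))) @(fun x2 => @Decidable.isTrue _ @x2) @(fun x2 => @Decidable.isFalse _ (@absurd.{0} _ _ @x2)) (@Cfsg.Agent.KO486c9bf.k15 (@Nat.land @x0 (nat_lit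 104)) (nat_lit 0)))) @(fun x1 => nat_lit 2) (@Decidable.rec.{1} _ @(fun x1 => @Decidable (¬ (@Eq.{1} _ (@HAnd.hAnd.{0, 0, 0} _ _ _ _ @x0 ((22 : ℕ))) ((0 : ℕ))))) @(fun x1 => @Decidable.isTrue _ @x1) @(fun x1 => @Decidable.isFalse _ (@absurd.{0} _ _ @x1)) (@Cfsg.Agent.KO486c9bf.k15 (@Nat.land @x0 (nat_lit 22)) (nat_lit 0)))) (nat_lit 3))) ?_); rewrite [← Cfsg.Agent.KO486c9bf.e15, ← Cfsg.Agent.KO486c9bf.e22.{1}, ← Cfsg.Agent.KO486c9bf.e30.{1}]; rfl') | exact @Cfsg.Agent.Co2Type.Code.Ctx.dep | exact ()
private theorem _root_.Cfsg.Agent.KO486c9bf.e31 : (by first | exact @Cfsg.Agent.Co2Type.Code.Ctx.dep = @_root_.Cfsg.Agent.KO486c9bf.k31 | exact True : Prop) := by first | (delta _root_.Cfsg.Agent.KO486c9bf.k31; exact @Subtype.property _ (fun g => @Cfsg.Agent.Co2Type.Code.Ctx.dep = @g) _) | rfl | trivial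
private noncomputable def _root_.Cfsg.Agent.KO486c9bf.k37 : (by first | exact type_of% @Cfsg.Agent.Co2Type.Code.stU | exact Unit : Sort _) := by first | (refine @Subtype.val _ (fun g => @Cfsg.Agent.Co2Type.Code.stU = @g) (@Subtype.mk _ _ (@(fun x0 x1 => @Nat.xor @x1 (@Cfsg.Agent.Co2Type.Code.nU @x0 @x1))) ?_); (try delta Cfsg.Agent.Co2Type.Code.stU); (try generalize @Cfsg.Agent.Co2Type.Code.nU = g0); rfl') | exact @Cfsg.Agent.Co2Type.Code.stU | exact ()
private theorem _root_.Cfsg.Agent.KO486c9bf.e37 : (by first | exact @Cfsg.Agent.Co2Type.Code.stU = @_root_.Cfsg.Agent.KO486c9bf.k37 | exact True : Prop) := by first | (delta _root_.Cfsg.Agent.KO486c9bf.k37; exact @Subtype.property _ (fun g => @Cfsg.Agent.Co2Type.Code.stU = @g) _) | rfl | trivial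

theorem dep_step : ∀ c < 256, qN c = false → c ≠ 0 → c = 128 ∨
    ∃ m < 64, dep (stU m c) < dep c ∧ qN (stU m c) = false ∧ stU m c ≠ 0 := by (first | (refine of_decide_eq_true ?_; rewrite [Cfsg.Agent.KO486c9bf.e0, Cfsg.Agent.KO486c9bf.e1, Cfsg.Agent.KO486c9bf.e25, Cfsg.Agent.KO486c9bf.e3, Cfsg.Agent.KO486c9bf.e27, Cfsg.Agent.KO486c9bf.e21, Cfsg.Agent.KO486c9bf.e20, Cfsg.Agent.KO486c9bf.e29, Cfsg.Agent.KO486c9bf.e17, Cfsg.Agent.KO486c9bf.e19, Cfsg.Agent.KO486c9bf.e31, Cfsg.Agent.KO486c9bf.e37]; decide +kernel) | decide +kernel)

theorem enc_128 : enc P.B 128 = P.B 7 := enc_pow P.B 7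

/-- `Sp6(2)` is transitive on the nonzero singular vectors -/
theorem exists_rho_B7 {v : S.large.V} (hv : v ≠ 0) (hqv : S.large.q v = 0) :
    ∃ k : Sp6, S.rho k v = P.B 7 := by
  have key : ∀ d : ℕ, ∀ c < 256, dep c = d → qN c = false → c ≠ 0 →
      ∃ k : Sp6, S.rho k (enc P.B c) = P.B 7 := by
    intro d
    induction d using Nat.strong_induction_on with
    | _ d ih =>
      intro c hc hd hqc hc0
      rcases dep_step c hc hqc hc0 with rfl | ⟨m, _, h1, h2, h3⟩
      · exact ⟨1, by rw [map_one, enc_128]; rfl⟩
      · obtain ⟨k, hk⟩ := ih (dep (stU m c)) (by omega) (stU m c) (stU_lt m hc) rfl h2 h3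
        refine ⟨k * Sp.tr (Sp.enc m), ?_⟩
        rw [map_mul, LinearEquiv.mul_apply, P.rho_enc m hc, hk]
  have h := key _ (cd P.B v) (cd_lt P.B v) rfl ?_ ?_
  · rwa [enc_cd] at h
  · rw [← enc_cd P.B v, P.q_enc (cd_lt P.B v)] at hqv
    exact bz_eq_zero hqv
  · intro h0
    apply hv
    rw [← enc_cd P.B v, h0, enc_zero]

end Ctx

end Cfsg.Agent.Co2Type.Code
end

-- part: Co2Type/Seven
section
/-!
# Elements of order 7 of `Sp6(2)` (R03, letter B, helper595)

An element of order 7 fixes no nonzero vector and commutes with no involution.
-/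

set_option autoImplicit false
open Cfsg

namespace Cfsg.Agent.Co2Type.Seven

open Cfsg.Agent.SporRec.TwoSp6.Sp Cfsg.Agent.SporRec.TwoSp6.Invol

/-- the action of `Sp6(2)` on its natural module -/
@[reducible] def mulAct : MulAction S V where
  smul g x := act g x
  one_smul := act_one
  mul_smul := act_mul

theorem card_V : Nat.card V = 64 := by
  rw [Nat.card_eq_fintype_card]
  simp [V, ZMod.card]

/-- an element of order `7` has no nonzero fixed vector -/
theorem act_ne_self {y : S} (h7 : y ^ 7 = 1) (h1 : y ≠ 1) {p : V} (hp : p ≠ 0) : act y p ≠ p := by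
  classical
  intro hfix
  let _ : MulAction S V := mulAct
  have horb : (MulAction.orbit S p) = {x : V | x ≠ 0} := by
    ext x
    constructor
    · rintro ⟨g, rfl⟩
      exact act_ne hp
    · intro hx
      obtain ⟨g, hg⟩ := exists_act hp hx
      exact ⟨g, hg⟩
  have h63 : Nat.card (MulAction.orbit S p) = 63 := by
    rw [horb]
    have h := Set.ncard_compl (s := ({0} : Set V))
    rw [Set.ncard_singleton, card_V] at h
    have h2 : ({0} : Set V)ᶜ = {x : V | x ≠ 0} := by ext x; simp
    rw [h2] at h
    exact h
  have e1 := Nat.card_congr (MulAction.orbitEquivQuotientStabilizer S p)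
  have e2 : Nat.card (S ⧸ MulAction.stabilizer S p) = 63 := e1.symm.trans h63
  have hprod' : Nat.card (MulAction.stabilizer S p) * 63 = Nat.card S := by
    rw [← Subgroup.card_mul_index (MulAction.stabilizer S p)]
    exact congrArg _ e2.symm
  rw [card_S] at hprod'
  have hst : Nat.card (MulAction.stabilizer S p) = 23040 := by omega
  have hy : y ∈ MulAction.stabilizer S p := hfix
  have h7p : Fact (Nat.Prime 7) := ⟨by norm_num⟩
  have ho : orderOf y = 7 := orderOf_eq_prime h7 h1
  have hd : orderOf (⟨y, hy⟩ : MulAction.stabilizer S p) ∣ Nat.card (MulAction.stabilizer S p) :=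
    orderOf_dvd_natCard _
  rw [Subgroup.orderOf_mk, ho, hst] at hd
  exact absurd hd (by norm_num)

theorem act_pow (y : S) (x : V) (n : ℕ) : act (y ^ (n + 1)) x = act y (act (y ^ n) x) := by
  rw [pow_succ', act_mul]

/-- a vector with a short orbit is fixed -/
theorem act_ne_short {y : S} (h7 : y ^ 7 = 1) (h1 : y ≠ 1) {p : V} (hp : p ≠ 0)
    (h : act y (act y p) = p ∨ act y (act y (act y p)) = p) : False := by
  apply act_ne_self h7 h1 hp
  have h6 : act y (act y (act y (act y (act y (act y p))))) = p := by
    rcases h with h | h
    · rw [h, h, h]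
    · rw [h, h]
  have e7 : act (y ^ 7) p = act y (act y (act y (act y (act y (act y (act y p)))))) := by
    rw [act_pow, act_pow, act_pow, act_pow, act_pow, act_pow, pow_one]
  rw [h7, act_one, h6] at e7
  exact e7.symm

/-- nondegeneracy -/
theorem eq_of_om {p p' : V} (h : ∀ a, om a p = om a p') : p = p' := by
  apply eq_of_add_eq_zero
  by_contra hne
  obtain ⟨a, ha⟩ := exists_om_one hne
  rw [om_symm, om_add, h a] at ha
  have : ∀ z : ZMod 2, z + z = 0 := by decide
  rw [this] at ha
  exact absurd ha (by decide)

theorem om_mul_self (a p : V) : om a p * om a p = om a p := by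
  rcases om_cases a p with h | h <;> rw [h] <;> decide

/-- an element of order `7` commutes with no involution -/
theorem not_comm {x y : S} (hx : x * x = 1) (hx1 : x ≠ 1) (h7 : y ^ 7 = 1) (h1 : y ≠ 1)
    (hc : y * x = x * y) : False := by
  have hyx : ∀ a, act y (act x a) = act x (act y a) := by
    intro a
    rw [← act_mul, hc, act_mul]
  -- the canonical vector
  have key : ∀ p, p ≠ 0 → (∀ a, om a (act x a) = om a p) → False := by
    intro p hp hq
    refine act_ne_self h7 h1 hp ?_
    apply eq_of_om
    intro a
    obtain ⟨b, rfl⟩ : ∃ b, a = act y b := ⟨act y⁻¹ a, by rw [← act_mul, mul_inv_cancel, act_one]⟩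
    rw [act_om, ← hq, ← hq, ← hyx, act_om]
  rcases classify hx hx1 with ⟨u, hu, rfl⟩ | ⟨u, w, hu, hw, hwu, huw, rfl⟩ |
    ⟨u, w, hu, hw, hwu, huw, rfl⟩ | ⟨u, w, s, hind, hort, rfl⟩
  · refine key u hu fun a => ?_
    rw [act_tr, om_add, om_self, zero_add, om_smul, om_mul_self]
  · refine key (u + w) (fun h => hwu (eq_of_add_eq_zero h).symm) fun a => ?_
    rw [act_mul, act_tr, act_tr, om_add, om_add, om_self, zero_add, om_smul, om_smul, om_mul_self,
      om_add', om_smul', om_symm w u, huw, mul_zero, add_zero, om_mul_self, om_add]
    ring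
  · -- image of `x + 1`
    have him : ∀ a, act y (om a w • u + om a u • w) =
        om (act y a) w • u + om (act y a) u • w := by
      intro a
      have e1 := hyx a
      rw [tr3_apply huw, tr3_apply huw, act_add] at e1
      exact add_left_cancel e1
    have hval : ∀ a : V, om a w • u + om a u • w = 0 ∨ om a w • u + om a u • w = u ∨
        om a w • u + om a u • w = w ∨ om a w • u + om a u • w = u + w := by
      intro a
      rcases om_cases a w with e1 | e1 <;> rcases om_cases a u with e2 | e2 <;> rw [e1, e2]
      · left; simp
      · right; right; left; simp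
      · right; left; simp
      · right; right; right; simp
    have huw0 : u + w ≠ 0 := fun h => hwu (eq_of_add_eq_zero h).symm
    have hU : act y u = u ∨ act y u = w ∨ act y u = u + w := by
      obtain ⟨a, ha1, ha2⟩ := exists_om_one_zero hw hwu
      have e1 := him a
      rw [om_symm a w, om_symm a u, ha1, ha2, one_smul, zero_smul, add_zero] at e1
      rcases hval (act y a) with h | h | h | h <;> rw [h] at e1
      · exact absurd e1 (act_ne hu)
      · exact Or.inl e1
      · exact Or.inr (Or.inl e1)
      · exact Or.inr (Or.inr e1)
    have hW : act y w = u ∨ act y w = w ∨ act y w = u + w := by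
      obtain ⟨a, ha1, ha2⟩ := exists_om_one_zero hu (Ne.symm hwu)
      have e1 := him a
      rw [om_symm a w, om_symm a u, ha1, ha2, one_smul, zero_smul, zero_add] at e1
      rcases hval (act y a) with h | h | h | h <;> rw [h] at e1
      · exact absurd e1 (act_ne hw)
      · exact Or.inl e1
      · exact Or.inr (Or.inl e1)
      · exact Or.inr (Or.inr e1)
    have hcanc1 : u + (u + w) = w := by rw [← add_assoc, add_self, zero_add]
    have hcanc2 : w + (u + w) = u := by rw [add_comm u w, ← add_assoc, add_self, zero_add]
    rcases hU with e1 | e1 | e1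
    · exact act_ne_self h7 h1 hu e1
    · rcases hW with e2 | e2 | e2
      · exact act_ne_short h7 h1 hu (Or.inl (by rw [e1, e2]))
      · exact act_ne_self h7 h1 hw e2
      · refine act_ne_short h7 h1 hu (Or.inr ?_)
        rw [e1, e2, act_add, e1, e2, hcanc2]
    · rcases hW with e2 | e2 | e2
      · refine act_ne_short h7 h1 hu (Or.inr ?_)
        rw [e1, act_add, e1, e2, add_comm (u + w) u, hcanc1, e2]
      · exact act_ne_self h7 h1 hw e2
      · exact hwu (act_inj (e2.trans e1.symm))
  · refine key (u + w + s) ?_ fun a => ?_
    · intro h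
      obtain ⟨-, -, -, -, -, -, h4⟩ := hind
      exact h4 (eq_of_add_eq_zero h).symm
    · obtain ⟨o1, o2, o3⟩ := hort
      rw [act_mul, act_mul, act_tr, act_tr, act_tr, om_add, om_add, om_add, om_self, zero_add, om_smul,
        om_smul, om_smul, om_mul_self, om_add', om_smul', om_symm s w, o3, mul_zero, add_zero,
        om_mul_self, om_add', om_smul', om_add', om_smul', om_symm s u, o2, mul_zero, add_zero,
        om_symm w u, o1, mul_zero, add_zero, om_mul_self, om_add, om_add]
      ring

end Cfsg.Agent.Co2Type.Seven
end

-- part: Co2Type/Levi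
section
/-!
# Levi root elements, elements of order 7 in the stabiliser of `B 7` (R03, letter B, helper595)

`K i j = d_{e_i} d_{f_j} d_{e_i+f_j}` (`i ≠ j`) is a root element of the Levi subgroup `GL_3(2)` of the
stabiliser of the maximal totally isotropic subspace `⟨e_0,e_1,e_2⟩`; on the spin module it is
`1 + n_{e_i} n_{f_j}`.
-/

set_option autoImplicit false
open Cfsg

namespace Cfsg.Agent.Co2Type.Levi

open Cfsg.Agent.Co2Type.Quad Cfsg.Agent.Co2Type.Setup Cfsg.Agent.Co2Type.Spin
open Cfsg.Agent.Co2Type.Code
open Cfsg.Agent.SporRec.TwoSp6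

/-- transvections on codes of `U` -/
def trc (m c : ℕ) : ℕ := if Sp.fN c m then c ^^^ m else c

theorem act_tr_enc (m c : ℕ) : Sp.act (Sp.tr (Sp.enc m)) (Sp.enc c) = Sp.enc (trc m c) := by
  rw [Sp.act_tr, Sp.om_enc]
  unfold trc
  split_ifs
  · rw [one_smul, Sp.enc_xor]
  · rw [zero_smul, add_zero]

/-- codes of the Levi root elements, on codes of `V` -/
def KV (i j c : ℕ) : ℕ := stU (2 ^ i) (stU (2 ^ (3 + j)) (stU (2 ^ i ^^^ 2 ^ (3 + j)) c))

/-- codes of the Levi root elements, on codes of `U` -/
def KU (i j c : ℕ) : ℕ := trc (2 ^ i) (trc (2 ^ (3 + j)) (trc (2 ^ i ^^^ 2 ^ (3 + j)) c))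

/-- the Levi root elements -/
def K (i j : ℕ) : Sp6 := Sp.tr (Sp.enc (2 ^ i)) * (Sp.tr (Sp.enc (2 ^ (3 + j))) *
  Sp.tr (Sp.enc (2 ^ i ^^^ 2 ^ (3 + j))))

theorem act_K (i j c : ℕ) : Sp.act (K i j) (Sp.enc c) = Sp.enc (KU i j c) := by
  rw [K, Sp.act_mul, Sp.act_mul, act_tr_enc, act_tr_enc, act_tr_enc, KU]

theorem KV_lt (i j : ℕ) {c : ℕ} (hc : c < 256) : KV i j c < 256 :=
  stU_lt _ (stU_lt _ (stU_lt _ hc))

variable {G : Type*} [Group G] {Q : Subgroup G} {t : G} {S : Sit G Q t}

theorem rho_K (P : Ctx S) (i j : ℕ) {c : ℕ} (hc : c < 256) :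
    S.rho (K i j) (enc P.B c) = enc P.B (KV i j c) := by
  rw [K, map_mul, map_mul, LinearEquiv.mul_apply, LinearEquiv.mul_apply, P.rho_enc _ hc,
    P.rho_enc _ (stU_lt _ hc), P.rho_enc _ (stU_lt _ (stU_lt _ hc)), KV]

private noncomputable def _root_.Cfsg.Agent.KO486c9bf.k32 : (by first | exact type_of% @Cfsg.Agent.Co2Type.Code.mask | exact Unit : Sort _) := by first | (refine @Subtype.val _ (fun g => @Cfsg.Agent.Co2Type.Code.mask = @g) (@Subtype.mk _ _ (@(fun x0 => @Decidable.rec.{1} _ @(fun x1 => ℕ) @(fun x1 => @Decidable.rec.{1} _ @(fun x2 => ℕ) @(fun x2 => nat_lit 15) @(fun x2 => @Eq.rec.{1, 1} ℕ (nat_lit 1) @(fun x3 x4 => ℕ) (nat_lit 51) @x0 (@Eq.symm.{1} _ _ _ @x2)) (@Cfsg.Agent.KO486c9bf.k15 @x0 (nat_lit 1))) @(fun x1 => @Eq.rec.{1, 1} ℕ (nat_lit 0) @(fun x2 x3 => ℕ) (nat_lit 85) @x0 (@Eq.symm.{1} _ _ _ @x1)) (@Cfsg.Agent.KO486c9bf.k15 @x0 (nat_lit 0)))) ?_); rewrite [← Cfsg.Agent.KO486c9bf.e15]; rfl') | exact @Cfsg.Agent.Co2Type.Code.mask | exact ()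
private theorem _root_.Cfsg.Agent.KO486c9bf.e32 : (by first | exact @Cfsg.Agent.Co2Type.Code.mask = @_root_.Cfsg.Agent.KO486c9bf.k32 | exact True : Prop) := by first | (delta _root_.Cfsg.Agent.KO486c9bf.k32; exact @Subtype.property _ (fun g => @Cfsg.Agent.Co2Type.Code.mask = @g) _) | rfl | trivial
private noncomputable def _root_.Cfsg.Agent.KO486c9bf.k33 : (by first | exact type_of% @Cfsg.Agent.Co2Type.Code.nE | exact Unit : Sort _) := by first | (refine @Subtype.val _ (fun g => @Cfsg.Agent.Co2Type.Code.nE = @g) (@Subtype.mk _ _ (@(fun x0 x1 => @Nat.shiftLeft (@Nat.land @x1 (@Cfsg.Agent.KO486c9bf.k32 @x0)) (@Nat.pow (nat_lit 2) @x0))) ?_); rewrite [← Cfsg.Agent.KO486c9bf.e32]; (try delta Cfsg.Agent.Co2Type.Code.nE); (try generalize @Cfsg.Agent.Co2Type.Code.mask = g0); rfl') | exact @Cfsg.Agent.Co2Type.Code.nE | exact ()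
private theorem _root_.Cfsg.Agent.KO486c9bf.e33 : (by first | exact @Cfsg.Agent.Co2Type.Code.nE = @_root_.Cfsg.Agent.KO486c9bf.k33 | exact True : Prop) := by first | (delta _root_.Cfsg.Agent.KO486c9bf.k33; exact @Subtype.property _ (fun g => @Cfsg.Agent.Co2Type.Code.nE = @g) _) | rfl | trivial
private noncomputable def _root_.Cfsg.Agent.KO486c9bf.k34 : (by first | exact type_of% @Cfsg.Agent.Co2Type.Code.nF | exact Unit : Sort _) := by first | (refine @Subtype.val _ (fun g => @Cfsg.Agent.Co2Type.Code.nF = @g) (@Subtype.mk _ _ (@(fun x0 x1 => @Nat.land (@Nat.shiftRight @x1 (@Nat.pow (nat_lit 2) @x0)) (@Cfsg.Agent.KO486c9bf.k32 @x0))) ?_); rewrite [← Cfsg.Agent.KO486c9bf.e32]; (try delta Cfsg.Agent.Co2Type.Code.nF); (try generalize @Cfsg.Agent.Co2Type.Code.mask = g0); rfl') | exact @Cfsg.Agent.Co2Type.Code.nF | exact ()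
private theorem _root_.Cfsg.Agent.KO486c9bf.e34 : (by first | exact @Cfsg.Agent.Co2Type.Code.nF = @_root_.Cfsg.Agent.KO486c9bf.k34 | exact True : Prop) := by first | (delta _root_.Cfsg.Agent.KO486c9bf.k34; exact @Subtype.property _ (fun g => @Cfsg.Agent.Co2Type.Code.nF = @g) _) | rfl | trivial
private noncomputable def _root_.Cfsg.Agent.KO486c9bf.k38 : (by first | exact type_of% @Cfsg.Agent.Co2Type.Levi.KV | exact Unit : Sort _) := by first | (refine @Subtype.val _ (fun g => @Cfsg.Agent.Co2Type.Levi.KV = @g) (@Subtype.mk _ _ (@(fun x0 x1 x2 => @Cfsg.Agent.KO486c9bf.k37 (@Nat.pow (nat_lit 2) @x0) (@Cfsg.Agent.KO486c9bf.k37 (@Nat.pow (nat_lit 2) (@Nat.add (nat_lit 3) @x1)) (@Cfsg.Agent.KO486c9bf.k37 (@Nat.xor (@Nat.pow (nat_lit 2) @x0) (@Nat.pow (nat_lit 2) (@Nat.add (nat_lit 3) @x1))) @x2)))) ?_); rewrite [← Cfsg.Agent.KO486c9bf.e37]; (try delta Cfsg.Agent.Co2Type.Levi.KV); (try generalize @Cfsg.Agent.Co2Type.Code.stU = g0); rfl') | exact @Cfsg.Agent.Co2Type.Levi.KV | exact ()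
private theorem _root_.Cfsg.Agent.KO486c9bf.e38 : (by first | exact @Cfsg.Agent.Co2Type.Levi.KV = @_root_.Cfsg.Agent.KO486c9bf.k38 | exact True : Prop) := by first | (delta _root_.Cfsg.Agent.KO486c9bf.k38; exact @Subtype.property _ (fun g => @Cfsg.Agent.Co2Type.Levi.KV = @g) _) | rfl | trivial

/-- on codes `K i j` is `1 + n_{e_i} n_{f_j}` -/
theorem KV_eq : ∀ i < 3, ∀ j < 3, i ≠ j → ∀ c < 256, KV i j c = c ^^^ nE i (nF j c) := by
  (first | (refine of_decide_eq_true ?_; rewrite [Cfsg.Agent.KO486c9bf.e0, Cfsg.Agent.KO486c9bf.e1, Cfsg.Agent.KO486c9bf.e25, Cfsg.Agent.KO486c9bf.e27, Cfsg.Agent.KO486c9bf.e21, Cfsg.Agent.KO486c9bf.e38, Cfsg.Agent.KO486c9bf.e33, Cfsg.Agent.KO486c9bf.e34]; decide +kernel) | decide +kernel)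

theorem KV_128 : ∀ i < 3, ∀ j < 3, i ≠ j → KV i j 128 = 128 := by decide +kernel

theorem stU_128 : ∀ i < 3, stU (2 ^ i) 128 = 128 := by decide +kernel

/-- an element of order 7 -/
def k7 : Sp6 := K 0 1 * (K 1 2 * K 2 0)

theorem act_k7 (c : ℕ) : Sp.act k7 (Sp.enc c) = Sp.enc (KU 0 1 (KU 1 2 (KU 2 0 c))) := by
  rw [k7, Sp.act_mul, Sp.act_mul, act_K, act_K, act_K]

theorem act_k7_pow (n c : ℕ) :
    Sp.act (k7 ^ n) (Sp.enc c) = Sp.enc ((fun c => KU 0 1 (KU 1 2 (KU 2 0 c)))^[n] c) := by
  induction n generalizing c with
  | zero => rw [pow_zero, Sp.act_one]; rfl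
  | succ n ih => rw [pow_succ, Sp.act_mul, act_k7, ih, Function.iterate_succ_apply]

theorem k7_iter : ∀ c < 64, (fun c => KU 0 1 (KU 1 2 (KU 2 0 c)))^[7] c = c := by decide +kernel

theorem k7_pow : k7 ^ 7 = 1 := by
  apply Sp.act_ext
  intro x
  obtain ⟨c, hc, rfl⟩ := Sp.exists_enc x
  rw [act_k7_pow, k7_iter c hc, Sp.act_one]

theorem enc_inj64 : ∀ c < 64, ∀ d < 64, Sp.enc c = Sp.enc d → c = d := by
  intro c hc d hd h
  have h1 : ∀ k < 6, c.testBit k = d.testBit k := by
    have hb : ∀ k, Sp.bitf c k = Sp.bitf d k → c.testBit k = d.testBit k := by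
      intro k hk
      unfold Sp.bitf at hk
      cases hck : c.testBit k <;> cases hdk : d.testBit k <;> simp only [hck, hdk, _root_.Bool.false_eq_true, ↓ _root_.reduceIte, _root_.zero_ne_one, _root_.one_ne_zero] at hk ⊢
    intro k hk
    apply hb
    interval_cases k
    · exact congrFun h (Sum.inl 0)
    · exact congrFun h (Sum.inl 1)
    · exact congrFun h (Sum.inl 2)
    · exact congrFun h (Sum.inr 0)
    · exact congrFun h (Sum.inr 1)
    · exact congrFun h (Sum.inr 2)
  apply Nat.eq_of_testBit_eq
  intro k
  by_cases hk : k < 6
  · exact h1 k hk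
  · have h2 : 2 ^ 6 ≤ 2 ^ k := Nat.pow_le_pow_right (by norm_num) (not_lt.1 hk)
    rw [Nat.testBit_lt_two_pow (lt_of_lt_of_le hc h2), Nat.testBit_lt_two_pow (lt_of_lt_of_le hd h2)]

theorem k7_ne : k7 ≠ 1 := by
  intro h
  have h1 := act_k7 1
  rw [h, Sp.act_one] at h1
  have h2 := enc_inj64 1 (by norm_num) (KU 0 1 (KU 1 2 (KU 2 0 1))) (by decide +kernel) h1
  revert h2
  decide +kernel

theorem rho_k7 (P : Ctx S) : S.rho k7 (P.B 7) = P.B 7 := by
  rw [← P.enc_128, k7, map_mul, map_mul, LinearEquiv.mul_apply, LinearEquiv.mul_apply,
    rho_K P 2 0 (by norm_num), KV_128 2 (by norm_num) 0 (by norm_num) (by norm_num),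
    rho_K P 1 2 (by norm_num), KV_128 1 (by norm_num) 2 (by norm_num) (by norm_num),
    rho_K P 0 1 (by norm_num), KV_128 0 (by norm_num) 1 (by norm_num) (by norm_num)]

theorem rho_tr_B7 (P : Ctx S) {i : ℕ} (hi : i < 3) :
    S.rho (Sp.tr (Sp.enc (2 ^ i))) (P.B 7) = P.B 7 := by
  rw [← P.enc_128, P.rho_enc _ (by norm_num), stU_128 i hi]

theorem rho_K_B7 (P : Ctx S) {i j : ℕ} (hi : i < 3) (hj : j < 3) (hij : i ≠ j) :
    S.rho (K i j) (P.B 7) = P.B 7 := by
  rw [← P.enc_128, rho_K P i j (by norm_num), KV_128 i hi j hj hij]

/-- elements of `Q` have fourth power `1` -/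
theorem pow_four (S : Sit G Q t) {x : G} (hx : x ∈ Q) : x ^ 4 = 1 := by
  have e : x ^ 4 = (x * x) * (x * x) := by simp only [pow_succ, pow_zero, one_mul, mul_assoc]
  rw [e]
  rcases S.large.sq x hx with h | h
  · rw [h, mul_one]
  · rw [h, S.large.z_sq]

/-- an element of order 7 of `C(t) ∩ C(t')`, `t' ∈ Q` -/
theorem exists_seven (P : Ctx S) {t' : G} (ht' : t' ∈ Q) (hne : t' ≠ 1) (hne' : t' ≠ t)
    (h7 : S.large.pr ⟨t', ht'⟩ = P.B 7) :
    ∃ s, s * t = t * s ∧ s * t' = t' * s ∧ s ^ 7 = 1 ∧ s ≠ 1 := by
  obtain ⟨a, ha, ha', hps⟩ := S.exists_lift ht' hne hne' k7 (by rw [h7]; exact rho_k7 P)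
  have hcom : Commute a t := ha
  have hcom' : Commute a t' := ha'
  have h1 : ∀ n : ℕ, S.ps (hcom.pow_left n).eq = k7 ^ n := by
    intro n
    rw [← hps]
    show S.psi _ = (S.psi _) ^ n
    rw [← map_pow]
    rfl
  have hQ7 : a ^ 7 ∈ Q := by
    rw [← S.ps_eq_one (hcom.pow_left 7).eq, h1, k7_pow]
  refine ⟨a ^ 8, hcom.pow_left 8, hcom'.pow_left 8, ?_, ?_⟩
  · have e : (a ^ 8) ^ 7 = ((a ^ 7) ^ 4) ^ 2 := by
      rw [← pow_mul, ← pow_mul, ← pow_mul]
    rw [e, pow_four S hQ7, one_pow]
  · intro h8
    have h2 := h1 8
    have h3 : S.ps (hcom.pow_left 8).eq = 1 := by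
      rw [S.ps_eq_one, h8]; exact one_mem Q
    rw [h3] at h2
    have h4 : k7 ^ 8 = k7 := by rw [pow_succ, k7_pow, one_mul]
    rw [h4] at h2
    exact k7_ne h2.symm

/-- `t' ∈ Q` implies `t ∈ Q'` for conjugate situations -/
theorem mem_of_mem (P : Ctx S) {Q' : Subgroup G} {t' : G} (S' : Sit G Q' t') (ht' : t' ∈ Q)
    (hne' : t' ≠ t) (h7 : S.large.pr ⟨t', ht'⟩ = P.B 7) : t ∈ Q' := by
  obtain ⟨s, hs, hs', hs7, hs1⟩ := exists_seven P ht' S'.large.z_ne hne' h7
  by_contra hno
  have htt : t * t' = t' * t := (S.large.comm_z t' ht').symm
  have h1 : S'.ps htt ≠ 1 := by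
    rw [Ne, S'.ps_eq_one]; exact hno
  have h2 : S'.ps htt * S'.ps htt = 1 := by
    have h3 : t * t * t' = t' * (t * t) := by rw [S.large.z_sq, one_mul, mul_one]
    rw [← S'.ps_mul htt htt h3, S'.ps_eq_one, S.large.z_sq]
    exact one_mem Q'
  have h3 : S'.ps hs' ≠ 1 := by
    rw [Ne, S'.ps_eq_one]
    intro hmem
    apply hs1
    have h4 := pow_four S' hmem
    have e : s = (s ^ 4) ^ 2 * (s ^ 7)⁻¹ := by group
    rw [e, h4, hs7]; group
  have h4 : S'.ps hs' ^ 7 = 1 := by
    show (S'.psi _) ^ 7 = 1
    rw [← map_pow, S'.psi_ker]
    show s ^ 7 ∈ Q'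
    rw [hs7]; exact one_mem Q'
  refine Seven.not_comm h2 h1 h4 h3 ?_
  have h5 : s * t * t' = t' * (s * t) := by rw [mul_assoc, htt, ← mul_assoc, hs', mul_assoc]
  have h6 : t * s * t' = t' * (t * s) := by rw [← hs]; exact h5
  rw [← S'.ps_mul hs' htt h5, ← S'.ps_mul htt hs' h6]
  unfold Sit.ps
  congr 1
  exact Subtype.ext hs

end Cfsg.Agent.Co2Type.Levi
end

-- part: Co2Type/WeakB1
section
/-!
# `t` is weakly closed in `Q` (R03, Co2 type, letter B, helper595)

Suppose `t' = g t g⁻¹ ∈ Q`, `t' ≠ t`; without loss `pr t' = B 7`.  By `Levi.mem_of_mem` also `t ∈ Q'`.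
`J = pr (Q ∩ Q')` is totally singular and invariant under the stabiliser of `B 7`, so it is
`⟨B 7⟩` or `W = ⟨B 3, B 5, B 6, B 7⟩`; both are impossible.
-/

set_option autoImplicit false
open Cfsg

namespace Cfsg.Agent.Co2Type.WeakB1

open Cfsg.Agent.Co2Type.Quad Cfsg.Agent.Co2Type.Setup Cfsg.Agent.Co2Type.Spin
open Cfsg.Agent.Co2Type.Code Cfsg.Agent.Co2Type.Levi Cfsg.Agent.Co2Type.Pair
open Cfsg.Agent.SporRec.TwoSp6

variable {G : Type*} [Group G] {Q Q' : Subgroup G} {t t' : G} {S : Sit G Q t}

/-- the data of the contradiction -/
structure Bad (P : Ctx S) (Q' : Subgroup G) (t' : G) : Prop where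
  h' : Large Q' t'
  card' : Nat.card Q' = 2 ^ 9
  mem : t' ∈ Q
  mem' : t ∈ Q'
  ne : t' ≠ t
  B7 : S.large.pr ⟨t', mem⟩ = P.B 7

variable {P : Ctx S}

/-- `J = pr (Q ∩ Q')` -/
def inJ (P : Ctx S) (Q' : Subgroup G) (v : S.large.V) : Prop :=
  ∃ x : Q, (x : G) ∈ Q' ∧ S.large.pr x = v

namespace Bad

variable (b : Bad P Q' t')

include b

theorem J_B7 : inJ P Q' (P.B 7) := ⟨⟨t', b.mem⟩, b.h'.z_mem, b.B7⟩

theorem J_add {v w : S.large.V} (hv : inJ P Q' v) (hw : inJ P Q' w) : inJ P Q' (v + w) := by
  obtain ⟨x, hx, rfl⟩ := hv
  obtain ⟨y, hy, rfl⟩ := hw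
  exact ⟨x * y, mul_mem hx hy, S.large.pr_mul x y⟩

theorem J_sing {v : S.large.V} (hv : inJ P Q' v) : S.large.q v = 0 := by
  obtain ⟨x, hx, rfl⟩ := hv
  rw [S.large.q_eq_zero]
  exact inf_sq S.large b.h' b.ne (mem_inf.2 ⟨x.2, hx⟩)

theorem J_perp {v w : S.large.V} (hv : inJ P Q' v) (hw : inJ P Q' w) : S.large.b v w = 0 := by
  have h1 := S.large.q_add' v w
  rw [b.J_sing hv, b.J_sing hw, b.J_sing (b.J_add hv hw), zero_add, zero_add] at h1
  exact h1.symm

theorem J_rho {k : Sp6} (hk : S.rho k (P.B 7) = P.B 7) {v : S.large.V} (hv : inJ P Q' v) :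
    inJ P Q' (S.rho k v) := by
  obtain ⟨a, ha, ha', rfl⟩ := S.exists_lift b.mem b.h'.z_ne b.ne k (by rw [b.B7]; exact hk)
  obtain ⟨x, hx, rfl⟩ := hv
  rw [S.rho_ps]
  exact ⟨_, (mem_inf.1 (conj_mem_inf S.large b.h' ha ha' (mem_inf.2 ⟨x.2, hx⟩))).2, rfl⟩

theorem Jc_xor {c d : ℕ} (hc : inJ P Q' (enc P.B c)) (hd : inJ P Q' (enc P.B d)) :
    inJ P Q' (enc P.B (c ^^^ d)) := by
  rw [enc_xor]; exact b.J_add hc hd

theorem Jc_E {i c : ℕ} (hi : i < 3) (hc : c < 256) (h : inJ P Q' (enc P.B c)) :
    inJ P Q' (enc P.B (nE i c)) := by
  have h1 := b.J_rho (rho_tr_B7 P hi) h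
  rw [P.rho_enc _ hc] at h1
  have h2 := b.Jc_xor h h1
  have h3 : ∀ i < 3, ∀ c < 256, c ^^^ stU (2 ^ i) c = nE i c := by (first | (refine of_decide_eq_true ?_; rewrite [Cfsg.Agent.KO486c9bf.e0, Cfsg.Agent.KO486c9bf.e1, Cfsg.Agent.KO486c9bf.e21, Cfsg.Agent.KO486c9bf.e37, Cfsg.Agent.KO486c9bf.e33]; decide +kernel) | decide +kernel)
  rwa [h3 i hi c hc] at h2

theorem Jc_EF {i j c : ℕ} (hi : i < 3) (hj : j < 3) (hij : i ≠ j) (hc : c < 256)
    (h : inJ P Q' (enc P.B c)) : inJ P Q' (enc P.B (nE i (nF j c))) := by
  have h1 := b.J_rho (rho_K_B7 P hi hj hij) h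
  rw [rho_K P i j hc, KV_eq i hi j hj hij c hc] at h1
  have h2 := b.Jc_xor h h1
  rwa [← Nat.xor_assoc, Nat.xor_self, Nat.zero_xor] at h2

theorem Jc_perp {c d : ℕ} (hc : inJ P Q' (enc P.B c)) (hd : inJ P Q' (enc P.B d)) :
    bN c d = false := by
  have h1 := b.J_perp hc hd
  rw [P.b_enc] at h1
  exact Ctx.bz_eq_zero h1

theorem Jc_128 : inJ P Q' (enc P.B 128) := by rw [P.enc_128]; exact b.J_B7

private noncomputable def _root_.Cfsg.Agent.KO486c9bf.k43 : type_of% @Nat.testBit := @(fun x0 x1 => @Bool.rec.{1} @(fun x2 => @Bool) @Bool.true @Bool.false (@Cfsg.Agent.KO486c9bf.k22.{1} @Bool (@Nat.land (nat_lit 1) (@Nat.shiftRight @x0 @x1)) (nat_lit 0) @Bool.false @Bool.true))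
private theorem _root_.Cfsg.Agent.KO486c9bf.e43 : @Nat.testBit = @_root_.Cfsg.Agent.KO486c9bf.k43 := by delta _root_.Cfsg.Agent.KO486c9bf.k43; rewrite [← Cfsg.Agent.KO486c9bf.e22.{1}]; rfl'

omit b in
theorem cert1 : ∀ c < 256, (c.testBit 0 = true → bN c 128 = true) := by (first | (refine of_decide_eq_true ?_; rewrite [Cfsg.Agent.KO486c9bf.e0, Cfsg.Agent.KO486c9bf.e1, Cfsg.Agent.KO486c9bf.e25, Cfsg.Agent.KO486c9bf.e3, Cfsg.Agent.KO486c9bf.e43]; decide +kernel) | decide +kernel)

omit b in
theorem cert1b : ∀ c < 256, (c.testBit 1 = true → nE 2 (nF 0 (nE 1 c)) = 64 ∧ bN c 64 = true) := by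
  (first | (refine of_decide_eq_true ?_; rewrite [Cfsg.Agent.KO486c9bf.e0, Cfsg.Agent.KO486c9bf.e1, Cfsg.Agent.KO486c9bf.e25, Cfsg.Agent.KO486c9bf.e3, Cfsg.Agent.KO486c9bf.e43, Cfsg.Agent.KO486c9bf.e17, Cfsg.Agent.KO486c9bf.e21, Cfsg.Agent.KO486c9bf.e33, Cfsg.Agent.KO486c9bf.e34]; decide +kernel) | decide +kernel)

omit b in
theorem cert1c : ∀ c < 256, (c.testBit 2 = true → nE 2 (nF 1 (nE 0 c)) = 32 ∧ bN c 32 = true) := by
  (first | (refine of_decide_eq_true ?_; rewrite [Cfsg.Agent.KO486c9bf.e0, Cfsg.Agent.KO486c9bf.e1, Cfsg.Agent.KO486c9bf.e25, Cfsg.Agent.KO486c9bf.e3, Cfsg.Agent.KO486c9bf.e43, Cfsg.Agent.KO486c9bf.e17, Cfsg.Agent.KO486c9bf.e21, Cfsg.Agent.KO486c9bf.e33, Cfsg.Agent.KO486c9bf.e34]; decide +kernel) | decide +kernel)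

omit b in
theorem cert1d : ∀ c < 256, (c.testBit 4 = true → nE 1 (nF 2 (nE 0 c)) = 8 ∧ bN c 8 = true) := by
  (first | (refine of_decide_eq_true ?_; rewrite [Cfsg.Agent.KO486c9bf.e0, Cfsg.Agent.KO486c9bf.e1, Cfsg.Agent.KO486c9bf.e25, Cfsg.Agent.KO486c9bf.e3, Cfsg.Agent.KO486c9bf.e43, Cfsg.Agent.KO486c9bf.e17, Cfsg.Agent.KO486c9bf.e21, Cfsg.Agent.KO486c9bf.e33, Cfsg.Agent.KO486c9bf.e34]; decide +kernel) | decide +kernel)

omit b in
theorem cert1e : ∀ c < 256, (c &&& 23 = 0 → c.testBit 3 = true → nE 2 (nF 0 c) = 64) := by
  decide +kernel

omit b in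
theorem cert1f : ∀ c < 256, (c &&& 23 = 0 → c.testBit 5 = true → nE 1 (nF 0 c) = 64) := by
  decide +kernel

omit b in
theorem cert1g : ∀ c < 256, (c &&& 23 = 0 → c.testBit 6 = true → nE 0 (nF 1 c) = 32) := by
  decide +kernel

omit b in
theorem cert2 : ∀ c < (256 : ℕ), c.testBit 0 = false → c.testBit 1 = false → c.testBit 2 = false →
    c.testBit 4 = false → c &&& 23 = 0 := by decide +kernel

omit b in
theorem cert3 : ∀ c < (256 : ℕ), c &&& 23 = 0 → c = 0 ∨ c = 128 ∨ c.testBit 3 = true ∨
    c.testBit 5 = true ∨ c.testBit 6 = true := by decide +kernel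

/-- elements of `J` lie in `W` -/
theorem Jc_W {c : ℕ} (hc : c < 256) (h : inJ P Q' (enc P.B c)) : c &&& 23 = 0 := by
  have c0 := cert1 c hc
  have c1 := cert1b c hc
  have c2 := cert1c c hc
  have c4 := cert1d c hc
  apply cert2 c hc
  · cases hb : c.testBit 0
    · rfl
    · have := b.Jc_perp h b.Jc_128
      rw [c0 hb] at this
      exact absurd this (by decide)
  · cases hb : c.testBit 1
    · rfl
    · have h1 := b.Jc_EF (i := 2) (j := 0) (by norm_num) (by norm_num) (by norm_num)
        (nE_lt 1 hc) (b.Jc_E (i := 1) (by norm_num) hc h)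
      obtain ⟨e1, e2⟩ := c1 hb
      have h2 : inJ P Q' (enc P.B 64) := by rw [← e1]; exact h1
      rw [b.Jc_perp h h2] at e2
      exact absurd e2 (by decide)
  · cases hb : c.testBit 2
    · rfl
    · have h1 := b.Jc_EF (i := 2) (j := 1) (by norm_num) (by norm_num) (by norm_num)
        (nE_lt 0 hc) (b.Jc_E (i := 0) (by norm_num) hc h)
      obtain ⟨e1, e2⟩ := c2 hb
      have h2 : inJ P Q' (enc P.B 32) := by rw [← e1]; exact h1
      rw [b.Jc_perp h h2] at e2
      exact absurd e2 (by decide)
  · cases hb : c.testBit 4
    · rfl
    · have h1 := b.Jc_EF (i := 1) (j := 2) (by norm_num) (by norm_num) (by norm_num)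
        (nE_lt 0 hc) (b.Jc_E (i := 0) (by norm_num) hc h)
      obtain ⟨e1, e2⟩ := c4 hb
      have h2 : inJ P Q' (enc P.B 8) := by rw [← e1]; exact h1
      rw [b.Jc_perp h h2] at e2
      exact absurd e2 (by decide)

/-- (C1): `J` is `⟨B 7⟩` or `W` -/
theorem J_cases : (∀ c < 256, inJ P Q' (enc P.B c) → c = 0 ∨ c = 128) ∨
    (inJ P Q' (enc P.B 8) ∧ inJ P Q' (enc P.B 32) ∧ inJ P Q' (enc P.B 64)) := by
  by_cases hall : ∀ c < 256, inJ P Q' (enc P.B c) → c = 0 ∨ c = 128
  · exact Or.inl hall
  right
  push Not at hall
  obtain ⟨c, hc, hJ, hc0, hc128⟩ := hall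
  have hW := b.Jc_W hc hJ
  have c3 := cert1e c hc
  have c5 := cert1f c hc
  have c6 := cert1g c hc
  have h64to8 : inJ P Q' (enc P.B 64) → inJ P Q' (enc P.B 8) := by
    intro h
    have h1 := b.Jc_EF (i := 0) (j := 2) (by norm_num) (by norm_num) (by norm_num)
      (by norm_num : (64 : ℕ) < 256) h
    exact h1
  have h64to32 : inJ P Q' (enc P.B 64) → inJ P Q' (enc P.B 32) := by
    intro h
    have h1 := b.Jc_EF (i := 0) (j := 1) (by norm_num) (by norm_num) (by norm_num)
      (by norm_num : (64 : ℕ) < 256) h
    exact h1
  have h32to64 : inJ P Q' (enc P.B 32) → inJ P Q' (enc P.B 64) := by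
    intro h
    have h1 := b.Jc_EF (i := 1) (j := 0) (by norm_num) (by norm_num) (by norm_num)
      (by norm_num : (32 : ℕ) < 256) h
    exact h1
  have h64 : inJ P Q' (enc P.B 64) := by
    rcases cert3 c hc hW with h | h | h | h | h
    · exact absurd h hc0
    · exact absurd h hc128
    · rw [← c3 hW h]
      exact b.Jc_EF (by norm_num) (by norm_num) (by norm_num) hc hJ
    · rw [← c5 hW h]
      exact b.Jc_EF (by norm_num) (by norm_num) (by norm_num) hc hJ
    · apply h32to64
      rw [← c6 hW h]
      exact b.Jc_EF (by norm_num) (by norm_num) (by norm_num) hc hJ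
  exact ⟨h64to8 h64, h64to32 h64, h64⟩

/-- `[D', v] ≤ J` for `v ⊥ B 7` -/
theorem comm_J {d : G} (hd : d ∈ dsub Q' t) (hdt : d * t = t * d) {v : S.large.V}
    (hv : S.large.b v (P.B 7) = 0) : inJ P Q' (S.rho (S.ps hdt) v + v) := by
  obtain ⟨x, rfl⟩ := S.large.pr_surjective v
  rw [← b.B7, S.large.b_pr] at hv
  have hx : (x : G) ∈ dsub Q t' := mem_dsub.2 ⟨x.2, hv⟩
  have hxi : (x : G)⁻¹ ∈ dsub Q t' := inv_mem hx
  have h1 := commutator_mem S.large b.h' hxi hd
  -- x⁻¹ d x d⁻¹
  have h2 := mem_inf.1 h1
  refine ⟨⟨_, h2.1⟩, h2.2, ?_⟩
  rw [S.rho_ps]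
  have h3 : (⟨(x : G)⁻¹ * d * ((x : G)⁻¹)⁻¹ * d⁻¹, h2.1⟩ : Q) =
      x⁻¹ * ⟨d * x * d⁻¹, S.large.conj_mem d hdt x x.2⟩ := by
    apply Subtype.ext
    show (x : G)⁻¹ * d * ((x : G)⁻¹)⁻¹ * d⁻¹ = (x : G)⁻¹ * (d * x * d⁻¹)
    group
  rw [h3, S.large.pr_mul, S.large.pr_inv, S.large.neg_eq, add_comm]

theorem rho_ps_B7 {d : G} (hd : d ∈ dsub Q' t) (hdt : d * t = t * d) :
    S.rho (S.ps hdt) (P.B 7) = P.B 7 := by
  rw [← b.B7, S.rho_ps]
  congr 1
  apply Subtype.ext
  show d * t' * d⁻¹ = t'
  rw [b.h'.comm_z d (mem_dsub.1 hd).1]; group

theorem card_D' : Nat.card (dsub Q' t) = 2 ^ 8 := by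
  have h1 := card_dsub b.h' b.mem' S.large.z_ne (Ne.symm b.ne)
  rw [b.card'] at h1
  omega

end Bad

end Cfsg.Agent.Co2Type.WeakB1
end

-- part: Co2Type/WeakB1b
section
/-!
# The case `J = ⟨B 7⟩` (R03, Co2 type, letter B, helper595)
-/

set_option autoImplicit false
open Cfsg

namespace Cfsg.Agent.Co2Type.WeakB1

open Cfsg.Agent.Co2Type.Quad Cfsg.Agent.Co2Type.Setup Cfsg.Agent.Co2Type.Spin
open Cfsg.Agent.Co2Type.Code Cfsg.Agent.Co2Type.Levi Cfsg.Agent.Co2Type.Pair
open Cfsg.Agent.SporRec.TwoSp6

variable {G : Type*} [Group G] {Q Q' : Subgroup G} {t t' : G} {S : Sit G Q t}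

/-- `k = N n_a + n_a N` for `N = 1 + d_u k`, `(u, a) = 1`, `k a = a` -/
theorem rank_aux (hs : SpinHyp S.rho) {u a : U} {k : Sp6} (h1 : sf u a = 1)
    (h2 : Sp.act k a = a) (v : S.large.V) :
    S.rho k v = (S.rho (Sp.tr u * k) (n S.rho a v) + n S.rho a v) +
      n S.rho a (S.rho (Sp.tr u * k) v + v) := by
  have e1 : D S.rho k * n S.rho a = n S.rho a * D S.rho k := by
    rw [D_mul_n]
    have : (k : Matrix _ _ (ZMod 2)).mulVec a = a := h2
    rw [this]
  have e2 : D S.rho (Sp.tr u * k) = T S.rho u * D S.rho k := by
    rw [D_mul]; rfl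
  have e3 : T S.rho u * n S.rho a + n S.rho a * T S.rho u = 1 := by
    rw [T_eq]
    calc (1 + n S.rho u) * n S.rho a + n S.rho a * (1 + n S.rho u)
        = (n S.rho a + n S.rho a) + (n S.rho u * n S.rho a + n S.rho a * n S.rho u) := by noncomm_ring
      _ = 1 := by rw [add_self', zero_add, n_anticomm hs, h1, one_smul]
  have e4 : D S.rho k = (D S.rho (Sp.tr u * k) * n S.rho a + n S.rho a) +
      n S.rho a * (D S.rho (Sp.tr u * k) + 1) := by
    rw [e2]
    calc D S.rho k = (T S.rho u * n S.rho a + n S.rho a * T S.rho u) * D S.rho k := by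
          rw [e3, one_mul]
      _ = T S.rho u * (n S.rho a * D S.rho k) + n S.rho a * (T S.rho u * D S.rho k) := by
          noncomm_ring
      _ = T S.rho u * D S.rho k * n S.rho a + n S.rho a * (T S.rho u * D S.rho k) := by
          rw [← e1]; noncomm_ring
      _ = T S.rho u * D S.rho k * n S.rho a + n S.rho a * (T S.rho u * D S.rho k) +
          (n S.rho a + n S.rho a) := by rw [add_self', add_zero]
      _ = _ := by noncomm_ring
  exact LinearMap.congr_fun e4 v

theorem rank_false (hs : SpinHyp S.rho) {u a : U} {k : Sp6} (h1 : sf u a = 1)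
    (h2 : Sp.act k a = a) (T4 : Finset S.large.V) (hT : ∀ v, S.rho (Sp.tr u * k) v + v ∈ T4)
    (hc : T4.card ≤ 4) : False := by
  classical
  let Φ : S.large.V → T4 × T4 := fun v => (⟨_, hT (n S.rho a v)⟩, ⟨_, hT v⟩)
  have hinj : Function.Injective Φ := by
    intro v w hvw
    have e1 := congrArg (fun x : T4 × T4 => (x.1 : S.large.V)) hvw
    have e2 := congrArg (fun x : T4 × T4 => (x.2 : S.large.V)) hvw
    simp only [Φ] at e1 e2
    have e3 := rank_aux hs h1 h2 v
    rw [e1, e2, ← rank_aux hs h1 h2 w] at e3
    exact (S.rho k).injective e3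
  have hle := Nat.card_le_card_of_injective Φ hinj
  rw [S.card_V, Nat.card_prod, Nat.card_eq_fintype_card, Fintype.card_coe] at hle
  have : T4.card * T4.card ≤ 4 * 4 := Nat.mul_le_mul hc hc
  omega

/-- an involution `r ≠ 1` of `Sp6(2)` with `|(r-1)V| ≤ 4` satisfies `q((r-1)v) = 0` -/
theorem q_of_small (hs : SpinHyp S.rho) {r : Sp6} (hr : r * r = 1) (hr1 : r ≠ 1)
    (T4 : Finset S.large.V) (hT : ∀ v, S.rho r v + v ∈ T4) (hc : T4.card ≤ 4) (v : S.large.V) :
    S.large.q (S.rho r v + v) = 0 := by
  rcases Invol.classify hr hr1 with ⟨u, hu, rfl⟩ | ⟨u, w, hu, hw, hwu, huw, rfl⟩ |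
    ⟨u, w, hu, hw, hwu, huw, rfl⟩ | ⟨u, w, s, hind, hort, rfl⟩
  · exfalso
    obtain ⟨a, ha⟩ := Sp.exists_om_one hu
    refine rank_false hs (u := u) (a := a) (k := 1) ha (Sp.act_one a) T4 ?_ hc
    rwa [mul_one]
  · exfalso
    obtain ⟨a, ha, ha'⟩ := Sp.exists_om_one_zero hu (Ne.symm hwu)
    refine rank_false hs (u := u) (a := a) (k := Sp.tr w) ha ?_ T4 hT hc
    rw [Sp.act_tr, Sp.om_symm, ha', zero_smul, add_zero]
  · have h1 : S.rho (Sp.tr u * Sp.tr w * Sp.tr (u + w)) v + v = n S.rho u (n S.rho w v) := by
      have e1 : D S.rho (Sp.tr u * Sp.tr w * Sp.tr (u + w)) + 1 = n S.rho u * n S.rho w := by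
        have e2 : D S.rho (Sp.tr u * Sp.tr w * Sp.tr (u + w)) =
            T S.rho u * T S.rho w * T S.rho (u + w) := by
          rw [D_mul, D_mul]; rfl
        have e3 : n S.rho (u + w) = n S.rho u + n S.rho w := by
          rw [n_add hs S.card_V]
          have : sf u w = 0 := huw
          rw [this, zero_smul, add_zero]
        have e4 := n_mul_self S.rho u
        have e5 := n_mul_self S.rho w
        have e6 : n S.rho w * n S.rho u = n S.rho u * n S.rho w :=
          n_comm_of_zero S.rho huw
        rw [e2, T_eq, T_eq, T_eq, e3]
        calc (1 + n S.rho u) * (1 + n S.rho w) * (1 + (n S.rho u + n S.rho w)) + 1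
            = (1 + 1) + (n S.rho u + n S.rho u) + (n S.rho w + n S.rho w) +
              n S.rho u * n S.rho u + n S.rho w * n S.rho w + n S.rho u * n S.rho w +
              (n S.rho w * n S.rho u + n S.rho u * n S.rho w) +
              n S.rho u * (n S.rho w * n S.rho u) + n S.rho u * (n S.rho w * n S.rho w) := by
                noncomm_ring
          _ = n S.rho u * n S.rho w := by
            rw [e4, e5, e6, add_self', add_self', add_self', add_self', mul_zero,
              ← mul_assoc (n S.rho u), e4, zero_mul]
            simp only [zero_add, add_zero, add_self']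
      exact LinearMap.congr_fun e1 v
    rw [h1]
    exact q_n hs S.b_rho S.large.b_self S.large.q_add' S.q_rho _ _
  · exfalso
    obtain ⟨a, ha, ha1, ha2⟩ := Invol.exists_om_triple (u := w) (w := s) (t := u) (by
      obtain ⟨i1, i2, i3, i4, i5, i6, i7⟩ := hind
      refine ⟨i2, i4, i6, i1, Ne.symm i3, Ne.symm i5, ?_⟩
      intro h
      apply i7
      rw [h, add_comm w s, add_assoc, Sp.add_self, add_zero])
    refine rank_false hs (u := u) (a := a) (k := Sp.tr w * Sp.tr s) ha ?_ T4 ?_ hc
    · have f1 : Sp.act (Sp.tr s) a = a := by
        rw [Sp.act_tr, Sp.om_symm, ha2, zero_smul, add_zero]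
      have f2 : Sp.act (Sp.tr w) a = a := by
        rw [Sp.act_tr, Sp.om_symm, ha1, zero_smul, add_zero]
      rw [Sp.act_mul, f1, f2]
    · intro v
      rw [← mul_assoc]; exact hT v

variable {P : Ctx S}

namespace Bad

variable (b : Bad P Q' t')

include b

/-- elements of `R = psi(D')` have square `1` -/
theorem ps_sq {d : G} (hd : d ∈ dsub Q' t) (hdt : d * t = t * d) :
    S.ps hdt * S.ps hdt = 1 := by
  have h2 : d * d * t = t * (d * d) := by rw [mul_assoc, hdt, ← mul_assoc, hdt, mul_assoc]
  rw [← S.ps_mul hdt hdt h2, S.ps_eq_one]
  rcases b.h'.sq d (mem_dsub.1 hd).1 with h | h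
  · rw [h]; exact one_mem Q
  · rw [h]; exact b.mem

/-- the target set of (C2) -/
def TC2 : Finset ℕ := (Finset.range 256).filter (fun c => c.testBit 0 = false ∧ c.testBit 7 = qN c)

omit b in
theorem card_TC2 : TC2.card = 64 := by decide +kernel

omit b in
theorem certq : ∀ c < 256, c.testBit 0 = false → qN (1 ^^^ c) = false → c.testBit 7 = qN c := by
  (first | (refine of_decide_eq_true ?_; rewrite [Cfsg.Agent.KO486c9bf.e0, Cfsg.Agent.KO486c9bf.e1, Cfsg.Agent.KO486c9bf.e25, Cfsg.Agent.KO486c9bf.e3, Cfsg.Agent.KO486c9bf.e43]; decide +kernel) | decide +kernel)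

omit b in
theorem certb : ∀ c < 256, bN c 128 = c.testBit 0 := by (first | (refine of_decide_eq_true ?_; rewrite [Cfsg.Agent.KO486c9bf.e0, Cfsg.Agent.KO486c9bf.e1, Cfsg.Agent.KO486c9bf.e3, Cfsg.Agent.KO486c9bf.e43]; decide +kernel) | decide +kernel)

/-- the case `J = ⟨B 7⟩` is impossible -/
theorem false_of_small [Finite G] (hJ : ∀ c < 256, inJ P Q' (enc P.B c) → c = 0 ∨ c = 128) :
    False := by
  classical
  have hJv : ∀ v, inJ P Q' v → v = 0 ∨ v = P.B 7 := by
    intro v hv
    rcases hJ (cd P.B v) (cd_lt P.B v) (by rw [enc_cd]; exact hv) with h | h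
    · left; rw [← enc_cd P.B v, h, enc_zero]
    · right; rw [← enc_cd P.B v, h, P.enc_128]
  have hB07 : S.large.b (P.B 0) (P.B 7) = 1 := by rw [P.hb, if_pos (by rfl)]
  have h128 := P.enc_128
  have h1c : enc P.B 1 = P.B 0 := enc_pow P.B 0
  have hadd := S.large.add_self
  set D' := dsub Q' t with hD'
  have hcomm : ∀ d : D', (d : G) * t = t * d := fun d => (mem_dsub.1 d.2).2
  -- `B7^⊥` is moved by multiples of `B7`
  have hperp : ∀ (d : D') (v : S.large.V), S.large.b v (P.B 7) = 0 →
      S.rho (S.ps (hcomm d)) v = v ∨ S.rho (S.ps (hcomm d)) v = v + P.B 7 := by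
    intro d v hv
    rcases hJv _ (b.comm_J d.2 (hcomm d) hv) with h | h
    · left
      have := congrArg (fun x => x + v) h
      simp only [add_assoc, hadd v, add_zero, zero_add] at this
      exact this
    · right
      have := congrArg (fun x => x + v) h
      simp only [add_assoc, hadd v, add_zero] at this
      rw [this, add_comm]
  -- an element fixing `B0` lies in `Q`
  have hfix0 : ∀ d : D', S.rho (S.ps (hcomm d)) (P.B 0) = P.B 0 → (d : G) ∈ Q := by
    intro d hd0
    rw [← S.ps_eq_one (hcomm d)]
    apply S.rho_injective
    rw [map_one]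
    apply LinearEquiv.toLinearMap_injective
    apply P.B.ext
    intro I
    show S.rho (S.ps (hcomm d)) (P.B I) = P.B I
    by_cases hI : I = 0
    · rw [hI]; exact hd0
    · have hbI : S.large.b (P.B I) (P.B 7) = 0 := by
        rw [P.hb, if_neg]
        intro h
        exact hI (by simpa using h)
      rcases hperp d (P.B I) hbI with h | h
      · exact h
      · exfalso
        have h2 := S.b_rho (S.ps (hcomm d)) (P.B I) (P.B 0)
        rw [h, hd0, map_add, LinearMap.add_apply, S.large.b_comm (P.B 7), hB07] at h2
        have h3 : ∀ a : ZMod 2, a + 1 ≠ a := by decide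
        exact h3 _ h2
  -- order of the kernel
  have hKc : Nat.card ((Q ⊓ Q').subgroupOf D') ≤ 4 := by
    have hsub : ∀ x ∈ (Q ⊓ Q').subgroupOf D', (x : G) ∈ ({1, t, t', t' * t} : Finset G) := by
      intro x hx
      rw [Subgroup.mem_subgroupOf, Pair.mem_inf] at hx
      have h2 := hJv (S.large.pr ⟨x, hx.1⟩) ⟨⟨x, hx.1⟩, hx.2, rfl⟩
      simp only [Finset.mem_insert, Finset.mem_singleton]
      rcases h2 with h2 | h2
      · rcases S.large.pr_eq_zero.1 h2 with h3 | h3
        · exact Or.inl h3
        · exact Or.inr (Or.inl h3)
      · rw [← b.B7, S.large.pr_eq_pr] at h2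
        rcases h2 with h3 | h3
        · exact Or.inr (Or.inr (Or.inl h3))
        · exact Or.inr (Or.inr (Or.inr h3))
    let g : (Q ⊓ Q').subgroupOf D' → ({1, t, t', t' * t} : Finset G) := fun x => ⟨_, hsub x x.2⟩
    have hg : Function.Injective g := by
      intro x y hxy
      apply Subtype.ext
      apply Subtype.ext
      exact congrArg (fun z : ({1, t, t', t' * t} : Finset G) => (z : G)) hxy
    refine (Nat.card_le_card_of_injective g hg).trans ?_
    rw [Nat.card_eq_fintype_card, Fintype.card_coe]
    exact Finset.card_le_four
  -- the counting map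
  let F : D' → ℕ := fun d => cd P.B (S.rho (S.ps (hcomm d)) (P.B 0) + P.B 0)
  have hFT : ∀ d, F d ∈ TC2 := by
    intro d
    have hlt : F d < 256 := cd_lt _ _
    have he : enc P.B (F d) = S.rho (S.ps (hcomm d)) (P.B 0) + P.B 0 := enc_cd _ _
    have hb0 : (F d).testBit 0 = false := by
      have h2 : S.large.b (enc P.B (F d)) (enc P.B 128) = 0 := by
        rw [he, h128, map_add, LinearMap.add_apply]
        have h3 := S.b_rho (S.ps (hcomm d)) (P.B 0) (P.B 7)
        rw [b.rho_ps_B7 d.2 (hcomm d)] at h3
        rw [h3]
        exact zmod2_add_self _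
      rw [P.b_enc, certb _ hlt] at h2
      exact Ctx.bz_eq_zero h2
    have hq0 : qN (1 ^^^ F d) = false := by
      have h2 : enc P.B (1 ^^^ F d) = S.rho (S.ps (hcomm d)) (P.B 0) := by
        rw [enc_xor, he, h1c, add_comm (S.rho _ _), ← add_assoc, hadd, zero_add]
      have h3 := S.q_rho (S.ps (hcomm d)) (P.B 0)
      rw [← h2, P.hq, P.q_enc (Nat.xor_lt_two_pow (n := 8) (by norm_num) hlt)] at h3
      exact Ctx.bz_eq_zero h3
    rw [TC2, Finset.mem_filter, Finset.mem_range]
    exact ⟨hlt, hb0, certq _ hlt hb0 hq0⟩
  have hFK : ∀ x y : D', F x = F y → x⁻¹ * y ∈ (Q ⊓ Q').subgroupOf D' := by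
    intro x y hxy
    have h2 := cd_inj P.B hxy
    have h3 := add_right_cancel h2
    have hx' : (x : G)⁻¹ * t = t * (x : G)⁻¹ := by
      have := hcomm x⁻¹
      exact this
    have h4 : S.rho (S.ps (hcomm (x⁻¹ * y))) (P.B 0) = P.B 0 := by
      have e : S.ps (hcomm (x⁻¹ * y)) = (S.ps (hcomm x))⁻¹ * S.ps (hcomm y) := by
        rw [← S.ps_inv (hcomm x) hx']
        exact S.ps_mul hx' (hcomm y) (hcomm (x⁻¹ * y))
      rw [e, map_mul, LinearEquiv.mul_apply, ← h3, ← LinearEquiv.mul_apply, ← map_mul,
        inv_mul_cancel, map_one]
      rfl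
    rw [Subgroup.mem_subgroupOf, Pair.mem_inf]
    exact ⟨hfix0 _ h4, (mem_dsub.1 (x⁻¹ * y).2).1⟩
  have hcard : TC2.card * Nat.card ((Q ⊓ Q').subgroupOf D') ≤ Nat.card D' := by
    rw [card_TC2, b.card_D']
    calc 64 * Nat.card ((Q ⊓ Q').subgroupOf D') ≤ 64 * 4 := Nat.mul_le_mul_left _ hKc
      _ = 2 ^ 8 := by norm_num
  obtain ⟨d, hd⟩ := surj_of_fibre ((Q ⊓ Q').subgroupOf D') TC2 F hFT hFK hcard
    (c := 194) (by decide +kernel)
  have he : S.rho (S.ps (hcomm d)) (P.B 0) + P.B 0 = enc P.B 194 := by
    rw [← hd, enc_cd]
  have hq : S.large.q (enc P.B 194) = 1 := by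
    rw [P.q_enc (by norm_num)]; rfl
  have hr1 : S.ps (hcomm d) ≠ 1 := by
    intro h
    rw [h, map_one] at he
    have h2 : enc P.B 194 = 0 := by rw [← he]; exact hadd _
    rw [h2, S.large.q_zero] at hq
    exact absurd hq (by decide)
  have hT : ∀ v, S.rho (S.ps (hcomm d)) v + v ∈
      ({0, P.B 7, enc P.B 194, enc P.B 194 + P.B 7} : Finset S.large.V) := by
    intro v
    simp only [Finset.mem_insert, Finset.mem_singleton]
    rcases zmod2_cases (S.large.b v (P.B 7)) with hv | hv
    · rcases hperp d v hv with h | h
      · left; rw [h, hadd]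
      · right; left; rw [h, add_comm v, add_assoc, hadd, add_zero]
    · have hv' : S.large.b (v + P.B 0) (P.B 7) = 0 := by
        rw [map_add, LinearMap.add_apply, hv, hB07]; decide
      have e1 : S.rho (S.ps (hcomm d)) v + v =
          (S.rho (S.ps (hcomm d)) (v + P.B 0) + (v + P.B 0)) + enc P.B 194 := by
        rw [← he, map_add]
        have h2 := hadd (S.rho (S.ps (hcomm d)) (P.B 0))
        have h3 := hadd (P.B 0)
        calc S.rho (S.ps (hcomm d)) v + v = S.rho (S.ps (hcomm d)) v + v +
              (S.rho (S.ps (hcomm d)) (P.B 0) + S.rho (S.ps (hcomm d)) (P.B 0)) +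
              (P.B 0 + P.B 0) := by rw [h2, h3, add_zero, add_zero]
          _ = _ := by abel
      rw [e1]
      rcases hperp d _ hv' with h | h
      · right; right; left; rw [h, hadd, zero_add]
      · right; right; right
        rw [h, add_comm (v + P.B 0) (P.B 7), add_assoc (P.B 7), hadd, add_zero, add_comm]
  have hfin := q_of_small P.hs (b.ps_sq d.2 (hcomm d)) hr1 _ hT Finset.card_le_four (P.B 0)
  rw [he, hq] at hfin
  exact absurd hfin (by decide)

end Bad

end Cfsg.Agent.Co2Type.WeakB1
end

-- part: Co2Type/WeakB1c
section
/-!
# The case `J = W`, and the weak closure theorem (R03, Co2 type, letter B, helper595)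
-/

set_option autoImplicit false
open Cfsg

namespace Cfsg.Agent.Co2Type.WeakB1

open Cfsg.Agent.Co2Type.Quad Cfsg.Agent.Co2Type.Setup Cfsg.Agent.Co2Type.Spin
open Cfsg.Agent.Co2Type.Code Cfsg.Agent.Co2Type.Levi Cfsg.Agent.Co2Type.Pair
open Cfsg.Agent.SporRec.TwoSp6

/-! ### identification of a transvection in `Sp6(2)` -/

theorem tr_inj {u w : U} (hu : u ≠ 0) (h : Sp.tr u = Sp.tr w) : u = w := by
  obtain ⟨x, hx⟩ := Sp.exists_om_one hu
  have h1 := Sp.act_tr u x
  rw [h, Sp.act_tr, Sp.om_symm x u, hx, one_smul] at h1
  have h2 := add_left_cancel h1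
  rcases Sp.om_cases x w with h3 | h3
  · rw [h3, zero_smul] at h2
    exact absurd h2.symm hu
  · rw [h3, one_smul] at h2
    exact h2.symm

theorem act_eq_of_comm {r : Sp6} {u : U} (hu : u ≠ 0) (h : Sp.tr u * r = r * Sp.tr u) :
    Sp.act r u = u := by
  have h1 := Sp.conj_tr r u
  rw [← h, mul_inv_cancel_right] at h1
  exact (tr_inj hu h1).symm

theorem e_eq (i : ℕ) (hi : i < 3) : (Sp.enc (2 ^ i) : U) = e ⟨i, hi⟩ := by
  interval_cases i <;> (funext j; rcases j with j | j <;> fin_cases j <;> rfl)

theorem f_eq (i : ℕ) (hi : i < 3) : (Sp.enc (2 ^ (3 + i)) : U) = f ⟨i, hi⟩ := by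
  interval_cases i <;> (funext j; rcases j with j | j <;> fin_cases j <;> rfl)

theorem act_K_apply {i j : ℕ} (hi : i < 3) (hj : j < 3) (hij : i ≠ j) (x : U) :
    Sp.act (K i j) x = x + (Sp.om x (f ⟨j, hj⟩) • e ⟨i, hi⟩ + Sp.om x (e ⟨i, hi⟩) • f ⟨j, hj⟩) := by
  rw [K, Sp.enc_xor, e_eq i hi, f_eq j hj, ← mul_assoc]
  apply Invol.tr3_apply
  have h1 : sf (e ⟨i, hi⟩) (f ⟨j, hj⟩) = 0 := by
    rw [sf_e_f, if_neg]
    intro h
    exact hij (congrArg Fin.val h)
  exact h1

/-- `r f_j = f_j + λ e_i` if `r` commutes with `K i j` -/
theorem act_f_of_comm {r : Sp6} {i j : ℕ} (hi : i < 3) (hj : j < 3) (hij : i ≠ j)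
    (he : Sp.act r (e ⟨i, hi⟩) = e ⟨i, hi⟩) (h : K i j * r = r * K i j) :
    ∃ a : ZMod 2, Sp.act r (f ⟨j, hj⟩) = f ⟨j, hj⟩ + a • e ⟨i, hi⟩ := by
  have h1 : Sp.act (K i j) (Sp.act r (f ⟨i, hi⟩)) = Sp.act r (Sp.act (K i j) (f ⟨i, hi⟩)) := by
    rw [← Sp.act_mul, h, Sp.act_mul]
  have hne : (⟨i, hi⟩ : Fin 3) ≠ ⟨j, hj⟩ := fun h => hij (congrArg Fin.val h)
  have e1 : Sp.om (f ⟨i, hi⟩) (f ⟨j, hj⟩) = 0 := sf_f_f _ _
  have e2 : Sp.om (f ⟨i, hi⟩) (e ⟨i, hi⟩) = 1 := by
    have := sf_f_e ⟨i, hi⟩ ⟨i, hi⟩
    rw [if_pos rfl] at this
    exact this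
  have e3 : Sp.om (Sp.act r (f ⟨i, hi⟩)) (e ⟨i, hi⟩) = 1 := by
    have h5 := Sp.act_om r (f ⟨i, hi⟩) (e ⟨i, hi⟩)
    rw [he, e2] at h5
    exact h5
  rw [act_K_apply hi hj hij, act_K_apply hi hj hij, e1, e2, e3, zero_smul, zero_add, one_smul,
    Sp.act_add] at h1
  have h2 := add_left_cancel h1
  refine ⟨Sp.om (Sp.act r (f ⟨i, hi⟩)) (f ⟨j, hj⟩), ?_⟩
  rw [← h2, add_comm]

theorem eq_of_two {a c : ZMod 2} {i j : Fin 3} (hij : i ≠ j) {x y : U} (h1 : y = x + a • e i)
    (h2 : y = x + c • e j) : y = x := by
  have h3 : a • e i = c • e j := by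
    rw [h1] at h2
    exact add_left_cancel h2
  have h4 := congrArg (fun z => Sp.om z (f i)) h3
  rw [Invol.om_smul', Invol.om_smul'] at h4
  have e1 : Sp.om (e i) (f i) = 1 := by
    have := sf_e_f i i
    rwa [if_pos rfl] at this
  have e2 : Sp.om (e j) (f i) = 0 := by
    have := sf_e_f j i
    rwa [if_neg (Ne.symm hij)] at this
  rw [e1, e2, mul_one, mul_zero] at h4
  rw [h1, h4, zero_smul, add_zero]

theorem U_basis (x : U) : x = x (Sum.inl 0) • e 0 + x (Sum.inl 1) • e 1 + x (Sum.inl 2) • e 2 +
      (x (Sum.inr 0) • f 0 + x (Sum.inr 1) • f 1 + x (Sum.inr 2) • f 2) := by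
  funext i
  rcases i with i | i <;> fin_cases i <;> simp [e, f]

/-- the element of `R` with functional `(1,0,0)` is `d_{e_0}` (or `1`) -/
theorem eq_tr_e0 {r : Sp6} (he : ∀ i < 3, Sp.tr (Sp.enc (2 ^ i)) * r = r * Sp.tr (Sp.enc (2 ^ i)))
    (h01 : K 0 1 * r = r * K 0 1) (h02 : K 0 2 * r = r * K 0 2) (h12 : K 1 2 * r = r * K 1 2)
    (h21 : K 2 1 * r = r * K 2 1) : r = 1 ∨ r = Sp.tr (e 0) := by
  have hne : ∀ i : Fin 3, e i ≠ 0 := by
    intro i h
    have := congrFun h (Sum.inl i)
    rw [e, Pi.single_eq_same] at this
    exact one_ne_zero this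
  have hE : ∀ i : Fin 3, Sp.act r (e i) = e i := by
    intro i
    have h1 := he i i.2
    rw [e_eq i i.2] at h1
    exact act_eq_of_comm (hne i) h1
  have hf1 : Sp.act r (f 1) = f 1 := by
    obtain ⟨a, ha⟩ := act_f_of_comm (i := 0) (j := 1) (by norm_num) (by norm_num) (by norm_num)
      (hE 0) h01
    obtain ⟨c, hc⟩ := act_f_of_comm (i := 2) (j := 1) (by norm_num) (by norm_num) (by norm_num)
      (hE 2) h21
    exact eq_of_two (i := 0) (j := 2) (by decide) ha hc
  have hf2 : Sp.act r (f 2) = f 2 := by
    obtain ⟨a, ha⟩ := act_f_of_comm (i := 0) (j := 2) (by norm_num) (by norm_num) (by norm_num)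
      (hE 0) h02
    obtain ⟨c, hc⟩ := act_f_of_comm (i := 1) (j := 2) (by norm_num) (by norm_num) (by norm_num)
      (hE 1) h12
    exact eq_of_two (i := 0) (j := 1) (by decide) ha hc
  -- `r f_0 = f_0 + c e_0`
  have hom : ∀ x y : U, Sp.om (Sp.act r x) (Sp.act r y) = Sp.om x y := Sp.act_om r
  have hf0 : ∃ c : ZMod 2, Sp.act r (f 0) = f 0 + c • e 0 := by
    refine ⟨Sp.om (Sp.act r (f 0)) (f 0), ?_⟩
    apply Seven.eq_of_om
    intro x
    have hx := U_basis x
    have k1 : ∀ i, Sp.om (e i) (Sp.act r (f 0)) = Sp.om (e i) (f 0) := by
      intro i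
      have := hom (e i) (f 0)
      rwa [hE] at this
    have k2 : Sp.om (f 1) (Sp.act r (f 0)) = 0 := by
      have := hom (f 1) (f 0)
      rw [hf1] at this
      rw [this]; exact sf_f_f 1 0
    have k3 : Sp.om (f 2) (Sp.act r (f 0)) = 0 := by
      have := hom (f 2) (f 0)
      rw [hf2] at this
      rw [this]; exact sf_f_f 2 0
    have m1 : Sp.om (e 0) (f 0) = 1 := by
      have := sf_e_f 0 0
      rwa [if_pos rfl] at this
    have m2 : Sp.om (e 1) (f 0) = 0 := by
      have := sf_e_f 1 0
      rwa [if_neg (by decide)] at this
    have m3 : Sp.om (e 2) (f 0) = 0 := by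
      have := sf_e_f 2 0
      rwa [if_neg (by decide)] at this
    have m4 : Sp.om (f 0) (f 0) = 0 := sf_f_f 0 0
    have m5 : Sp.om (f 1) (f 0) = 0 := sf_f_f 1 0
    have m6 : Sp.om (f 2) (f 0) = 0 := sf_f_f 2 0
    have m7 : ∀ i, Sp.om (e i) (e 0) = 0 := fun i => sf_e_e i 0
    have m8 : Sp.om (f 0) (e 0) = 1 := by
      have := sf_f_e 0 0
      rwa [if_pos rfl] at this
    have m9 : Sp.om (f 1) (e 0) = 0 := by
      have := sf_f_e 1 0
      rwa [if_neg (by decide)] at this
    have m10 : Sp.om (f 2) (e 0) = 0 := by
      have := sf_f_e 2 0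
      rwa [if_neg (by decide)] at this
    have m11 : Sp.om (f 0) (Sp.act r (f 0)) = Sp.om (Sp.act r (f 0)) (f 0) := Sp.om_symm _ _
    rw [hx]
    simp only [Sp.om_add, Sp.om_add', Invol.om_smul, Invol.om_smul', k1, k2, k3, m1, m2, m3, m4, m5,
      m6, m7, m8, m9, m10, m11, mul_zero, mul_one, add_zero, zero_add]
    ring
  obtain ⟨c, hc⟩ := hf0
  have hact : ∀ (s : Sp6) (x : U), Sp.act s x = x (Sum.inl 0) • Sp.act s (e 0) +
      x (Sum.inl 1) • Sp.act s (e 1) + x (Sum.inl 2) • Sp.act s (e 2) +
      (x (Sum.inr 0) • Sp.act s (f 0) + x (Sum.inr 1) • Sp.act s (f 1) +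
        x (Sum.inr 2) • Sp.act s (f 2)) := by
    intro s x
    conv_lhs => rw [U_basis x]
    simp only [Sp.act_add, Invol.act_smul]
  rcases zmod2_cases c with rfl | rfl
  · left
    apply Sp.act_ext
    intro x
    rw [hact r, hact 1, hE, hE, hE, hf1, hf2, hc, zero_smul, add_zero]
    simp only [Sp.act_one]
  · right
    apply Sp.act_ext
    intro x
    have t1 : ∀ i, Sp.act (Sp.tr (e 0)) (e i) = e i := by
      intro i
      have : Sp.om (e i) (e 0) = 0 := sf_e_e i 0
      rw [Sp.act_tr, this, zero_smul, add_zero]
    have t2 : Sp.act (Sp.tr (e 0)) (f 0) = f 0 + (1 : ZMod 2) • e 0 := by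
      have : Sp.om (f 0) (e 0) = 1 := by
        have := sf_f_e 0 0
        rwa [if_pos rfl] at this
      rw [Sp.act_tr, this]
    have t3 : Sp.act (Sp.tr (e 0)) (f 1) = f 1 := by
      have : Sp.om (f 1) (e 0) = 0 := by
        have := sf_f_e 1 0
        rwa [if_neg (by decide)] at this
      rw [Sp.act_tr, this, zero_smul, add_zero]
    have t4 : Sp.act (Sp.tr (e 0)) (f 2) = f 2 := by
      have : Sp.om (f 2) (e 0) = 0 := by
        have := sf_f_e 2 0
        rwa [if_neg (by decide)] at this
      rw [Sp.act_tr, this, zero_smul, add_zero]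
    rw [hact r, hact (Sp.tr (e 0)), hE, hE, hE, hf1, hf2, hc, t1, t1, t1, t2, t3, t4]

variable {G : Type*} [Group G] {Q Q' : Subgroup G} {t t' : G} {S : Sit G Q t} {P : Ctx S}

namespace Bad

variable (b : Bad P Q' t')

include b

omit b in
/-- codes of `W` -/
theorem W_expand : ∀ c < (256 : ℕ), c &&& 23 = 0 → c = (if c.testBit 3 then 8 else 0) ^^^
    ((if c.testBit 5 then 32 else 0) ^^^ ((if c.testBit 6 then 64 else 0) ^^^
      (if c.testBit 7 then 128 else 0))) := by decide +kernel

/-- the order of `Q ∩ Q'` in the case `J = W` -/
theorem card_inf_of_big (h8 : inJ P Q' (enc P.B 8)) (h32 : inJ P Q' (enc P.B 32))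
    (h64 : inJ P Q' (enc P.B 64)) : Nat.card (Q ⊓ Q' : Subgroup G) = 2 ^ 5 := by
  classical
  have h1 := card_two_mul S.large (Q ⊓ Q') inf_le_left (mem_inf.2 ⟨S.large.z_mem, b.mem'⟩)
  have hW : ∀ c < 256, c &&& 23 = 0 → inJ P Q' (enc P.B c) := by
    intro c hc hcW
    rw [W_expand c hc hcW]
    have h0 : inJ P Q' (enc P.B 0) := by
      rw [enc_zero]; exact ⟨1, one_mem Q', S.large.pr_one⟩
    refine b.Jc_xor ?_ (b.Jc_xor ?_ (b.Jc_xor ?_ ?_))
    · split_ifs; exacts [h8, h0]
    · split_ifs; exacts [h32, h0]
    · split_ifs; exacts [h64, h0]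
    · split_ifs; exacts [b.Jc_128, h0]
  let T := (Finset.range 256).filter (fun c => c &&& 23 = 0)
  have hTc : T.card = 16 := by decide +kernel
  have h2 : Nat.card {v : S.large.V // ∃ x : Q, (x : G) ∈ Q ⊓ Q' ∧ S.large.pr x = v} = 16 := by
    rw [← hTc, ← Fintype.card_coe, ← Nat.card_eq_fintype_card]
    apply Nat.card_congr
    have hg : ∀ c : T, ∃ x : Q, (x : G) ∈ Q ⊓ Q' ∧ S.large.pr x = enc P.B c := by
      intro c
      obtain ⟨hc1, hc2⟩ := Finset.mem_filter.1 c.2
      obtain ⟨x, hx, hxe⟩ := hW c (Finset.mem_range.1 hc1) hc2
      exact ⟨x, mem_inf.2 ⟨x.2, hx⟩, hxe⟩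
    let g : T → {v : S.large.V // ∃ x : Q, (x : G) ∈ Q ⊓ Q' ∧ S.large.pr x = v} :=
      fun c => ⟨enc P.B c, hg c⟩
    refine (Equiv.ofBijective g ⟨?_, ?_⟩).symm
    · intro c d hcd
      obtain ⟨hc1, hc2⟩ := Finset.mem_filter.1 c.2
      obtain ⟨hd1, hd2⟩ := Finset.mem_filter.1 d.2
      apply Subtype.ext
      exact enc_inj P.B (Finset.mem_range.1 hc1) (Finset.mem_range.1 hd1)
        (congrArg Subtype.val hcd)
    · rintro ⟨v, x, hx, hxe⟩
      have hJ : inJ P Q' (enc P.B (cd P.B v)) := by
        rw [enc_cd]
        exact ⟨x, (mem_inf.1 hx).2, hxe⟩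
      refine ⟨⟨cd P.B v, Finset.mem_filter.2 ⟨Finset.mem_range.2 (cd_lt _ _),
        b.Jc_W (cd_lt _ _) hJ⟩⟩, ?_⟩
      apply Subtype.ext
      exact enc_cd _ _
  rw [h1, h2]
  norm_num

/-- an element of `D'` fixing `B 3`, `B 5`, `B 6` lies in `Q ∩ Q'` -/
theorem mem_of_fix [Finite G] (h8 : inJ P Q' (enc P.B 8)) (h32 : inJ P Q' (enc P.B 32))
    (h64 : inJ P Q' (enc P.B 64)) {d : G} (hd : d ∈ dsub Q' t) (hdt : d * t = t * d)
    (f8 : S.rho (S.ps hdt) (enc P.B 8) = enc P.B 8)
    (f32 : S.rho (S.ps hdt) (enc P.B 32) = enc P.B 32)
    (f64 : S.rho (S.ps hdt) (enc P.B 64) = enc P.B 64) : d ∈ Q ⊓ Q' := by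
  have hdQ := (mem_dsub.1 hd).1
  have hcI := b.card_inf_of_big h8 h32 h64
  refine mem_of_comm b.h' (Q ⊓ Q') inf_le_right (mem_inf.2 ⟨b.mem, b.h'.z_mem⟩) ?_ (m := 4)
    ?_ ?_ hdQ ?_
  · intro x hx y hy
    have e1 := inf_sq S.large b.h' b.ne hx
    have e2 := inf_sq S.large b.h' b.ne hy
    have e3 := inf_sq S.large b.h' b.ne (mul_mem hx hy)
    calc x * y = x * (x * y * (x * y)) * y := by rw [e3, mul_one]
      _ = (x * x) * (y * x) * (y * y) := by group
      _ = y * x := by rw [e1, e2, one_mul, mul_one]
  · rw [b.card']; norm_num
  · rw [hcI]; norm_num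
  · intro x hx
    obtain ⟨hxQ, hxQ'⟩ := mem_inf.1 hx
    -- `psi d` fixes `pr x`
    have f128 : S.rho (S.ps hdt) (enc P.B 128) = enc P.B 128 := by
      rw [P.enc_128]; exact b.rho_ps_B7 hd hdt
    have hW : ∀ c < 256, c &&& 23 = 0 → S.rho (S.ps hdt) (enc P.B c) = enc P.B c := by
      intro c hc hcW
      rw [W_expand c hc hcW, enc_xor, enc_xor, enc_xor, map_add, map_add, map_add]
      have g : ∀ (p : Bool) (k : ℕ), S.rho (S.ps hdt) (enc P.B k) = enc P.B k →
          S.rho (S.ps hdt) (enc P.B (if p then k else 0)) = enc P.B (if p then k else 0) := by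
        intro p k hk
        split_ifs
        · exact hk
        · rw [enc_zero, map_zero]
      rw [g _ _ f8, g _ _ f32, g _ _ f64, g _ _ f128]
    have hJ : inJ P Q' (enc P.B (cd P.B (S.large.pr ⟨x, hxQ⟩))) := by
      rw [enc_cd]; exact ⟨⟨x, hxQ⟩, hxQ', rfl⟩
    have h1 := hW _ (cd_lt P.B _) (b.Jc_W (cd_lt P.B _) hJ)
    rw [enc_cd, S.rho_ps, S.large.pr_eq_pr] at h1
    simp only at h1
    rcases h1 with h1 | h1
    · rw [mul_inv_eq_iff_eq_mul] at h1
      exact h1
    · exfalso
      -- the commutator lies in `⟨t'⟩` too
      rcases b.h'.comm d hdQ x hxQ' with h2 | h2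
      · rw [h2, mul_inv_cancel_right] at h1
        exact S.large.z_ne (left_eq_mul.1 h1)
      · have h3 : d * x * d⁻¹ = x * t' := by
          have hdt' : Commute d t' := b.h'.comm_z d hdQ
          rw [h2, mul_assoc, ← hdt'.inv_left.eq]; group
        rw [h1] at h3
        exact b.ne (mul_left_cancel h3).symm

end Bad

end Cfsg.Agent.Co2Type.WeakB1
end

-- part: Co2Type/WeakB1d
section
/-!
# `t` is weakly closed in `Q` in the spin case (R03, Co2 type, letter B, helper595)
-/

set_option autoImplicit false
open Cfsg

namespace Cfsg.Agent.Co2Type.WeakB1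

open Cfsg.Agent.Co2Type.Quad Cfsg.Agent.Co2Type.Setup Cfsg.Agent.Co2Type.Spin
open Cfsg.Agent.Co2Type.Code Cfsg.Agent.Co2Type.Levi Cfsg.Agent.Co2Type.Pair
open Cfsg.Agent.SporRec.TwoSp6

variable {G : Type*} [Group G] {Q Q' : Subgroup G} {t t' : G} {S : Sit G Q t} {P : Ctx S}

namespace Bad

variable (b : Bad P Q' t')

/-- the action of the element `r` with functional `(1,0,0)` on codes of `W` -/
def rc (c : ℕ) : ℕ := if c.testBit 6 then c ^^^ 128 else c

theorem rc_tr : ∀ i < 3, ∀ c < 256, c &&& 23 = 0 →
    stU (2 ^ i) c &&& 23 = 0 ∧ rc (stU (2 ^ i) c) = stU (2 ^ i) (rc c) := by (first | (refine of_decide_eq_true ?_; rewrite [Cfsg.Agent.KO486c9bf.e0, Cfsg.Agent.KO486c9bf.e1, Cfsg.Agent.KO486c9bf.e25, Cfsg.Agent.KO486c9bf.e21, Cfsg.Agent.KO486c9bf.e17, Cfsg.Agent.KO486c9bf.e37]; decide +kernel) | decide +kernel)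

theorem rc_K1 : ∀ i < 3, ∀ j < 3, i ≠ j ∧ j ≠ 0 → ∀ c < 256, c &&& 23 = 0 →
    KV i j c &&& 23 = 0 := by (first | (refine of_decide_eq_true ?_; rewrite [Cfsg.Agent.KO486c9bf.e0, Cfsg.Agent.KO486c9bf.e1, Cfsg.Agent.KO486c9bf.e25, Cfsg.Agent.KO486c9bf.e17, Cfsg.Agent.KO486c9bf.e27, Cfsg.Agent.KO486c9bf.e21, Cfsg.Agent.KO486c9bf.e38]; decide +kernel) | decide +kernel)

theorem rc_K2 : ∀ i < 3, ∀ j < 3, i ≠ j ∧ j ≠ 0 → ∀ c < 256, c &&& 23 = 0 →
    rc (KV i j c) = KV i j (rc c) := by (first | (refine of_decide_eq_true ?_; rewrite [Cfsg.Agent.KO486c9bf.e0, Cfsg.Agent.KO486c9bf.e1, Cfsg.Agent.KO486c9bf.e25, Cfsg.Agent.KO486c9bf.e17, Cfsg.Agent.KO486c9bf.e27, Cfsg.Agent.KO486c9bf.e21, Cfsg.Agent.KO486c9bf.e38]; decide +kernel) | decide +kernel)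

theorem rc_lt : ∀ c < 256, rc c < 256 := by decide +kernel

include b

/-- the case `J = W` is impossible -/
theorem false_of_big [Finite G] (h8 : inJ P Q' (enc P.B 8)) (h32 : inJ P Q' (enc P.B 32))
    (h64 : inJ P Q' (enc P.B 64)) : False := by
  classical
  set D' := dsub Q' t with hD'
  have hcomm : ∀ d : D', (d : G) * t = t * d := fun d => (mem_dsub.1 d.2).2
  have hadd := S.large.add_self
  -- `W` is moved by multiples of `B7`
  have hmove : ∀ (d : D') (v : S.large.V), inJ P Q' v →
      S.rho (S.ps (hcomm d)) v = v ∨ S.rho (S.ps (hcomm d)) v = v + P.B 7 := by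
    rintro d _ ⟨x, hx, rfl⟩
    rw [S.rho_ps, ← b.B7, ← S.large.pr_mul, S.large.pr_eq_pr, S.large.pr_eq_pr]
    rcases b.h'.comm d (mem_dsub.1 d.2).1 x hx with h | h
    · left; left
      show (d : G) * x * (d : G)⁻¹ = x
      rw [h, mul_inv_cancel_right]
    · right; left
      show (d : G) * x * (d : G)⁻¹ = x * t'
      have hdt' : Commute (d : G) t' := b.h'.comm_z d (mem_dsub.1 d.2).1
      rw [h, mul_assoc _ t', ← hdt'.inv_left.eq]; group
  let F : D' → S.large.V × (S.large.V × S.large.V) := fun d =>
    (S.rho (S.ps (hcomm d)) (enc P.B 8), (S.rho (S.ps (hcomm d)) (enc P.B 32),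
      S.rho (S.ps (hcomm d)) (enc P.B 64)))
  let T : Finset (S.large.V × (S.large.V × S.large.V)) :=
    ({enc P.B 8, enc P.B 8 + P.B 7} : Finset S.large.V) ×ˢ
      (({enc P.B 32, enc P.B 32 + P.B 7} : Finset S.large.V) ×ˢ
        ({enc P.B 64, enc P.B 64 + P.B 7} : Finset S.large.V))
  have hFT : ∀ d, F d ∈ T := by
    intro d
    simp only [F, T, Finset.mem_product, Finset.mem_insert, Finset.mem_singleton]
    exact ⟨hmove d _ h8, hmove d _ h32, hmove d _ h64⟩
  have hTc : T.card ≤ 8 := by
    simp only [T, Finset.card_product]
    calc _ ≤ 2 * (2 * 2) := Nat.mul_le_mul Finset.card_le_two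
          (Nat.mul_le_mul Finset.card_le_two Finset.card_le_two)
      _ = 8 := by norm_num
  have hKc : Nat.card ((Q ⊓ Q').subgroupOf D') = 2 ^ 5 := by
    have hle : Q ⊓ Q' ≤ D' := fun x hx => mem_dsub'_of_mem_inf S.large hx
    rw [Nat.card_congr (Subgroup.subgroupOfEquivOfLe hle).toEquiv]
    exact b.card_inf_of_big h8 h32 h64
  have hinv : ∀ d : D', (d : G)⁻¹ * t = t * (d : G)⁻¹ := fun d => hcomm d⁻¹
  have hps : ∀ x y : D', S.ps (hcomm (x⁻¹ * y)) = (S.ps (hcomm x))⁻¹ * S.ps (hcomm y) := by
    intro x y
    rw [← S.ps_inv (hcomm x) (hinv x)]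
    exact S.ps_mul (hinv x) (hcomm y) (hcomm (x⁻¹ * y))
  have hpsm : ∀ x y : D', S.ps (hcomm (x * y)) = S.ps (hcomm x) * S.ps (hcomm y) := by
    intro x y
    exact S.ps_mul (hcomm x) (hcomm y) (hcomm (x * y))
  have hFK : ∀ x y : D', F x = F y → x⁻¹ * y ∈ (Q ⊓ Q').subgroupOf D' := by
    intro x y hxy
    have e8 : S.rho (S.ps (hcomm x)) (enc P.B 8) = S.rho (S.ps (hcomm y)) (enc P.B 8) :=
      congrArg (fun z => z.1) hxy
    have e32 : S.rho (S.ps (hcomm x)) (enc P.B 32) = S.rho (S.ps (hcomm y)) (enc P.B 32) :=
      congrArg (fun z => z.2.1) hxy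
    have e64 : S.rho (S.ps (hcomm x)) (enc P.B 64) = S.rho (S.ps (hcomm y)) (enc P.B 64) :=
      congrArg (fun z => z.2.2) hxy
    have key : ∀ v, S.rho (S.ps (hcomm x)) v = S.rho (S.ps (hcomm y)) v →
        S.rho (S.ps (hcomm (x⁻¹ * y))) v = v := by
      intro v hv
      rw [hps, map_mul, LinearEquiv.mul_apply, ← hv, ← LinearEquiv.mul_apply, ← map_mul,
        inv_mul_cancel, map_one]
      rfl
    rw [Subgroup.mem_subgroupOf]
    exact b.mem_of_fix h8 h32 h64 (x⁻¹ * y).2 (hcomm (x⁻¹ * y)) (key _ e8) (key _ e32) (key _ e64)
  have hcard : T.card * Nat.card ((Q ⊓ Q').subgroupOf D') ≤ Nat.card D' := by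
    rw [hKc, b.card_D']
    calc T.card * 2 ^ 5 ≤ 8 * 2 ^ 5 := Nat.mul_le_mul_right _ hTc
      _ = 2 ^ 8 := by norm_num
  -- `psi` is determined by `F`
  have hFps : ∀ x y : D', F x = F y → S.ps (hcomm x) = S.ps (hcomm y) := by
    intro x y hxy
    have h1 := hFK x y hxy
    rw [Subgroup.mem_subgroupOf, Pair.mem_inf] at h1
    have h2 := (S.ps_eq_one (hcomm (x⁻¹ * y))).2 h1.1
    rw [hps, inv_mul_eq_one] at h2
    exact h2
  obtain ⟨d, hd⟩ := surj_of_fibre ((Q ⊓ Q').subgroupOf D') T F hFT hFK hcard
    (c := (enc P.B 8, (enc P.B 32, enc P.B 64 + P.B 7))) (by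
      simp only [T, Finset.mem_product, Finset.mem_insert, Finset.mem_singleton]
      exact ⟨Or.inl trivial, Or.inl trivial, Or.inr trivial⟩)
  have d8 : S.rho (S.ps (hcomm d)) (enc P.B 8) = enc P.B 8 := congrArg (fun z => z.1) hd
  have d32 : S.rho (S.ps (hcomm d)) (enc P.B 32) = enc P.B 32 := congrArg (fun z => z.2.1) hd
  have d64 : S.rho (S.ps (hcomm d)) (enc P.B 64) = enc P.B 192 := by
    have h1 : S.rho (S.ps (hcomm d)) (enc P.B 64) = enc P.B 64 + P.B 7 :=
      congrArg (fun z => z.2.2) hd
    rw [h1, ← P.enc_128, ← enc_xor]
    rfl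
  have d128 : S.rho (S.ps (hcomm d)) (enc P.B 128) = enc P.B 128 := by
    rw [P.enc_128]; exact b.rho_ps_B7 d.2 (hcomm d)
  -- the action of `r = psi d` on `W`
  have hr : ∀ c < 256, c &&& 23 = 0 → S.rho (S.ps (hcomm d)) (enc P.B c) = enc P.B (rc c) := by
    intro c hc hcW
    have h1 : ∀ c < 256, c &&& 23 = 0 → rc c = (if c.testBit 3 then 8 else 0) ^^^
        ((if c.testBit 5 then 32 else 0) ^^^ ((if c.testBit 6 then 192 else 0) ^^^
        (if c.testBit 7 then 128 else 0))) := by decide +kernel
    rw [h1 c hc hcW]
    conv_lhs => rw [W_expand c hc hcW]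
    rw [enc_xor, enc_xor, enc_xor, map_add, map_add, map_add, enc_xor, enc_xor, enc_xor]
    have g : ∀ (p : Bool) (k l : ℕ), S.rho (S.ps (hcomm d)) (enc P.B k) = enc P.B l →
        S.rho (S.ps (hcomm d)) (enc P.B (if p then k else 0)) = enc P.B (if p then l else 0) := by
      intro p k l hk
      split_ifs
      · exact hk
      · rw [enc_zero, map_zero]
    rw [g _ _ _ d8, g _ _ _ d32, g _ _ _ d64, g _ _ _ d128]
  -- commutation with lifts
  have hcm : ∀ k : Sp6, S.rho k (P.B 7) = P.B 7 →
      (∀ c ∈ ([8, 32, 64] : List ℕ), S.rho (S.ps (hcomm d)) (S.rho k (enc P.B c)) =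
        S.rho k (S.rho (S.ps (hcomm d)) (enc P.B c))) →
      k * S.ps (hcomm d) = S.ps (hcomm d) * k := by
    intro k hk hkc
    obtain ⟨a, ha, ha', rfl⟩ := S.exists_lift b.mem b.h'.z_ne b.ne k (by rw [b.B7]; exact hk)
    have hai : a⁻¹ * t = t * a⁻¹ := (show Commute a t from ha).inv_left
    have hai' : a⁻¹ * t' = t' * a⁻¹ := (show Commute a t' from ha').inv_left
    have hmem : a⁻¹ * d * (a⁻¹)⁻¹ ∈ dsub Q' t := conj_mem_dsub b.h' hai' hai d.2
    have hd' : a⁻¹ * d * (a⁻¹)⁻¹ * t = t * (a⁻¹ * d * (a⁻¹)⁻¹) := (mem_dsub.1 hmem).2
    have hps' : S.ps (hcomm ⟨_, hmem⟩) = (S.ps ha)⁻¹ * S.ps (hcomm d) * S.ps ha := by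
      rw [← S.ps_inv ha hai]
      have h1 : a⁻¹ * (d : G) * t = t * (a⁻¹ * d) := by
        rw [mul_assoc, hcomm d, ← mul_assoc, hai, mul_assoc]
      have h2 : a⁻¹ * (d : G) * a * t = t * (a⁻¹ * d * a) := by
        rw [mul_assoc, ha, ← mul_assoc, h1, mul_assoc]
      rw [← S.ps_mul hai (hcomm d) h1, ← S.ps_mul h1 ha h2]
      unfold Sit.ps
      congr 1
      apply Subtype.ext
      show a⁻¹ * (d : G) * (a⁻¹)⁻¹ = a⁻¹ * d * a
      rw [inv_inv]
    have hFF : F ⟨_, hmem⟩ = F d := by
      have key : ∀ c ∈ ([8, 32, 64] : List ℕ), S.rho (S.ps (hcomm ⟨_, hmem⟩)) (enc P.B c) =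
          S.rho (S.ps (hcomm d)) (enc P.B c) := by
        intro c hc
        rw [hps', map_mul, map_mul, LinearEquiv.mul_apply, LinearEquiv.mul_apply, hkc c hc,
          ← LinearEquiv.mul_apply, ← map_mul, inv_mul_cancel, map_one]
        rfl
      show (_, (_, _)) = (_, (_, _))
      rw [key 8 (by simp), key 32 (by simp), key 64 (by simp)]
    have h3 := hFps _ _ hFF
    rw [hps', mul_assoc, inv_mul_eq_iff_eq_mul] at h3
    exact h3.symm
  have hctr : ∀ i < 3, Sp.tr (Sp.enc (2 ^ i)) * S.ps (hcomm d) =
      S.ps (hcomm d) * Sp.tr (Sp.enc (2 ^ i)) := by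
    intro i hi
    apply hcm _ (rho_tr_B7 P hi)
    intro c hc
    have hc2 : c < 256 ∧ c &&& 23 = 0 := by
      simp only [List.mem_cons, List.not_mem_nil, or_false] at hc
      rcases hc with rfl | rfl | rfl <;> decide
    obtain ⟨w1, w2⟩ := rc_tr i hi c hc2.1 hc2.2
    rw [P.rho_enc _ hc2.1, hr _ (stU_lt _ hc2.1) w1, w2, hr _ hc2.1 hc2.2,
      P.rho_enc _ (rc_lt c hc2.1)]
  have hcK : ∀ i < 3, ∀ j < 3, i ≠ j → j ≠ 0 → K i j * S.ps (hcomm d) =
      S.ps (hcomm d) * K i j := by
    intro i hi j hj hij hj0
    apply hcm _ (rho_K_B7 P hi hj hij)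
    intro c hc
    have hc2 : c < 256 ∧ c &&& 23 = 0 := by
      simp only [List.mem_cons, List.not_mem_nil, or_false] at hc
      rcases hc with rfl | rfl | rfl <;> decide
    have w1 := rc_K1 i hi j hj ⟨hij, hj0⟩ c hc2.1 hc2.2
    have w2 := rc_K2 i hi j hj ⟨hij, hj0⟩ c hc2.1 hc2.2
    rw [rho_K P _ _ hc2.1, hr _ (KV_lt _ _ hc2.1) w1, w2, hr _ hc2.1 hc2.2,
      rho_K P _ _ (rc_lt c hc2.1)]
  -- hence `r = d_{e_0}`
  have hre : S.ps (hcomm d) = Sp.tr (e 0) := by
    rcases eq_tr_e0 hctr (hcK 0 (by norm_num) 1 (by norm_num) (by norm_num) (by norm_num))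
      (hcK 0 (by norm_num) 2 (by norm_num) (by norm_num) (by norm_num))
      (hcK 1 (by norm_num) 2 (by norm_num) (by norm_num) (by norm_num))
      (hcK 2 (by norm_num) 1 (by norm_num) (by norm_num) (by norm_num)) with h | h
    · exfalso
      have h2 := d64
      rw [h, map_one] at h2
      have h3 : (64 : ℕ) = 192 := enc_inj P.B (by norm_num) (by norm_num) h2
      norm_num at h3
    · exact h
  -- conjugates of `r`
  have hconj : ∀ (k : Sp6) (u : U), S.rho k (P.B 7) = P.B 7 →
      (∃ x : D', S.ps (hcomm x) = Sp.tr u) → ∃ x : D', S.ps (hcomm x) = Sp.tr (Sp.act k u) := by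
    rintro k u hk ⟨x, hx⟩
    obtain ⟨a, ha, ha', rfl⟩ := S.exists_lift b.mem b.h'.z_ne b.ne k (by rw [b.B7]; exact hk)
    have hai : a⁻¹ * t = t * a⁻¹ := (show Commute a t from ha).inv_left
    have hmem : a * x * a⁻¹ ∈ dsub Q' t := conj_mem_dsub b.h' ha' ha x.2
    refine ⟨⟨_, hmem⟩, ?_⟩
    have h1 : a * (x : G) * t = t * (a * x) := by
      rw [mul_assoc, hcomm x, ← mul_assoc, ha, mul_assoc]
    rw [← Sp.conj_tr, ← hx, ← S.ps_inv ha hai, ← S.ps_mul ha (hcomm x) h1]
    exact S.ps_mul h1 hai (mem_dsub.1 hmem).2
  have hm1 : ∃ x : D', S.ps (hcomm x) = Sp.tr (Sp.enc 1) := by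
    refine ⟨d, ?_⟩
    rw [hre]
    exact congrArg Sp.tr (e_eq 0 (by norm_num)).symm
  have hm3 : ∃ x : D', S.ps (hcomm x) = Sp.tr (Sp.enc 3) := by
    have := hconj (K 1 0) _ (rho_K_B7 P (by norm_num) (by norm_num) (by norm_num)) hm1
    rw [act_K] at this
    exact this
  have hm2 : ∃ x : D', S.ps (hcomm x) = Sp.tr (Sp.enc 2) := by
    have := hconj (K 0 1) _ (rho_K_B7 P (by norm_num) (by norm_num) (by norm_num)) hm3
    rw [act_K] at this
    exact this
  obtain ⟨x1, hx1⟩ := hm1
  obtain ⟨x2, hx2⟩ := hm2
  obtain ⟨x3, hx3⟩ := hm3
  have hps3 : S.ps (hcomm (x1 * (x2 * x3))) =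
      Sp.tr (Sp.enc 1) * (Sp.tr (Sp.enc 2) * Sp.tr (Sp.enc 3)) := by
    rw [hpsm, hpsm, hx1, hx2, hx3]
  have hrho : ∀ c < 256, S.rho (S.ps (hcomm (x1 * (x2 * x3)))) (enc P.B c) =
      enc P.B (stU 1 (stU 2 (stU 3 c))) := by
    intro c hc
    rw [hps3, map_mul, map_mul, LinearEquiv.mul_apply, LinearEquiv.mul_apply, P.rho_enc _ hc,
      P.rho_enc _ (stU_lt _ hc), P.rho_enc _ (stU_lt _ (stU_lt _ hc))]
  have hone : S.ps (hcomm 1) = 1 := by
    rw [S.ps_eq_one]; exact one_mem Q
  have hFF : F (x1 * (x2 * x3)) = F 1 := by
    show (_, (_, _)) = (_, (_, _))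
    rw [hrho 8 (by norm_num), hrho 32 (by norm_num), hrho 64 (by norm_num), hone, map_one]
    have c8 : stU 1 (stU 2 (stU 3 8)) = 8 := by decide +kernel
    have c32 : stU 1 (stU 2 (stU 3 32)) = 32 := by decide +kernel
    have c64 : stU 1 (stU 2 (stU 3 64)) = 64 := by decide +kernel
    rw [c8, c32, c64]
    rfl
  have h1 := hFps _ _ hFF
  rw [hone] at h1
  have h2 := hrho 1 (by norm_num)
  rw [h1, map_one] at h2
  have h3 := enc_inj P.B (by norm_num) (stU_lt _ (stU_lt _ (stU_lt _ (by norm_num)))) h2
  revert h3
  decide +kernel

theorem elim [Finite G] : False := by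
  rcases b.J_cases with h | ⟨h8, h32, h64⟩
  · exact b.false_of_small h
  · exact b.false_of_big h8 h32 h64

end Bad

/-- In the spin case `t` is weakly closed in `Q`. -/
theorem wc [Finite G] (S : Sit G Q t) (hs : SpinHyp S.rho) : Pair.WC Q t := by
  intro g hg
  by_contra hne
  obtain ⟨P⟩ := exists_ctx S hs
  have hgt1 : g * t * g⁻¹ ≠ 1 := (S.large.conj g).z_ne
  -- move `pr t'` to `B 7`
  have hv : S.large.pr ⟨g * t * g⁻¹, hg⟩ ≠ 0 := by
    intro h
    rcases S.large.pr_eq_zero.1 h with h1 | h1
    · exact hgt1 h1
    · exact hne h1
  have hq : S.large.q (S.large.pr ⟨g * t * g⁻¹, hg⟩) = 0 := by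
    rw [S.large.q_eq_zero]
    exact (S.large.conj g).z_sq
  obtain ⟨k, hk⟩ := P.exists_rho_B7 hv hq
  obtain ⟨c, rfl⟩ := S.psi_surj k
  rw [S.rho_psi, S.large.act_pr] at hk
  have hct : (c : G) * t = t * c := Subgroup.mem_centralizer_singleton_iff.1 c.2
  have e : (c : G) * (g * t * g⁻¹) * (c : G)⁻¹ = (c * g) * t * (c * g)⁻¹ := by group
  have hmem : ((c : G) * g) * t * (c * g)⁻¹ ∈ Q := by
    rw [← e]; exact S.large.conj_mem c hct _ hg
  have hne' : ((c : G) * g) * t * (c * g)⁻¹ ≠ t := by
    intro h
    apply hne
    rw [← e] at h
    calc g * t * g⁻¹ = (c : G)⁻¹ * (c * (g * t * g⁻¹) * (c : G)⁻¹) * c := by group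
      _ = (c : G)⁻¹ * (t * c) := by rw [h]; group
      _ = t := by rw [← hct]; group
  have hB7 : S.large.pr ⟨((c : G) * g) * t * (c * g)⁻¹, hmem⟩ = P.B 7 := by
    rw [← hk]
    congr 1
    exact Subtype.ext e.symm
  have S' := S.conj ((c : G) * g)
  have hmem' := mem_of_mem P S' hmem hne' hB7
  exact Bad.elim (P := P) ⟨S'.large, S'.card, hmem, hmem', hne', hB7⟩

end Cfsg.Agent.Co2Type.WeakB1
end

-- part: Co2Type/TwistDead
section
/-!
# The twisted extension does not occur (R03; helper871's principle C1)
-/

set_option autoImplicit false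

namespace Cfsg.Agent.Co2Type.TwistDead

open Cfsg Cfsg.Agent.Co2Type.Quad Cfsg.Agent.Co2Type.Setup Cfsg.Agent.Co2Type.Spin
open Cfsg.Agent.Co2Type.QModel Cfsg.Agent.Co2Type.Act Cfsg.Agent.Co2Type.Coord
open Cfsg.Agent.Co2Type.Rels Cfsg.Agent.Co2Type.InvData Cfsg.Agent.Co2Type.Abs
open Cfsg.Agent.Co2Type.Abs.Pre Cfsg.Agent.Co2Type.ExistsRels Cfsg.Agent.Co2Type.InvClass
open Cfsg.Agent.ClassicalGeometry.SympBasic

/-- the data `(y, n)` : commutator of the representative `(k, m)` with the element of code `y` -/
def yc (k : ℕ) : ℕ := if k = 2 then 4 else 1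

/-- commutator code -/
def nc (k m : ℕ) : ℕ := qmul (qmul m (autw (rw' k) (yc k))) (qmul m (yc k))

theorem nc_ok : ∀ k, k < 4 → ∀ m, m < 2 → qmul m m = 0 ∧ qmul (yc k) (yc k) = 0 ∧ nc k m < 512 ∧
    nc k m ≠ 0 ∧ nc k m ≠ 256 ∧ qmul (nc k m) (nc k m) = 0 := by decide +kernel

section

variable {C : Type*} [Group C] {t : C} {ev : QM →* C} {psi : C →* Sp6} {D : ℕ → C} {eps : Bool}

theorem inv_of_qmul (ev : QM →* C) {m : ℕ} (h : qmul m m = 0) : (ev (dec m))⁻¹ = ev (dec m) := by
  apply inv_eq_of_mul_eq_one_left
  rw [← map_mul, ← dec_qmul, h, dec_zero, map_one]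

/-- commutator with a representative -/
theorem comm_rp (R : Rels eps t ev D) (P : Pre t ev psi)
    (hpsi : ∀ j, j < 7 → psi (D j) = transv (uv j) 1) {k m : ℕ} (hk : k < 4) (hm : m < 2) :
    rp ev D k m * ev (dec (yc k)) * (rp ev D k m)⁻¹ * (ev (dec (yc k)))⁻¹ = ev (dec (nc k m)) := by
  have F := fam R P hpsi
  obtain ⟨h1, h2, -⟩ := nc_ok k hk m hm
  have h3 := conj_wd ev D F.conj (fun j _ => P.conj_z (D j)) (rw' k) (rw_lt k) (yc k)
  calc rp ev D k m * ev (dec (yc k)) * (rp ev D k m)⁻¹ * (ev (dec (yc k)))⁻¹
      = ev (dec m) * (wd D (rw' k) * ev (dec (yc k)) * (wd D (rw' k))⁻¹) * (ev (dec m))⁻¹ *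
        (ev (dec (yc k)))⁻¹ := by rw [rp]; group
    _ = ev (dec m * dec (autw (rw' k) (yc k)) * (dec m * dec (yc k))) := by
        rw [h3, inv_of_qmul ev h1, inv_of_qmul ev h2]; simp only [map_mul, mul_assoc]
    _ = ev (dec (nc k m)) := by rw [nc, dec_qmul, dec_qmul, dec_qmul]

/-- an involution outside `Q` has an involution outside `⟨t⟩` among its commutators with `Q` -/
theorem exists_comm (R : Rels eps t ev D) (P : Pre t ev psi)
    (hpsi : ∀ j, j < 7 → psi (D j) = transv (uv j) 1) {x : C} (hx : x * x = 1)
    (hxQ : x ∉ ev.range) : ∃ q : C, x * q * x⁻¹ * q⁻¹ ∈ ev.range ∧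
      (x * q * x⁻¹ * q⁻¹) * (x * q * x⁻¹ * q⁻¹) = 1 ∧ x * q * x⁻¹ * q⁻¹ ≠ 1 ∧
      x * q * x⁻¹ * q⁻¹ ≠ t := by
  obtain ⟨k, hk, -, g, h⟩ := inv_rp R P hpsi hx hxQ
  obtain ⟨m, hm, h⟩ : ∃ m, m < 2 ∧ Eqv t (g * x * g⁻¹) (rp ev D k m) := by
    rcases h with h | ⟨-, h⟩
    · exact ⟨0, by norm_num, h⟩
    · exact ⟨1, by norm_num, h⟩
  obtain ⟨h1, h2, h3, h4, h5, h6⟩ := nc_ok k hk m hm
  set y := ev (dec (yc k)) with hy
  have e : (g * x * g⁻¹) * y * (g * x * g⁻¹)⁻¹ * y⁻¹ = ev (dec (nc k m)) := by
    rw [← comm_rp R P hpsi hk hm]
    rcases h with h | h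
    · rw [h]
    · rw [h]
      calc rp ev D k m * t * y * (rp ev D k m * t)⁻¹ * y⁻¹
          = rp ev D k m * (t * y) * t⁻¹ * (rp ev D k m)⁻¹ * y⁻¹ := by group
        _ = rp ev D k m * y * (rp ev D k m)⁻¹ * y⁻¹ := by rw [← P.cent]; group
  have e2 : x * (g⁻¹ * y * g) * x⁻¹ * (g⁻¹ * y * g)⁻¹ = g⁻¹ * ev (dec (nc k m)) * g := by
    rw [← e]; group
  refine ⟨g⁻¹ * y * g, ?_⟩
  rw [e2]
  refine ⟨?_, ?_, ?_, ?_⟩
  · rw [← P.psi_ker, map_mul, map_mul, (P.psi_ker _).2 ⟨_, rfl⟩, mul_one, ← map_mul,
      inv_mul_cancel, map_one]
  · calc g⁻¹ * ev (dec (nc k m)) * g * (g⁻¹ * ev (dec (nc k m)) * g)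
        = g⁻¹ * (ev (dec (nc k m)) * ev (dec (nc k m))) * g := by group
      _ = 1 := by rw [← map_mul, ← dec_qmul, h6, dec_zero, map_one]; group
  · intro h7
    have h8 : ev (dec (nc k m)) = 1 := by
      calc ev (dec (nc k m)) = g * (g⁻¹ * ev (dec (nc k m)) * g) * g⁻¹ := by group
        _ = 1 := by rw [h7]; group
    exact h4 (dec_inj h3 (by norm_num) ((P.ev_inj (h8.trans (map_one ev).symm)).trans dec_zero.symm))
  · intro h7
    have h8 : ev (dec (nc k m)) = ev (dec 256) := by
      calc ev (dec (nc k m)) = g * (g⁻¹ * ev (dec (nc k m)) * g) * g⁻¹ := by group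
        _ = ev (dec 256) := by rw [h7, P.cent, mul_inv_cancel_right, P.ev_z]
    exact h5 (dec_inj h3 (by norm_num) (P.ev_inj h8))

end

variable {G : Type*} [Group G] {Q : Subgroup G} {t : G}

/-- principle C1 (helper871) -/
theorem c1 (S : Sit G Q t) {eps : Bool} {ev : QM →* Subgroup.centralizer ({t} : Set G)}
    {D : ℕ → Subgroup.centralizer ({t} : Set G)} (R : Rels eps (_root_.Cfsg.Agent.Co2Type.ExistsRels.tc t) ev D)
    (hpsi : ∀ j, j < 7 → S.psi (D j) = transv (uv j) 1) (P : Pre (tc t) ev S.psi)
    (hwc : Pair.WC Q t)
    (h : ∀ x : Subgroup.centralizer ({t} : Set G), IsConj t (x : G) → (x : G) ≠ t →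
      IsConj t ((x : G) * t)) :
    ∀ x : Subgroup.centralizer ({t} : Set G), IsConj t (x : G) → (x : G) = t := by
  intro x hx
  by_contra hne
  have htt : t * t = 1 := S.large.z_sq
  have hsq : ∀ y : G, IsConj t y → y * y = 1 := by
    intro y hy
    obtain ⟨g, rfl⟩ := isConj_iff.1 hy
    calc g * t * g⁻¹ * (g * t * g⁻¹) = g * (t * t) * g⁻¹ := by group
      _ = 1 := by rw [htt]; group
  -- products of commuting conjugates
  have hprod : ∀ a b : G, IsConj t a → IsConj t b → a * b = b * a → a ≠ b → IsConj t (a * b) := by
    intro a b ha hb hab hne'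
    obtain ⟨g, rfl⟩ := isConj_iff.1 ha
    have hb' : IsConj t (g⁻¹ * b * g) := by
      refine hb.trans (isConj_iff.2 ⟨g⁻¹, ?_⟩)
      rw [inv_inv]
    have hbc : (g⁻¹ * b * g) * t = t * (g⁻¹ * b * g) := by
      calc (g⁻¹ * b * g) * t = g⁻¹ * (b * (g * t * g⁻¹)) * g := by group
        _ = g⁻¹ * ((g * t * g⁻¹) * b) * g := by rw [hab]
        _ = t * (g⁻¹ * b * g) := by group
    have hbn : g⁻¹ * b * g ≠ t := by
      intro h1
      apply hne'
      rw [← h1]; group
    have h1 := h ⟨g⁻¹ * b * g, Subgroup.mem_centralizer_singleton_iff.2 hbc⟩ hb' hbn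
    refine h1.trans (isConj_iff.2 ⟨g, ?_⟩)
    show g * (g⁻¹ * b * g * t) * g⁻¹ = g * t * g⁻¹ * b
    rw [hab]; group
  have hxx : x * x = 1 := Subtype.ext (hsq _ hx)
  have hxQ : x ∉ ev.range := by
    intro h1
    rw [← P.psi_ker, S.psi_ker] at h1
    exact hne (hwc.eq_of_mem h1 hx)
  obtain ⟨q, h1, h2, h3, h4⟩ := exists_comm R P hpsi hxx hxQ
  have h5 : ((x * q * x⁻¹ * q⁻¹ : Subgroup.centralizer ({t} : Set G)) : G) =
      (x : G) * ((q : G) * x * (q : G)⁻¹) := by
    have : x⁻¹ = x := inv_eq_of_mul_eq_one_left hxx
    rw [this]
    show (x : G) * q * x * (q : G)⁻¹ = (x : G) * (q * x * (q : G)⁻¹)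
    group
  have hx' : IsConj t ((q : G) * x * (q : G)⁻¹) := hx.trans (isConj_iff.2 ⟨q, rfl⟩)
  have hx2 : ((q : G) * x * (q : G)⁻¹) * ((q : G) * x * (q : G)⁻¹) = 1 := hsq _ hx'
  have h6 : (x : G) * (q * x * (q : G)⁻¹) * (x * (q * x * (q : G)⁻¹)) = 1 := by
    rw [← h5]
    exact congrArg Subtype.val h2
  have hcomm : (x : G) * (q * x * (q : G)⁻¹) = (q * x * (q : G)⁻¹) * x := by
    set b : G := q * x * (q : G)⁻¹
    calc (x : G) * b = (x : G) * b * (x * b * (x * b)) * ((b * b) * (b * b))⁻¹ := by
          rw [h6, hx2]; group
      _ = (x * b * (x * b)) * (x * b) * ((b * b) * (b * b))⁻¹ := by group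
      _ = (x : G) * b * ((b * b) * (b * b))⁻¹ := by rw [h6]; group
      _ = (b * b)⁻¹ * ((x : G) * b) := by rw [hx2]; group
      _ = b⁻¹ * (b⁻¹ * (x : G)⁻¹) * (((x : G) * x)) * b := by group
      _ = b⁻¹ * (((x : G) * b)⁻¹) * b := by rw [show (x : G) * x = 1 from congrArg Subtype.val hxx]; group
      _ = b⁻¹ * ((x : G) * b) * b := by
          rw [inv_eq_of_mul_eq_one_left h6]
      _ = b * (b * b)⁻¹ * x * (b * b) := by group
      _ = b * x := by rw [hx2]; group
  have hne2 : (x : G) ≠ q * x * (q : G)⁻¹ := by
    intro h7
    apply h3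
    apply Subtype.ext
    rw [h5, ← h7]
    exact congrArg Subtype.val hxx
  have h8 := hprod _ _ hx hx' hcomm hne2
  rw [← h5] at h8
  have h9 : ((x * q * x⁻¹ * q⁻¹ : Subgroup.centralizer ({t} : Set G)) : G) ∈ Q :=
    (S.psi_ker _).1 ((P.psi_ker _).2 h1)
  exact h4 (Subtype.ext (hwc.eq_of_mem h9 h8))

/-- the twisted extension does not occur -/
theorem eps_false [Finite G] (hO : Cfsg.oddCore G = ⊥) (hZ : Subgroup.center G = ⊥)
    (S : Sit G Q t) (hs : SpinHyp S.rho) {eps : Bool}
    {ev : QM →* Subgroup.centralizer ({t} : Set G)}
    {D : ℕ → Subgroup.centralizer ({t} : Set G)} (R : Rels eps (_root_.Cfsg.Agent.Co2Type.ExistsRels.tc t) ev D)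
    (hpsi : ∀ j, j < 7 → S.psi (D j) = transv (uv j) 1) (P : Pre (tc t) ev S.psi) :
    eps = false := by
  have hwc := WeakB1.wc S hs
  cases eps
  · rfl
  exfalso
  have hiso := c1 S R hpsi P hwc (by
    intro x hx hne
    have hxx : x * x = 1 := by
      apply Subtype.ext
      obtain ⟨g, hg⟩ := isConj_iff.1 hx
      show (x : G) * x = 1
      rw [← hg]
      calc g * t * g⁻¹ * (g * t * g⁻¹) = g * (t * t) * g⁻¹ := by group
        _ = 1 := by rw [S.large.z_sq]; group
    have hxQ : x ∉ ev.range := by
      intro h1
      rw [← P.psi_ker, S.psi_ker] at h1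
      exact hne (hwc.eq_of_mem h1 hx)
    obtain ⟨k, hk⟩ := twist_conj R P hpsi hxx hxQ
    refine hx.trans (isConj_iff.2 ⟨k, ?_⟩)
    exact congrArg Subtype.val hk)
  obtain ⟨g, h1, h2⟩ := ZUse.exists_fused hO hZ S.large.z_sq S.large.z_ne
  exact h1 (hiso ⟨g * t * g⁻¹, Subgroup.mem_centralizer_singleton_iff.2 h2⟩
    (isConj_iff.2 ⟨g, rfl⟩))

end Cfsg.Agent.Co2Type.TwistDead
end

-- part: Co2Type/RedLin
section
/-!
# Linear algebra for the reducible case of the Co2 type theorem (R03, piece A2; helper587)

`V` a finite quadratic space over `F_2`, `y` an isometry with `y⁴ = 1 ≠ y²`, `D` a space of fixed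
vectors of `y` of index at most `2` in the space of fixed vectors of `y²`.
-/

set_option autoImplicit false

namespace Cfsg.Agent.Co2Type.RedLin

theorem zm (a : ZMod 2) : a = 0 ∨ a = 1 := by revert a; decide

/-- quadratic space -/
structure QF {V : Type*} [AddCommGroup V] [Module (ZMod 2) V] (q : V → ZMod 2)
    (b : LinearMap.BilinForm (ZMod 2) V) : Prop where
  q_add : ∀ x y, q (x + y) = q x + q y + b x y
  nd : ∀ x, (∀ y, b x y = 0) → x = 0

section

variable {V : Type*} [AddCommGroup V] [Module (ZMod 2) V] {q : V → ZMod 2}
  {b : LinearMap.BilinForm (ZMod 2) V}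

theorem aa (x : V) : x + x = 0 := ZModModule.add_self x

theorem eq_of_add {x y : V} (h : x + y = 0) : x = y := by
  have := congrArg (· + y) h
  simpa [add_assoc, aa] using this

theorem one_smul_inj {x y : V} (h : (1 : ZMod 2) • x = (1 : ZMod 2) • y) : x = y := by
  simpa using h

theorem cc (a : ZMod 2) : a + a = 0 := CharTwo.add_self_eq_zero a

namespace QF

theorem b_comm (h : QF q b) (x y : V) : b x y = b y x := by
  have h1 := h.q_add x y
  have h2 := h.q_add y x
  rw [add_comm y x, h1, add_comm (q y)] at h2
  exact add_left_cancel h2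

theorem q_zero (h : QF q b) : q 0 = 0 := by
  have h := h.q_add 0 0
  simpa using h

theorem b_self (h : QF q b) (x : V) : b x x = 0 := by
  have h1 := h.q_add x x
  rw [aa, h.q_zero] at h1
  have : ∀ a b : ZMod 2, 0 = a + a + b → b = 0 := by decide
  exact this _ _ h1

theorem nondeg (h : QF q b) : b.Nondegenerate := by
  refine ⟨fun x hx => h.nd x hx, fun x hx => h.nd x fun y => ?_⟩
  rw [h.b_comm]; exact hx y

theorem symm (h : QF q b) : b.IsSymm := ⟨fun x y => h.b_comm x y⟩

theorem refl (h : QF q b) : b.IsRefl := h.symm.isRefl

theorem b_isom (h : QF q b) {y : V ≃ₗ[ZMod 2] V} (hy : ∀ x, q (y x) = q x) (v w : V) :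
    b (y v) (y w) = b v w := by
  have h1 := h.q_add v w
  have h2 := h.q_add (y v) (y w)
  rw [← map_add, hy, hy, hy, h1] at h2
  exact (add_left_cancel h2).symm

theorem exists_one (h : QF q b) {v : V} (hv : v ≠ 0) : ∃ x, b x v = 1 := by
  by_contra hc
  push Not at hc
  apply hv
  apply h.nd
  intro y
  rw [h.b_comm]
  exact (zm _).resolve_right (hc y)

end QF

/-- index at most two -/
theorem idx2 [Finite V] {X Y : Submodule (ZMod 2) V} (hXY : X ≤ Y)
    (hr : Module.finrank (ZMod 2) Y ≤ Module.finrank (ZMod 2) X + 1) {v w : V} (hv : v ∈ Y)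
    (hw : w ∈ Y) (hv' : v ∉ X) (hw' : w ∉ X) : v + w ∈ X := by
  have : Module.Finite (ZMod 2) V := Module.Finite.of_finite
  have hle : X ⊔ Submodule.span (ZMod 2) {v} ≤ Y :=
    sup_le hXY (by rw [Submodule.span_singleton_le_iff_mem]; exact hv)
  have hlt : Module.finrank (ZMod 2) X <
      Module.finrank (ZMod 2) (X ⊔ Submodule.span (ZMod 2) {v} : Submodule (ZMod 2) V) := by
    apply Submodule.finrank_lt_finrank_of_lt
    refine lt_of_le_of_ne le_sup_left ?_
    intro h
    apply hv'
    rw [h]
    exact Submodule.mem_sup_right (Submodule.mem_span_singleton_self v)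
  have heq : X ⊔ Submodule.span (ZMod 2) {v} = Y :=
    Submodule.eq_of_le_of_finrank_le hle (by omega)
  rw [← heq] at hw
  obtain ⟨x, hx, z, hz, rfl⟩ := Submodule.mem_sup.1 hw
  obtain ⟨c, rfl⟩ := Submodule.mem_span_singleton.1 hz
  rcases zm c with rfl | rfl
  · exfalso; apply hw'; rw [zero_smul, add_zero]; exact hx
  · have : v + (x + (1 : ZMod 2) • v) = x := by
      rw [one_smul, add_left_comm, aa, add_zero]
    rw [this]; exact hx

/-- rank of a map on a subspace whose intersection with the kernel lies in a line -/
theorem finrank_map_eq [Finite V] (N : V →ₗ[ZMod 2] V) (X : Submodule (ZMod 2) V) :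
    Module.finrank (ZMod 2) (X.map N) +
      Module.finrank (ZMod 2) (LinearMap.ker N ⊓ X : Submodule (ZMod 2) V) =
        Module.finrank (ZMod 2) X := by
  have : Module.Finite (ZMod 2) V := Module.Finite.of_finite
  have h := LinearMap.finrank_range_add_finrank_ker (N.domRestrict X)
  have h1 : LinearMap.range (N.domRestrict X) = X.map N := by
    rw [LinearMap.range_domRestrict]
  have h2 : Module.finrank (ZMod 2) (LinearMap.ker (N.domRestrict X)) =
      Module.finrank (ZMod 2) (LinearMap.ker N ⊓ X : Submodule (ZMod 2) V) := by
    have h3 : (LinearMap.ker (N.domRestrict X)).map X.subtype = LinearMap.ker N ⊓ X := by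
      ext x
      constructor
      · rintro ⟨y, hy, rfl⟩
        exact ⟨hy, y.2⟩
      · rintro ⟨hx, hx'⟩
        exact ⟨⟨x, hx'⟩, hx, rfl⟩
    rw [← h3]
    exact (LinearEquiv.finrank_eq (Submodule.equivMapOfInjective _ X.subtype_injective _))
  rw [h1, h2] at h
  exact h

/-- `N = y - 1` -/
def N (y : V ≃ₗ[ZMod 2] V) : V →ₗ[ZMod 2] V := y.toLinearMap + LinearMap.id

theorem N_apply (y : V ≃ₗ[ZMod 2] V) (x : V) : N y x = y x + x := rfl

theorem N_zero_iff (y : V ≃ₗ[ZMod 2] V) (x : V) : N y x = 0 ↔ y x = x :=
  ⟨fun h => eq_of_add h, fun h => by rw [N_apply, h, aa]⟩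

theorem NN_apply (y : V ≃ₗ[ZMod 2] V) (x : V) : N y (N y x) = y (y x) + x := by
  rw [N_apply, N_apply, map_add]
  apply one_smul_inj
  match_scalars <;> decide

theorem NNNN_apply {y : V ≃ₗ[ZMod 2] V} (y4 : ∀ x, y (y (y (y x))) = x) (x : V) :
    N y (N y (N y (N y x))) = 0 := by
  rw [NN_apply, NN_apply, map_add, map_add, y4]
  apply one_smul_inj
  match_scalars <;> decide

/-- data of an isometry `y` of order 4 and the space `D` -/
structure Yd (q : V → ZMod 2) (y : V ≃ₗ[ZMod 2] V) (D : Submodule (ZMod 2) V) : Prop where
  iso : ∀ x, q (y x) = q x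
  y4 : ∀ x, y (y (y (y x))) = x
  y2 : ∃ x, y (y x) ≠ x
  fixD : ∀ x ∈ D, y x = x
  idx : ∀ v w, y (y v) = v → y (y w) = w → v ∉ D → w ∉ D → v + w ∈ D

/-- the conclusions -/
structure Yu (q : V → ZMod 2) (b : LinearMap.BilinForm (ZMod 2) V) (y : V ≃ₗ[ZMod 2] V)
    (D : Submodule (ZMod 2) V) (u : V) : Prop where
  u_ne : u ≠ 0
  u_mem : u ∈ D
  q_u : q u = 0
  rad : ∀ v ∈ D, (∀ w ∈ D, b v w = 0) → v = 0 ∨ v = u
  perp : ∀ w ∈ D, b w u = 0
  card : 32 ≤ Nat.card D
  fix : ∀ x, y x = x → x ∈ D
  fixk : ∀ x ∈ D, y x = x
  split : ∀ v, b v u = 0 → ∃ k ∈ D, ∃ x, v = k + N y x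
  NNN : ∀ x, N y (N y (N y x)) = 0 ∨ N y (N y (N y x)) = u
  R12 : ∀ x x', (¬ ∃ t, N y x = N y (N y t)) → (¬ ∃ t, N y x' = N y (N y t)) →
    ∃ t, N y x + N y x' = N y (N y t)
  R2u : ∀ x x', N y (N y x) ≠ 0 → N y (N y x) ≠ u → N y (N y x') ≠ 0 → N y (N y x') ≠ u →
    N y (N y x) + N y (N y x') = 0 ∨ N y (N y x) + N y (N y x') = u

theorem Yd.exists_u [Finite V] (hV : Module.finrank (ZMod 2) V = 8) (h : QF q b)
    {y : V ≃ₗ[ZMod 2] V} {D : Submodule (ZMod 2) V} (d : Yd q y D) : ∃ u, Yu q b y D u := by
  have hfin : Module.Finite (ZMod 2) V := Module.Finite.of_finite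
  set n := N y with hn
  have h4 : ∀ x, n (n (n (n x))) = 0 := NNNN_apply d.y4
  -- ker N ≠ ker N²
  obtain ⟨p, hp1, hp2⟩ : ∃ p, n (n p) = 0 ∧ n p ≠ 0 := by
    by_contra hc
    push Not at hc
    obtain ⟨x, hx⟩ := d.y2
    have h3 := hc _ (h4 x)
    have h2 := hc _ h3
    have h1 := hc _ h2
    rw [hn, N_zero_iff] at h1
    exact hx (by rw [h1, h1])
  have hpy : y (y p) = p := by
    rw [hn, NN_apply] at hp1
    exact eq_of_add hp1
  have hpD : p ∉ D := fun hc => hp2 (by rw [hn, N_zero_iff]; exact d.fixD p hc)
  -- D = ker N
  have hfix : ∀ x, y x = x → x ∈ D := by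
    intro x hx
    by_contra hc
    have h1 := d.idx x p (by rw [hx, hx]) hpy hc hpD
    have h2 := d.fixD _ h1
    rw [map_add, hx] at h2
    have h3 : y p = p := add_left_cancel h2
    exact hp2 (by rw [hn, N_zero_iff]; exact h3)
  have hDK : D = LinearMap.ker n := by
    ext x
    rw [LinearMap.mem_ker, hn, N_zero_iff]
    exact ⟨fun hx => d.fixD x hx, fun hx => hfix x hx⟩
  -- N (ker N²) = {0,u}
  have hker2 : ∀ v, n (n v) = 0 → n v = 0 ∨ n v = n p := by
    intro v hv
    by_cases hvD : v ∈ D
    · left; rw [hn, N_zero_iff]; exact d.fixD v hvD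
    · right
      have hvy : y (y v) = v := by
        rw [hn, NN_apply] at hv
        exact eq_of_add hv
      have h1 := d.fixD _ (d.idx v p hvy hpy hvD hpD)
      rw [← N_zero_iff, map_add] at h1
      exact eq_of_add h1
  -- adjunction
  have hbN : ∀ x w, y w = w → b (n x) w = 0 := by
    intro x w hw
    have h1 := h.b_isom d.iso x w
    rw [hw] at h1
    rw [hn, N_apply, map_add, LinearMap.add_apply, h1, cc]
  have hR1 : ∀ x, n x ∈ LinearMap.range n := fun x => ⟨x, rfl⟩
  have hsum := LinearMap.finrank_range_add_finrank_ker n
  rw [hV] at hsum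
  have horth : b.orthogonal (LinearMap.ker n) = LinearMap.range n := by
    symm
    apply Submodule.eq_of_le_of_finrank_le
    · rintro _ ⟨x, rfl⟩
      rw [LinearMap.BilinForm.mem_orthogonal_iff]
      intro w hw
      rw [LinearMap.mem_ker, hn, N_zero_iff] at hw
      show b w (n x) = 0
      rw [h.b_comm]
      exact hbN x w hw
    · rw [LinearMap.BilinForm.finrank_orthogonal h.nondeg, hV]
      omega
  have hspan : LinearMap.ker n ⊓ LinearMap.range n = Submodule.span (ZMod 2) {n p} := by
    apply le_antisymm
    · rintro x ⟨hx, ⟨v, rfl⟩⟩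
      rcases hker2 v hx with h1 | h1
      · rw [h1]; exact Submodule.zero_mem _
      · rw [h1]; exact Submodule.mem_span_singleton_self _
    · rw [Submodule.span_singleton_le_iff_mem]
      exact ⟨hp1, ⟨p, rfl⟩⟩
  have hf1 : Module.finrank (ZMod 2) (Submodule.span (ZMod 2) {n p}) = 1 :=
    finrank_span_singleton hp2
  have hmemspan : ∀ x ∈ Submodule.span (ZMod 2) {n p}, x = 0 ∨ x = n p := by
    intro x hx
    obtain ⟨c, rfl⟩ := Submodule.mem_span_singleton.1 hx
    rcases zm c with rfl | rfl
    · left; rw [zero_smul]
    · right; rw [one_smul]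
  -- ranks
  have hstep : ∀ X : Submodule (ZMod 2) V, X ≤ LinearMap.range n →
      Module.finrank (ZMod 2) X ≤ Module.finrank (ZMod 2) (X.map n) + 1 := by
    intro X hX
    have h1 := finrank_map_eq n X
    have h2 : LinearMap.ker n ⊓ X ≤ Submodule.span (ZMod 2) {n p} := by
      rw [← hspan]; exact inf_le_inf_left _ hX
    have h3 := Submodule.finrank_mono h2
    omega
  set R1 := LinearMap.range n with hR1def
  have hle2 : R1.map n ≤ R1 := by
    rintro _ ⟨x, -, rfl⟩; exact ⟨x, rfl⟩
  have hle3 : (R1.map n).map n ≤ R1 := by
    rintro _ ⟨x, -, rfl⟩; exact ⟨x, rfl⟩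
  have hbot : ((R1.map n).map n).map n = ⊥ := by
    rw [eq_bot_iff]
    rintro _ ⟨_, ⟨_, ⟨_, ⟨x, rfl⟩, rfl⟩, rfl⟩, rfl⟩
    exact h4 x
  have hr3 := hstep _ hle3
  rw [hbot, finrank_bot] at hr3
  have hr2 := hstep _ hle2
  have hr1 : Module.finrank (ZMod 2) R1 = Module.finrank (ZMod 2) (R1.map n) + 1 := by
    have h1 := finrank_map_eq n R1
    rw [hspan, hf1] at h1
    exact h1.symm
  have hR1le : Module.finrank (ZMod 2) R1 ≤ 3 := by omega
  have hR2le : Module.finrank (ZMod 2) (R1.map n) ≤ 2 := by omega
  -- u in R2
  have huR2 : n p ∈ R1.map n := by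
    obtain ⟨x, hx⟩ := d.y2
    have hx2 : n (n x) ≠ 0 := fun hc => hx (by
      rw [hn, NN_apply] at hc
      exact eq_of_add hc)
    have h5 : n (n (n x)) = 0 ∨ n (n (n x)) = n p := hker2 _ (h4 x)
    rcases h5 with h5 | h5
    · have h6 : n (n x) = 0 ∨ n (n x) = n p := hker2 _ h5
      rcases h6 with h6 | h6
      · exact absurd h6 hx2
      · rw [← h6]; exact ⟨n x, ⟨x, rfl⟩, rfl⟩
    · rw [← h5]; exact ⟨n (n x), ⟨n x, rfl⟩, rfl⟩
  obtain ⟨_, ⟨w, rfl⟩, hw⟩ := huR2
  have hyy : ∀ x, q (y (y x)) = q x := fun x => by rw [d.iso, d.iso]
  have hbNN : ∀ x z, b (n (n x)) z = b x (n (n z)) := by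
    intro x z
    have h1 : b (y (y x)) z = b x (y (y z)) := by
      have h3 := h.b_isom d.iso (y (y x)) z
      have h4 := h.b_isom d.iso (y (y (y x))) (y z)
      rw [d.y4] at h4
      rw [← h3, ← h4]
    rw [hn, NN_apply, NN_apply, map_add, map_add, LinearMap.add_apply, h1]
  have hqu : q (n p) = 0 := by
    have h1 : q (n p) = b (n p) p := by
      have h2 := h.q_add (y p) p
      have h3 := h.b_self p
      have h4 : b (n p) p = b (y p) p := by
        rw [hn, N_apply, map_add, LinearMap.add_apply, h3, add_zero]
      rw [h4, hn, N_apply, h2, d.iso, cc, zero_add]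
    rw [h1, ← hw, hbNN, hp1, map_zero]
  -- decomposition of the orthogonal space of u
  have hperp : LinearMap.ker n ⊔ R1 = b.orthogonal (Submodule.span (ZMod 2) {n p}) := by
    apply Submodule.eq_of_le_of_finrank_le
    · apply sup_le
      · intro x hx
        rw [LinearMap.BilinForm.mem_orthogonal_iff]
        intro v hv
        show b v x = 0
        rw [LinearMap.mem_ker, hn, N_zero_iff] at hx
        rcases hmemspan v hv with h1 | h1
        · rw [h1, map_zero, LinearMap.zero_apply]
        · rw [h1]; exact hbN p x hx
      · rintro _ ⟨x, rfl⟩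
        rw [LinearMap.BilinForm.mem_orthogonal_iff]
        intro v hv
        show b v (n x) = 0
        rcases hmemspan v hv with h1 | h1
        · rw [h1, map_zero, LinearMap.zero_apply]
        · rw [h1, h.b_comm]
          apply hbN
          rw [← N_zero_iff]; exact hp1
    · rw [LinearMap.BilinForm.finrank_orthogonal h.nondeg, hf1, hV]
      have h1 := Submodule.finrank_sup_add_finrank_inf_eq (LinearMap.ker n) R1
      rw [hspan, hf1] at h1
      omega
  refine ⟨n p, hp2, ?_, hqu, ?_, ?_, ?_, hfix, d.fixD, ?_, ?_, ?_, ?_⟩
  · rw [hDK]; exact hp1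
  · intro v hv hv'
    have h1 : v ∈ R1 := by
      rw [← horth, LinearMap.BilinForm.mem_orthogonal_iff]
      intro w hw
      show b w v = 0
      rw [h.b_comm]
      exact hv' w (by rw [hDK]; exact hw)
    obtain ⟨x, rfl⟩ := h1
    have h2 : n (n x) = 0 := by rw [hDK] at hv; exact hv
    exact hker2 x h2
  · intro w hw
    rw [h.b_comm]
    exact hbN p w (d.fixD w hw)
  · have h1 : Nat.card D = 2 ^ Module.finrank (ZMod 2) D := by
      have h2 := Module.natCard_eq_pow_finrank (K := ZMod 2) (V := D)
      rwa [Nat.card_zmod] at h2
    have h2 : Module.finrank (ZMod 2) D = Module.finrank (ZMod 2) (LinearMap.ker n) := by rw [hDK]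
    rw [h1]
    calc 32 = 2 ^ 5 := by norm_num
      _ ≤ _ := Nat.pow_le_pow_right (by norm_num) (by omega)
  · intro v hv
    have h1 : v ∈ LinearMap.ker n ⊔ R1 := by
      rw [hperp, LinearMap.BilinForm.mem_orthogonal_iff]
      intro w hw
      show b w v = 0
      rcases hmemspan w hw with h2 | h2
      · rw [h2, map_zero, LinearMap.zero_apply]
      · rw [h2, h.b_comm]; exact hv
    obtain ⟨k, hk, _, ⟨x, rfl⟩, hkx⟩ := Submodule.mem_sup.1 h1
    exact ⟨k, by rw [hDK]; exact hk, x, hkx.symm⟩
  · intro x
    exact hker2 _ (h4 x)
  · intro x x' hx hx'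
    have h1 := idx2 hle2 (by omega) (hR1 x) (hR1 x')
      (fun hc => hx (by obtain ⟨_, ⟨t, rfl⟩, ht⟩ := hc; exact ⟨t, ht.symm⟩))
      (fun hc => hx' (by obtain ⟨_, ⟨t, rfl⟩, ht⟩ := hc; exact ⟨t, ht.symm⟩))
    obtain ⟨_, ⟨t, rfl⟩, ht⟩ := h1
    exact ⟨t, ht.symm⟩
  · intro x x' hx1 hx2 hx1' hx2'
    have hle : Submodule.span (ZMod 2) {n p} ≤ R1.map n := by
      rw [Submodule.span_singleton_le_iff_mem, ← hw]
      exact ⟨n w, ⟨w, rfl⟩, rfl⟩
    have h1 := idx2 hle (by omega) (v := n (n x)) (w := n (n x')) ⟨n x, ⟨x, rfl⟩, rfl⟩
      ⟨n x', ⟨x', rfl⟩, rfl⟩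
      (fun hc => by rcases hmemspan _ hc with h | h; exacts [hx1 h, hx2 h])
      (fun hc => by rcases hmemspan _ hc with h | h; exacts [hx1' h, hx2' h])
    exact hmemspan _ h1

/-- the vectors orthogonal to a hyperplane form a line -/
theorem line_of_perp (h : QF q b) {u : V} (hu : u ≠ 0) (z : V)
    (hz : ∀ w, b w u = 0 → b z w = 0) : z = 0 ∨ z = u := by
  obtain ⟨s, hs⟩ := h.exists_one hu
  rcases zm (b z s) with h5 | h5
  · left
    apply h.nd
    intro y
    rcases zm (b y u) with h6 | h6
    · exact hz y h6
    · have h7 : b (y + s) u = 0 := by rw [map_add, LinearMap.add_apply, h6, hs, cc]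
      have h8 := hz _ h7
      rw [map_add, h5, add_zero] at h8
      exact h8
  · right
    apply eq_of_add
    apply h.nd
    intro y
    rcases zm (b y u) with h6 | h6
    · rw [map_add, LinearMap.add_apply, hz y h6, h.b_comm u y, h6, add_zero]
    · have h7 : b (y + s) u = 0 := by rw [map_add, LinearMap.add_apply, h6, hs, cc]
      have h8 := hz _ h7
      rw [map_add, h5] at h8
      rw [map_add, LinearMap.add_apply, h.b_comm u y, h6]
      exact h8

/-- a hyperplane has at least half of the elements -/
theorem card_perp [Finite V] (h : QF q b) (u : V) (D : Submodule (ZMod 2) V)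
    (hD : ∀ v, b v u = 0 → v ∈ D) : Nat.card V ≤ 2 * Nat.card D := by
  classical
  by_cases hu : ∃ s, b s u = 1
  · obtain ⟨s, hs⟩ := hu
    have hmem : ∀ v : V, ¬ b v u = 0 → v + s ∈ D := by
      intro v hv
      apply hD
      rw [map_add, LinearMap.add_apply, (zm _).resolve_left hv, hs]; decide
    have h2 : Nat.card V ≤ Nat.card (Bool × D) := by
      refine Nat.card_le_card_of_injective (fun v : V =>
        if hv : b v u = 0 then (true, (⟨v, hD v hv⟩ : D)) else (false, ⟨v + s, hmem v hv⟩)) ?_
      intro v w hvw
      simp only at hvw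
      by_cases hv : b v u = 0 <;> by_cases hw : b w u = 0
      · rw [dif_pos hv, dif_pos hw] at hvw
        exact congrArg (fun t => ((t.2 : D) : V)) hvw
      · rw [dif_pos hv, dif_neg hw] at hvw
        exact absurd (congrArg Prod.fst hvw) (by simp)
      · rw [dif_neg hv, dif_pos hw] at hvw
        exact absurd (congrArg Prod.fst hvw) (by simp)
      · rw [dif_neg hv, dif_neg hw] at hvw
        have := congrArg (fun t => ((t.2 : D) : V)) hvw
        exact add_right_cancel this
    rw [Nat.card_prod] at h2
    simpa only [_root_.ge_iff_le, _root_.Nat.card_eq_fintype_card, _root_.Fintype.card_bool] using h2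
  · push Not at hu
    have h2 : Nat.card V ≤ Nat.card D := by
      refine Nat.card_le_card_of_injective (fun v : V =>
        (⟨v, hD v ((zm _).resolve_right (hu v))⟩ : D)) ?_
      intro v w hvw
      exact congrArg (fun t : D => (t : V)) hvw
    omega

/-! ### isometries trivial on `u^⊥ / u` -/

/-- `α` is trivial on `u^⊥ / ⟨u⟩` -/
def Good (b : LinearMap.BilinForm (ZMod 2) V) (u : V) (α : V ≃ₗ[ZMod 2] V) : Prop :=
  ∀ v, b v u = 0 → α v = v ∨ α v = v + u

theorem Good.comm (h : QF q b) {u : V} (hu : u ≠ 0) (hqu : q u = 0) {α β : V ≃ₗ[ZMod 2] V}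
    (hα : ∀ x, q (α x) = q x) (hβ : ∀ x, q (β x) = q x) (ga : Good b u α) (gb : Good b u β) :
    α * β = β * α := by
  have hfix : ∀ γ : V ≃ₗ[ZMod 2] V, Good b u γ → γ u = u := by
    intro γ hγ
    rcases hγ u (h.b_self u) with h1 | h1
    · exact h1
    · rw [aa] at h1
      exact absurd ((map_eq_zero_iff γ γ.injective).1 h1) hu
  have hau := hfix α ga
  have hbu := hfix β gb
  -- on the hyperplane
  have h1 : ∀ v, b v u = 0 → α (β v) = β (α v) := by
    intro v hv
    rcases ga v hv with h2 | h2 <;> rcases gb v hv with h3 | h3 <;> rw [h2, h3]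
    · exact h2
    · rw [map_add, h2, hau]
    · rw [map_add, h3, hbu, h2]
    · rw [map_add, map_add, h2, h3, hau, hbu]
  -- everywhere
  have h2 : ∀ x, α (β x) = β (α x) := by
    intro x
    have hw : ∀ w, b w u = 0 → b (α (β x) + β (α x)) w = 0 := by
      intro w hw
      -- w = α β w'
      obtain ⟨w1, rfl⟩ := α.surjective w
      obtain ⟨w', rfl⟩ := β.surjective w1
      have hw' : b w' u = 0 := by
        have h3 := h.b_isom hα (β w') u
        have h4 := h.b_isom hβ w' u
        rw [hau] at h3
        rw [hbu] at h4
        rw [← h4, ← h3]; exact hw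
      rw [map_add, LinearMap.add_apply, h.b_isom hα, h.b_isom hβ, h1 w' hw', h.b_isom hβ,
        h.b_isom hα, cc]
    -- hence in the line of u
    obtain ⟨s, hs⟩ := h.exists_one hu
    have h4 : ∀ z, (∀ w, b w u = 0 → b z w = 0) → z = 0 ∨ z = u := by
      intro z hz
      rcases zm (b z s) with h5 | h5
      · left
        apply h.nd
        intro y
        rcases zm (b y u) with h6 | h6
        · exact hz y h6
        · have h7 : b (y + s) u = 0 := by rw [map_add, LinearMap.add_apply, h6, hs, cc]
          have h8 := hz _ h7
          rw [map_add, h5, add_zero] at h8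
          exact h8
      · right
        apply eq_of_add
        apply h.nd
        intro y
        rcases zm (b y u) with h6 | h6
        · rw [map_add, LinearMap.add_apply, hz y h6, h.b_comm u y, h6, add_zero]
        · have h7 : b (y + s) u = 0 := by rw [map_add, LinearMap.add_apply, h6, hs, cc]
          have h8 := hz _ h7
          rw [map_add, h5] at h8
          rw [map_add, LinearMap.add_apply, h.b_comm u y, h6]
          exact h8
    rcases h4 _ hw with h5 | h5
    · exact eq_of_add h5
    · exfalso
      have h6 : α (β x) = β (α x) + u := by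
        rw [← h5]
        apply one_smul_inj
        match_scalars <;> decide
      have h7 := congrArg q h6
      rw [h.q_add, hα, hβ, hβ, hα, hqu, add_zero] at h7
      have h8 : b (β (α x)) u = 0 := by
        have : ∀ a b : ZMod 2, a = a + b → b = 0 := by decide
        exact this _ _ h7
      have h9 : b x u = 0 := by
        have h10 := h.b_isom hβ (α x) u
        rw [hbu] at h10
        have h11 := h.b_isom hα x u
        rw [hau] at h11
        rw [← h11, ← h10]; exact h8
      have h12 := h1 x h9
      rw [h12, aa] at h5
      exact hu h5.symm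
  ext x
  exact h2 x

/-- product of two non-good isometries -/
theorem Yu.good_mul (h : QF q b) {y : V ≃ₗ[ZMod 2] V} {D : Submodule (ZMod 2) V} {u : V}
    (U : Yu q b y D u) {α β : V ≃ₗ[ZMod 2] V}
    (hα : ∀ x, q (α x) = q x) (hβ : ∀ x, q (β x) = q x)
    (aD : ∀ v ∈ D, α v = v ∨ α v = v + u) (bD : ∀ v ∈ D, β v = v ∨ β v = v + u)
    (ay : (∀ x, α (y x) = y (α x)) ∨ ∀ x, α (y x) = y (y (y (α x))))
    (hby : (∀ x, β (y x) = y (β x)) ∨ ∀ x, β (y x) = y (y (y (β x))))
    (y4 : ∀ x, y (y (y (y x))) = x)
    (ga : ¬ Good b u α) (gb : ¬ Good b u β) : Good b u (α * β) := by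
  set n := N y with hn
  have hmem : ∀ s t : V, (s = 0 ∨ s = u) → (t = 0 ∨ t = u) → (s + t = 0 ∨ s + t = u) := by
    rintro s t (rfl | rfl) (rfl | rfl)
    · left; rw [add_zero]
    · right; rw [zero_add]
    · right; rw [add_zero]
    · left; rw [aa]
  -- general facts on one isometry
  have key : ∀ γ : V ≃ₗ[ZMod 2] V, (∀ x, q (γ x) = q x) → (∀ v ∈ D, γ v = v ∨ γ v = v + u) →
      ((∀ x, γ (y x) = y (γ x)) ∨ ∀ x, γ (y x) = y (y (y (γ x)))) →
      γ u = u ∧ (∀ x, ∃ t, γ (n x) + n x = n (n t)) ∧
        (∀ x, γ (n (n x)) + n (n x) = 0 ∨ γ (n (n x)) + n (n x) = u) := by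
    intro γ hγ gD gy
    have hγu : γ u = u := by
      rcases gD u U.u_mem with h1 | h1
      · exact h1
      · rw [aa] at h1
        exact absurd ((map_eq_zero_iff γ γ.injective).1 h1) U.u_ne
    have hγN : ∀ x, ∃ t, γ (n x) = n (γ x) + n (n t) := by
      intro x
      rcases gy with h1 | h1
      · refine ⟨0, ?_⟩
        rw [map_zero, map_zero, add_zero, hn, N_apply, N_apply, map_add, h1]
      · refine ⟨γ x + n (γ x), ?_⟩
        rw [hn, N_apply, N_apply, map_add, h1, NN_apply]
        simp only [map_add]
        apply one_smul_inj
        match_scalars <;> decide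
    have hγNN : ∀ x, γ (n (n x)) = n (n (γ x)) := by
      intro x
      rw [hn, NN_apply, NN_apply, map_add]
      rcases gy with h1 | h1
      · rw [h1, h1]
      · rw [h1, h1, y4]
    have hperp : ∀ x, b (γ x + x) u = 0 := by
      intro x
      have h1 := h.b_isom hγ x u
      rw [hγu] at h1
      rw [map_add, LinearMap.add_apply, h1, cc]
    refine ⟨hγu, ?_, ?_⟩
    · intro x
      obtain ⟨t, ht⟩ := hγN x
      obtain ⟨k, hk, x', hx'⟩ := U.split _ (hperp x)
      have hk0 : n k = 0 := by
        rw [hn, N_zero_iff]
        exact U.fixk k hk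
      refine ⟨x' + t, ?_⟩
      have h2 : n (γ x) + n x = n (n x') := by
        rw [← map_add, hx', map_add, hk0, zero_add]
      rw [ht, map_add, map_add, ← h2]
      abel
    · intro x
      obtain ⟨k, hk, x', hx'⟩ := U.split _ (hperp x)
      have hk0 : n k = 0 := by
        rw [hn, N_zero_iff]
        exact U.fixk k hk
      have h2 : γ (n (n x)) + n (n x) = n (n (n x')) := by
        rw [hγNN, ← map_add, ← map_add, hx', map_add, hk0, zero_add]
      rw [h2]
      exact U.NNN x'
  obtain ⟨au, aR, aR2⟩ := key α hα aD ay
  obtain ⟨bu, bR, bR2⟩ := key β hβ bD hby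
  -- non-good: a witness in the range of N
  have wit : ∀ γ : V ≃ₗ[ZMod 2] V, (∀ v ∈ D, γ v = v ∨ γ v = v + u) → ¬ Good b u γ →
      ∃ x, γ (n x) + n x ≠ 0 ∧ γ (n x) + n x ≠ u := by
    intro γ gD hg
    by_contra hc
    push Not at hc
    apply hg
    intro v hv
    obtain ⟨k, hk, x, rfl⟩ := U.split v hv
    have h1 : γ k + k = 0 ∨ γ k + k = u := by
      rcases gD k hk with h2 | h2
      · left; rw [h2, aa]
      · right; rw [h2, add_comm k u, add_assoc, aa, add_zero]
    have h2 : γ (n x) + n x = 0 ∨ γ (n x) + n x = u := by
      by_cases h3 : γ (n x) + n x = 0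
      · exact Or.inl h3
      · exact Or.inr (hc x h3)
    have h3 := hmem _ _ h1 h2
    have h4 : γ (k + n x) + (k + n x) = (γ k + k) + (γ (n x) + n x) := by rw [map_add]; abel
    rw [← h4] at h3
    rcases h3 with h5 | h5
    · left; exact eq_of_add h5
    · right
      rw [← h5]
      apply one_smul_inj
      match_scalars <;> decide
  obtain ⟨x, hx1, hx2⟩ := wit α aD ga
  obtain ⟨x', hx1', hx2'⟩ := wit β bD gb
  -- witnesses are not in R2
  have hxR : ¬ ∃ t, n x = n (n t) := by
    rintro ⟨t, ht⟩
    have h3 := aR2 t
    rw [← ht] at h3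
    rcases h3 with h3 | h3
    · exact hx1 h3
    · exact hx2 h3
  have hxR' : ¬ ∃ t, n x' = n (n t) := by
    rintro ⟨t, ht⟩
    have h3 := bR2 t
    rw [← ht] at h3
    rcases h3 with h3 | h3
    · exact hx1' h3
    · exact hx2' h3
  -- β moves N x too
  obtain ⟨t0, ht0⟩ := U.R12 x x' hxR hxR'
  have hb1 : β (n x) + n x ≠ 0 ∧ β (n x) + n x ≠ u := by
    have h3 := bR2 t0
    rw [hn, ← ht0] at h3
    have h4 : (β (n x' ) + n x') = (β (n x) + n x) + (β (n x + n x') + (n x + n x')) := by
      rw [map_add]
      apply one_smul_inj
      match_scalars <;> decide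
    constructor
    · intro hc
      rcases hmem _ _ (Or.inl hc) h3 with h5 | h5
      · exact hx1' (by rw [h4]; exact h5)
      · exact hx2' (by rw [h4]; exact h5)
    · intro hc
      rcases hmem _ _ (Or.inr hc) h3 with h5 | h5
      · exact hx1' (by rw [h4]; exact h5)
      · exact hx2' (by rw [h4]; exact h5)
  -- α β on N x
  have hαβ : α (β (n x)) + n x = 0 ∨ α (β (n x)) + n x = u := by
    obtain ⟨s, hs⟩ := aR x
    obtain ⟨s', hs'⟩ := bR x
    have h3 : (β (n x) + n x) + (α (n x) + n x) = 0 ∨ (β (n x) + n x) + (α (n x) + n x) = u := by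
      have e1 : N y (N y s') = β (n x) + n x := hs'.symm
      have e2 : N y (N y s) = α (n x) + n x := hs.symm
      have h6 := U.R2u s' s (by rw [e1]; exact hb1.1) (by rw [e1]; exact hb1.2)
        (by rw [e2]; exact hx1) (by rw [e2]; exact hx2)
      rw [e1, e2] at h6
      exact h6
    have h4 := aR2 s'
    rw [← hs'] at h4
    have h5 : α (β (n x)) + n x = (α (β (n x) + n x) + (β (n x) + n x)) +
        ((β (n x) + n x) + (α (n x) + n x)) := by
      rw [map_add]
      apply one_smul_inj
      match_scalars <;> decide
    rw [h5]
    exact hmem _ _ h4 h3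
  -- on R2
  have hR2 : ∀ t, α (β (n (n t))) + n (n t) = 0 ∨ α (β (n (n t))) + n (n t) = u := by
    intro t
    have h3 := aR2 t
    have h4 := bR2 t
    have h5 : α (β (n (n t))) + n (n t) = α (β (n (n t)) + n (n t)) + (α (n (n t)) + n (n t)) := by
      rw [map_add]
      apply one_smul_inj
      match_scalars <;> decide
    rw [h5]
    refine hmem _ _ ?_ h3
    rcases h4 with h6 | h6
    · left; rw [h6, map_zero]
    · right; rw [h6, au]
  intro v hv
  obtain ⟨k, hk, z, rfl⟩ := U.split v hv
  have h1 : α (β k) + k = 0 ∨ α (β k) + k = u := by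
    have h5 : α (β k) + k = α (β k + k) + (α k + k) := by
      rw [map_add]
      apply one_smul_inj
      match_scalars <;> decide
    rw [h5]
    refine hmem _ _ ?_ ?_
    · rcases bD k hk with h2 | h2
      · left; rw [h2, aa, map_zero]
      · right; rw [h2, add_comm k u, add_assoc, aa, add_zero, au]
    · rcases aD k hk with h2 | h2
      · left; rw [h2, aa]
      · right; rw [h2, add_comm k u, add_assoc, aa, add_zero]
  have h2 : α (β (n z)) + n z = 0 ∨ α (β (n z)) + n z = u := by
    by_cases hz : ∃ t, n z = n (n t)
    · obtain ⟨t, ht⟩ := hz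
      rw [ht]; exact hR2 t
    · obtain ⟨t, ht⟩ := U.R12 x z hxR hz
      have h5 : n z = n x + n (n t) := by
        rw [hn, ← ht, ← hn]
        apply one_smul_inj
        match_scalars <;> decide
      have h6 : α (β (n z)) + n z = (α (β (n x)) + n x) + (α (β (n (n t))) + n (n t)) := by
        rw [h5, map_add, map_add]; abel
      rw [h6]
      exact hmem _ _ hαβ (hR2 t)
  have h3 := hmem _ _ h1 h2
  show α (β _) = _ ∨ α (β _) = _
  have h4 : α (β (k + n z)) + (k + n z) = (α (β k) + k) + (α (β (n z)) + n z) := by
    rw [map_add, map_add]; abel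
  rw [← h4] at h3
  rcases h3 with h5 | h5
  · left; exact eq_of_add h5
  · right
    rw [← h5]
    apply one_smul_inj
    match_scalars <;> decide

/-- a space with a totally isotropic subspace of index at most 2 and small radical is small -/
theorem card_le_of_isotropic [Finite V] (h : QF q b) {D B : Submodule (ZMod 2) V} (hBD : B ≤ D)
    (ti : ∀ v ∈ B, ∀ w ∈ B, b v w = 0)
    (idx : ∀ v ∈ D, ∀ w ∈ D, v ∉ B → w ∉ B → v + w ∈ B) {u : V}
    (rad : ∀ v ∈ D, (∀ w ∈ D, b v w = 0) → v = 0 ∨ v = u) : Nat.card D ≤ 8 := by
  classical
  have card2 : ∀ (X Y : Submodule (ZMod 2) V), X ≤ Y →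
      (∀ v ∈ Y, ∀ w ∈ Y, v ∉ X → w ∉ X → v + w ∈ X) → Nat.card Y ≤ 2 * Nat.card X := by
    intro X Y hXY hidx
    by_cases hne : ∃ p ∈ Y, p ∉ X
    · obtain ⟨p, hp, hpX⟩ := hne
      have h2 : Nat.card Y ≤ Nat.card (Bool × X) := by
        refine Nat.card_le_card_of_injective (fun v : Y =>
          if hv : (v : V) ∈ X then (true, (⟨v, hv⟩ : X)) else (false, ⟨v + p,
            hidx v v.2 p hp hv hpX⟩)) ?_
        intro v w hvw
        simp only at hvw
        by_cases hv : (v : V) ∈ X <;> by_cases hw : (w : V) ∈ X
        · rw [dif_pos hv, dif_pos hw] at hvw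
          have := congrArg (fun t => ((t.2 : X) : V)) hvw
          exact Subtype.ext this
        · rw [dif_pos hv, dif_neg hw] at hvw
          exact absurd (congrArg Prod.fst hvw) (by simp)
        · rw [dif_neg hv, dif_pos hw] at hvw
          exact absurd (congrArg Prod.fst hvw) (by simp)
        · rw [dif_neg hv, dif_neg hw] at hvw
          have := congrArg (fun t => ((t.2 : X) : V)) hvw
          exact Subtype.ext (add_right_cancel this)
      rw [Nat.card_prod] at h2
      simpa only [_root_.ge_iff_le, _root_.Nat.card_eq_fintype_card, _root_.Fintype.card_bool] using h2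
    · push Not at hne
      have h2 : Nat.card Y ≤ Nat.card X :=
        Nat.card_le_card_of_injective (fun v : Y => (⟨v, hne v v.2⟩ : X))
          (fun v w hvw => Subtype.ext (congrArg (fun t : X => (t : V)) hvw))
      omega
  have hD := card2 B D hBD idx
  by_cases hne : ∃ p ∈ D, p ∉ B
  · obtain ⟨p, hp, hpB⟩ := hne
    -- radical
    let R : Submodule (ZMod 2) V := B ⊓ LinearMap.ker (b p)
    have hR : Nat.card R ≤ 2 := by
      have h2 : ∀ v ∈ R, v = 0 ∨ v = u := by
        intro v hv
        refine rad v (hBD hv.1) ?_
        intro w hw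
        by_cases hwB : w ∈ B
        · exact ti v hv.1 w hwB
        · have h3 := idx w hw p hp hwB hpB
          have h4 := ti v hv.1 _ h3
          have h5 : b v p = 0 := by rw [h.b_comm]; exact hv.2
          rw [map_add, h5, add_zero] at h4
          exact h4
      have h3 : Nat.card R ≤ Nat.card Bool := by
        refine Nat.card_le_card_of_injective (fun v : R => if (v : V) = 0 then true else false) ?_
        intro v w hvw
        simp only at hvw
        by_cases hv : (v : V) = 0 <;> by_cases hw : (w : V) = 0
        · exact Subtype.ext (hv.trans hw.symm)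
        · rw [if_pos hv, if_neg hw] at hvw; simp at hvw
        · rw [if_neg hv, if_pos hw] at hvw; simp at hvw
        · exact Subtype.ext (((h2 v v.2).resolve_left hv).trans
            ((h2 w w.2).resolve_left hw).symm)
      simpa only [_root_.ge_iff_le, _root_.Nat.card_eq_fintype_card, _root_.Fintype.card_bool] using h3
    have hB := card2 R B inf_le_left (by
      intro v hv w hw hvR hwR
      refine ⟨B.add_mem hv hw, ?_⟩
      show b p (v + w) = 0
      rw [map_add]
      have h1 : b p v = 1 := (zm _).resolve_left fun hc => hvR ⟨hv, hc⟩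
      have h2 : b p w = 1 := (zm _).resolve_left fun hc => hwR ⟨hw, hc⟩
      rw [h1, h2]; decide)
    omega
  · push Not at hne
    have h1 : ∀ v ∈ D, v = 0 ∨ v = u := fun v hv => rad v hv fun w hw => ti v (hne v hv) w
      (hne w hw)
    have h3 : Nat.card D ≤ Nat.card Bool := by
      refine Nat.card_le_card_of_injective (fun v : D => if (v : V) = 0 then true else false) ?_
      intro v w hvw
      simp only at hvw
      by_cases hv : (v : V) = 0 <;> by_cases hw : (w : V) = 0
      · exact Subtype.ext (hv.trans hw.symm)
      · rw [if_pos hv, if_neg hw] at hvw; simp at hvw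
      · rw [if_neg hv, if_pos hw] at hvw; simp at hvw
      · exact Subtype.ext (((h1 v v.2).resolve_left hv).trans
          ((h1 w w.2).resolve_left hw).symm)
    have h4 : Nat.card Bool = 2 := by simp
    omega

end

end Cfsg.Agent.Co2Type.RedLin
end

-- part: Co2Type/RedLin2
section
/-!
# Linear algebra for the reducible case, part 2 (R03, piece A2; helper587)
-/

set_option autoImplicit false

namespace Cfsg.Agent.Co2Type.RedLin2

open Cfsg.Agent.Co2Type.RedLin

variable {V : Type*} [AddCommGroup V] [Module (ZMod 2) V] {q : V → ZMod 2}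
  {b : LinearMap.BilinForm (ZMod 2) V}

theorem ti_of_ts (h : QF q b) {D : Submodule (ZMod 2) V} (hD : ∀ v ∈ D, q v = 0) :
    ∀ v ∈ D, ∀ w ∈ D, b v w = 0 := by
  intro v hv w hw
  have h1 := h.q_add v w
  rw [hD _ (D.add_mem hv hw), hD v hv, hD w hw] at h1
  simpa only [_root_.add_zero, _root_.zero_add] using h1.symm

theorem finrank_ti [Finite V] (hV : Module.finrank (ZMod 2) V = 8) (h : QF q b)
    {D : Submodule (ZMod 2) V} (hD : ∀ v ∈ D, ∀ w ∈ D, b v w = 0) :
    Module.finrank (ZMod 2) D ≤ 4 := by
  have hfin : Module.Finite (ZMod 2) V := Module.Finite.of_finite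
  have h1 : D ≤ b.orthogonal D := by
    intro v hv
    rw [LinearMap.BilinForm.mem_orthogonal_iff]
    intro w hw
    exact hD w hw v hv
  have h2 := Submodule.finrank_mono h1
  rw [LinearMap.BilinForm.finrank_orthogonal h.nondeg, hV] at h2
  omega

/-- data of an involutory isometry -/
structure Sd (q : V → ZMod 2) (s : V ≃ₗ[ZMod 2] V) (D : Submodule (ZMod 2) V) (v0 : V) :
    Prop where
  iso : ∀ x, q (s x) = q x
  s2 : ∀ x, s (s x) = x
  ts : ∀ v ∈ D, q v = 0
  fixD : ∀ v ∈ D, s v = v
  fix0 : s v0 = v0
  nmem : v0 ∉ D
  idx : ∀ v, s v = v → v ∉ D → v + v0 ∈ D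

theorem Sd.main [Finite V] (hV : Module.finrank (ZMod 2) V = 8) (h : QF q b)
    {s : V ≃ₗ[ZMod 2] V} {D : Submodule (ZMod 2) V} {v0 : V} (d : Sd q s D v0) :
    (∀ v, s v = v → ∃ t, v = s t + t) ∧ (∀ v w, s v = v → s w = w → b v w = 0) ∧
      ∃ h1 ∈ D, ∃ h2 ∈ D, h1 ≠ 0 ∧ h2 ≠ 0 ∧ h1 ≠ h2 := by
  have hfin : Module.Finite (ZMod 2) V := Module.Finite.of_finite
  set n := N s with hn
  have hker : ∀ x, n x = 0 ↔ s x = x := N_zero_iff s
  have hnn : ∀ x, n (n x) = 0 := by
    intro x
    rw [hn, NN_apply, d.s2, aa]
  have hbN : ∀ x w, s w = w → b (n x) w = 0 := by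
    intro x w hw
    have h1 := h.b_isom d.iso x w
    rw [hw] at h1
    rw [hn, N_apply, map_add, LinearMap.add_apply, h1, cc]
  have hsum := LinearMap.finrank_range_add_finrank_ker n
  rw [hV] at hsum
  have horth : b.orthogonal (LinearMap.ker n) = LinearMap.range n := by
    symm
    apply Submodule.eq_of_le_of_finrank_le
    · rintro _ ⟨x, rfl⟩
      rw [LinearMap.BilinForm.mem_orthogonal_iff]
      intro w hw
      rw [LinearMap.mem_ker, hker] at hw
      show b w (n x) = 0
      rw [h.b_comm]
      exact hbN x w hw
    · rw [LinearMap.BilinForm.finrank_orthogonal h.nondeg, hV]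
      omega
  have hadj : ∀ v w, b (n v) w = b v (n w) := by
    intro v w
    have h1 := h.b_isom d.iso v (s w)
    rw [d.s2] at h1
    rw [hn, N_apply, N_apply, map_add, map_add, LinearMap.add_apply, h1]
  have hti := ti_of_ts h d.ts
  have hD4 := finrank_ti hV h hti
  -- dimension of the kernel
  have hDK : D ≤ LinearMap.ker n := fun v hv => (hker v).2 (d.fixD v hv)
  have hK : LinearMap.ker n ≤ D ⊔ Submodule.span (ZMod 2) {v0} := by
    intro v hv
    by_cases hvD : v ∈ D
    · exact Submodule.mem_sup_left hvD
    · have h1 := d.idx v ((hker v).1 hv) hvD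
      have h2 : v = (v + v0) + v0 := by rw [add_assoc, aa, add_zero]
      rw [h2]
      exact Submodule.add_mem_sup h1 (Submodule.mem_span_singleton_self v0)
  have hKr : Module.finrank (ZMod 2) (LinearMap.ker n) ≤ Module.finrank (ZMod 2) D + 1 := by
    have h1 := Submodule.finrank_mono hK
    have h2 := Submodule.finrank_add_le_finrank_add_finrank D (Submodule.span (ZMod 2) {v0})
    have h3 := finrank_span_singleton (K := ZMod 2) (v := v0) (by
      intro h0; apply d.nmem; rw [h0]; exact D.zero_mem)
    omega
  have hRK : LinearMap.range n ≤ LinearMap.ker n := by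
    rintro _ ⟨x, rfl⟩; exact hnn x
  have hRK' := Submodule.finrank_mono hRK
  -- the kernel has dimension 4
  have hK4 : Module.finrank (ZMod 2) (LinearMap.ker n) ≤ 4 := by
    by_contra hc
    have hK5 : Module.finrank (ZMod 2) (LinearMap.ker n) = 5 := by omega
    have hD4' : Module.finrank (ZMod 2) D = 4 := by omega
    have hDorth : b.orthogonal D = D := by
      symm
      apply Submodule.eq_of_le_of_finrank_le
      · intro v hv
        rw [LinearMap.BilinForm.mem_orthogonal_iff]
        intro w hw
        exact hti w hw v hv
      · rw [LinearMap.BilinForm.finrank_orthogonal h.nondeg, hV]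
        omega
    have hRD : ∀ v, n v ∈ D := by
      intro v
      rw [← hDorth, LinearMap.BilinForm.mem_orthogonal_iff]
      intro w hw
      show b w (n v) = 0
      rw [h.b_comm]
      exact hbN v w (d.fixD w hw)
    have halt : ∀ v, b v (n v) = 0 := by
      intro v
      have h1 : q (n v) = 0 := d.ts _ (hRD v)
      have h2 := h.q_add (s v) v
      rw [d.iso, cc, zero_add] at h2
      rw [hn, N_apply, h2] at h1
      rw [hn, N_apply, map_add, h.b_self, add_zero, h.b_comm]
      exact h1
    -- choose a, c
    obtain ⟨a, ha⟩ : ∃ a, n a ≠ 0 := by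
      by_contra hc'
      push Not at hc'
      have h1 : LinearMap.ker n = ⊤ := by
        rw [eq_top_iff]; intro v _; exact hc' v
      rw [h1, finrank_top, hV] at hK5
      omega
    obtain ⟨c, hc1⟩ := h.exists_one ha
    have hac : b a (n c) = 1 := by rw [← hadj, h.b_comm]; exact hc1
    let X : Submodule (ZMod 2) V := b.orthogonal (Submodule.span (ZMod 2) {n a, n c})
    have hXmem : ∀ v, v ∈ X ↔ b v (n a) = 0 ∧ b v (n c) = 0 := by
      intro v
      rw [show (v ∈ X ↔ v ∈ b.orthogonal (Submodule.span (ZMod 2) {n a, n c})) from Iff.rfl,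
        LinearMap.BilinForm.mem_orthogonal_iff]
      constructor
      · intro h1
        constructor
        · rw [h.b_comm]
          exact h1 _ (Submodule.subset_span (Set.mem_insert _ _))
        · rw [h.b_comm]
          exact h1 _ (Submodule.subset_span (Set.mem_insert_of_mem _ rfl))
      · rintro ⟨h1, h2⟩ w hw
        obtain ⟨r, t, rfl⟩ := Submodule.mem_span_pair.1 hw
        show b (r • n a + t • n c) v = 0
        rw [map_add, map_smul, map_smul, LinearMap.add_apply, LinearMap.smul_apply,
          LinearMap.smul_apply, h.b_comm (n a), h.b_comm (n c), h1, h2]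
        simp
    have hspan2 : Module.finrank (ZMod 2) (Submodule.span (ZMod 2) {n a, n c}) = 2 := by
      have hli : LinearIndependent (ZMod 2) ![n a, n c] := by
        rw [LinearIndependent.pair_iff]
        intro r t hrt
        have h1 := congrArg (fun v => b v a) hrt
        have h2 := congrArg (fun v => b v c) hrt
        simp only [map_add, map_smul, LinearMap.add_apply, LinearMap.smul_apply, hadj, halt,
          hac, map_zero, LinearMap.zero_apply, smul_eq_mul] at h1 h2
        rw [hc1, mul_one] at h1
        rw [mul_one] at h2
        exact ⟨by simpa using h2, by simpa using h1⟩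
      have h1 := finrank_span_eq_card hli
      have h2 : Set.range ![n a, n c] = {n a, n c} := by
        ext v
        simp only [Set.mem_range, Fin.exists_fin_two, Set.mem_insert_iff, Set.mem_singleton_iff]
        constructor
        · rintro (h3 | h3)
          · left; exact h3.symm
          · right; exact h3.symm
        · rintro (h3 | h3)
          · left; exact h3.symm
          · right; exact h3.symm
      rw [h2, Fintype.card_fin] at h1
      exact h1
    have hX6 : Module.finrank (ZMod 2) X = 6 := by
      rw [LinearMap.BilinForm.finrank_orthogonal h.nondeg, hV, hspan2]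
    have hKX : LinearMap.ker n ≤ X := by
      intro v hv
      rw [hXmem, ← hadj, ← hadj, show n v = 0 from hv]
      simp
    obtain ⟨p, hpX, hpK⟩ : ∃ p ∈ X, p ∉ LinearMap.ker n := by
      by_contra hc'
      push Not at hc'
      have h1 := Submodule.finrank_mono (show X ≤ LinearMap.ker n from hc')
      omega
    obtain ⟨w, hw⟩ := h.exists_one (show n p ≠ 0 from hpK)
    have hpX' := (hXmem p).1 hpX
    have hap : b a (n p) = 0 := by rw [← hadj, h.b_comm]; exact hpX'.1
    have hcp : b c (n p) = 0 := by rw [← hadj, h.b_comm]; exact hpX'.2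
    have hw' : b (w + b w (n c) • a + b w (n a) • c) (n p) = 1 := by
      simp only [map_add, map_smul, LinearMap.add_apply, LinearMap.smul_apply, hw, hap, hcp]
      simp
    have hwX : w + b w (n c) • a + b w (n a) • c ∈ X := by
      rw [hXmem]
      simp only [map_add, map_smul, LinearMap.add_apply, LinearMap.smul_apply, halt, hac, hc1,
        smul_eq_mul, mul_zero, mul_one, add_zero]
      exact ⟨cc _, cc _⟩
    generalize w + b w (n c) • a + b w (n a) • c = w' at hw' hwX
    have hwK : w' ∉ LinearMap.ker n := by
      intro hc'
      rw [← hadj, show n w' = 0 from hc', map_zero, LinearMap.zero_apply] at hw'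
      exact absurd hw' (by decide)
    have h1 := idx2 hKX (by omega) hpX hwX hpK hwK
    have h2 : b (p + w') (n p) = 0 := by
      rw [← hadj, show n (p + w') = 0 from h1, map_zero, LinearMap.zero_apply]
    rw [map_add, LinearMap.add_apply, halt, hw'] at h2
    exact absurd h2 (by decide)
  have hKeq : LinearMap.range n = LinearMap.ker n :=
    Submodule.eq_of_le_of_finrank_le hRK (by omega)
  refine ⟨?_, ?_, ?_⟩
  · intro v hv
    have h1 : v ∈ LinearMap.range n := by rw [hKeq]; exact (hker v).2 hv
    obtain ⟨t, rfl⟩ := h1
    exact ⟨t, rfl⟩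
  · intro v w hv hw
    have h1 : v ∈ LinearMap.range n := by rw [hKeq]; exact (hker v).2 hv
    obtain ⟨t, rfl⟩ := h1
    exact hbN t w hw
  · have hD3 : 3 ≤ Module.finrank (ZMod 2) D := by omega
    obtain ⟨h1, h1D, h10⟩ : ∃ h1 ∈ D, h1 ≠ 0 := by
      by_contra hc
      push Not at hc
      have : D = ⊥ := by rw [eq_bot_iff]; intro v hv; exact hc v hv
      rw [this, finrank_bot] at hD3
      omega
    obtain ⟨h2, h2D, h20⟩ : ∃ h2 ∈ D, h2 ∉ Submodule.span (ZMod 2) {h1} := by
      by_contra hc
      push Not at hc
      have h3 := Submodule.finrank_mono (show D ≤ Submodule.span (ZMod 2) {h1} from hc)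
      rw [finrank_span_singleton h10] at h3
      omega
    refine ⟨h1, h1D, h2, h2D, h10, ?_, ?_⟩
    · intro hc; apply h20; rw [hc]; exact Submodule.zero_mem _
    · intro hc; apply h20; rw [← hc]; exact Submodule.mem_span_singleton_self _

end Cfsg.Agent.Co2Type.RedLin2
end

-- part: Co2Type/Alpha
section
/-!
# Groups of type `Co2`: fusion of the line elements

`S : Sit G Q t`, split case: `σ : Sp6 →* C(t)` a section of `psi`.  Hypothesis `WC`: `t` is weakly closed
in `Q`.
-/

set_option autoImplicit false

namespace Cfsg.Agent.Co2Type.Alpha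

open Cfsg Subgroup Cfsg.Agent.Co2Type.Quad Cfsg.Agent.Co2Type.Setup Cfsg.Agent.Co2Type.Spin
open Cfsg.Agent.Co2Type.LineMod
open Cfsg.Agent.SporRec.TwoSp6.Sp (tr act)

variable {G : Type*} [Group G] {Q : Subgroup G} {t : G} (S : Sit G Q t)
variable (σ : Sp6 →* centralizer ({t} : Set G))

/-- `σ g` as an element of `G` -/
def sg (g : Sp6) : G := ((σ g : centralizer ({t} : Set G)) : G)

theorem sg_mul (g h : Sp6) : sg σ (g * h) = sg σ g * sg σ h := by
  unfold sg; rw [map_mul]; rfl

theorem sg_one : sg σ 1 = 1 := by unfold sg; rw [map_one]; rfl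

theorem sg_inv (g : Sp6) : sg σ g⁻¹ = (sg σ g)⁻¹ := by unfold sg; rw [map_inv]; rfl

theorem sg_comm (g : Sp6) : sg σ g * t = t * sg σ g := mem_centralizer_singleton_iff.mp (σ g).2

theorem sg_line_sq {a b : U} (h : sf a b = 0) : sg σ (line a b) * sg σ (line a b) = 1 := by
  rw [← sg_mul, line_sq h, sg_one]

theorem sg_line_inv {a b : U} (h : sf a b = 0) : (sg σ (line a b))⁻¹ = sg σ (line a b) :=
  inv_eq_of_mul_eq_one_left (sg_line_sq σ h)

section

include S

theorem comm_t {x : G} (hx : x ∈ Q) : x * t = t * x := S.large.comm_z x hx

theorem tt : t * t = 1 := S.large.z_sq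

theorem t_ne : t ≠ 1 := S.large.z_ne

theorem conj_mem {g x : G} (hg : g * t = t * g) (hx : x ∈ Q) : g * x * g⁻¹ ∈ Q := S.large.conj_mem g hg x hx

end

variable (hσ : ∀ g, S.psi (σ g) = g)

/-- action of `σ g` on `V` -/
theorem pr_conj (g : Sp6) (x : Q) (hm : sg σ g * x * (sg σ g)⁻¹ ∈ Q) (hσ : ∀ g, S.psi (σ g) = g) :
    S.large.pr ⟨sg σ g * x * (sg σ g)⁻¹, hm⟩ = S.rho g (S.large.pr x) := by
  have h1 := S.rho_psi (σ g)
  rw [hσ] at h1
  rw [h1, S.large.act_pr]
  rfl

/-- elements with the same image differ by `t` -/
theorem eq_or_of_pr {x y : G} (hx : x ∈ Q) (hy : y ∈ Q) (h : S.large.pr ⟨x, hx⟩ = S.large.pr ⟨y, hy⟩) :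
    x = y ∨ x = y * t := S.large.pr_eq_pr.1 h

variable (hs : SpinHyp S.rho)

section chi
include hσ hs

/-- `σ (line a b)` centralises every element of `Q` whose image it fixes -/
theorem chi {a b : U} (h : IsLine a b) {x : G} (hx : x ∈ Q)
    (hfix : n S.rho a (n S.rho b (S.large.pr ⟨x, hx⟩)) = 0) :
    sg σ (line a b) * x = x * sg σ (line a b) := by
  have htt := tt S
  set r := sg σ (line a b) with hr
  have hrt : r * t = t * r := sg_comm σ _
  obtain ⟨u, w, hau, hbu, haw, hbw, huw⟩ := exists_hyp h
  have hmem : ∀ g : Sp6, sg σ g * x * (sg σ g)⁻¹ ∈ Q := fun g => conj_mem S (sg_comm σ g) hx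
  -- fixed or moved by `t`
  have hfix' : S.rho (line a b) (S.large.pr ⟨x, hx⟩) = S.large.pr ⟨x, hx⟩ := by
    rw [rho_line hs S.card_V h.2.2.2, hfix, add_zero]
  have h1 : r * x * r⁻¹ = x ∨ r * x * r⁻¹ = x * t := by
    apply eq_or_of_pr S (hmem _) hx
    rw [pr_conj S σ (line a b) ⟨x, hx⟩ (hmem _) hσ, hfix']
  rcases h1 with h1 | h1
  · exact mul_inv_eq_iff_eq_mul.mp h1
  exfalso
  -- the two conjugates
  set l1 := tr u * tr w with hl1
  set l2 := tr u * tr (u + w) with hl2
  have c1 : line a b * l1 = l1 * line a b := by
    have e1 := line_comm_tr (a := a) (b := b) hau hbu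
    have e2 := line_comm_tr (a := a) (b := b) haw hbw
    rw [hl1, ← mul_assoc, e1, mul_assoc, e2, mul_assoc]
  have c2 : line a b * l2 = l2 * line a b := by
    have e1 := line_comm_tr (a := a) (b := b) hau hbu
    have e2 := line_comm_tr (a := a) (b := b) (u := u + w) (by rw [sf_add, hau, haw, add_zero])
      (by rw [sf_add, hbu, hbw, add_zero])
    rw [hl2, ← mul_assoc, e1, mul_assoc, e2, mul_assoc]
  have mv : ∀ l : Sp6, line a b * l = l * line a b →
      r * (sg σ l * x * (sg σ l)⁻¹) * r⁻¹ = (sg σ l * x * (sg σ l)⁻¹) * t := by
    intro l hl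
    have e1 : r * sg σ l = sg σ l * r := by rw [hr, ← sg_mul, hl, sg_mul]
    have e2 : (sg σ l)⁻¹ * r⁻¹ = r⁻¹ * (sg σ l)⁻¹ := by rw [← mul_inv_rev, e1, mul_inv_rev]
    have e3 : t * (sg σ l)⁻¹ = (sg σ l)⁻¹ * t := by
      rw [← sg_inv]; exact (sg_comm σ _).symm
    calc r * (sg σ l * x * (sg σ l)⁻¹) * r⁻¹ = (r * sg σ l) * x * ((sg σ l)⁻¹ * r⁻¹) := by group
      _ = sg σ l * (r * x * r⁻¹) * (sg σ l)⁻¹ := by rw [e1, e2]; group
      _ = sg σ l * x * (t * (sg σ l)⁻¹) := by rw [h1]; group
      _ = _ := by rw [e3]; group
  have m1 := mv l1 c1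
  have m2 := mv l2 c2
  have q1 := hmem l1
  have q2 := hmem l2
  have p1 := pr_conj S σ l1 ⟨x, hx⟩ q1 hσ
  have p2 := pr_conj S σ l2 ⟨x, hx⟩ q2 hσ
  set x1 := sg σ l1 * x * (sg σ l1)⁻¹ with hx1
  set x2 := sg σ l2 * x * (sg σ l2)⁻¹ with hx2
  -- sum is zero
  have hsum : ∀ v, v + S.rho l1 v + S.rho l2 v = 0 := by
    intro v
    have h2 := hs u w huw v
    have h3 : S.rho (tr u) (S.rho (tr u) v) + S.rho (tr u) (S.rho (tr w) v) +
        S.rho (tr u) (S.rho (tr (u + w)) v) = 0 := by
      have h3 := congrArg (S.rho (tr u)) h2
      rw [map_zero, map_add, map_add] at h3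
      exact h3
    have e0 : S.rho (tr u) (S.rho (tr u) v) = v := by
      have e1 : S.rho (tr u * tr u) v = v := by
        rw [SporRec.TwoSp6.Sp.tr_sq, map_one]; rfl
      rw [map_mul] at e1
      exact e1
    rw [e0] at h3
    rw [hl1, hl2, map_mul, map_mul]
    exact h3
  have h4 : S.large.pr (⟨x, hx⟩ * ⟨x1, q1⟩ * ⟨x2, q2⟩) = 0 := by
    rw [S.large.pr_mul, S.large.pr_mul, p1, p2, hsum]
  have h5 : x * x1 * x2 = 1 ∨ x * x1 * x2 = t := S.large.pr_eq_zero.1 h4
  have h6 : r * (x * x1 * x2) * r⁻¹ = x * x1 * x2 := by
    rcases h5 with h5 | h5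
    · rw [h5]; group
    · rw [h5, hrt]; group
  have x1t : x1 * t = t * x1 := comm_t S q1
  have x2t : x2 * t = t * x2 := comm_t S q2
  have h7 : r * (x * x1 * x2) * r⁻¹ = x * x1 * x2 * t := by
    calc r * (x * x1 * x2) * r⁻¹ = (r * x * r⁻¹) * (r * x1 * r⁻¹) * (r * x2 * r⁻¹) := by group
      _ = (x * t) * (x1 * t) * (x2 * t) := by rw [h1, m1, m2]
      _ = x * (t * x1) * (t * x2) * t := by group
      _ = x * (x1 * t) * (t * x2) * t := by rw [← x1t]
      _ = x * x1 * (t * t) * x2 * t := by group
      _ = _ := by rw [htt]; group
  rw [h6] at h7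
  exact t_ne S (left_eq_mul.mp h7)

omit hσ hs in
include S in
/-- the commutator of a line element with `w ∈ Q` -/
theorem cm_mem (a b : U) {w : G} (hw : w ∈ Q) : sg σ (line a b) * w * (sg σ (line a b))⁻¹ * w⁻¹ ∈ Q :=
  mul_mem (conj_mem S (sg_comm σ _) hw) (inv_mem hw)

theorem pr_cm {a b : U} (h : sf a b = 0) {w : G} (hw : w ∈ Q)
    (hm : sg σ (line a b) * w * (sg σ (line a b))⁻¹ * w⁻¹ ∈ Q) :
    S.large.pr ⟨sg σ (line a b) * w * (sg σ (line a b))⁻¹ * w⁻¹, hm⟩ =
      n S.rho a (n S.rho b (S.large.pr ⟨w, hw⟩)) := by
  have h1 := pr_conj S σ (line a b) ⟨w, hw⟩ (conj_mem S (sg_comm σ _) hw) hσ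
  have h2 : S.large.pr ⟨sg σ (line a b) * w * (sg σ (line a b))⁻¹ * w⁻¹, hm⟩ =
      S.large.pr ⟨sg σ (line a b) * w * (sg σ (line a b))⁻¹, conj_mem S (sg_comm σ _) hw⟩ +
        S.large.pr (⟨w, hw⟩)⁻¹ := by
    rw [← S.large.pr_mul]; rfl
  rw [h2, h1, rho_line hs S.card_V h, S.large.pr_inv, S.large.neg_eq]
  show S.large.pr ⟨w, hw⟩ + _ + S.large.pr ⟨w, hw⟩ = _
  rw [add_right_comm, S.large.add_self, zero_add]

/-- (G3) -/
theorem comm_conj {a b c d : U} (h1 : IsLine a b) (h2 : IsLine c d) (ac : sf a c = 0)
    (ad : sf a d = 0) (bc : sf b c = 0) (bd : sf b d = 0) {w : G} (hw : w ∈ Q) :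
    sg σ (line a b) * (w * sg σ (line c d) * w⁻¹) = w * sg σ (line c d) * w⁻¹ * sg σ (line a b) := by
  have hcd := h2.2.2.2
  set s1 := sg σ (line a b) with hs1
  set s2 := sg σ (line c d) with hs2
  have e0 : s1 * s2 = s2 * s1 := by
    rw [hs1, hs2, ← sg_mul, line_comm ac ad bc bd, sg_mul]
  have e1 : s2 * s2 = 1 := sg_line_sq σ hcd
  have hm := cm_mem S σ c d hw
  have e2 : s1 * (s2 * w * s2⁻¹ * w⁻¹) = s2 * w * s2⁻¹ * w⁻¹ * s1 := by
    apply chi S σ hσ hs h1 hm
    rw [pr_cm S σ hσ hs hcd hw hm, n4_zero hs S.card_V h1 h2 ac ad bc bd]
  have e3 : w * s2 * w⁻¹ = s2 * (s2 * w * s2⁻¹ * w⁻¹) := by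
    have e4 : s2⁻¹ = s2 := sg_line_inv σ hcd
    rw [e4]
    calc w * s2 * w⁻¹ = 1 * (w * s2 * w⁻¹) := by group
      _ = s2 * s2 * (w * s2 * w⁻¹) := by rw [e1]
      _ = _ := by group
  rw [e3, ← mul_assoc, e0, mul_assoc, e2, ← mul_assoc]

end chi

section two

include S

theorem line_ne_one (hs : SpinHyp S.rho) {a b : U} (h : IsLine a b) : line a b ≠ 1 := by
  intro he
  have h1 : ∀ v, n S.rho a (n S.rho b v) = 0 := by
    intro v
    have h2 := rho_line hs S.card_V h.2.2.2 v
    rw [he, map_one] at h2
    exact (left_eq_add.mp h2)
  obtain ⟨a', h3, h4⟩ : ∃ a', sf a a' = 1 ∧ sf b a' = 0 :=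
    SporRec.TwoSp6.Sp.exists_om_one_zero h.1 (fun hh => h.2.2.1 hh.symm)
  obtain ⟨b', h5, h6⟩ : ∃ b', sf b b' = 1 ∧ sf a b' = 0 :=
    SporRec.TwoSp6.Sp.exists_om_one_zero h.2.1 h.2.2.1
  have k1 : ∀ v, n S.rho a v = 0 := by
    intro v
    have h7 := n_anticomm_apply hs b b' v
    rw [h5, one_smul] at h7
    have h8 := congrArg (n S.rho a) h7
    rw [h1, map_add, n_comm_apply hs h6, h1, map_zero, zero_add] at h8
    exact h8.symm
  have k2 : ∀ v : S.large.V, v = 0 := by
    intro v
    have h7 := n_anticomm_apply hs a a' v
    rw [k1, k1, map_zero, zero_add, h3, one_smul] at h7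
    exact h7.symm
  have hc : Nat.card S.large.V = 1 := by
    rw [Nat.card_eq_one_iff_exists]
    exact ⟨0, k2⟩
  rw [S.card_V] at hc
  norm_num at hc

/-- an involution of `C(t)` centralises an element of `Q` outside `⟨t⟩` -/
theorem exists_fixed {c : G} (hc : c * t = t * c) (hcc : c * c = 1) :
    ∃ d ∈ Q, d ≠ 1 ∧ d ≠ t ∧ c * d = d * c := by
  have := S.finite_Q
  have : Module.Finite (ZMod 2) S.large.V := Module.Finite.of_finite
  set c' : centralizer ({t} : Set G) := ⟨c, mem_centralizer_singleton_iff.2 hc⟩ with hc'
  have hcc' : c' * c' = 1 := Subtype.ext hcc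
  set N : S.large.V →ₗ[ZMod 2] S.large.V := LinearMap.id + (S.large.act c' : S.large.V →ₗ[ZMod 2] S.large.V)
    with hN
  have hNa : ∀ v, N v = v + S.large.act c' v := fun v => rfl
  have haa : ∀ v, S.large.act c' (S.large.act c' v) = v := by
    intro v
    have h1 : S.large.act (c' * c') v = v := by rw [hcc', map_one]; rfl
    rw [map_mul] at h1
    exact h1
  have hNN : ∀ v, N (N v) = 0 := by
    intro v
    rw [hNa, hNa, map_add, haa]
    have h2 := S.large.add_self
    calc v + S.large.act c' v + (S.large.act c' v + v)
        = (v + v) + (S.large.act c' v + S.large.act c' v) := by abel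
      _ = 0 := by rw [h2, h2, add_zero]
  have hle : LinearMap.range N ≤ LinearMap.ker N := by
    rintro _ ⟨v, rfl⟩
    exact hNN v
  have h3 := LinearMap.finrank_range_add_finrank_ker N
  rw [S.finrank_V] at h3
  have h4 : Module.finrank (ZMod 2) (LinearMap.range N) ≤ Module.finrank (ZMod 2) (LinearMap.ker N) :=
    Submodule.finrank_mono hle
  have h5 : 4 ≤ Module.finrank (ZMod 2) (LinearMap.ker N) := by omega
  have h6 : 2 < (LinearMap.ker N : Set S.large.V).ncard := by
    have h7 : (LinearMap.ker N : Set S.large.V).ncard = Nat.card (LinearMap.ker N) := rfl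
    rw [h7, Module.natCard_eq_pow_finrank (K := ZMod 2), Nat.card_zmod]
    calc 2 < 2 ^ 4 := by norm_num
      _ ≤ _ := Nat.pow_le_pow_right (by norm_num) h5
  obtain ⟨v1, v2, v3, m1, m2, m3, n12, n13, n23⟩ := (Set.two_lt_ncard_iff).1 h6
  -- two distinct nonzero vectors
  obtain ⟨u1, u2, k1, k2, z1, z2, hne⟩ : ∃ u1 u2, u1 ∈ LinearMap.ker N ∧ u2 ∈ LinearMap.ker N ∧
      u1 ≠ 0 ∧ u2 ≠ 0 ∧ u1 ≠ u2 := by
    by_cases h0 : v1 = 0
    · exact ⟨v2, v3, m2, m3, fun h => n12 (h0.trans h.symm), fun h => n13 (h0.trans h.symm), n23⟩
    · by_cases h1 : v2 = 0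
      · exact ⟨v1, v3, m1, m3, h0, fun h => n23 (h1.trans h.symm), n13⟩
      · exact ⟨v1, v2, m1, m2, h0, h1, n12⟩
  obtain ⟨x1, rfl⟩ := S.large.pr_surjective u1
  obtain ⟨x2, rfl⟩ := S.large.pr_surjective u2
  have key : ∀ x : Q, S.large.pr x ∈ LinearMap.ker N → c * x * c⁻¹ = x ∨ c * x * c⁻¹ = x * t := by
    intro x hx
    have h1 : S.large.pr x + S.large.act c' (S.large.pr x) = 0 := hx
    have h2 : S.large.act c' (S.large.pr x) = S.large.pr x :=
      (eq_neg_of_add_eq_zero_right h1).trans (S.large.neg_eq _)
    rw [S.large.act_pr] at h2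
    exact S.large.pr_eq_pr.1 h2
  have fin : ∀ x : Q, S.large.pr x ≠ 0 → c * x * c⁻¹ = x → ∃ d ∈ Q, d ≠ 1 ∧ d ≠ t ∧ c * d = d * c := by
    intro x hx h
    refine ⟨x, x.2, ?_, ?_, mul_inv_eq_iff_eq_mul.1 h⟩
    · intro h1; exact hx (S.large.pr_eq_zero.2 (Or.inl h1))
    · intro h1; exact hx (S.large.pr_eq_zero.2 (Or.inr h1))
  rcases key x1 k1 with h | h
  · exact fin x1 z1 h
  rcases key x2 k2 with h' | h'
  · exact fin x2 z2 h'
  refine fin (x1 * x2) ?_ ?_
  · rw [S.large.pr_mul]
    intro h0
    apply hne
    rw [← S.large.neg_eq (S.large.pr x2)]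
    exact eq_neg_of_add_eq_zero_left h0
  · have e1 : (x2 : G) * t = t * x2 := comm_t S x2.2
    calc c * ((x1 * x2 : Q) : G) * c⁻¹ = (c * x1 * c⁻¹) * (c * x2 * c⁻¹) := by
          rw [Subgroup.coe_mul]; group
      _ = x1 * t * (x2 * t) := by rw [h, h']
      _ = x1 * (t * x2) * t := by group
      _ = x1 * x2 * (t * t) := by rw [← e1]; group
      _ = _ := by rw [tt S, mul_one, Subgroup.coe_mul]

end two

section three

include hσ hs

/-- the intersection is nontrivial -/
theorem exists_inf {g : G} (hg : g * t * g⁻¹ = t * sg σ (line (e 0) (e 1))) :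
    ∃ x ∈ Q ⊓ Q.map (MulAut.conj g).toMonoidHom, x ≠ 1 := by
  have := S.finite_Q
  by_contra hcon
  push Not at hcon
  set s := sg σ (line (e 0) (e 1)) with hsdef
  set Q' := Q.map (MulAut.conj g).toMonoidHom with hQ'
  have hst : s * t = t * s := sg_comm σ _
  have hss : s * s = 1 := sg_line_sq σ (sf_e_e 0 1)
  have hL' : Large Q' (g * t * g⁻¹) := S.large.conj g
  rw [hg] at hL'
  -- `g⁻¹ t g`
  have hc : (g⁻¹ * t * g) * t = t * (g⁻¹ * t * g) := by
    have h1 : t * (g * t * g⁻¹) = (g * t * g⁻¹) * t := by
      rw [hg]
      calc t * (t * s) = t * (s * t) := by rw [hst]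
        _ = t * s * t := by group
    calc (g⁻¹ * t * g) * t = g⁻¹ * (t * (g * t * g⁻¹)) * g := by group
      _ = g⁻¹ * ((g * t * g⁻¹) * t) * g := by rw [h1]
      _ = _ := by group
  have hcc : (g⁻¹ * t * g) * (g⁻¹ * t * g) = 1 := by
    calc (g⁻¹ * t * g) * (g⁻¹ * t * g) = g⁻¹ * (t * t) * g := by group
      _ = 1 := by rw [tt S]; group
  obtain ⟨d, hdQ, hd1, hdt, hdc⟩ := exists_fixed S hc hcc
  set d' := g * d * g⁻¹ with hd'
  have hd'Q : d' ∈ Q' := ⟨d, hdQ, rfl⟩
  have hd't : d' * t = t * d' := by
    calc d' * t = g * (d * (g⁻¹ * t * g)) * g⁻¹ := by rw [hd']; group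
      _ = g * ((g⁻¹ * t * g) * d) * g⁻¹ := by rw [hdc]
      _ = _ := by rw [hd']; group
  have hd'1 : d' ≠ 1 := by
    intro h
    apply hd1
    calc d = g⁻¹ * d' * g := by rw [hd']; group
      _ = 1 := by rw [h]; group
  have hd'y : d' ≠ t * s := by
    intro h
    apply hdt
    calc d = g⁻¹ * d' * g := by rw [hd']; group
      _ = t := by rw [h, ← hg]; group
  have hmem : d' ∈ centralizer ({t} : Set G) := mem_centralizer_singleton_iff.2 hd't
  -- `d'` centralises the kernel
  have hfix : ∀ v, n S.rho (e 0) (n S.rho (e 1) v) = 0 → S.rho (S.psi ⟨d', hmem⟩) v = v := by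
    intro v hv
    obtain ⟨x, rfl⟩ := S.large.pr_surjective v
    have h1 : s * x = x * s := chi S σ hσ hs isLine_e01 x.2 hv
    have h2 : (x : G) * t = t * x := comm_t S x.2
    have h3 : (x : G) ∈ Pair.dsub Q (t * s) := by
      rw [Pair.mem_dsub]
      refine ⟨x.2, ?_⟩
      rw [← mul_assoc, h2, mul_assoc, ← h1, ← mul_assoc]
    have h4 := Pair.commutator_mem S.large hL' h3 (Pair.mem_dsub.2 ⟨hd'Q, hd't⟩)
    have h5 := hcon _ h4
    have h6 : (x : G) * d' = d' * x := by
      rw [mul_inv_eq_one] at h5
      exact mul_inv_eq_iff_eq_mul.1 h5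
    rw [S.rho_psi, S.large.act_pr]
    congr 1
    apply Subtype.ext
    show d' * x * d'⁻¹ = x
    rw [← h6, mul_inv_cancel_right]
  rcases eq_of_fix_ker hs S.card_V (q := S.large.q) (b0 := S.large.b) S.b_rho S.large.b_self
    (fun v hv => S.large.b_nondeg hv) S.large.q_add' S.q_rho S.rho_injective hfix with h | h
  · have h1 := (S.psi_ker _).1 h
    exact hd'1 (hcon d' (mem_inf.2 ⟨h1, hd'Q⟩))
  · have h1 : S.psi (⟨d', hmem⟩ * (σ (line (e 0) (e 1)))⁻¹) = 1 := by
      rw [map_mul, map_inv, hσ, h, mul_inv_cancel]
    have h2 := (S.psi_ker _).1 h1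
    have h3 : d' * s⁻¹ ∈ Q := h2
    have h4 : d' * (t * s)⁻¹ ∈ Q ⊓ Q' := by
      refine mem_inf.2 ⟨?_, mul_mem hd'Q (inv_mem hL'.z_mem)⟩
      rw [mul_inv_rev, ← mul_assoc]
      exact mul_mem h3 (inv_mem S.large.z_mem)
    have h5 := hcon _ h4
    rw [mul_inv_eq_one] at h5
    exact hd'y h5

/-- the element `v` -/
theorem exists_v (hwc : Pair.WC Q t) (hc : IsConj t (t * sg σ (line (e 0) (e 1)))) :
    ∃ g w : G, w ∈ Q ∧ g * t * g⁻¹ = t * sg σ (line (e 0) (e 1)) ∧
      w * sg σ (line (e 0) (e 1)) * w⁻¹ ∈ Q.map (MulAut.conj g).toMonoidHom ∧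
      w * sg σ (line (e 0) (e 1)) * w⁻¹ ≠ g * t * g⁻¹ := by
  obtain ⟨g, hg⟩ := isConj_iff.1 hc
  obtain ⟨x, hx, hx1⟩ := exists_inf S σ hσ hs hg
  have hL' : Large (Q.map (MulAut.conj g).toMonoidHom) (g * t * g⁻¹) := S.large.conj g
  have hwc' := hwc.conj g
  set s := sg σ (line (e 0) (e 1)) with hsdef
  set Q' := Q.map (MulAut.conj g).toMonoidHom with hQ'
  have hst : s * t = t * s := sg_comm σ _
  have hss : s * s = 1 := sg_line_sq σ (sf_e_e 0 1)
  have hsi : s⁻¹ = s := inv_eq_of_mul_eq_one_left hss
  have hne : g * t * g⁻¹ ≠ t := by
    intro h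
    rw [hg] at h
    have h1 : s = 1 := mul_eq_left.1 h
    have h2 : S.psi (σ (line (e 0) (e 1))) = 1 := (S.psi_ker _).2 (by
      show s ∈ Q
      rw [h1]; exact one_mem _)
    rw [hσ] at h2
    exact line_ne_one S hs isLine_e01 h2
  have htQ' : t ∉ Q' := by
    apply Pair.not_mem_of_wc hwc' _ hne
    rw [hg]; exact hc.symm
  obtain ⟨hxQ, hxQ'⟩ := mem_inf.1 hx
  have hperp : ∀ v, n S.rho (e 0) (n S.rho (e 1) v) = 0 → S.large.b (S.large.pr ⟨x, hxQ⟩) v = 0 := by
    intro v hv
    obtain ⟨d, rfl⟩ := S.large.pr_surjective v
    have h1 : s * d = d * s := chi S σ hσ hs isLine_e01 d.2 hv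
    have h2 : (d : G) * t = t * d := comm_t S d.2
    have h3 : (d : G) ∈ Pair.dsub Q (g * t * g⁻¹) := by
      rw [Pair.mem_dsub, hg]
      refine ⟨d.2, ?_⟩
      rw [← mul_assoc, h2, mul_assoc, ← h1, ← mul_assoc]
    rw [S.large.b_pr]
    exact (Pair.inf_comm_left S.large hL' htQ' hx h3).symm
  obtain ⟨s0, hs0⟩ := im_of_perp hs (b0 := S.large.b) S.b_rho (fun v hv => S.large.b_nondeg hv)
    isLine_e01 (x := S.large.pr ⟨x, hxQ⟩)
    (fun v => hperp _ (by rw [n_comm_apply hs (sf_e_e 0 1), n_n_apply, map_zero]))
    (fun v => hperp _ (by rw [n_n_apply, map_zero]))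
  obtain ⟨w, rfl⟩ := S.large.pr_surjective s0
  have hm := cm_mem S σ (e 0) (e 1) w.2
  have hpr : S.large.pr ⟨x, hxQ⟩ = S.large.pr ⟨_, hm⟩ := by
    rw [hs0, pr_cm S σ hσ hs (sf_e_e 0 1) w.2 hm]
  have h5 : x = s * w * s⁻¹ * (w : G)⁻¹ ∨ x = s * w * s⁻¹ * (w : G)⁻¹ * t := S.large.pr_eq_pr.1 hpr
  have hwt : (w : G) * t = t * w := comm_t S w.2
  have hwt' : (w : G)⁻¹ * t = t * (w : G)⁻¹ := comm_t S (inv_mem w.2)
  have h6 : x = s * w * s⁻¹ * (w : G)⁻¹ * t := by
    rcases h5 with h5 | h5
    · exfalso
      apply hx1
      have h7 : (g * t * g⁻¹) * x = w * (t * s) * (w : G)⁻¹ := by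
        rw [hg, h5, hsi]
        calc t * s * (s * w * s * (w : G)⁻¹) = t * (s * s) * w * s * (w : G)⁻¹ := by group
          _ = (t * w) * s * (w : G)⁻¹ := by rw [hss]; group
          _ = _ := by rw [← hwt]; group
      have h8 : (g * t * g⁻¹) * x ∈ Q' := mul_mem hL'.z_mem hxQ'
      have h9 : (g * t * g⁻¹) * x = g * t * g⁻¹ := by
        apply hwc'.eq_of_mem h8
        rw [h7, ← hg]
        exact isConj_iff.2 ⟨w, rfl⟩
      exact mul_eq_left.1 h9
    · exact h5
  refine ⟨g, w, w.2, hg, ?_, ?_⟩
  · have h7 : (g * t * g⁻¹) * x = w * s * (w : G)⁻¹ := by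
      rw [hg, h6, hsi]
      calc t * s * (s * w * s * (w : G)⁻¹ * t) = t * (s * s) * w * s * ((w : G)⁻¹ * t) := by group
        _ = t * w * s * (t * (w : G)⁻¹) := by rw [hss, hwt']; group
        _ = t * w * (s * t) * (w : G)⁻¹ := by group
        _ = t * w * (t * s) * (w : G)⁻¹ := by rw [hst]
        _ = t * (w * t) * s * (w : G)⁻¹ := by group
        _ = (t * t) * w * s * (w : G)⁻¹ := by rw [hwt]; group
        _ = _ := by rw [tt S]; group
    rw [← h7]
    exact mul_mem hL'.z_mem hxQ'
  · intro h7
    apply hx1
    have h8 : (g * t * g⁻¹) * x = w * s * (w : G)⁻¹ := by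
      rw [hg, h6, hsi]
      calc t * s * (s * w * s * (w : G)⁻¹ * t) = t * (s * s) * w * s * ((w : G)⁻¹ * t) := by group
        _ = t * w * s * (t * (w : G)⁻¹) := by rw [hss, hwt']; group
        _ = t * w * (s * t) * (w : G)⁻¹ := by group
        _ = t * w * (t * s) * (w : G)⁻¹ := by rw [hst]
        _ = t * (w * t) * s * (w : G)⁻¹ := by group
        _ = (t * t) * w * s * (w : G)⁻¹ := by rw [hwt]; group
        _ = _ := by rw [tt S]; group
    rw [h7] at h8
    exact mul_eq_left.1 h8

/-- (a) the two classes over the line class are not both fused -/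
theorem not_both (hwc : Pair.WC Q t) (hc : IsConj t (t * sg σ (line (e 0) (e 1)))) :
    ¬ IsConj t (sg σ (line (e 0) (e 1))) := by
  intro h
  obtain ⟨g, w, hw, hg, hv, hne⟩ := exists_v S σ hσ hs hwc hc
  apply hne
  apply (hwc.conj g).eq_of_mem hv
  exact (isConj_iff.2 ⟨g, rfl⟩ : IsConj t (g * t * g⁻¹)).symm.trans (h.trans (isConj_iff.2 ⟨w, rfl⟩))

end three

section four

/-- `σ` of the line elements is one class -/
theorem isConj_sg_line {a b c d : U} (h : IsLine a b) (h' : IsLine c d) :
    ∃ k : G, k * t = t * k ∧ k * sg σ (line a b) * k⁻¹ = sg σ (line c d) := by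
  obtain ⟨g, hg1, hg2⟩ := exists_act_line h h'
  refine ⟨sg σ g, sg_comm σ g, ?_⟩
  rw [← sg_inv, ← sg_mul, ← sg_mul, line_conj, hg1, hg2]

theorem isConj_t_sg {a b c d : U} (h : IsLine a b) (h' : IsLine c d)
    (hc : IsConj t (t * sg σ (line a b))) : IsConj t (t * sg σ (line c d)) := by
  obtain ⟨k, hk1, hk2⟩ := isConj_sg_line σ h h'
  refine hc.trans (isConj_iff.2 ⟨k, ?_⟩)
  rw [← hk2]
  calc k * (t * sg σ (line a b)) * k⁻¹ = (k * t) * sg σ (line a b) * k⁻¹ := by group
    _ = _ := by rw [hk1]; group

theorem isConj_sg {a b c d : U} (h : IsLine a b) (h' : IsLine c d)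
    (hc : IsConj t (sg σ (line a b))) : IsConj t (sg σ (line c d)) := by
  obtain ⟨k, hk1, hk2⟩ := isConj_sg_line σ h h'
  exact hc.trans (isConj_iff.2 ⟨k, hk2⟩)

include S hs in
/-- lines through a common point -/
theorem line_mul_line {a b c : U} (ab : sf a b = 0) (ac : sf a c = 0) (bc : sf b c = 0) :
    line a b * line a c = line a (b + c) := by
  apply S.rho_injective
  apply LinearEquiv.ext
  intro v
  have h1 : S.rho (line a b * line a c) v = S.rho (line a b) (S.rho (line a c) v) := by
    rw [map_mul]; rfl
  have habc : sf a (b + c) = 0 := by rw [sf_add, ab, ac, add_zero]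
  rw [h1, rho_line hs S.card_V ab, rho_line hs S.card_V ac, rho_line hs S.card_V habc,
    n_add_zero hs S.card_V bc]
  simp only [map_add]
  rw [n_comm_apply hs ab (n S.rho a (n S.rho c v)), n_n_apply, map_zero, add_zero]
  abel

omit S in
theorem line_swap (a b : U) (h : sf a b = 0) : line a b = line b a := by
  have h1 : tr a * tr b = tr b * tr a := SporRec.TwoSp6.Sp.tr_comm h
  unfold line
  rw [h1, add_comm]

theorem isLine_e02 : IsLine (e 0) (e 2) := by
  refine ⟨?_, ?_, ?_, sf_e_e 0 2⟩
  · decide +kernel
  · decide +kernel
  · decide +kernel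

theorem isLine_e012 : IsLine (e 0) (e 1 + e 2) := by
  refine ⟨?_, ?_, ?_, ?_⟩
  · decide +kernel
  · decide +kernel
  · decide +kernel
  · rw [sf_add, sf_e_e, sf_e_e, add_zero]

theorem sf_e_f_ne {i j : Fin 3} (h : i ≠ j) : sf (e i) (f j) = 0 := by
  rw [sf_e_f, if_neg h]

theorem isLine_e1f2 : IsLine (e 1) (f 2) := by
  refine ⟨?_, ?_, ?_, sf_e_f_ne (by decide)⟩
  · decide +kernel
  · decide +kernel
  · decide +kernel

theorem isLine_e1e0f2 : IsLine (e 1) (e 0 + f 2) := by
  refine ⟨?_, ?_, ?_, ?_⟩
  · decide +kernel
  · decide +kernel
  · decide +kernel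
  · rw [sf_add, sf_e_e, sf_e_f_ne (by decide), add_zero]

include S hs in
/-- (b) the class of `σ (line)` is not fused if there is no pure four-group -/
theorem not_sline (hnp : ∀ x : G, x * t = t * x → IsConj t x → ¬ IsConj t (t * x)) :
    ¬ IsConj t (sg σ (line (e 0) (e 1))) := by
  intro h
  have h2 := isConj_sg σ isLine_e01 isLine_e02 h
  have h3 := isConj_sg σ isLine_e01 isLine_e012 h
  obtain ⟨g, hg⟩ := isConj_iff.1 h.symm
  have hmul : sg σ (line (e 0) (e 1)) * sg σ (line (e 0) (e 2)) = sg σ (line (e 0) (e 1 + e 2)) := by
    rw [← sg_mul, line_mul_line S hs (sf_e_e 0 1) (sf_e_e 0 2) (sf_e_e 1 2)]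
  have hcomm : sg σ (line (e 0) (e 1)) * sg σ (line (e 0) (e 2)) =
      sg σ (line (e 0) (e 2)) * sg σ (line (e 0) (e 1)) := by
    rw [← sg_mul, ← sg_mul, line_comm (sf_self _) (sf_e_e 0 2) (sf_e_e 1 0) (sf_e_e 1 2)]
  have h5 : ∀ s1 s2 : G, g * s1 * g⁻¹ = t → s1 * s2 = s2 * s1 →
      g * s2 * g⁻¹ * t = t * (g * s2 * g⁻¹) := by
    intro s1 s2 h1 h2
    rw [← h1]
    calc g * s2 * g⁻¹ * (g * s1 * g⁻¹) = g * (s2 * s1) * g⁻¹ := by group
      _ = g * (s1 * s2) * g⁻¹ := by rw [h2]
      _ = _ := by group
  apply hnp (g * sg σ (line (e 0) (e 2)) * g⁻¹)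
  · exact h5 _ _ hg hcomm
  · exact h2.trans (isConj_iff.2 ⟨g, rfl⟩)
  · have h4 : t * (g * sg σ (line (e 0) (e 2)) * g⁻¹) = g * sg σ (line (e 0) (e 1 + e 2)) * g⁻¹ := by
      calc t * (g * sg σ (line (e 0) (e 2)) * g⁻¹)
          = (g * sg σ (line (e 0) (e 1)) * g⁻¹) * (g * sg σ (line (e 0) (e 2)) * g⁻¹) := by rw [hg]
        _ = g * (sg σ (line (e 0) (e 1)) * sg σ (line (e 0) (e 2))) * g⁻¹ := by group
        _ = _ := by rw [hmul]
    rw [h4]
    exact h3.trans (isConj_iff.2 ⟨g, rfl⟩)

/-- the hypothesis of (c): only the class of `t * σ (line)` is fused -/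
def OnlyLine (σ : Sp6 →* centralizer ({t} : Set G)) (Q : Subgroup G) : Prop :=
  ∀ x : G, x * t = t * x → IsConj t x → x = t ∨ ∃ a b w, IsLine a b ∧ w ∈ Q ∧
    x = w * (t * sg σ (line a b)) * w⁻¹

include hσ hs in
theorem fused_pair (hwc : Pair.WC Q t) (hF : OnlyLine σ Q) {x y : G} (hf : y ∈ Q) (hf1 : y ≠ 1)
    (hx : x * t = t * x) (c1 : IsConj t x) (c2 : IsConj t (y * x)) :
    ∃ a b w, IsLine a b ∧ w ∈ Q ∧ x = w * (t * sg σ (line a b)) * w⁻¹ ∧
      n S.rho a (S.large.pr ⟨y, hf⟩) = 0 ∧ n S.rho b (S.large.pr ⟨y, hf⟩) = 0 := by
  have hyt : y * t = t * y := comm_t S hf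
  have hxt : x ≠ t := by
    intro h
    rw [h] at c2
    have h1 := hwc.eq_of_mem (mul_mem hf S.large.z_mem) c2
    exact hf1 (mul_eq_right.1 h1)
  have hyx : y * x ≠ t := by
    intro h
    have h1 : x = y⁻¹ * t := by rw [← h]; group
    have h2 : x ∈ Q := by rw [h1]; exact mul_mem (inv_mem hf) S.large.z_mem
    exact hxt (hwc.eq_of_mem h2 c1)
  have hyxt : y * x * t = t * (y * x) := by
    rw [mul_assoc, hx, ← mul_assoc, hyt, mul_assoc]
  rcases hF x hx c1 with h | ⟨a, b, w, hab, hw, hxe⟩
  · exact absurd h hxt
  rcases hF (y * x) hyxt c2 with h | ⟨a', b', w', hab', hw', hxe'⟩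
  · exact absurd h hyx
  -- the images
  have hpsi : ∀ (a b : U) (w x : G) (hw : w ∈ Q) (hx : x ∈ centralizer ({t} : Set G)),
      x = w * (t * sg σ (line a b)) * w⁻¹ → S.psi ⟨x, hx⟩ = line a b := by
    intro a b w x hw hx he
    have hwt : w ∈ centralizer ({t} : Set G) := mem_centralizer_singleton_iff.2 (comm_t S hw)
    have htt : t ∈ centralizer ({t} : Set G) := mem_centralizer_singleton_iff.2 rfl
    have h1 : (⟨x, hx⟩ : centralizer ({t} : Set G)) =
        ⟨w, hwt⟩ * (⟨t, htt⟩ * σ (line a b)) * (⟨w, hwt⟩)⁻¹ := Subtype.ext he
    rw [h1, map_mul, map_mul, map_mul, map_inv, (S.psi_ker ⟨w, hwt⟩).2 hw,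
      (S.psi_ker ⟨t, htt⟩).2 S.large.z_mem, hσ, one_mul, one_mul, inv_one, mul_one]
  have p1 := hpsi a b w x hw (mem_centralizer_singleton_iff.2 hx) hxe
  have p2 := hpsi a' b' w' (y * x) hw' (mem_centralizer_singleton_iff.2 hyxt) hxe'
  have p3 : S.psi ⟨y * x, mem_centralizer_singleton_iff.2 hyxt⟩ =
      S.psi ⟨x, mem_centralizer_singleton_iff.2 hx⟩ := by
    have h1 : (⟨y * x, mem_centralizer_singleton_iff.2 hyxt⟩ : centralizer ({t} : Set G)) =
        ⟨y, mem_centralizer_singleton_iff.2 hyt⟩ * ⟨x, mem_centralizer_singleton_iff.2 hx⟩ := rfl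
    rw [h1, map_mul, (S.psi_ker ⟨y, mem_centralizer_singleton_iff.2 hyt⟩).2 hf, one_mul]
  have hll : line a' b' = line a b := by rw [← p1, ← p2, p3]
  rw [hll] at hxe'
  set s := sg σ (line a b) with hs'
  have hst : s * t = t * s := sg_comm σ _
  have hu : w'⁻¹ * w ∈ Q := mul_mem (inv_mem hw') hw
  have hm := cm_mem S σ a b hu
  have hye : y = w' * (s * (w'⁻¹ * w) * s⁻¹ * (w'⁻¹ * w)⁻¹) * w'⁻¹ := by
    have hwt : w * t = t * w := comm_t S hw
    have ht1 : w⁻¹ * t = t * w⁻¹ := comm_t S (inv_mem hw)
    have ht2 : w'⁻¹ * t = t * w'⁻¹ := comm_t S (inv_mem hw')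
    have hxi : x = (w * s * w⁻¹) * t := by
      rw [hxe, ← hst]
      calc w * (s * t) * w⁻¹ = w * s * (t * w⁻¹) := by group
        _ = _ := by rw [← ht1]; group
    have hxi' : y * x = (w' * s * w'⁻¹) * t := by
      rw [hxe', ← hst]
      calc w' * (s * t) * w'⁻¹ = w' * s * (t * w'⁻¹) := by group
        _ = _ := by rw [← ht2]; group
    calc y = (y * x) * x⁻¹ := by group
      _ = (w' * s * w'⁻¹) * t * (w * s * w⁻¹ * t)⁻¹ := by rw [hxi']; rw [← hxi]
      _ = _ := by group
  have hpr : S.large.pr ⟨y, hf⟩ = n S.rho a (n S.rho b (S.large.pr ⟨_, hu⟩)) := by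
    rw [← pr_cm S σ hσ hs hab.2.2.2 hu hm]
    have h1 : (⟨y, hf⟩ : Q) = ⟨w', hw'⟩ * ⟨_, hm⟩ * (⟨w', hw'⟩)⁻¹ := Subtype.ext hye
    rw [h1, S.large.pr_mul, S.large.pr_mul, S.large.pr_inv, S.large.neg_eq, add_comm, ← add_assoc,
      S.large.add_self, zero_add]
  refine ⟨a, b, w, hab, hw, hxe, ?_, ?_⟩
  · rw [hpr, n_n_apply]
  · rw [hpr, n_comm_apply hs hab.2.2.2, n_n_apply]

include hσ hs in
theorem lemma2 (hwc : Pair.WC Q t) (hF : OnlyLine σ Q) {x1 x2 y : G} (hf : y ∈ Q) (hf1 : y ≠ 1)
    (hft : y ≠ t) (h1 : x1 * t = t * x1) (h2 : x2 * t = t * x2) (c1 : IsConj t x1) (c2 : IsConj t x2)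
    (d1 : IsConj t (y * x1)) (d2 : IsConj t (y * x2)) : x1 * x2 = x2 * x1 := by
  obtain ⟨a, b, w, hab, hw, hxe, ha, hb⟩ := fused_pair S σ hσ hs hwc hF hf hf1 h1 c1 d1
  obtain ⟨c, d, w', hcd, hw', hxe', hc, hd⟩ := fused_pair S σ hσ hs hwc hF hf hf1 h2 c2 d2
  have hv : S.large.pr ⟨y, hf⟩ ≠ 0 := by
    intro h
    rcases S.large.pr_eq_zero.1 h with h | h
    · exact hf1 h
    · exact hft h
  have hu : w⁻¹ * w' ∈ Q := mul_mem (inv_mem hw) hw'
  have key := comm_conj S σ hσ hs hab hcd (sf_zero_of_ker hs hv ha hc) (sf_zero_of_ker hs hv ha hd)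
    (sf_zero_of_ker hs hv hb hc) (sf_zero_of_ker hs hv hb hd) hu
  have hs1 : Commute (sg σ (line a b)) t := sg_comm σ _
  have hs2 : Commute (sg σ (line c d)) t := sg_comm σ _
  have hwt : Commute w t := comm_t S hw
  have hwt' : Commute w' t := comm_t S hw'
  generalize sg σ (line a b) = s1 at *
  generalize sg σ (line c d) = s2 at *
  have k1 : Commute (w * s1 * w⁻¹) (w' * s2 * w'⁻¹) := by
    show w * s1 * w⁻¹ * (w' * s2 * w'⁻¹) = w' * s2 * w'⁻¹ * (w * s1 * w⁻¹)
    calc w * s1 * w⁻¹ * (w' * s2 * w'⁻¹) = w * (s1 * (w⁻¹ * w' * s2 * (w⁻¹ * w')⁻¹)) * w⁻¹ := by group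
      _ = w * (w⁻¹ * w' * s2 * (w⁻¹ * w')⁻¹ * s1) * w⁻¹ := by rw [key]
      _ = _ := by group
  have k2 : x1 = (w * s1 * w⁻¹) * t := by
    rw [hxe, ← hs1.eq, ← mul_assoc w, mul_assoc (w * s1), ← hwt.inv_left.eq, ← mul_assoc]
  have k3 : x2 = (w' * s2 * w'⁻¹) * t := by
    rw [hxe', ← hs2.eq, ← mul_assoc w', mul_assoc (w' * s2), ← hwt'.inv_left.eq, ← mul_assoc]
  have k4 : Commute (w * s1 * w⁻¹) t := (hwt.mul_left hs1).mul_left hwt.inv_left
  have k5 : Commute (w' * s2 * w'⁻¹) t := (hwt'.mul_left hs2).mul_left hwt'.inv_left
  have k6 : Commute x1 x2 := by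
    rw [k2, k3]
    exact (k1.mul_right k4).mul_left (k5.symm.mul_right (Commute.refl t))
  exact k6

omit S in
theorem final_aux {g w s1 s2 y : G} (hg : g * t * g⁻¹ = t * s1) (hy : g * y * g⁻¹ = w * s1 * w⁻¹)
    (hs1 : Commute s1 t) (hs2 : Commute s2 t) (hwt : Commute w t) (h1 : Commute s1 (w * s2 * w⁻¹))
    (c1 : IsConj t (t * s2)) (c2 : IsConj t (t * (s1 * s2))) :
    (g⁻¹ * (w * (t * s2) * w⁻¹) * g) * t = t * (g⁻¹ * (w * (t * s2) * w⁻¹) * g) ∧
    IsConj t (g⁻¹ * (w * (t * s2) * w⁻¹) * g) ∧ IsConj t (y * (g⁻¹ * (w * (t * s2) * w⁻¹) * g)) := by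
  refine ⟨?_, ?_, ?_⟩
  · have k1 : Commute (w * (t * s2) * w⁻¹) (t * s1) := by
      have k2 : w * (t * s2) * w⁻¹ = t * (w * s2 * w⁻¹) := by
        calc w * (t * s2) * w⁻¹ = (w * t) * s2 * w⁻¹ := by group
          _ = _ := by rw [hwt.eq]; group
      rw [k2]
      have k3 : Commute (w * s2 * w⁻¹) t := (hwt.mul_left hs2).mul_left hwt.inv_left
      exact ((Commute.refl t).mul_right hs1.symm).mul_left (k3.mul_right h1.symm)
    have k2 := k1.eq
    rw [← hg] at k2
    calc (g⁻¹ * (w * (t * s2) * w⁻¹) * g) * t = g⁻¹ * ((w * (t * s2) * w⁻¹) * (g * t * g⁻¹)) * g := by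
          group
      _ = g⁻¹ * ((g * t * g⁻¹) * (w * (t * s2) * w⁻¹)) * g := by rw [k2]
      _ = _ := by group
  · refine c1.trans (isConj_iff.2 ⟨g⁻¹ * w, ?_⟩)
    group
  · refine c2.trans (isConj_iff.2 ⟨g⁻¹ * w, ?_⟩)
    have hy' : y = g⁻¹ * (w * s1 * w⁻¹) * g := by rw [← hy]; group
    rw [hy']
    calc g⁻¹ * w * (t * (s1 * s2)) * (g⁻¹ * w)⁻¹ = g⁻¹ * w * (t * s1) * s2 * w⁻¹ * g := by group
      _ = g⁻¹ * w * (s1 * t) * s2 * w⁻¹ * g := by rw [hs1.eq]
      _ = _ := by group

include hσ hs in
/-- (c) it is impossible that the class of `t σ (line)` is the only fused class -/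
theorem not_only (hwc : Pair.WC Q t) (hF : OnlyLine σ Q) :
    ¬ IsConj t (t * sg σ (line (e 0) (e 1))) := by
  intro hc
  obtain ⟨g, w, hw, hg, hv, hne⟩ := exists_v S σ hσ hs hwc hc
  obtain ⟨y, hyQ, hye⟩ := hv
  have hye' : g * y * g⁻¹ = w * sg σ (line (e 0) (e 1)) * w⁻¹ := hye
  -- the elements
  have c1 : IsConj t (t * sg σ (line (e 0) (e 2))) := isConj_t_sg σ isLine_e01 isLine_e02 hc
  have c2 : IsConj t (t * sg σ (line (e 1) (f 2))) := isConj_t_sg σ isLine_e01 isLine_e1f2 hc
  have c3 : IsConj t (t * sg σ (line (e 0) (e 1 + e 2))) := isConj_t_sg σ isLine_e01 isLine_e012 hc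
  have c4 : IsConj t (t * sg σ (line (e 1) (e 0 + f 2))) := isConj_t_sg σ isLine_e01 isLine_e1e0f2 hc
  have g1 := comm_conj S σ hσ hs isLine_e01 isLine_e02 (sf_self _) (sf_e_e 0 2) (sf_e_e 1 0)
    (sf_e_e 1 2) hw
  have g2 := comm_conj S σ hσ hs isLine_e01 isLine_e1f2 (sf_e_e 0 1) (sf_e_f_ne (by decide)) (sf_self _)
    (sf_e_f_ne (by decide)) hw
  have m1 : sg σ (line (e 0) (e 1)) * sg σ (line (e 0) (e 2)) = sg σ (line (e 0) (e 1 + e 2)) := by
    rw [← sg_mul, line_mul_line S hs (sf_e_e 0 1) (sf_e_e 0 2) (sf_e_e 1 2)]
  have m2 : sg σ (line (e 0) (e 1)) * sg σ (line (e 1) (f 2)) = sg σ (line (e 1) (e 0 + f 2)) := by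
    rw [← sg_mul, line_swap (e 0) (e 1) (sf_e_e 0 1), line_mul_line S hs (sf_e_e 1 0)
      (sf_e_f_ne (by decide)) (sf_e_f_ne (by decide))]
  have hsne : sg σ (line (e 0) (e 1)) ≠ 1 := by
    intro h1
    have h2 : S.psi (σ (line (e 0) (e 1))) = 1 := (S.psi_ker _).2 (by
      show sg σ (line (e 0) (e 1)) ∈ Q
      rw [h1]; exact one_mem _)
    rw [hσ] at h2
    exact line_ne_one S hs isLine_e01 h2
  have hncomm : sg σ (line (e 0) (e 2)) * sg σ (line (e 1) (f 2)) ≠
      sg σ (line (e 1) (f 2)) * sg σ (line (e 0) (e 2)) := by
    intro h
    rw [← sg_mul, ← sg_mul] at h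
    have h1 : σ (line (e 0) (e 2) * line (e 1) (f 2)) = σ (line (e 1) (f 2) * line (e 0) (e 2)) :=
      Subtype.ext h
    have h2 := congrArg S.psi h1
    rw [hσ, hσ] at h2
    apply line_ne_one S hs isLine_e01
    apply S.rho_injective
    apply LinearEquiv.ext
    intro v
    rw [map_one, rho_line hs S.card_V (sf_e_e 0 1)]
    have h3 : S.rho (line (e 0) (e 2)) (S.rho (line (e 1) (f 2)) v) =
        S.rho (line (e 1) (f 2)) (S.rho (line (e 0) (e 2)) v) := by
      have h4 := congrArg (fun g => S.rho g v) h2
      simp only [map_mul] at h4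
      exact h4
    rw [rho_line hs S.card_V isLine_e02.2.2.2, rho_line hs S.card_V isLine_e1f2.2.2.2,
      rho_line hs S.card_V isLine_e1f2.2.2.2, rho_line hs S.card_V isLine_e02.2.2.2] at h3
    simp only [map_add] at h3
    have e12 : sf (e 1) (e 2) = 0 := sf_e_e 1 2
    have h4 : n S.rho (e 0) (n S.rho (e 2) (n S.rho (e 1) (n S.rho (f 2) v))) =
        n S.rho (e 1) (n S.rho (f 2) (n S.rho (e 0) (n S.rho (e 2) v))) := by
      have h5 := congrArg (fun u => u + (v + n S.rho (e 1) (n S.rho (f 2) v) +
        n S.rho (e 0) (n S.rho (e 2) v))) h3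
      have h6 : ∀ A B C D : S.large.V, A + B + (C + D) + (A + B + C) = D := by
        intro A B C D
        have h7 := S.large.add_self
        calc A + B + (C + D) + (A + B + C) = (A + A) + (B + B) + (C + C) + D := by abel
          _ = D := by rw [h7 A, h7 B, h7 C, add_zero, add_zero, zero_add]
      have h7 : ∀ A B C D : S.large.V, A + C + (B + D) + (A + B + C) = D := by
        intro A B C D
        refine Eq.trans ?_ (h6 A B C D)
        abel
      rw [h6, h7] at h5
      exact h5
    have h5 : n S.rho (e 1) (n S.rho (f 2) (n S.rho (e 0) (n S.rho (e 2) v))) =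
        n S.rho (e 0) (n S.rho (e 1) (n S.rho (f 2) (n S.rho (e 2) v))) := by
      rw [n_comm_apply hs (a := f 2) (b := e 0) (by rw [sf_comm]; exact sf_e_f_ne (by decide)),
        n_comm_apply hs (a := e 1) (b := e 0) (sf_e_e 1 0)]
    have h6 : n S.rho (e 0) (n S.rho (e 2) (n S.rho (e 1) (n S.rho (f 2) v))) =
        n S.rho (e 0) (n S.rho (e 1) (n S.rho (f 2) (n S.rho (e 2) v))) +
          n S.rho (e 0) (n S.rho (e 1) v) := by
      rw [n_comm_apply hs (a := e 2) (b := e 1) (sf_e_e 2 1), n_anticomm_apply hs (e 2) (f 2), sf_e_f,
        if_pos rfl, one_smul, map_add, map_add]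
    rw [h4, h5] at h6
    rw [left_eq_add.mp h6, add_zero]
    rfl
  have hs1 : Commute (sg σ (line (e 0) (e 1))) t := sg_comm σ _
  have hs2 : Commute (sg σ (line (e 0) (e 2))) t := sg_comm σ _
  have hs3 : Commute (sg σ (line (e 1) (f 2))) t := sg_comm σ _
  have hwt : Commute w t := comm_t S hw
  obtain ⟨k1, k2, k3⟩ := final_aux hg hye' hs1 hs2 hwt g1 c1 (by rw [m1]; exact c3)
  obtain ⟨l1, l2, l3⟩ := final_aux hg hye' hs1 hs3 hwt g2 c2 (by rw [m2]; exact c4)
  have hy1 : y ≠ 1 := by
    intro h
    apply hsne
    rw [h] at hye'
    calc sg σ (line (e 0) (e 1)) = w⁻¹ * (w * sg σ (line (e 0) (e 1)) * w⁻¹) * w := by group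
      _ = 1 := by rw [← hye']; group
  have hyt : y ≠ t := by
    intro h
    apply hne
    rw [← hye', h]
  have main := lemma2 S σ hσ hs hwc hF hyQ hy1 hyt k1 l1 k2 l2 k3 l3
  apply hncomm
  have h1 : Commute (t * sg σ (line (e 0) (e 2))) (t * sg σ (line (e 1) (f 2))) := by
    have h2 : Commute (g⁻¹ * (w * (t * sg σ (line (e 0) (e 2))) * w⁻¹) * g)
        (g⁻¹ * (w * (t * sg σ (line (e 1) (f 2))) * w⁻¹) * g) := main
    have h3 : ∀ x : G, g⁻¹ * (w * x * w⁻¹) * g = (g⁻¹ * w) * x * (g⁻¹ * w)⁻¹ := fun x => by group
    rw [h3, h3] at h2
    exact (Commute.conj_iff _).1 h2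
  have h2 : Commute t (t * sg σ (line (e 1) (f 2))) := (Commute.refl t).mul_right hs3.symm
  have h3 := h1.eq
  have h4 := h2.eq
  have h5 : t * (sg σ (line (e 0) (e 2)) * (t * sg σ (line (e 1) (f 2)))) =
      t * ((t * sg σ (line (e 1) (f 2))) * sg σ (line (e 0) (e 2))) := by
    rw [← mul_assoc, h3, ← mul_assoc, ← mul_assoc t, h4]
  have h6 := mul_left_cancel h5
  rw [← mul_assoc, hs2.eq, mul_assoc, mul_assoc] at h6
  exact mul_left_cancel h6

end four

end Cfsg.Agent.Co2Type.Alpha
end

private theorem dce_fd97070e6788 : _root_.True := by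
  try have : _root_.True := by simp only [_root_.Cfsg.Agent.Co2Type.WeakB1.Bad.TC2.eq_1]
  try have : _root_.True := by simp only [_root_.Cfsg.Agent.Co2Type.Code.stU.eq_1]
  try have : _root_.True := by simp only [_root_.Cfsg.Agent.Co2Type.Levi.KV.eq_1]
  try have : _root_.True := by simp only [_root_.Cfsg.Agent.Co2Type.Code.Aop.congr_simp]
  try have : _root_.True := by simp only [_root_.Cfsg.Agent.Co2Type.Levi.K.eq_1]
  try have : _root_.True := by simp only [_root_.Cfsg.Agent.Co2Type.InvData.cj.eq_1]
  try have : _root_.True := by simp only [_root_.Cfsg.Agent.Co2Type.Levi.k7.eq_1]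
  try have : _root_.True := by simp only [_root_.Cfsg.Agent.Co2Type.TwistDead.nc.eq_1]
  try have : _root_.True := by simp only [_root_.Cfsg.Agent.Co2Type.InvClass.bth.eq_1]
  try have : _root_.True := by simp only [_root_.Cfsg.Agent.Co2Type.InvData.chk.eq_1]
  try have : _root_.True := by simp only [_root_.Cfsg.Agent.Co2Type.Levi.KU.eq_1]
  try have : _root_.True := by simp only [_root_.Cfsg.Agent.Co2Type.Code.nU.eq_1]
  try have : _root_.True := by simp only [_root_.Cfsg.Agent.Co2Type.InvClass.lin.eq_1]
  try have : _root_.True := by simp only [_root_.Cfsg.Agent.Co2Type.InvClass.rp.eq_1]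
  try have : _root_.True := by simp only [_root_.Cfsg.Agent.Co2Type.Setup.Sit.ps.congr_simp]
  try have : _root_.True := by simp only [_root_.Cfsg.Agent.Co2Type.Code.Qf.eq_1]
  exact _root_.True.intro
end

-- part: Co2Type/PieceA_mg
section
prune_inst 0x400000000000000000000000000000000000000000000000000004000000000080000000000002000000000002000000010420000000a000000000000000000100000400000000000000000000000000000000000000000000000000000000000000
set_option linter.all false
open scoped Cfsg.Agent.FastGrp

-- part: Co2Type/RedGroup
section
/-!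
# Exclusion of the reducible case in the Co2 type theorem: group theory (R03, piece A2; helper587)

`Wd Q z x`: `Q` extraspecial of order `2^9` with centre `⟨z⟩`, `x ∈ Q` of order 4 with `⟨x⟩` normal in
`C_G(z)`.  Two such situations with `z z' = z' z`, `z ≠ z'`, are compared.
-/

set_option autoImplicit false

namespace Cfsg.Agent.Co2Type.RedGroup

open Cfsg.Agent.Co2Type.Quad Cfsg.Agent.Co2Type.Pair Cfsg.Agent.Co2Type.RedLin

variable {G : Type*} [Group G] {Q Q' : Subgroup G} {z z' x x' : G}

/-- `Q` extraspecial with `⟨x⟩` normal in the centraliser of its centre -/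
structure Wd (Q : Subgroup G) (z x : G) : Prop where
  large : Large Q z
  card : Nat.card Q = 2 ^ 9
  mem : x ∈ Q
  sq : x * x = z
  norm : ∀ c, c * z = z * c → c * x * c⁻¹ = x ∨ c * x * c⁻¹ = x * z

theorem Wd.conj (w : Wd Q z x) (g : G) :
    Wd (Q.map (MulAut.conj g).toMonoidHom) (g * z * g⁻¹) (g * x * g⁻¹) where
  large := w.large.conj g
  card := by
    rw [← w.card]
    exact Subgroup.card_map_of_injective (MulAut.conj g).injective
  mem := ⟨x, w.mem, rfl⟩
  sq := by rw [← w.sq]; group
  norm := by
    intro c hc
    have h1 : (g⁻¹ * c * g) * z = z * (g⁻¹ * c * g) := by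
      calc (g⁻¹ * c * g) * z = g⁻¹ * (c * (g * z * g⁻¹)) * g := by group
        _ = g⁻¹ * ((g * z * g⁻¹) * c) * g := by rw [hc]
        _ = _ := by group
    rcases w.norm _ h1 with h2 | h2
    · left
      calc c * (g * x * g⁻¹) * c⁻¹ = g * ((g⁻¹ * c * g) * x * (g⁻¹ * c * g)⁻¹) * g⁻¹ := by group
        _ = g * x * g⁻¹ := by rw [h2]
    · right
      calc c * (g * x * g⁻¹) * c⁻¹ = g * ((g⁻¹ * c * g) * x * (g⁻¹ * c * g)⁻¹) * g⁻¹ := by group
        _ = g * (x * z) * g⁻¹ := by rw [h2]
        _ = g * x * g⁻¹ * (g * z * g⁻¹) := by group

theorem qf (h : Large Q z) : QF h.q h.b := ⟨h.q_add', fun _ hv => h.b_nondeg hv⟩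

theorem finite_Q (w : Wd Q z x) : Finite Q :=
  (Nat.card_pos_iff.1 (by rw [w.card]; norm_num)).2

theorem finrank_V (w : Wd Q z x) : Module.finrank (ZMod 2) w.large.V = 8 := by
  have := finite_Q w
  have : Module.Finite (ZMod 2) w.large.V := Module.Finite.of_finite
  have h := Module.natCard_eq_pow_finrank (K := ZMod 2) (V := w.large.V)
  have h1 := w.large.card_eq
  rw [w.card] at h1
  have h2 : Nat.card w.large.V = 2 ^ 8 := by omega
  rw [h2, Nat.card_zmod] at h
  exact (Nat.pow_right_injective le_rfl h).symm

/-! ### the action of elements commuting with `z` -/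

/-- action of an element commuting with `z` -/
noncomputable def A (h : Large Q z) (c : G) (hc : c * z = z * c) : h.V ≃ₗ[ZMod 2] h.V :=
  h.act ⟨c, Subgroup.mem_centralizer_singleton_iff.2 hc⟩

theorem A_pr (h : Large Q z) (c : G) (hc : c * z = z * c) (d : Q) :
    A h c hc (h.pr d) = h.pr ⟨c * d * c⁻¹, h.conj_mem c hc d d.2⟩ := h.act_pr _ d

theorem A_q (h : Large Q z) (c : G) (hc : c * z = z * c) (v : h.V) : h.q (A h c hc v) = h.q v :=
  h.q_act _ v

theorem mul_comm_z {a b z : G} (ha : a * z = z * a) (hb : b * z = z * b) :
    a * b * z = z * (a * b) := ((show Commute a z from ha).mul_left (show Commute b z from hb)).eq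

theorem A_mul (h : Large Q z) {a b : G} (ha : a * z = z * a) (hb : b * z = z * b) :
    A h (a * b) (mul_comm_z ha hb) = A h a ha * A h b hb := by
  rw [A, A, A, ← map_mul]
  rfl

theorem A_mul_apply (h : Large Q z) {a b : G} (ha : a * z = z * a) (hb : b * z = z * b) (v : h.V) :
    A h (a * b) (mul_comm_z ha hb) v = A h a ha (A h b hb v) := by
  rw [A_mul h ha hb]; rfl

theorem A_congr (h : Large Q z) {a b : G} (ha : a * z = z * a) (hb : b * z = z * b) (hab : a = b) :
    A h a ha = A h b hb := by subst hab; rfl

theorem A_one (h : Large Q z) (h1 : (1 : G) * z = z * 1) : A h 1 h1 = 1 := by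
  have : (⟨1, Subgroup.mem_centralizer_singleton_iff.2 h1⟩ :
    Subgroup.centralizer ({z} : Set G)) = 1 := rfl
  rw [A, this, map_one]

theorem mem_of_A [Finite Q] (h : Large Q z) {c : G} (hc : c * z = z * c) (h1 : A h c hc = 1) :
    c ∈ Q := h.mem_of_act _ h1

theorem pr_congr (h : Large Q z) {a b : Q} (hab : (a : G) = b) : h.pr a = h.pr b := by
  rw [Subtype.ext hab]

/-! ### the space `D̄` -/

/-- image of `C_Q(z')` -/
def Dbar (h : Large Q z) (z' : G) : Submodule (ZMod 2) h.V where
  carrier := {v | ∃ d : Q, (d : G) * z' = z' * d ∧ h.pr d = v}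
  zero_mem' := ⟨1, by simp, h.pr_one⟩
  add_mem' := by
    rintro _ _ ⟨d, hd, rfl⟩ ⟨e, he, rfl⟩
    exact ⟨d * e, mul_comm_z hd he, h.pr_mul d e⟩
  smul_mem' := by
    rintro c _ ⟨d, hd, rfl⟩
    rcases zm c with rfl | rfl
    · rw [zero_smul]; exact ⟨1, by simp, h.pr_one⟩
    · rw [one_smul]; exact ⟨d, hd, rfl⟩

/-- if `z'` commutes with `z`: a lift of a vector of `D̄` commutes with `z'` -/
theorem comm_of_mem_Dbar (h : Large Q z) (hc : z * z' = z' * z) {d : Q}
    (hd : h.pr d ∈ Dbar h z') : (d : G) * z' = z' * d := by
  obtain ⟨e, he, hde⟩ := hd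
  rcases h.pr_eq_pr.1 hde with h1 | h1
  · rw [← h1]; exact he
  · have h2 : (d : G) = e * z := by rw [h1, mul_assoc, h.z_sq, mul_one]
    rw [h2]; exact mul_comm_z he hc

/-- `z'` fixes the image of `d`: then `z'` commutes with `d` or `z' d z' = d z` -/
theorem fixed_cases (h : Large Q z) (hc : z' * z = z * z') {d : Q}
    (hd : A h z' hc (h.pr d) = h.pr d) :
    (d : G) * z' = z' * d ∨ z' * d = d * z' * z := by
  rw [A_pr, h.pr_eq_pr] at hd
  rcases hd with h1 | h1
  · left
    have h2 : z' * d * z'⁻¹ = d := h1
    rw [mul_inv_eq_iff_eq_mul] at h2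
    exact h2.symm
  · right
    have h2 : z' * d * z'⁻¹ = d * z := h1
    rw [mul_inv_eq_iff_eq_mul] at h2
    rw [h2, mul_assoc, mul_assoc, hc]

theorem Dbar_idx (h : Large Q z) (hc : z' * z = z * z') {v w : h.V}
    (hv : A h z' hc v = v) (hw : A h z' hc w = w) (hv' : v ∉ Dbar h z') (hw' : w ∉ Dbar h z') :
    v + w ∈ Dbar h z' := by
  obtain ⟨d, rfl⟩ := h.pr_surjective v
  obtain ⟨e, rfl⟩ := h.pr_surjective w
  rcases fixed_cases h hc hv with h1 | h1
  · exact absurd ⟨d, h1, rfl⟩ hv'
  rcases fixed_cases h hc hw with h2 | h2
  · exact absurd ⟨e, h2, rfl⟩ hw'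
  refine ⟨d * e, ?_, h.pr_mul d e⟩
  show (d : G) * e * z' = z' * (d * e)
  have hez := h.comm_z e e.2
  calc (d : G) * e * z' = d * (e * z' * z) * z := by
        rw [mul_assoc (d : G), mul_assoc (d : G), mul_assoc ((e : G) * z'), h.z_sq, mul_one]
    _ = d * (z' * e) * z := by rw [h2]
    _ = d * z' * (e * z) := by group
    _ = d * z' * (z * e) := by rw [hez]
    _ = (d * z' * z) * e := by group
    _ = z' * d * e := by rw [h1]
    _ = z' * (d * e) := by group

/-! ### centralising case -/

/-- `z'` centralises `x` if `z` centralises `x'` -/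
theorem cen_symm (w : Wd Q z x) (w' : Wd Q' z' x') (h : x' * z = z * x') : x * z' = z' * x := by
  have hz'x : z' * x * z'⁻¹ = x := by
    have e : z' * x * z'⁻¹ = x' * (x' * x * x'⁻¹) * x'⁻¹ := by rw [← w'.sq]; group
    rw [e]
    rcases w.norm x' h with h1 | h1
    · rw [h1, h1]
    · rw [h1]
      calc x' * (x * z) * x'⁻¹ = (x' * x * x'⁻¹) * (x' * z * x'⁻¹) := by group
        _ = x * z * (z * x' * x'⁻¹) := by rw [h1, h]
        _ = x * (z * z) := by group
        _ = x := by rw [w.large.z_sq, mul_one]
  rw [mul_inv_eq_iff_eq_mul] at hz'x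
  exact hz'x.symm

theorem x_comm_z (w : Wd Q z x) : x * z = z * x := w.large.comm_z x w.mem

/-- if `z'` is not in `Q` and `z` centralises `x'` then `C_Q(z')` centralises `x'` -/
theorem dsub_comm_x' (w : Wd Q z x) (w' : Wd Q' z' x') (hz' : z' ∉ Q) (h : x' * z = z * x')
    {d : G} (hd : d ∈ Q) (hdz : d * z' = z' * d) : d * x' = x' * d := by
  rcases w'.norm d hdz with h1 | h1
  · rwa [mul_inv_eq_iff_eq_mul] at h1
  · exfalso
    apply hz'
    have h2 : x' * d⁻¹ * x'⁻¹ ∈ Q := w.large.conj_mem x' h _ (inv_mem hd)
    have h3 : d * (x' * d⁻¹ * x'⁻¹) = z' := by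
      calc d * (x' * d⁻¹ * x'⁻¹) = (d * x' * d⁻¹) * x'⁻¹ := by group
        _ = x' * z' * x'⁻¹ := by rw [h1]
        _ = z' * x' * x'⁻¹ := by rw [x_comm_z w']
        _ = z' := by group
    rw [← h3]
    exact mul_mem hd h2

/-- the isometry `y` of order four -/
theorem yd (w : Wd Q z x) (w' : Wd Q' z' x') (hz' : z' ∉ Q) (h : x' * z = z * x') :
    Yd w.large.q (A w.large x' h) (Dbar w.large z') := by
  have hfin := finite_Q w
  have hz'z : z' * z = z * z' := by
    rw [← w'.sq]; exact mul_comm_z h h
  have hyy : ∀ v, A w.large x' h (A w.large x' h v) = A w.large z' hz'z v := by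
    intro v
    rw [← A_mul_apply w.large h h]
    exact congrArg (fun t : w.large.V ≃ₗ[ZMod 2] w.large.V => t v)
      (A_congr w.large _ _ w'.sq)
  have hzz : ∀ v, A w.large z' hz'z (A w.large z' hz'z v) = v := by
    intro v
    rw [← A_mul_apply w.large hz'z hz'z]
    have h1 : (1 : G) * z = z * 1 := by simp
    rw [A_congr w.large (mul_comm_z hz'z hz'z) h1 w'.large.z_sq, A_one]
    rfl
  refine ⟨A_q _ _ _, ?_, ?_, ?_, ?_⟩
  · intro v
    rw [hyy, hyy, hzz]
  · by_contra hc
    push Not at hc
    apply hz'
    apply mem_of_A w.large hz'z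
    ext v
    rw [← hyy, hc]; rfl
  · rintro _ ⟨d, hd, rfl⟩
    rw [A_pr]
    apply pr_congr
    show x' * d * x'⁻¹ = d
    rw [← dsub_comm_x' w w' hz' h d.2 hd]; group
  · intro v u hv hu
    rw [hyy] at hv hu
    exact Dbar_idx w.large hz'z hv hu

/-- **the main lemma of the centralising case** -/
theorem card_Dbar_le (w : Wd Q z x) (w' : Wd Q' z' x') (hz' : z' ∉ Q) (h : x' * z = z * x')
    (hI : ∀ i ∈ Q ⊓ Q', ∀ d ∈ Q, d * z' = z' * d → i * d = d * i) {r : w'.large.V}
    (hrad : ∀ v ∈ Dbar w'.large z, (∀ u ∈ Dbar w'.large z, w'.large.b v u = 0) → v = 0 ∨ v = r) :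
    Nat.card (Dbar w'.large z) ≤ 8 := by
  have hfin := finite_Q w
  have hfin' := finite_Q w'
  have hz'z : z' * z = z * z' := by
    rw [← w'.sq]; exact mul_comm_z h h
  have y := yd w w' hz' h
  obtain ⟨u, U⟩ := y.exists_u (finrank_V w) (qf w.large)
  -- elements of D'
  have hID : ∀ i : Q, (i : G) ∈ Q' → w.large.pr i = 0 ∨ w.large.pr i = u := by
    intro i hi
    refine U.rad _ ⟨i, w'.large.comm_z i hi, rfl⟩ ?_
    rintro _ ⟨d, hd, rfl⟩
    rw [w.large.b_pr]
    exact hI i (Subgroup.mem_inf.2 ⟨i.2, hi⟩) d d.2 hd
  have hD : ∀ (a : G), a ∈ Q' → ∀ (ha : a * z = z * a), ∀ v ∈ Dbar w.large z',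
      A w.large a ha v = v ∨ A w.large a ha v = v + u := by
    rintro a haQ ha _ ⟨d, hd, rfl⟩
    have h1 := commutator_mem w.large w'.large (mem_dsub.2 ⟨d.2, hd⟩ : (d : G) ∈ dsub Q z')
      (mem_dsub.2 ⟨haQ, ha⟩ : a ∈ dsub Q' z)
    have h2 : a * d * a⁻¹ * (d : G)⁻¹ ∈ Q ⊓ Q' := by
      have h3 := inv_mem h1
      have e : ((d : G) * a * (d : G)⁻¹ * a⁻¹)⁻¹ = a * d * a⁻¹ * (d : G)⁻¹ := by group
      rwa [e] at h3
    have h3 : A w.large a ha (w.large.pr d) =
        w.large.pr ⟨a * d * a⁻¹ * (d : G)⁻¹, (Subgroup.mem_inf.1 h2).1⟩ + w.large.pr d := by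
      rw [A_pr, ← w.large.pr_mul]
      apply pr_congr
      show a * d * a⁻¹ = (a * d * a⁻¹ * (d : G)⁻¹) * d
      group
    rw [h3]
    rcases hID ⟨_, (Subgroup.mem_inf.1 h2).1⟩ (Subgroup.mem_inf.1 h2).2 with h4 | h4
    · left; rw [h4, zero_add]
    · right; rw [h4, add_comm]
  have hyy : ∀ v, A w.large x' h (A w.large x' h v) = A w.large z' hz'z v := by
    intro v
    rw [← A_mul_apply w.large h h]
    exact congrArg (fun t : w.large.V ≃ₗ[ZMod 2] w.large.V => t v)
      (A_congr w.large _ _ w'.sq)
  have hay : ∀ (a : G), a ∈ Q' → ∀ (ha : a * z = z * a),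
      (∀ v, A w.large a ha (A w.large x' h v) = A w.large x' h (A w.large a ha v)) ∨
      ∀ v, A w.large a ha (A w.large x' h v) =
        A w.large x' h (A w.large x' h (A w.large x' h (A w.large a ha v))) := by
    intro a haQ ha
    rcases w'.large.comm a haQ x' w'.mem with h1 | h1
    · left
      intro v
      rw [← A_mul_apply w.large ha h, ← A_mul_apply w.large h ha]
      exact congrArg (fun t : w.large.V ≃ₗ[ZMod 2] w.large.V => t v)
        (A_congr w.large _ _ h1)
    · right
      intro v
      rw [hyy (A w.large x' h (A w.large a ha v)), ← A_mul_apply w.large ha h,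
        ← A_mul_apply w.large h ha, ← A_mul_apply w.large hz'z (mul_comm_z h ha)]
      refine congrArg (fun t : w.large.V ≃ₗ[ZMod 2] w.large.V => t v)
        (A_congr w.large _ _ ?_)
      rw [h1]
      exact w'.large.comm_z _ (mul_mem w'.mem haQ)
  -- good elements
  have hgmul : ∀ (a a' : G) (ha : a * z = z * a) (ha' : a' * z = z * a'),
      Good w.large.b u (A w.large a ha) → Good w.large.b u (A w.large a' ha') →
      Good w.large.b u (A w.large (a * a') (mul_comm_z ha ha')) := by
    intro a a' ha ha' g g' v hv
    rw [A_mul_apply w.large ha ha']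
    have hau : A w.large a ha u = u := by
      rcases g u ((qf w.large).b_self u) with h1 | h1
      · exact h1
      · rw [aa] at h1
        exact absurd (((map_eq_zero_iff _ (A w.large a ha).injective).1 h1 :)) U.u_ne
    rcases g' v hv with h1 | h1 <;> rcases g v hv with h2 | h2 <;> rw [h1]
    · left; exact h2
    · right; exact h2
    · right; rw [map_add, h2, hau]
    · left; rw [map_add, h2, hau, add_assoc, aa, add_zero]
  -- the isotropic subspace
  let B : Submodule (ZMod 2) w'.large.V :=
    { carrier := {v | ∃ (a : Q') (ha : (a : G) * z = z * a),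
        Good w.large.b u (A w.large a ha) ∧ w'.large.pr a = v}
      zero_mem' := by
        refine ⟨1, by simp, ?_, w'.large.pr_one⟩
        intro v _
        left
        have := A_one w.large (by simp : (1 : G) * z = z * 1)
        exact congrArg (fun t : w.large.V ≃ₗ[ZMod 2] w.large.V => t v) this
      add_mem' := by
        rintro _ _ ⟨a, ha, g, rfl⟩ ⟨a', ha', g', rfl⟩
        exact ⟨a * a', mul_comm_z ha ha', hgmul a a' ha ha' g g', w'.large.pr_mul a a'⟩
      smul_mem' := by
        rintro c _ ⟨a, ha, g, rfl⟩
        rcases zm c with rfl | rfl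
        · rw [zero_smul]
          refine ⟨1, by simp, ?_, w'.large.pr_one⟩
          intro v _
          left
          have := A_one w.large (by simp : (1 : G) * z = z * 1)
          exact congrArg (fun t : w.large.V ≃ₗ[ZMod 2] w.large.V => t v) this
        · rw [one_smul]; exact ⟨a, ha, g, rfl⟩ }
  refine card_le_of_isotropic (qf w'.large) (D := Dbar w'.large z) (B := B) ?_ ?_ ?_ hrad
  · rintro _ ⟨a, ha, -, rfl⟩
    exact ⟨a, ha, rfl⟩
  · rintro _ ⟨a, ha, g, rfl⟩ _ ⟨a', ha', g', rfl⟩
    rw [w'.large.b_pr]
    rcases w'.large.comm a a.2 a' a'.2 with h1 | h1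
    · exact h1
    · exfalso
      apply hz'
      apply mem_of_A w.large hz'z
      have h2 := Good.comm (qf w.large) U.u_ne U.q_u (A_q w.large a ha) (A_q w.large a' ha') g g'
      rw [← A_mul w.large ha ha', ← A_mul w.large ha' ha,
        A_congr w.large (mul_comm_z ha ha') (mul_comm_z (mul_comm_z ha' ha) hz'z) h1,
        A_mul w.large (mul_comm_z ha' ha) hz'z] at h2
      exact mul_eq_left.1 h2
  · rintro _ ⟨a, ha, rfl⟩ _ ⟨a', ha', rfl⟩ hv hw
    refine ⟨a * a', mul_comm_z ha ha', ?_, w'.large.pr_mul a a'⟩
    have h1 := U.good_mul (qf w.large) (A_q w.large a ha) (A_q w.large a' ha')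
      (hD a a.2 ha) (hD a' a'.2 ha') (hay a a.2 ha) (hay a' a'.2 ha') y.y4
      (fun g => hv ⟨a, ha, g, rfl⟩) (fun g => hw ⟨a', ha', g, rfl⟩)
    rw [← A_mul w.large ha ha'] at h1
    exact h1

/-- membership in `D̄'` when `z ∈ Q'` -/
theorem mem_Dbar_iff (h : Large Q z) (hz' : z' ∈ Q) (v : h.V) :
    v ∈ Dbar h z' ↔ h.b v (h.pr ⟨z', hz'⟩) = 0 := by
  constructor
  · rintro ⟨d, hd, rfl⟩
    rw [h.b_pr]; exact hd
  · intro hv
    obtain ⟨d, rfl⟩ := h.pr_surjective v
    rw [h.b_pr] at hv
    exact ⟨d, hv, rfl⟩

theorem pr_ne_zero (h : Large Q z) (hz' : z' ∈ Q) (h1 : z' ≠ 1) (h2 : z' ≠ z) :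
    h.pr ⟨z', hz'⟩ ≠ 0 := by
  intro hc
  rw [h.pr_eq_zero] at hc
  rcases hc with h3 | h3
  · exact h1 h3
  · exact h2 h3

theorem conj_z_comm (w : Wd Q z x) (w' : Wd Q' z' x') (h : x' * z = z * x') :
    z' * z = z * z' := by rw [← w'.sq]; exact mul_comm_z h h

/-- the centralising case with `z' ∉ Q` is impossible -/
theorem cen_false (w : Wd Q z x) (w' : Wd Q' z' x') (hne : z' ≠ z) (h : x' * z = z * x')
    (hz' : z' ∉ Q) : False := by
  have hfin := finite_Q w
  have hfin' := finite_Q w'
  have hxz' := cen_symm w w' h
  have hz'z := conj_z_comm w w' h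
  by_cases hz : z ∈ Q'
  · have hr0 : w'.large.pr ⟨z, hz⟩ ≠ 0 := pr_ne_zero w'.large hz w.large.z_ne hne.symm
    have hline := line_of_perp (qf w'.large) hr0
    have hle := card_Dbar_le w w' hz' h (r := w'.large.pr ⟨z, hz⟩) ?_ ?_
    · have h1 := card_perp (qf w'.large) (w'.large.pr ⟨z, hz⟩) (Dbar w'.large z)
        (fun v hv => (mem_Dbar_iff w'.large hz v).2 hv)
      have h2 := w'.large.card_eq
      rw [w'.card] at h2
      omega
    · intro i hi d hd hdz
      have hi' := Subgroup.mem_inf.1 hi
      have h1 : w'.large.pr ⟨i, hi'.2⟩ = 0 ∨ w'.large.pr ⟨i, hi'.2⟩ = w'.large.pr ⟨z, hz⟩ := by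
        apply hline
        intro v hv
        obtain ⟨a, rfl⟩ := w'.large.pr_surjective v
        rw [w'.large.b_pr] at hv ⊢
        exact (inf_comm_right w.large w'.large hz' hi (mem_dsub.2 ⟨a.2, hv⟩)).symm
      have h2 : i = 1 ∨ i = z := by
        rcases h1 with h1 | h1
        · rcases w'.large.pr_eq_zero.1 h1 with h2 | h2
          · left; exact h2
          · exfalso; apply hz'; rw [← show i = z' from h2]; exact hi'.1
        · rcases w'.large.pr_eq_pr.1 h1 with h2 | h2
          · right; exact h2
          · exfalso; apply hz'
            have h3 : i = z * z' := h2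
            have h4 : z' = z⁻¹ * i := by rw [h3]; group
            rw [h4]
            exact mul_mem (inv_mem w.large.z_mem) hi'.1
      rcases h2 with h2 | h2
      · rw [h2]; simp
      · rw [h2]; exact (w.large.comm_z d hd).symm
    · intro v _ hv'
      exact hline v fun u hu => hv' u ((mem_Dbar_iff w'.large hz u).2 hu)
  · -- z ∉ Q'
    obtain ⟨r, U⟩ := (yd w' w hz hxz').exists_u (finrank_V w') (qf w'.large)
    have hle := card_Dbar_le w w' hz' h (r := r) ?_ U.rad
    · have := U.card
      omega
    · intro i hi d hd hdz
      exact (inf_comm_left w.large w'.large hz hi (mem_dsub.2 ⟨hd, hdz⟩)).symm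

end Cfsg.Agent.Co2Type.RedGroup
end

-- part: Co2Type/RedGroup2
section
/-!
# Exclusion of the reducible case, part 2: the inverting case (R03, piece A2; helper587)
-/

set_option autoImplicit false

namespace Cfsg.Agent.Co2Type.RedGroup2

open Cfsg.Agent.Co2Type.Quad Cfsg.Agent.Co2Type.Pair Cfsg.Agent.Co2Type.RedLin
  Cfsg.Agent.Co2Type.RedLin2 Cfsg.Agent.Co2Type.RedGroup

variable {G : Type*} [Group G] {Q Q' : Subgroup G} {z z' x x' : G}

/-- the fixed vector -/
def v0 (w : Wd Q z x) : w.large.V := w.large.pr ⟨x, w.mem⟩

theorem q_v0 (w : Wd Q z x) : w.large.q (v0 w) = 1 := by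
  rw [v0, w.large.q_eq_one]; exact w.sq

theorem v0_ne (w : Wd Q z x) : v0 w ≠ 0 := by
  intro h
  have := q_v0 w
  rw [h, w.large.q_zero] at this
  exact absurd this (by decide)

theorem A_v0 (w : Wd Q z x) {c : G} (hc : c * z = z * c) : A w.large c hc (v0 w) = v0 w := by
  rw [v0, A_pr, w.large.pr_eq_pr]
  exact w.norm c hc

/-- every vector `h` singular and orthogonal to `v0` defines an element of `C_G(z)` -/
def Tr (w : Wd Q z x) : Prop :=
  ∀ h : w.large.V, h ≠ 0 → w.large.q h = 0 → w.large.b h (v0 w) = 0 →
    ∃ (c : G) (hc : c * z = z * c), ∀ v, A w.large c hc v =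
      v + w.large.b v (h + v0 w) • (h + v0 w) + w.large.b v (v0 w) • v0 w

/-! ### the centraliser of `x'` in `C(z')` -/

theorem k_inv {a c : G} (h : c * a = a * c) : c⁻¹ * a = a * c⁻¹ :=
  (show Commute c a from h).inv_left.eq

theorem k_not_mul (w' : Wd Q' z' x') {c d : G} (hc : c * z' = z' * c) (hd : d * z' = z' * d)
    (h1 : ¬ c * x' = x' * c) (h2 : ¬ d * x' = x' * d) : c * d * x' = x' * (c * d) := by
  have h1' : c * x' = x' * z' * c := by
    rcases w'.norm c hc with h | h
    · exact absurd (by rwa [mul_inv_eq_iff_eq_mul] at h) h1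
    · rwa [mul_inv_eq_iff_eq_mul] at h
  have h2' : d * x' = x' * z' * d := by
    rcases w'.norm d hd with h | h
    · exact absurd (by rwa [mul_inv_eq_iff_eq_mul] at h) h2
    · rwa [mul_inv_eq_iff_eq_mul] at h
  calc c * d * x' = c * (d * x') := mul_assoc _ _ _
    _ = c * x' * z' * d := by rw [h2']; group
    _ = x' * z' * (c * z') * d := by rw [h1']; group
    _ = x' * (z' * z') * c * d := by rw [hc]; group
    _ = x' * (c * d) := by rw [w'.large.z_sq]; group

theorem k_comm (w' : Wd Q' z' x') {c d : G} (hc : c * z' = z' * c) (hd : d * z' = z' * d) :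
    (c * d * c⁻¹ * d⁻¹) * x' = x' * (c * d * c⁻¹ * d⁻¹) := by
  have hci := k_inv hc
  have hdi := k_inv hd
  have e : c * d * c⁻¹ * d⁻¹ = (c * d) * (c⁻¹ * d⁻¹) := by group
  have hcd := mul_comm_z hc hd
  have hcd' := mul_comm_z hci hdi
  have hinv : ∀ a : G, a * x' = x' * a → a⁻¹ * x' = x' * a⁻¹ := fun a h => k_inv h
  have hinv' : ∀ a : G, ¬ a * x' = x' * a → ¬ a⁻¹ * x' = x' * a⁻¹ := by
    intro a h h'
    apply h
    have := hinv _ h'
    rwa [inv_inv] at this
  rw [e]
  by_cases h1 : c * x' = x' * c <;> by_cases h2 : d * x' = x' * d
  · exact mul_comm_z (mul_comm_z h1 h2) (mul_comm_z (hinv _ h1) (hinv _ h2))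
  · refine k_not_mul w' hcd hcd' ?_ ?_
    · intro h3
      apply h2
      have h4 := mul_comm_z (hinv _ h1) h3
      have e2 : c⁻¹ * (c * d) = d := by group
      rwa [e2] at h4
    · intro h3
      apply hinv' _ h2
      have h4 := mul_comm_z h1 h3
      have e2 : c * (c⁻¹ * d⁻¹) = d⁻¹ := by group
      rwa [e2] at h4
  · refine k_not_mul w' hcd hcd' ?_ ?_
    · intro h3
      apply h1
      have h4 := mul_comm_z h3 (hinv _ h2)
      have e2 : c * d * d⁻¹ = c := by group
      rwa [e2] at h4
    · intro h3
      apply hinv' _ h1
      have h4 := mul_comm_z h3 h2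
      have e2 : c⁻¹ * d⁻¹ * d = c⁻¹ := by group
      rwa [e2] at h4
  · exact mul_comm_z (k_not_mul w' hc hd h1 h2)
      (k_not_mul w' hci hdi (hinv' _ h1) (hinv' _ h2))

theorem k_sq (w' : Wd Q' z' x') {c : G} (hc : c * z' = z' * c) : c * c * x' = x' * (c * c) := by
  by_cases h1 : c * x' = x' * c
  · exact mul_comm_z h1 h1
  · exact k_not_mul w' hc hc h1 h1

/-! ### the inverting case -/

/-- in the inverting case `C_Q(z')` is elementary abelian -/
theorem inv_ts (w : Wd Q z x) (w' : Wd Q' z' x') (hx' : ¬ x' * z = z * x') :
    ∀ v ∈ Dbar w.large z', w.large.q v = 0 := by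
  rintro _ ⟨d, hd, rfl⟩
  rw [w.large.q_eq_zero]
  rcases w.large.sq d d.2 with h1 | h1
  · exact h1
  · exfalso
    apply hx'
    have h2 := k_sq w' hd
    rw [h1] at h2
    exact h2.symm

theorem x_inv (w : Wd Q z x) {z' : G} (hz'z : z' * z = z * z') (hinv : ¬ x * z' = z' * x) :
    z' * x * z'⁻¹ = x * z := by
  rcases w.norm z' hz'z with h | h
  · exact absurd (by rw [mul_inv_eq_iff_eq_mul] at h; exact h.symm) hinv
  · exact h

theorem A_eq_one_of_mem (h : Large Q z) {c : G} (hc : c * z = z * c) (hm : c ∈ Q) :
    A h c hc = 1 := h.act_mem _ hm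

theorem mem_of_A_eq [Finite Q] (h : Large Q z) {a c : G} (ha : a * z = z * a)
    (hc : c * z = z * c) (h1 : A h a ha = A h c hc) : a * c⁻¹ ∈ Q := by
  have hci := k_inv hc
  apply mem_of_A h (mul_comm_z ha hci)
  have h2 : A h c hc * A h c⁻¹ hci = 1 := by
    rw [← A_mul h hc hci]
    have h3 : (1 : G) * z = z * 1 := by simp
    rw [A_congr h (mul_comm_z hc hci) h3 (mul_inv_cancel c), A_one]
  rw [A_mul h ha hci, h1, h2]

theorem inv_key (w : Wd Q z x) (w' : Wd Q' z' x') (hz'z : z' * z = z * z')
    (hx' : ¬ x' * z = z * x')
    (hinv : ¬ x * z' = z' * x)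
    (hti : ∀ v u, A w.large z' hz'z v = v → A w.large z' hz'z u = u → w.large.b v u = 0)
    {s : G} (hsz : s * z = z * s) (hsz' : s * z' = z' * s) (hsx : s * x = x * s)
    (hfix : ∀ v ∈ Dbar w.large z', A w.large s hsz v = v)
    (him : ∀ v, A w.large z' hz'z (A w.large s hsz v + v) = A w.large s hsz v + v) (v : w.large.V) :
    w.large.q (A w.large s hsz v + v) = 0 := by
  have hzz' := hz'z.symm
  -- s centralises C_Q(z')
  have hD : ∀ d : Q, (d : G) * z' = z' * d → s * d = d * s := by
    intro d hd
    have h1 := hfix _ ⟨d, hd, rfl⟩
    rw [A_pr, w.large.pr_eq_pr] at h1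
    rcases h1 with h2 | h2
    · have h3 : s * d * s⁻¹ = d := h2
      rwa [mul_inv_eq_iff_eq_mul] at h3
    · exfalso
      apply hx'
      have h3 : s * d * s⁻¹ = d * z := h2
      have h4 := k_comm w' hsz' hd
      have h5 : s * d * s⁻¹ * (d : G)⁻¹ = z := by
        rw [h3, w.large.comm_z d d.2]; group
      rw [h5] at h4
      exact h4.symm
  -- s centralises everything fixed mod z
  have hK : ∀ e : Q, A w.large z' hz'z (w.large.pr e) = w.large.pr e → s * e = e * s := by
    intro e he
    by_cases h1 : w.large.pr e ∈ Dbar w.large z'
    · exact hD e (comm_of_mem_Dbar w.large hzz' h1)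
    · have h0 : v0 w ∉ Dbar w.large z' := by
        intro h2
        exact hinv (comm_of_mem_Dbar w.large hzz' h2)
      have h2 := Dbar_idx w.large hz'z he (A_v0 w hz'z) h1 h0
      rw [v0, ← w.large.pr_mul] at h2
      have h3 := hD _ (comm_of_mem_Dbar w.large hzz' h2)
      have h4 : s * ((e : G) * x) = (e : G) * x * s := h3
      have h5 : s * (e : G) * x = (e : G) * s * x := by
        rw [mul_assoc s, h4, mul_assoc, ← hsx, mul_assoc]
      exact mul_right_cancel h5
  obtain ⟨u, rfl⟩ := w.large.pr_surjective v
  have hzi : z * (u : G)⁻¹ = (u : G)⁻¹ * z := (w.large.commz u.2).inv_left.eq.symm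
  have hkQ : z' * u * z'⁻¹ * (u : G)⁻¹ ∈ Q :=
    mul_mem (w.large.conj_mem z' hz'z u u.2) (inv_mem u.2)
  have hmQ : s * u * s⁻¹ * (u : G)⁻¹ ∈ Q :=
    mul_mem (w.large.conj_mem s hsz u u.2) (inv_mem u.2)
  have hk : w.large.pr ⟨_, hkQ⟩ = A w.large z' hz'z (w.large.pr u) + w.large.pr u := by
    have e : w.large.pr ⟨_, hkQ⟩ + w.large.pr u = A w.large z' hz'z (w.large.pr u) := by
      rw [A_pr, ← w.large.pr_mul]
      apply pr_congr
      show z' * u * z'⁻¹ * (u : G)⁻¹ * u = z' * u * z'⁻¹
      group
    rw [← e, add_assoc, aa, add_zero]
  have hm : w.large.pr ⟨_, hmQ⟩ = A w.large s hsz (w.large.pr u) + w.large.pr u := by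
    have e : w.large.pr ⟨_, hmQ⟩ + w.large.pr u = A w.large s hsz (w.large.pr u) := by
      rw [A_pr, ← w.large.pr_mul]
      apply pr_congr
      show s * u * s⁻¹ * (u : G)⁻¹ * u = s * u * s⁻¹
      group
    rw [← e, add_assoc, aa, add_zero]
  have hzz : ∀ v, A w.large z' hz'z (A w.large z' hz'z v) = v := by
    intro v
    rw [← A_mul_apply w.large hz'z hz'z]
    have h1 : (1 : G) * z = z * 1 := by simp
    rw [A_congr w.large (mul_comm_z hz'z hz'z) h1 w'.large.z_sq, A_one]
    rfl
  have hkf : A w.large z' hz'z (w.large.pr ⟨_, hkQ⟩) = w.large.pr ⟨_, hkQ⟩ := by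
    rw [hk, map_add, hzz, add_comm]
  have hmf : A w.large z' hz'z (w.large.pr ⟨_, hmQ⟩) = w.large.pr ⟨_, hmQ⟩ := by
    rw [hm]; exact him _
  have hkm := (w.large.b_pr _ _).1 (hti _ _ hkf hmf)
  have hsk := hK ⟨_, hkQ⟩ hkf
  rw [← hm]
  -- show that m commutes with z'
  generalize hkd : z' * u * z'⁻¹ * (u : G)⁻¹ = k at hkQ hk hkf hkm hsk
  generalize hmd : s * u * s⁻¹ * (u : G)⁻¹ = m at hmQ hm hmf hkm ⊢
  have hkm' : k * m = m * k := hkm
  have hsk' : s * k = k * s := hsk
  have e1 : s * z' * u * (s * z')⁻¹ = k * m * u := by
    calc s * z' * u * (s * z')⁻¹ = s * (z' * u * z'⁻¹ * (u : G)⁻¹) * u * s⁻¹ := by group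
      _ = (s * k) * u * s⁻¹ := by rw [hkd]
      _ = k * (s * u * s⁻¹ * (u : G)⁻¹) * u := by rw [hsk']; group
      _ = k * m * u := by rw [hmd]
  have e2 : z' * s * u * (z' * s)⁻¹ = (z' * m * z'⁻¹) * k * u := by
    calc z' * s * u * (z' * s)⁻¹ = z' * (s * u * s⁻¹ * (u : G)⁻¹) * z'⁻¹ *
          (z' * u * z'⁻¹ * (u : G)⁻¹) * u := by group
      _ = (z' * m * z'⁻¹) * k * u := by rw [hmd, hkd]
  rw [hsz'] at e1
  rw [e1, hkm'] at e2
  have e3 : m = z' * m * z'⁻¹ := mul_right_cancel (mul_right_cancel e2)
  have e4 : m * z' = z' * m := by
    conv_lhs => rw [e3]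
    group
  exact inv_ts w w' hx' _ ⟨⟨m, hmQ⟩, e4, rfl⟩

theorem inv_h (w : Wd Q z x) (w' : Wd Q' z' x') (T : Tr w) (hz'z : z' * z = z * z')
    (hx' : ¬ x' * z = z * x') (hinv : ¬ x * z' = z' * x)
    (hker : ∀ v, A w.large z' hz'z v = v → ∃ t, v = A w.large z' hz'z t + t)
    (hti : ∀ v u, A w.large z' hz'z v = v → A w.large z' hz'z u = u → w.large.b v u = 0)
    {h : w.large.V} (hD : h ∈ Dbar w.large z') (h0 : h ≠ 0) (v : w.large.V)
    (hv : w.large.b v (v0 w) = 0) : w.large.q (A w.large z' hz'z v + v) = w.large.b v h := by
  have hfin := finite_Q w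
  have hQF := qf w.large
  have hzz' := hz'z.symm
  have hv0D : v0 w ∉ Dbar w.large z' := fun h2 => hinv (comm_of_mem_Dbar w.large hzz' h2)
  have hfixD : ∀ u ∈ Dbar w.large z', A w.large z' hz'z u = u := by
    rintro _ ⟨d, hd, rfl⟩
    rw [A_pr]
    apply pr_congr
    show z' * d * z'⁻¹ = d
    rw [← hd]; group
  have hsh := hfixD h hD
  have hsv0 := A_v0 w hz'z
  have hqh : w.large.q h = 0 := inv_ts w w' hx' h hD
  have hbh : w.large.b h (v0 w) = 0 := hti _ _ hsh hsv0
  obtain ⟨c, hc, hcf⟩ := T h h0 hqh hbh
  have hzz : ∀ v, A w.large z' hz'z (A w.large z' hz'z v) = v := by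
    intro v
    rw [← A_mul_apply w.large hz'z hz'z]
    have h1 : (1 : G) * z = z * 1 := by simp
    rw [A_congr w.large (mul_comm_z hz'z hz'z) h1 w'.large.z_sq, A_one]
    rfl
  have hbs : ∀ v u, A w.large z' hz'z u = u → w.large.b (A w.large z' hz'z v) u =
      w.large.b v u := by
    intro v u hu
    conv_lhs => rw [← hu]
    exact hQF.b_isom (A_q w.large z' hz'z) v u
  have hshv0 : A w.large z' hz'z (h + v0 w) = h + v0 w := by rw [map_add, hsh, hsv0]
  -- c and z' commute on V
  have hcomm : A w.large c hc * A w.large z' hz'z = A w.large z' hz'z * A w.large c hc := by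
    ext u
    show A w.large c hc (A w.large z' hz'z u) = A w.large z' hz'z (A w.large c hc u)
    rw [hcf, hcf, hbs _ _ hshv0, hbs _ _ hsv0, map_add (A w.large z' hz'z),
      map_add (A w.large z' hz'z), map_smul (A w.large z' hz'z), map_smul (A w.large z' hz'z),
      hshv0, hsv0]
  -- m = c z' c⁻¹ z'⁻¹
  have hmQ : c * z' * (z' * c)⁻¹ ∈ Q := by
    apply mem_of_A_eq w.large (mul_comm_z hc hz'z) (mul_comm_z hz'z hc)
    rw [A_mul w.large hc hz'z, A_mul w.large hz'z hc, hcomm]
  generalize hmd : c * z' * (z' * c)⁻¹ = m at hmQ
  have hcm : c * z' * c⁻¹ = m * z' := by rw [← hmd]; group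
  have hmm : z' * m * z'⁻¹ = m⁻¹ := by
    have h1 : (m * z') * (m * z') = 1 := by
      rw [← hcm]
      calc c * z' * c⁻¹ * (c * z' * c⁻¹) = c * (z' * z') * c⁻¹ := by group
        _ = 1 := by rw [w'.large.z_sq]; group
    have h2 : z' * m * z' = m⁻¹ := by
      rw [← mul_right_inj m, mul_inv_cancel, ← h1]; group
    rw [w'.large.z_inv]; exact h2
  have hmf : A w.large z' hz'z (w.large.pr ⟨m, hmQ⟩) = w.large.pr ⟨m, hmQ⟩ := by
    rw [A_pr]
    have h1 : w.large.pr (⟨z' * m * z'⁻¹, w.large.conj_mem z' hz'z m hmQ⟩ : Q) =
        w.large.pr (⟨m, hmQ⟩ : Q)⁻¹ := pr_congr w.large hmm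
    rw [h1, w.large.pr_inv, w.large.neg_eq]
  -- find y in Q with y z' y⁻¹ = c z' c⁻¹
  have hxz := x_inv w hz'z hinv
  obtain ⟨y, hyQ, hy⟩ : ∃ y ∈ Q, y * z' * y⁻¹ = m * z' := by
    obtain ⟨t, ht⟩ := hker _ hmf
    obtain ⟨y0, rfl⟩ := w.large.pr_surjective t
    have hyQ : (y0 : G) * (z' * (y0 : G)⁻¹ * z'⁻¹) ∈ Q :=
      mul_mem y0.2 (w.large.conj_mem z' hz'z _ (inv_mem y0.2))
    have h1 : w.large.pr ⟨_, hyQ⟩ = w.large.pr ⟨m, hmQ⟩ := by
      rw [ht]
      have e : w.large.pr (⟨(y0 : G) * (z' * (y0 : G)⁻¹ * z'⁻¹), hyQ⟩ : Q) =
          w.large.pr (y0 * (⟨z' * ((y0⁻¹ : Q) : G) * z'⁻¹,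
            w.large.conj_mem z' hz'z _ (y0⁻¹).2⟩ : Q)) := pr_congr w.large rfl
      rw [e, w.large.pr_mul, ← A_pr w.large z' hz'z, w.large.pr_inv, w.large.neg_eq, add_comm]
    rcases w.large.pr_eq_pr.1 h1 with h2 | h2
    · refine ⟨y0, y0.2, ?_⟩
      have h3 : (y0 : G) * (z' * (y0 : G)⁻¹ * z'⁻¹) = m := h2
      rw [← h3]; group
    · refine ⟨y0 * x, mul_mem y0.2 w.mem, ?_⟩
      have h3 : (y0 : G) * (z' * (y0 : G)⁻¹ * z'⁻¹) = m * z := h2
      have h4 : x * z' * x⁻¹ = z * z' := by
        have h5 : z' * x⁻¹ * z'⁻¹ = z⁻¹ * x⁻¹ := by
          calc z' * x⁻¹ * z'⁻¹ = (z' * x * z'⁻¹)⁻¹ := by group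
            _ = z⁻¹ * x⁻¹ := by rw [hxz, mul_inv_rev]
        calc x * z' * x⁻¹ = x * (z' * x⁻¹ * z'⁻¹) * z' := by group
          _ = x * z⁻¹ * x⁻¹ * z' := by rw [h5]; group
          _ = z * z' := by
            have h6 : x * z⁻¹ * x⁻¹ = z := by
              rw [w.large.z_inv, x_comm_z w]; group
            rw [h6]
      calc (y0 : G) * x * z' * ((y0 : G) * x)⁻¹ = y0 * (x * z' * x⁻¹) * (y0 : G)⁻¹ := by group
        _ = y0 * (z * z') * (y0 : G)⁻¹ := by rw [h4]
        _ = (y0 * z) * (y0 : G)⁻¹ * ((y0 : G) * (z' * (y0 : G)⁻¹ * z'⁻¹)) * z' := by group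
        _ = (z * y0) * (y0 : G)⁻¹ * (m * z) * z' := by rw [h3, w.large.comm_z y0 y0.2]
        _ = (z * (m * z)) * z' := by group
        _ = m * (z * z) * z' := by rw [← mul_assoc z m z, ← w.large.comm_z m hmQ]; group
        _ = m * z' := by rw [w.large.z_sq, mul_one]
  have hyz : y * z = z * y := w.large.comm_z y hyQ
  have hyzi := k_inv hyz
  -- s = y⁻¹ c
  have hsz : (y⁻¹ * c) * z = z * (y⁻¹ * c) := mul_comm_z hyzi hc
  have hsz' : (y⁻¹ * c) * z' = z' * (y⁻¹ * c) := by
    calc (y⁻¹ * c) * z' = y⁻¹ * (c * z' * c⁻¹) * c := by group
      _ = y⁻¹ * (y * z' * y⁻¹) * c := by rw [hcm, hy]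
      _ = _ := by group
  have hAs : ∀ v, A w.large (y⁻¹ * c) hsz v = A w.large c hc v := by
    intro v
    rw [A_mul_apply w.large hyzi hc, A_eq_one_of_mem w.large hyzi (inv_mem hyQ)]
    rfl
  generalize hsd : y⁻¹ * c = s at hsz hsz' hAs
  have hAsf : ∀ v, A w.large s hsz v = v + w.large.b v (h + v0 w) • (h + v0 w) +
      w.large.b v (v0 w) • v0 w := fun v => (hAs v).trans (hcf v)
  have hbD : ∀ u ∈ Dbar w.large z', w.large.b u (h + v0 w) = 0 ∧ w.large.b u (v0 w) = 0 :=
    fun u hu => ⟨hti _ _ (hfixD u hu) hshv0, hti _ _ (hfixD u hu) hsv0⟩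
  have hfix : ∀ u ∈ Dbar w.large z', A w.large s hsz u = u := by
    intro u hu
    rw [hAsf, (hbD u hu).1, (hbD u hu).2]
    simp
  have hqhv0 : w.large.q (h + v0 w) = 1 := by
    rw [w.large.q_add', hqh, q_v0, hbh]; decide
  rcases w.norm s hsz with h1 | h1
  · -- s centralises x: contradiction
    exfalso
    have hsx : s * x = x * s := by rwa [mul_inv_eq_iff_eq_mul] at h1
    have hkey := inv_key w w' hz'z hx' hinv hti hsz hsz' hsx hfix (by
      intro v
      have e : A w.large s hsz v + v = w.large.b v (h + v0 w) • (h + v0 w) +
          w.large.b v (v0 w) • v0 w := by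
        rw [hAsf]
        generalize w.large.b v (h + v0 w) • (h + v0 w) = a
        generalize w.large.b v (v0 w) • v0 w = b
        apply one_smul_inj
        match_scalars <;> decide
      rw [e, map_add, map_smul, map_smul, hshv0, hsv0])
    obtain ⟨u, hu1, hu2⟩ : ∃ u, w.large.b u (v0 w) = 0 ∧ w.large.b u h = 1 := by
      by_contra hcon
      push Not at hcon
      rcases line_of_perp hQF (v0_ne w) h (fun u hu => by
        rw [w.large.b_comm]
        exact (zm _).resolve_right (hcon u hu)) with h2 | h2
      · exact h0 h2
      · exact hv0D (by rw [← h2]; exact hD)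
    have h2 := hkey u
    rw [hAsf, map_add, hu1, hu2] at h2
    have e : u + (1 + 0 : ZMod 2) • (h + v0 w) + (0 : ZMod 2) • v0 w + u = h + v0 w := by
      apply one_smul_inj
      match_scalars <;> decide
    rw [e, hqhv0] at h2
    exact absurd h2 (by decide)
  · -- s z' centralises x
    have hsz2 : (s * z') * z = z * (s * z') := mul_comm_z hsz hz'z
    have hsz2' : (s * z') * z' = z' * (s * z') := mul_comm_z hsz' rfl
    have hsx : s * z' * x = x * (s * z') := by
      have h2 : s * z' * x * (s * z')⁻¹ = x := by
        calc s * z' * x * (s * z')⁻¹ = s * (z' * x * z'⁻¹) * s⁻¹ := by group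
          _ = (s * x * s⁻¹) * (s * z * s⁻¹) := by rw [hxz]; group
          _ = x * z * (z * s * s⁻¹) := by rw [h1, hsz]
          _ = x * (z * z) := by group
          _ = x := by rw [w.large.z_sq, mul_one]
      rwa [mul_inv_eq_iff_eq_mul] at h2
    have hA2 : ∀ v, A w.large (s * z') hsz2 v = A w.large s hsz (A w.large z' hz'z v) :=
      fun v => A_mul_apply w.large hsz hz'z v
    have hform : ∀ v, A w.large (s * z') hsz2 v + v = (A w.large z' hz'z v + v) +
        w.large.b v (h + v0 w) • (h + v0 w) + w.large.b v (v0 w) • v0 w := by
      intro v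
      rw [hA2, hAsf, hbs _ _ hshv0, hbs _ _ hsv0]
      abel
    have hkey := inv_key w w' hz'z hx' hinv hti hsz2 hsz2' hsx (by
      intro u hu
      rw [hA2, hfixD u hu, hfix u hu]) (by
      intro v
      rw [hform, map_add, map_add, map_add, map_smul, map_smul, hshv0, hsv0, hzz,
        add_comm v]) v
    rw [hform, hv, zero_smul, add_zero, w.large.q_add'] at hkey
    have h3 : w.large.b (A w.large z' hz'z v + v) (w.large.b v (h + v0 w) • (h + v0 w)) = 0 := by
      have h3' : w.large.b (A w.large z' hz'z v + v) (h + v0 w) = 0 := by
        rw [map_add w.large.b, LinearMap.add_apply, hbs _ _ hshv0, cc]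
      rw [map_smul, h3', smul_zero]
    have h4 : w.large.b v (h + v0 w) = w.large.b v h := by rw [map_add, hv, add_zero]
    rw [h3, h4, add_zero] at hkey
    have h5 : w.large.q (w.large.b v h • (h + v0 w)) = w.large.b v h := by
      rcases zm (w.large.b v h) with h6 | h6
      · rw [h6, zero_smul]; exact w.large.q_zero
      · rw [h6, one_smul]; exact hqhv0
    rw [h5] at hkey
    have h7 : ∀ a b : ZMod 2, a + b = 0 → a = b := by decide
    exact h7 _ _ hkey

/-- the inverting case is impossible -/
theorem inv_false (w : Wd Q z x) (w' : Wd Q' z' x') (T : Tr w) (hne : z' ≠ z)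
    (hz'z : z' * z = z * z') (hinv : ¬ x * z' = z' * x) : False := by
  have hfin := finite_Q w
  have hQF := qf w.large
  have hzz' := hz'z.symm
  have hx' : ¬ x' * z = z * x' := fun h => hinv (cen_symm w w' h)
  have hts := inv_ts w w' hx'
  by_cases hz' : z' ∈ Q
  · -- z' in Q: the hyperplane is not isotropic
    have hr0 : w.large.pr ⟨z', hz'⟩ ≠ 0 := pr_ne_zero w.large hz' w'.large.z_ne hne
    have hline := line_of_perp hQF hr0
    have hle := card_le_of_isotropic hQF (D := Dbar w.large z') (B := Dbar w.large z') le_rfl
      (ti_of_ts hQF hts) (fun v hv _ _ hv' _ => absurd hv hv') (u := w.large.pr ⟨z', hz'⟩)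
      (fun v _ hv' => hline v fun u hu => hv' u ((mem_Dbar_iff w.large hz' u).2 hu))
    have h1 := card_perp hQF (w.large.pr ⟨z', hz'⟩) (Dbar w.large z')
      (fun v hv => (mem_Dbar_iff w.large hz' v).2 hv)
    have h2 := w.large.card_eq
    rw [w.card] at h2
    omega
  · have hv0D : v0 w ∉ Dbar w.large z' := fun h2 => hinv (comm_of_mem_Dbar w.large hzz' h2)
    have hzz : ∀ v, A w.large z' hz'z (A w.large z' hz'z v) = v := by
      intro v
      rw [← A_mul_apply w.large hz'z hz'z]
      have h1 : (1 : G) * z = z * 1 := by simp
      rw [A_congr w.large (mul_comm_z hz'z hz'z) h1 w'.large.z_sq, A_one]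
      rfl
    have hSd : Sd w.large.q (A w.large z' hz'z) (Dbar w.large z') (v0 w) := by
      refine ⟨A_q _ _ _, hzz, hts, ?_, A_v0 w hz'z, hv0D, ?_⟩
      · rintro _ ⟨d, hd, rfl⟩
        rw [A_pr]
        apply pr_congr
        show z' * d * z'⁻¹ = d
        rw [← hd]; group
      · intro v hv hvD
        exact Dbar_idx w.large hz'z hv (A_v0 w hz'z) hvD hv0D
    obtain ⟨hker, hti, h1, h1D, h2, h2D, h10, h20, h12⟩ := hSd.main (finrank_V w) hQF
    have key : ∀ v, w.large.b v (v0 w) = 0 → w.large.b v (h1 + h2) = 0 := by
      intro v hv
      rw [map_add, ← inv_h w w' T hz'z hx' hinv hker hti h1D h10 v hv,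
        ← inv_h w w' T hz'z hx' hinv hker hti h2D h20 v hv, cc]
    rcases line_of_perp hQF (v0_ne w) (h1 + h2) (fun v hv => by
      rw [w.large.b_comm]; exact key v hv) with h3 | h3
    · exact h12 (eq_of_add h3)
    · exact hv0D (by rw [← h3]; exact Submodule.add_mem _ h1D h2D)

end Cfsg.Agent.Co2Type.RedGroup2
end

-- part: Co2Type/RedLin3
section
/-!
# Linear algebra for the reducible case, part 3 (R03, piece A2; helper587)
-/

set_option autoImplicit false

namespace Cfsg.Agent.Co2Type.RedLin3

open Cfsg.Agent.Co2Type.RedLin Cfsg.Agent.Co2Type.RedLin2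

variable {V : Type*} [AddCommGroup V] [Module (ZMod 2) V] {q : V → ZMod 2}
  {b : LinearMap.BilinForm (ZMod 2) V}

theorem mem_orth_pair (h : QF q b) (u v x : V) :
    x ∈ b.orthogonal (Submodule.span (ZMod 2) {u, v}) ↔ b x u = 0 ∧ b x v = 0 := by
  rw [LinearMap.BilinForm.mem_orthogonal_iff]
  constructor
  · intro h1
    constructor
    · rw [h.b_comm]
      exact h1 _ (Submodule.subset_span (Set.mem_insert _ _))
    · rw [h.b_comm]
      exact h1 _ (Submodule.subset_span (Set.mem_insert_of_mem _ rfl))
  · rintro ⟨h1, h2⟩ w hw
    obtain ⟨r, t, rfl⟩ := Submodule.mem_span_pair.1 hw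
    show b (r • u + t • v) x = 0
    rw [map_add, map_smul, map_smul, LinearMap.add_apply, LinearMap.smul_apply,
      LinearMap.smul_apply, h.b_comm u, h.b_comm v, h1, h2]
    simp

theorem finrank_span_pair {u v : V} (hu : u ≠ 0) (hv : v ≠ 0) (huv : u ≠ v) :
    Module.finrank (ZMod 2) (Submodule.span (ZMod 2) {u, v}) = 2 := by
  have hli : LinearIndependent (ZMod 2) ![u, v] := by
    rw [LinearIndependent.pair_iff]
    intro r t hrt
    rcases zm r with rfl | rfl <;> rcases zm t with rfl | rfl
    · exact ⟨rfl, rfl⟩
    · exfalso; apply hv; simpa using hrt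
    · exfalso; apply hu; simpa using hrt
    · exfalso; apply huv; apply eq_of_add; simpa only [_root_.one_smul] using hrt
  have h1 := finrank_span_eq_card hli
  have h2 : Set.range ![u, v] = {u, v} := by
    ext x
    simp only [Set.mem_range, Fin.exists_fin_two, Set.mem_insert_iff, Set.mem_singleton_iff]
    constructor
    · rintro (h3 | h3)
      · left; exact h3.symm
      · right; exact h3.symm
    · rintro (h3 | h3)
      · left; exact h3.symm
      · right; exact h3.symm
  rw [h2, Fintype.card_fin] at h1
  exact h1

theorem card_orth_pair [Finite V] (hV : Module.finrank (ZMod 2) V = 8) (h : QF q b) {u v : V}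
    (hu : u ≠ 0) (hv : v ≠ 0) (huv : u ≠ v) :
    Nat.card (b.orthogonal (Submodule.span (ZMod 2) {u, v})) = 64 := by
  have hfin : Module.Finite (ZMod 2) V := Module.Finite.of_finite
  have h1 := Module.natCard_eq_pow_finrank (K := ZMod 2)
    (V := b.orthogonal (Submodule.span (ZMod 2) {u, v}))
  rw [LinearMap.BilinForm.finrank_orthogonal h.nondeg, hV, finrank_span_pair hu hv huv,
    Nat.card_zmod] at h1
  rw [h1]; norm_num

theorem mem_of_perp_pair [Finite V] (h : QF q b) {u v j : V}
    (hj : ∀ x, b x u = 0 → b x v = 0 → b x j = 0) :
    j = 0 ∨ j = u ∨ j = v ∨ j = u + v := by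
  have hfin : Module.Finite (ZMod 2) V := Module.Finite.of_finite
  have h1 : j ∈ b.orthogonal (b.orthogonal (Submodule.span (ZMod 2) {u, v})) := by
    rw [LinearMap.BilinForm.mem_orthogonal_iff]
    intro x hx
    obtain ⟨h2, h3⟩ := (mem_orth_pair h u v x).1 hx
    exact hj x h2 h3
  rw [LinearMap.BilinForm.orthogonal_orthogonal h.nondeg h.refl] at h1
  obtain ⟨r, t, rfl⟩ := Submodule.mem_span_pair.1 h1
  rcases zm r with rfl | rfl <;> rcases zm t with rfl | rfl
  · left; simp
  · right; right; left; simp
  · right; left; simp
  · right; right; right; simp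

/-- existence of the vector `h` -/
theorem exists_h [Finite V] (hV : Module.finrank (ZMod 2) V = 8) (h : QF q b) {v0 r j : V}
    (qv : q v0 = 1) (qr : q r = 0) (brv : b r v0 = 0) (qj : q j = 0) (j0 : j ≠ 0) (jr : j ≠ r)
    : ∃ k, k ≠ 0 ∧ q k = 0 ∧ b k v0 = 0 ∧ b k r = 0 ∧ b k j = 1 := by
  have hfin : Module.Finite (ZMod 2) V := Module.Finite.of_finite
  have ne : ∀ k, b k j = 1 → k ≠ 0 := by
    intro k hk h0
    rw [h0, map_zero, LinearMap.zero_apply] at hk
    exact absurd hk (by decide)
  have bvr : b v0 r = 0 := by rw [h.b_comm]; exact brv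
  rcases zm (b v0 j) with hj | hj
  · -- j ⊥ v0
    obtain ⟨k, hk1, hk2, hk3⟩ : ∃ k, b k v0 = 0 ∧ b k r = 0 ∧ b k j = 1 := by
      by_contra hc
      push Not at hc
      rcases mem_of_perp_pair h (u := v0) (v := r) (j := j)
        (fun x h1 h2 => (zm _).resolve_right (hc x h1 h2)) with h1 | h1 | h1 | h1
      · exact j0 h1
      · rw [h1, qv] at qj; exact absurd qj (by decide)
      · exact jr h1
      · rw [h1, h.q_add, qv, qr, bvr] at qj; exact absurd qj (by decide)
    rcases zm (q k) with h1 | h1
    · exact ⟨k, ne k hk3, h1, hk1, hk2, hk3⟩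
    · have h2 : b (k + v0) j = 1 := by
        rw [map_add, LinearMap.add_apply, hk3, hj, add_zero]
      refine ⟨k + v0, ne _ h2, ?_, ?_, ?_, h2⟩
      · rw [h.q_add, h1, qv, hk1]; decide
      · rw [map_add, LinearMap.add_apply, hk1, h.b_self, add_zero]
      · rw [map_add, LinearMap.add_apply, hk2, bvr, add_zero]
  · -- b v0 j = 1
    obtain ⟨k, hk1, hk2, hk3, hk4⟩ : ∃ k, b k v0 = 0 ∧ b k r = 0 ∧ b k j = 0 ∧ q k = 1 := by
      by_contra hc
      push Not at hc
      let X : Submodule (ZMod 2) V := b.orthogonal (Submodule.span (ZMod 2) {v0, r, j})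
      have hX : ∀ x ∈ X, q x = 0 := by
        intro x hx
        rw [LinearMap.BilinForm.mem_orthogonal_iff] at hx
        have e1 : b x v0 = 0 := by
          rw [h.b_comm]; exact hx _ (Submodule.subset_span (by simp))
        have e2 : b x r = 0 := by
          rw [h.b_comm]; exact hx _ (Submodule.subset_span (by simp))
        have e3 : b x j = 0 := by
          rw [h.b_comm]; exact hx _ (Submodule.subset_span (by simp))
        exact (zm _).resolve_right (hc x e1 e2 e3)
      have h1 := finrank_ti hV h (ti_of_ts h hX)
      have h2 : Module.finrank (ZMod 2) X = 8 -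
          Module.finrank (ZMod 2) (Submodule.span (ZMod 2) {v0, r, j}) := by
        rw [LinearMap.BilinForm.finrank_orthogonal h.nondeg, hV]
      have h3 : Module.finrank (ZMod 2) (Submodule.span (ZMod 2) ({v0, r, j} : Set V)) ≤ 3 := by
        classical
        have h4 := finrank_span_finset_le_card (R := ZMod 2) ({v0, r, j} : Finset V)
        have h5 : (({v0, r, j} : Finset V) : Set V) = {v0, r, j} := by simp
        have h6 : ({v0, r, j} : Finset V).card ≤ 3 := Finset.card_le_three
        rw [Set.finrank, h5] at h4
        omega
      omega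
    have h2 : b (k + v0) j = 1 := by
      rw [map_add, LinearMap.add_apply, hk3, hj, zero_add]
    refine ⟨k + v0, ne _ h2, ?_, ?_, ?_, h2⟩
    · rw [h.q_add, hk4, qv, hk1]; decide
    · rw [map_add, LinearMap.add_apply, hk1, h.b_self, add_zero]
    · rw [map_add, LinearMap.add_apply, hk2, bvr, add_zero]

end Cfsg.Agent.Co2Type.RedLin3
end

-- part: Co2Type/RedGroup3
section
/-!
# Exclusion of the reducible case, part 3: `z' ∈ Q` and `z ∈ Q'` (R03, piece A2; helper587)
-/

set_option autoImplicit false

namespace Cfsg.Agent.Co2Type.RedGroup3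

open Cfsg.Agent.Co2Type.Quad Cfsg.Agent.Co2Type.Pair Cfsg.Agent.Co2Type.RedLin
  Cfsg.Agent.Co2Type.RedLin2 Cfsg.Agent.Co2Type.RedLin3 Cfsg.Agent.Co2Type.RedGroup
  Cfsg.Agent.Co2Type.RedGroup2

variable {G : Type*} [Group G] {Q Q' : Subgroup G} {z z' x x' : G}

/-- the image of `Q ∩ Q'` is invariant under the elements given by `Tr` -/
theorem orbit (w : Wd Q z x) (w' : Wd Q' z' x') (T : Tr w) (hne : z' ≠ z) (hz' : z' ∈ Q)
    (hr : w.large.b (w.large.pr ⟨z', hz'⟩) (v0 w) = 0) (i : Q) (hi : (i : G) ∈ Q')
    {h : w.large.V} (h0 : h ≠ 0) (hq : w.large.q h = 0) (hv : w.large.b h (v0 w) = 0)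
    (hhr : w.large.b h (w.large.pr ⟨z', hz'⟩) = 0) :
    ∃ i' : Q, (i' : G) ∈ Q' ∧ w.large.pr i' = w.large.pr i +
      w.large.b (w.large.pr i) (h + v0 w) • (h + v0 w) +
      w.large.b (w.large.pr i) (v0 w) • v0 w := by
  have hfin := finite_Q w
  have hz'z : z' * z = z * z' := w.large.comm_z z' hz'
  obtain ⟨c, hc, hcf⟩ := T h h0 hq hv
  have h1 : A w.large c hc (w.large.pr ⟨z', hz'⟩) = w.large.pr ⟨z', hz'⟩ := by
    rw [hcf, map_add, hr, w.large.b_comm _ h, hhr]
    simp
  rw [A_pr, w.large.pr_eq_pr] at h1
  -- a modification of c commutes with z'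
  obtain ⟨e, heQ, hc'⟩ : ∃ e ∈ Q, (c * e) * z' = z' * (c * e) := by
    rcases h1 with h2 | h2
    · refine ⟨1, Q.one_mem, ?_⟩
      have h3 : c * z' * c⁻¹ = z' := h2
      rw [mul_inv_eq_iff_eq_mul] at h3
      rw [mul_one]; exact h3
    · have h3 : c * z' * c⁻¹ = z' * z := h2
      obtain ⟨v, hv⟩ := (qf w.large).exists_one (pr_ne_zero w.large hz' w'.large.z_ne hne)
      obtain ⟨e, rfl⟩ := w.large.pr_surjective v
      refine ⟨e, e.2, ?_⟩
      have h4 : (e : G) * z' = z' * e * z := (w.large.b_pr_one _ _).1 hv
      have h5 : c * z' = z' * z * c := by rwa [mul_inv_eq_iff_eq_mul] at h3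
      calc c * e * z' = c * (e * z') := mul_assoc _ _ _
        _ = c * z' * (e * z) := by rw [h4]; group
        _ = z' * z * c * (e * z) := by rw [h5]
        _ = z' * z * c * (z * e) := by rw [w.large.comm_z e e.2]
        _ = z' * z * (c * z) * e := by group
        _ = z' * (z * z) * c * e := by rw [hc]; group
        _ = z' * (c * e) := by rw [w.large.z_sq]; group
  have hez := w.large.comm_z e heQ
  have hcz' : (c * e) * z = z * (c * e) := mul_comm_z hc hez
  have h6 := conj_mem_inf w.large w'.large hcz' hc' (Subgroup.mem_inf.2 ⟨i.2, hi⟩)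
  refine ⟨⟨(c * e) * i * (c * e)⁻¹, (Subgroup.mem_inf.1 h6).1⟩, (Subgroup.mem_inf.1 h6).2, ?_⟩
  have h7 : w.large.pr ⟨(c * e) * i * (c * e)⁻¹, (Subgroup.mem_inf.1 h6).1⟩ =
      A w.large (c * e) hcz' (w.large.pr i) := (A_pr w.large (c * e) hcz' i).symm
  rw [h7, A_mul_apply w.large hc hez, A_eq_one_of_mem w.large hez heQ]
  exact hcf _

theorem inf_line (w : Wd Q z x) (w' : Wd Q' z' x') (T : Tr w) (hne : z' ≠ z) (hz' : z' ∈ Q)
    (hr : w.large.b (w.large.pr ⟨z', hz'⟩) (v0 w) = 0) (i : Q) (hi : (i : G) ∈ Q') :
    w.large.pr i = 0 ∨ w.large.pr i = w.large.pr ⟨z', hz'⟩ := by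
  have hfin := finite_Q w
  have hQF := qf w.large
  have hq : ∀ i : Q, (i : G) ∈ Q' → w.large.q (w.large.pr i) = 0 := by
    intro i hi
    rw [w.large.q_eq_zero]
    exact inf_sq w.large w'.large hne (Subgroup.mem_inf.2 ⟨i.2, hi⟩)
  by_contra hcon
  push Not at hcon
  have hqr : w.large.q (w.large.pr ⟨z', hz'⟩) = 0 := by
    rw [w.large.q_eq_zero]; exact w'.large.z_sq
  obtain ⟨k, hk0, hk1, hk2, hk3, hk4⟩ := exists_h (finrank_V w) hQF (q_v0 w) hqr hr (hq i hi)
    hcon.1 hcon.2
  obtain ⟨i', hi', he⟩ := orbit w w' T hne hz' hr i hi hk0 hk1 hk2 hk3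
  have h1 := hq (i * i') (mul_mem hi hi')
  rw [w.large.pr_mul, he] at h1
  have hk4' : w.large.b (w.large.pr i) k = 1 := by rw [w.large.b_comm]; exact hk4
  generalize w.large.pr i = j at *
  rcases zm (w.large.b j (v0 w)) with h2 | h2
  · have e : j + (j + w.large.b j (k + v0 w) • (k + v0 w) + w.large.b j (v0 w) • v0 w) =
        k + v0 w := by
      rw [map_add, hk4', h2]
      apply one_smul_inj
      match_scalars <;> decide
    rw [e, w.large.q_add', hk1, q_v0, hk2] at h1
    exact absurd h1 (by decide)
  · have e : j + (j + w.large.b j (k + v0 w) • (k + v0 w) + w.large.b j (v0 w) • v0 w) =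
        v0 w := by
      rw [map_add, hk4', h2]
      apply one_smul_inj
      match_scalars <;> decide
    rw [e, q_v0] at h1
    exact absurd h1 (by decide)

/-- `z' ∈ Q`, `z ∈ Q'`, centralising case -/
theorem both_false (w : Wd Q z x) (w' : Wd Q' z' x') (T : Tr w) (hne : z' ≠ z)
    (h : x' * z = z * x') (hz' : z' ∈ Q) (hz : z ∈ Q') : False := by
  classical
  have hfin := finite_Q w
  have hfin' := finite_Q w'
  have hQF := qf w.large
  have hxz' := cen_symm w w' h
  have hz'z : z' * z = z * z' := w.large.comm_z z' hz'
  have hr0 : w.large.pr ⟨z', hz'⟩ ≠ 0 := pr_ne_zero w.large hz' w'.large.z_ne hne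
  have hqr : w.large.q (w.large.pr ⟨z', hz'⟩) = 0 := by
    rw [w.large.q_eq_zero]; exact w'.large.z_sq
  have hr : w.large.b (w.large.pr ⟨z', hz'⟩) (v0 w) = 0 := by
    rw [v0, w.large.b_pr]; exact hxz'.symm
  have hline := inf_line w w' T hne hz' hr
  have hr0' : w'.large.pr ⟨z, hz⟩ ≠ 0 := pr_ne_zero w'.large hz w.large.z_ne hne.symm
  set r := w.large.pr ⟨z', hz'⟩ with hrdef
  set r' := w'.large.pr ⟨z, hz⟩ with hr'def
  -- elements of D' act trivially on the hyperplane mod r
  have hact : ∀ (a : G), a ∈ Q' → ∀ (ha : a * z = z * a) (v : w.large.V), w.large.b v r = 0 →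
      A w.large a ha v = v ∨ A w.large a ha v = v + r := by
    intro a haQ ha v hv
    rw [hrdef, ← mem_Dbar_iff] at hv
    obtain ⟨d, hd, rfl⟩ := hv
    have h1 := commutator_mem w.large w'.large (mem_dsub.2 ⟨d.2, hd⟩ : (d : G) ∈ dsub Q z')
      (mem_dsub.2 ⟨haQ, ha⟩ : a ∈ dsub Q' z)
    have h2 : a * d * a⁻¹ * (d : G)⁻¹ ∈ Q ⊓ Q' := by
      have h3 := inv_mem h1
      have e : ((d : G) * a * (d : G)⁻¹ * a⁻¹)⁻¹ = a * d * a⁻¹ * (d : G)⁻¹ := by group
      rwa [e] at h3
    have h3 : A w.large a ha (w.large.pr d) =
        w.large.pr ⟨a * d * a⁻¹ * (d : G)⁻¹, (Subgroup.mem_inf.1 h2).1⟩ + w.large.pr d := by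
      rw [A_pr, ← w.large.pr_mul]
      apply pr_congr
      show a * d * a⁻¹ = (a * d * a⁻¹ * (d : G)⁻¹) * d
      group
    rw [h3]
    rcases hline ⟨_, (Subgroup.mem_inf.1 h2).1⟩ (Subgroup.mem_inf.1 h2).2 with h4 | h4
    · left; rw [h4, zero_add]
    · right; rw [h4, add_comm]
  have har : ∀ (a : G), a ∈ Q' → ∀ (ha : a * z = z * a), A w.large a ha r = r := by
    intro a haQ ha
    rw [hrdef, A_pr]
    apply pr_congr
    show a * z' * a⁻¹ = z'
    rw [w'.large.comm_z a haQ]; group
  obtain ⟨p, hp⟩ := hQF.exists_one hr0
  -- the vector m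
  have hm : ∀ (a : G), a ∈ Q' → ∀ (ha : a * z = z * a),
      w.large.b (A w.large a ha p + p) r = 0 ∧ w.large.b (A w.large a ha p + p) (v0 w) = 0 ∧
      w.large.q (A w.large a ha p + p) = w.large.b p (A w.large a ha p + p) := by
    intro a haQ ha
    have hb1 := hQF.b_isom (A_q w.large a ha) p r
    have hb2 := hQF.b_isom (A_q w.large a ha) p (v0 w)
    rw [har a haQ ha] at hb1
    rw [A_v0 w ha] at hb2
    refine ⟨?_, ?_, ?_⟩
    · rw [map_add w.large.b, LinearMap.add_apply, hb1, cc]
    · rw [map_add w.large.b, LinearMap.add_apply, hb2, cc]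
    · rw [w.large.q_add', A_q, cc, zero_add, map_add, w.large.b_self, add_zero, w.large.b_comm]
  have hsame : ∀ (a a' : G), a ∈ Q' → a' ∈ Q' → ∀ (ha : a * z = z * a) (ha' : a' * z = z * a'),
      A w.large a ha p = A w.large a' ha' p → A w.large a ha = A w.large a' ha' := by
    intro a a' haQ haQ' ha ha' he
    have hperp : ∀ v, w.large.b v r = 0 → A w.large a ha v = A w.large a' ha' v := by
      intro v hv
      have hb1 := hQF.b_isom (A_q w.large a ha) p v
      have hb2 := hQF.b_isom (A_q w.large a' ha') p v
      have hbr : w.large.b (A w.large a ha p) r = 1 := by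
        have h3 := hQF.b_isom (A_q w.large a ha) p r
        rw [har a haQ ha, hp] at h3
        exact h3
      rw [← he] at hb2
      rcases hact a haQ ha v hv with h1 | h1 <;> rcases hact a' haQ' ha' v hv with h2 | h2
      · rw [h1, h2]
      · exfalso
        rw [h1] at hb1
        rw [h2, map_add, hbr, hb1] at hb2
        have : ∀ a : ZMod 2, a + 1 = a → False := by decide
        exact this _ hb2
      · exfalso
        rw [h2] at hb2
        rw [h1, map_add, hbr, hb2] at hb1
        have : ∀ a : ZMod 2, a + 1 = a → False := by decide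
        exact this _ hb1
      · rw [h1, h2]
    ext v
    rcases zm (w.large.b v r) with h1 | h1
    · exact hperp v h1
    · have h2 : w.large.b (v + p) r = 0 := by
        rw [map_add w.large.b, LinearMap.add_apply, h1, hp, cc]
      have h3 := hperp _ h2
      rw [map_add, map_add, he] at h3
      exact add_right_cancel h3
  -- choose elements
  have hch : ∀ v : Dbar w'.large z, ∃ a : Q', ∃ _ : (a : G) * z = z * a, w'.large.pr a = v := by
    intro v
    obtain ⟨a, ha, hav⟩ := v.2
    exact ⟨a, ha, hav⟩
  choose a ha hav using hch
  let X := w.large.b.orthogonal (Submodule.span (ZMod 2) {r, v0 w})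
  have hrv0 : r ≠ v0 w := by
    intro hc
    have := q_v0 w
    rw [← hc, hqr] at this
    exact absurd this (by decide)
  have hXcard : Nat.card X = 64 := card_orth_pair (finrank_V w) hQF hr0 (v0_ne w) hrv0
  obtain ⟨s, hs⟩ := (qf w'.large).exists_one hr0'
  have hmemX : ∀ (v : Dbar w'.large z) (β : ZMod 2),
      (A w.large (a v) (ha v) p + p) + β • r ∈ X := by
    intro v β
    obtain ⟨m1, m2, -⟩ := hm (a v) (a v).2 (ha v)
    rw [mem_orth_pair hQF]
    constructor
    · rw [map_add w.large.b, LinearMap.add_apply, m1, map_smul, LinearMap.smul_apply,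
        w.large.b_self, smul_zero, add_zero]
    · rw [map_add w.large.b, LinearMap.add_apply, m2, map_smul, LinearMap.smul_apply, hr,
        smul_zero, add_zero]
  have hcard : Nat.card (Dbar w'.large z × ZMod 2) ≤ Nat.card (X × ZMod 2) := by
    refine Nat.card_le_card_of_injective (fun t : Dbar w'.large z × ZMod 2 =>
      ((⟨_, hmemX t.1 t.2⟩ : X), w'.large.b s (t.1 : w'.large.V))) ?_
    rintro ⟨v, β⟩ ⟨v', β'⟩ hvv
    have e1 : (A w.large (a v) (ha v) p + p) + β • r =
        (A w.large (a v') (ha v') p + p) + β' • r :=
      congrArg (fun t : X × ZMod 2 => ((t.1 : X) : w.large.V)) hvv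
    have e2 : w'.large.b s (v : w'.large.V) = w'.large.b s (v' : w'.large.V) :=
      congrArg (fun t : X × ZMod 2 => t.2) hvv
    obtain ⟨m1, m2, m3⟩ := hm (a v) (a v).2 (ha v)
    obtain ⟨m1', m2', m3'⟩ := hm (a v') (a v').2 (ha v')
    have hqX : ∀ m, w.large.b m r = 0 → w.large.q (m + r) = w.large.q m := by
      intro m hm
      rw [w.large.q_add', hqr, hm, add_zero, add_zero]
    have hbp : ∀ m, w.large.b p (m + r) = w.large.b p m + 1 := by
      intro m; rw [map_add, hp]
    have hcontra : ∀ c : ZMod 2, c = c + 1 → False := by decide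
    have hββ : β = β' := by
      rcases zm β with rfl | rfl <;> rcases zm β' with rfl | rfl
      · rfl
      · exfalso
        rw [zero_smul, add_zero, one_smul] at e1
        rw [e1, hqX _ m1', hbp, m3'] at m3
        exact hcontra _ m3
      · exfalso
        rw [zero_smul, add_zero, one_smul] at e1
        rw [← e1, hqX _ m1, hbp, m3] at m3'
        exact hcontra _ m3'
      · rfl
    subst hββ
    have e3 : A w.large (a v) (ha v) p = A w.large (a v') (ha v') p :=
      add_right_cancel (add_right_cancel e1)
    have e4 := hsame _ _ (a v).2 (a v').2 (ha v) (ha v') e3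
    have e5 := mem_of_A_eq w.large (ha v) (ha v') e4
    have e6 : ((a v : Q') : G) * ((a v' : Q') : G)⁻¹ ∈ Q' := mul_mem (a v).2 (inv_mem (a v').2)
    have e7 : w'.large.pr ⟨_, e6⟩ = (v : w'.large.V) + v' := by
      have e8 : w'.large.pr ⟨_, e6⟩ = w'.large.pr (a v * (a v')⁻¹) := pr_congr w'.large rfl
      rw [e8, w'.large.pr_mul, w'.large.pr_inv, w'.large.neg_eq, hav, hav]
    have e9 : w'.large.pr ⟨_, e6⟩ = 0 ∨ w'.large.pr ⟨_, e6⟩ = r' := by
      rcases hline ⟨_, e5⟩ e6 with h1 | h1
      · rcases w.large.pr_eq_zero.1 h1 with h2 | h2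
        · left; rw [w'.large.pr_eq_zero]; left; exact h2
        · right; rw [hr'def, w'.large.pr_eq_pr]; left; exact h2
      · rcases w.large.pr_eq_pr.1 h1 with h2 | h2
        · left; rw [w'.large.pr_eq_zero]; right; exact h2
        · right; rw [hr'def, w'.large.pr_eq_pr]; right
          have h3 : ((a v : Q') : G) * ((a v' : Q') : G)⁻¹ = z' * z := h2
          show ((a v : Q') : G) * ((a v' : Q') : G)⁻¹ = z * z'
          rw [h3, hz'z]
    rw [e7] at e9
    have hvv' : (v : w'.large.V) = v' := by
      rcases e9 with h1 | h1
      · exact eq_of_add h1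
      · exfalso
        have h2 : w'.large.b s ((v : w'.large.V) + v') = 1 := by rw [h1, hs]
        rw [map_add, e2, cc] at h2
        exact absurd h2 (by decide)
    rw [Subtype.ext hvv']
  rw [Nat.card_prod, Nat.card_prod, hXcard, Nat.card_zmod] at hcard
  have h1 := card_perp (qf w'.large) r' (Dbar w'.large z)
    (fun v hv => (mem_Dbar_iff w'.large hz v).2 hv)
  have h2 := w'.large.card_eq
  rw [w'.card] at h2
  omega

/-- **two commuting conjugates are equal** -/
theorem eq_of_commute (w : Wd Q z x) (T : Tr w) (g : G)
    (hc : (g * z * g⁻¹) * z = z * (g * z * g⁻¹)) : g * z * g⁻¹ = z := by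
  by_contra hne
  have w' := w.conj g
  by_cases hinv : x * (g * z * g⁻¹) = (g * z * g⁻¹) * x
  · -- centralising case
    have hx' : (g * x * g⁻¹) * z = z * (g * x * g⁻¹) := cen_symm w' w hinv
    by_cases hz' : g * z * g⁻¹ ∈ Q
    · by_cases hz : z ∈ Q.map (MulAut.conj g).toMonoidHom
      · exact both_false w w' T hne hx' hz' hz
      · exact cen_false w' w (Ne.symm hne) hinv hz
    · exact cen_false w w' hne hx' hz'
  · exact inv_false w w' T hne hc hinv

end Cfsg.Agent.Co2Type.RedGroup3
end

-- part: Co2Type/SympT
section
/-!
# Transvections of `Sp6(2)` (R03, Co2 type, piece A1; helper587)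

`T u` is the transvection of `Sp6(2)` at `u`, `om` the symplectic form on `W = F_2^6`,
`e i`, `f i` the standard hyperbolic basis.
-/

set_option autoImplicit false

namespace Cfsg.Agent.Co2Type.SympT

open Cfsg.Agent.ClassicalGeometry.SympBasic
open scoped Matrix

abbrev W : Type := Fin 3 ⊕ Fin 3 → ZMod 2
abbrev Sp6 : Type := Matrix.symplecticGroup (Fin 3) (ZMod 2)

/-- the symplectic form on `W` -/
abbrev om (u v : W) : ZMod 2 := Cfsg.sympForm 3 (ZMod 2) u v

/-- the action of `Sp6(2)` on `W` -/
def ac (g : Sp6) (u : W) : W := (g : Matrix (Fin 3 ⊕ Fin 3) (Fin 3 ⊕ Fin 3) (ZMod 2)) *ᵥ u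

/-- the transvection at `u` -/
def T (u : W) : Sp6 := transv u 1

theorem ac_mul (g h : Sp6) (u : W) : ac (g * h) u = ac g (ac h u) := coe_mul_mulVec g h u

theorem ac_one (u : W) : ac 1 u = u := by
  show (1 : Matrix (Fin 3 ⊕ Fin 3) (Fin 3 ⊕ Fin 3) (ZMod 2)) *ᵥ u = u
  exact Matrix.one_mulVec u

theorem ac_add (g : Sp6) (u v : W) : ac g (u + v) = ac g u + ac g v := Matrix.mulVec_add _ _ _

theorem ac_inj {g : Sp6} {u v : W} (h : ac g u = ac g v) : u = v := by
  have := congrArg (ac g⁻¹) h
  rwa [← ac_mul, ← ac_mul, inv_mul_cancel, ac_one, ac_one] at this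

theorem ext_ac {g h : Sp6} (H : ∀ u, ac g u = ac h u) : g = h := by
  apply Subtype.ext
  apply Matrix.mulVec_injective
  funext u
  exact H u

theorem om_ac (g : Sp6) (u v : W) : om (ac g u) (ac g v) = om u v := sympForm_mulVec g.2 u v

theorem om_add_left (u u' v : W) : om (u + u') v = om u v + om u' v := sympForm_add_left u u' v
theorem om_add_right (u v v' : W) : om u (v + v') = om u v + om u v' := sympForm_add_right u v v'
theorem om_self (u : W) : om u u = 0 := sympForm_self u
theorem om_comm (u v : W) : om u v = om v u := by
  have h := sympForm_swap u v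
  have : ∀ a : ZMod 2, -a = a := by decide
  rw [this] at h
  exact h
theorem om_zero_left (u : W) : om 0 u = 0 := sympForm_zero_left u
theorem om_zero_right (u : W) : om u 0 = 0 := sympForm_zero_right u

theorem zmod2 (a : ZMod 2) : a = 0 ∨ a = 1 := by revert a; decide

theorem w_add_self (u : W) : u + u = 0 := ZModModule.add_self u

theorem ac_T (u x : W) : ac (T u) x = x + om x u • u := by
  show (Cfsg.sympTransvection 3 u 1) *ᵥ x = _
  rw [sympTransvection_mulVec, one_mul]

theorem ac_T_of_zero {u x : W} (h : om x u = 0) : ac (T u) x = x := by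
  rw [ac_T, h, zero_smul, add_zero]

theorem ac_T_of_one {u x : W} (h : om x u = 1) : ac (T u) x = x + u := by
  rw [ac_T, h, one_smul]

theorem T_zero : T 0 = 1 := by
  apply ext_ac
  intro u
  rw [ac_one, ac_T_of_zero (om_zero_right u)]

theorem T_mul_self (u : W) : T u * T u = 1 := by
  apply ext_ac
  intro x
  rw [ac_mul, ac_one]
  rcases zmod2 (om x u) with h | h
  · rw [ac_T_of_zero h, ac_T_of_zero h]
  · rw [ac_T_of_one h, ac_T_of_one (by rw [om_add_left, h, om_self, add_zero]), add_assoc,
      w_add_self, add_zero]

theorem T_inv (u : W) : (T u)⁻¹ = T u := inv_eq_of_mul_eq_one_left (T_mul_self u)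

theorem mul_T (g : Sp6) (u : W) : g * T u = T (ac g u) * g := by
  apply ext_ac
  intro x
  rw [ac_mul, ac_mul, ac_T, ac_T, ac_add, om_ac]
  congr 1
  exact Matrix.mulVec_smul _ _ _

theorem conj_T (g : Sp6) (u : W) : g * T u * g⁻¹ = T (ac g u) := by
  rw [mul_T, mul_inv_cancel_right]

theorem T_inj {u v : W} (h : T u = T v) : u = v := by
  by_contra hne
  -- find x with om x u = 1, om x v = 0 or so
  rcases eq_or_ne u 0 with rfl | hu
  · have hv : v ≠ 0 := fun h0 => hne h0.symm
    obtain ⟨x, hx⟩ : ∃ x, om x v ≠ 0 := by
      by_contra hc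
      push Not at hc
      exact hv (eq_zero_of_forall_sympForm_left hc)
    have h1 : om x v = 1 := (zmod2 _).resolve_left hx
    have h2 := congrArg (fun g => ac g x) h
    simp only [T_zero, ac_one, ac_T_of_one h1] at h2
    exact hv (by simpa using h2.symm)
  · obtain ⟨x, hx⟩ : ∃ x, om x u ≠ 0 := by
      by_contra hc
      push Not at hc
      exact hu (eq_zero_of_forall_sympForm_left hc)
    have h1 : om x u = 1 := (zmod2 _).resolve_left hx
    have h2 := congrArg (fun g => ac g x) h
    simp only [ac_T_of_one h1] at h2
    rcases zmod2 (om x v) with h3 | h3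
    · rw [ac_T_of_zero h3] at h2
      exact hu (by simpa using h2)
    · rw [ac_T_of_one h3] at h2
      exact hne (add_left_cancel h2)

theorem T_ne_one {u : W} (hu : u ≠ 0) : T u ≠ 1 := by
  intro h
  rw [← T_zero] at h
  exact hu (T_inj h)

theorem T_comm {u w : W} (h : om u w = 0) : T u * T w = T w * T u := by
  have h1 := mul_T (T u) w
  rw [ac_T_of_zero (by rw [om_comm]; exact h)] at h1
  exact h1

theorem T_braid {u w : W} (h : om u w = 1) : T u * T w * T u = T (u + w) := by
  have h1 := conj_T (T u) w
  rw [T_inv, ac_T_of_one (by rw [om_comm]; exact h), add_comm w u] at h1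
  exact h1

/-- induction on generation by transvections -/
theorem closure_T : Subgroup.closure (Set.range T) = ⊤ := by
  rw [eq_top_iff, ← Cfsg.Agent.S0765.result (F := ZMod 2) 3, Subgroup.closure_le]
  rintro A ⟨w, c, hA⟩
  rcases zmod2 c with rfl | rfl
  · have : A = 1 := by
      apply Subtype.ext
      rw [hA, sympTransvection_zero]
      rfl
    rw [this]
    exact Subgroup.one_mem _
  · apply Subgroup.subset_closure
    exact ⟨w, Subtype.ext hA.symm⟩

theorem exists_hyperbolic {u w u' w' : W} (h : om u w = 1) (h' : om u' w' = 1) :
    ∃ g : Sp6, ac g u = u' ∧ ac g w = w' := by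
  obtain ⟨A, -, h1, h2⟩ := exists_transvGroup_hyperbolic h h'
  exact ⟨A, h1, h2⟩

theorem exists_transitive {u u' : W} (h : u ≠ 0) (h' : u' ≠ 0) : ∃ g : Sp6, ac g u = u' := by
  obtain ⟨A, -, h1⟩ := exists_transvGroup_mulVec_eq h h'
  exact ⟨A, h1⟩

/-! ### frames -/

/-- hyperbolic frame -/
structure Frame (e f : Fin 3 → W) : Prop where
  ee : ∀ i j, om (e i) (e j) = 0
  ff : ∀ i j, om (f i) (f j) = 0
  ef : ∀ i, om (e i) (f i) = 1
  ef' : ∀ i j, i ≠ j → om (e i) (f j) = 0

theorem Frame.perm {e f : Fin 3 → W} (h : Frame e f) (s : Equiv.Perm (Fin 3)) :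
    Frame (fun i => e (s i)) (fun i => f (s i)) :=
  ⟨fun _ _ => h.ee _ _, fun _ _ => h.ff _ _, fun _ => h.ef _, fun i j hij => h.ef' _ _ fun hs =>
    hij (s.injective hs)⟩

/-- standard frame -/
def e0 (i : Fin 3) : W := Pi.single (Sum.inl i) 1
def f0 (i : Fin 3) : W := Pi.single (Sum.inr i) 1

theorem frame_std : Frame e0 f0 := by
  refine ⟨?_, ?_, ?_, ?_⟩
  · intro i j
    show Cfsg.sympForm 3 (ZMod 2) (Pi.single (Sum.inl i) 1) (Pi.single (Sum.inl j) 1) = 0
    rw [sympForm_single_inl_left]; simp
  · intro i j
    show Cfsg.sympForm 3 (ZMod 2) (Pi.single (Sum.inr i) 1) (Pi.single (Sum.inr j) 1) = 0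
    rw [sympForm_single_inr_left]; simp
  · intro i
    show Cfsg.sympForm 3 (ZMod 2) (Pi.single (Sum.inl i) 1) (Pi.single (Sum.inr i) 1) = 1
    rw [sympForm_single_inl_left]; simp
  · intro i j hij
    show Cfsg.sympForm 3 (ZMod 2) (Pi.single (Sum.inl i) 1) (Pi.single (Sum.inr j) 1) = 0
    rw [sympForm_single_inl_left]
    simp [hij]

/-- the swap of two hyperbolic pairs -/
theorem Frame.exists_swap {e f : Fin 3 → W} (h : Frame e f) (i j k : Fin 3) (hij : i ≠ j)
    (hik : i ≠ k) (hjk : j ≠ k) :
    ∃ s : Sp6, ac s (e i) = e j ∧ ac s (f i) = f j ∧ ac s (e j) = e i ∧ ac s (f j) = f i ∧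
      ac s (e k) = e k ∧ ac s (f k) = f k := by
  have fe : ∀ i j, om (f i) (e j) = om (e j) (f i) := fun i j => om_comm _ _
  have key : ∀ z : W, ac (T (e i + e j) * T (f i + f j) * T ((e i + e j) + (f i + f j))) z =
      z + om z (f i + f j) • (e i + e j) + om z (e i + e j) • (f i + f j) := by
    intro z
    have hxy : om (e i + e j) (f i + f j) = 0 := by
      rw [om_add_left, om_add_right, om_add_right, h.ef, h.ef, h.ef' _ _ hij, h.ef' _ _ hij.symm]
      decide
    have hyx : om (f i + f j) (e i + e j) = 0 := by rw [om_comm]; exact hxy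
    have hxx := om_self (e i + e j)
    have hyy := om_self (f i + f j)
    rw [ac_mul, ac_mul]
    generalize e i + e j = x at *
    generalize f i + f j = y at *
    rcases zmod2 (om z x) with h1 | h1 <;> rcases zmod2 (om z y) with h2 | h2
    · rw [ac_T_of_zero (u := x + y) (by rw [om_add_right, h1, h2, add_zero]), ac_T_of_zero h2,
        ac_T_of_zero h1, h1, h2]; simp
    · rw [ac_T_of_one (u := x + y) (by rw [om_add_right, h1, h2, zero_add]),
        ac_T_of_one (u := y) (by rw [om_add_left, om_add_left, h2, hxy, hyy]; decide),
        ac_T_of_zero (u := x) (by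
          rw [om_add_left, om_add_left, om_add_left, h1, hxx, hyx]; decide), h1, h2]
      rw [one_smul, zero_smul, add_zero, ← add_assoc, add_assoc (z + x), w_add_self, add_zero]
    · rw [ac_T_of_one (u := x + y) (by rw [om_add_right, h1, h2, add_zero]),
        ac_T_of_zero (u := y) (by rw [om_add_left, om_add_left, h2, hxy, hyy]; decide),
        ac_T_of_one (u := x) (by
          rw [om_add_left, om_add_left, h1, hxx, hyx]; decide), h1, h2]
      rw [one_smul, zero_smul, add_zero, add_comm x y, ← add_assoc, add_assoc (z + y), w_add_self,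
        add_zero]
    · rw [ac_T_of_zero (u := x + y) (by rw [om_add_right, h1, h2]; decide), ac_T_of_one h2,
        ac_T_of_one (u := x) (by rw [om_add_left, h1, hyx]; decide), h1, h2]
      rw [one_smul, one_smul]
      abel
  refine ⟨T (e i + e j) * T (f i + f j) * T ((e i + e j) + (f i + f j)), ?_, ?_, ?_, ?_, ?_, ?_⟩
  all_goals rw [key]
  · rw [om_add_right, om_add_right, h.ef, h.ef' _ _ hij, h.ee, h.ee]
    simp only [add_zero, one_smul, zero_smul]
    rw [← add_assoc, w_add_self, zero_add]
  · rw [om_add_right, om_add_right, h.ff, h.ff, fe, fe, h.ef, h.ef' _ _ hij.symm]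
    simp only [add_zero, one_smul, zero_smul]
    rw [← add_assoc, w_add_self, zero_add]
  · rw [om_add_right, om_add_right, h.ef, h.ef' _ _ hij.symm, h.ee, h.ee]
    simp only [add_zero, zero_add, one_smul, zero_smul]
    rw [add_comm (e i), ← add_assoc, w_add_self, zero_add]
  · rw [om_add_right, om_add_right, h.ff, h.ff, fe, fe, h.ef, h.ef' _ _ hij]
    simp only [add_zero, zero_add, one_smul, zero_smul]
    rw [add_comm (f i), ← add_assoc, w_add_self, zero_add]
  · rw [om_add_right, om_add_right, h.ef' _ _ hik.symm, h.ef' _ _ hjk.symm, h.ee, h.ee]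
    simp
  · rw [om_add_right, om_add_right, h.ff, h.ff, fe, fe, h.ef' _ _ hik, h.ef' _ _ hjk]
    simp

end Cfsg.Agent.Co2Type.SympT
end

-- part: Co2Type/Dichotomy
section
/-!
# The 8-dimensional orthogonal `F_2`-modules of `Sp6(2)` (R03, Co2 type, piece A1; helper587)
-/

set_option autoImplicit false

namespace Cfsg.Agent.Co2Type.Dichotomy

open Cfsg.Agent.Co2Type.SympT

section Basic

theorem three_le {α : Type*} [Finite α] {a b c : α} (h1 : a ≠ b) (h2 : a ≠ c) (h3 : b ≠ c) :
    3 ≤ Nat.card α := by
  classical
  have := Fintype.ofFinite α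
  rw [Nat.card_eq_fintype_card]
  have h4 : ({a, b, c} : Finset α).card = 3 := Finset.card_eq_three.2 ⟨a, b, c, h1, h2, h3, rfl⟩
  rw [← h4]; exact Finset.card_le_univ _

variable {V : Type*} [AddCommGroup V] [Module (ZMod 2) V]

theorem of_one_smul {x y : V} (h : (1 : ZMod 2) • x = (1 : ZMod 2) • y) : x = y := by
  simpa using h

theorem v_add_self (x : V) : x + x = 0 := ZModModule.add_self x

theorem eq_of_add_eq_zero {x y : V} (h : x + y = 0) : x = y := by
  have := congrArg (· + y) h
  simpa [add_assoc, v_add_self] using this

/-- `1 + A + A²` -/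
def P (A : V ≃ₗ[ZMod 2] V) (x : V) : V := x + A x + A (A x)

theorem P_zero (A : V ≃ₗ[ZMod 2] V) : P A (0 : V) = 0 := by simp [P]

theorem P_add (A : V ≃ₗ[ZMod 2] V) (x y : V) : P A (x + y) = P A x + P A y := by
  simp only [P, map_add]; abel

theorem P_of_fix {A : V ≃ₗ[ZMod 2] V} {x : V} (h : A x = x) : P A x = x := by
  rw [P, h, h, v_add_self, zero_add]

theorem eq_zero_of_P_fix {A : V ≃ₗ[ZMod 2] V} {x : V} (h : A x = x) (h' : P A x = 0) : x = 0 := by
  rw [P_of_fix h] at h'; exact h'

theorem fix_P {A : V ≃ₗ[ZMod 2] V} (h3 : ∀ x, A (A (A x)) = x) (x : V) : A (P A x) = P A x := by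
  simp only [P, map_add, h3]; abel

theorem P_add_P {A : V ≃ₗ[ZMod 2] V} (h3 : ∀ x, A (A (A x)) = x) (x : V) :
    P A (x + P A x) = 0 := by
  rw [P_add, P_of_fix (fix_P h3 x), v_add_self]

theorem P_comm {A B : V ≃ₗ[ZMod 2] V} (hAB : ∀ x, A (B x) = B (A x)) (x : V) :
    A (P B x) = P B (A x) := by
  simp only [P, map_add, hAB]

/-- kernel of `1 + A + A²` -/
def K (A : V ≃ₗ[ZMod 2] V) : Submodule (ZMod 2) V where
  carrier := {x | P A x = 0}
  zero_mem' := P_zero A
  add_mem' := by
    intro x y hx hy
    show P A (x + y) = 0
    rw [P_add, show P A x = 0 from hx, show P A y = 0 from hy, add_zero]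
  smul_mem' := by
    intro c x hx
    rcases zmod2 c with rfl | rfl
    · rw [zero_smul]; exact P_zero A
    · rw [one_smul]; exact hx

theorem mem_K {A : V ≃ₗ[ZMod 2] V} {x : V} : x ∈ K A ↔ P A x = 0 := Iff.rfl

/-- fixed points -/
def Fx (A : V ≃ₗ[ZMod 2] V) : Submodule (ZMod 2) V where
  carrier := {x | A x = x}
  zero_mem' := map_zero A
  add_mem' := by
    intro x y hx hy
    show A (x + y) = x + y
    rw [map_add, show A x = x from hx, show A y = y from hy]
  smul_mem' := by
    intro c x hx
    show A (c • x) = c • x
    rw [map_smul, show A x = x from hx]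

theorem mem_Fx {A : V ≃ₗ[ZMod 2] V} {x : V} : x ∈ Fx A ↔ A x = x := Iff.rfl

variable [Finite V]

theorem small (M : Submodule (ZMod 2) V) (hM : Nat.card M ≤ 8) (X : Submodule (ZMod 2) V)
    (hX : X ≤ M) (φ : V ≃ₗ[ZMod 2] V) (hφ : ∀ x ∈ X, φ x ∈ M) (hφ' : ∀ x ∈ X, φ x ∈ X → x = 0)
    (A : V ≃ₗ[ZMod 2] V) (hA : ∀ x ∈ X, A x ∈ X) (hA' : ∀ x ∈ X, A x = x → x = 0) :
    ∀ x ∈ X, x = 0 := by
  intro x hx
  by_contra hne
  have hle : 3 ≤ Nat.card X := by
    have h01 : (0 : X) ≠ ⟨x, hx⟩ := fun h => hne (congrArg Subtype.val h).symm
    have h02 : (0 : X) ≠ ⟨A x, hA x hx⟩ := fun h => hne (by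
      have h' : A x = 0 := (congrArg Subtype.val h).symm
      exact (map_eq_zero_iff A A.injective).1 h')
    have h12 : (⟨x, hx⟩ : X) ≠ ⟨A x, hA x hx⟩ := fun h => by
      have h' : A x = x := (congrArg Subtype.val h).symm
      exact hne (hA' x hx h')
    exact three_le h01 h02 h12
  have hle2 : Nat.card X * Nat.card X ≤ Nat.card M := by
    rw [← Nat.card_prod]
    refine Nat.card_le_card_of_injective
      (fun p : X × X => (⟨p.1 + φ p.2, M.add_mem (hX p.1.2) (hφ _ p.2.2)⟩ : M)) ?_
    rintro ⟨a, b⟩ ⟨a', b'⟩ h
    have h1 : (a : V) + φ b = a' + φ b' := congrArg Subtype.val h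
    have h2 : φ ((b : V) - b') = (a' : V) - a := by
      have h3 : φ (b : V) = a' + φ b' - a := by rw [← h1]; abel
      rw [map_sub, h3]; abel
    have h3 : (b : V) - b' = 0 := by
      refine hφ' _ (X.sub_mem b.2 b'.2) ?_
      rw [h2]
      exact X.sub_mem a'.2 a.2
    have hb : b = b' := Subtype.ext (sub_eq_zero.1 h3)
    subst hb
    have ha : a = a' := Subtype.ext (add_right_cancel h1)
    rw [ha]
  nlinarith

theorem card_four {X : Submodule (ZMod 2) V} (hX : Nat.card X = 4) {c v : V} (hc : c ∈ X)
    (hv : v ∈ X) (hc0 : c ≠ 0) (hv0 : v ≠ 0) (hcv : c ≠ v) :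
    ∀ x ∈ X, x = 0 ∨ x = c ∨ x = v ∨ x = c + v := by
  classical
  have := Fintype.ofFinite X
  have hcv' : c + v ∈ X := X.add_mem hc hv
  let s : Finset X := {0, ⟨c, hc⟩, ⟨v, hv⟩, ⟨c + v, hcv'⟩}
  have hs : s.card = 4 := by
    have h1 : (⟨v, hv⟩ : X) ∉ ({⟨c + v, hcv'⟩} : Finset X) := by
      rw [Finset.mem_singleton]
      intro h
      have h' : v = c + v := congrArg Subtype.val h
      exact hc0 (by simpa using h')
    have h2 : (⟨c, hc⟩ : X) ∉ ({⟨v, hv⟩, ⟨c + v, hcv'⟩} : Finset X) := by
      rw [Finset.mem_insert, Finset.mem_singleton]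
      rintro (h | h)
      · exact hcv (congrArg Subtype.val h)
      · have h' : c = c + v := congrArg Subtype.val h
        exact hv0 (by simpa using h')
    have h3 : (0 : X) ∉ ({⟨c, hc⟩, ⟨v, hv⟩, ⟨c + v, hcv'⟩} : Finset X) := by
      rw [Finset.mem_insert, Finset.mem_insert, Finset.mem_singleton]
      rintro (h | h | h)
      · exact hc0 (congrArg Subtype.val h).symm
      · exact hv0 (congrArg Subtype.val h).symm
      · have h' : (0 : V) = c + v := congrArg Subtype.val h
        exact hcv (eq_of_add_eq_zero h'.symm)
    rw [Finset.card_insert_of_notMem h3, Finset.card_insert_of_notMem h2,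
      Finset.card_insert_of_notMem h1, Finset.card_singleton]
  have hs' : s = Finset.univ := by
    apply Finset.eq_univ_of_card
    rw [hs, ← hX, Nat.card_eq_fintype_card]
  intro x hx
  have : (⟨x, hx⟩ : X) ∈ s := by rw [hs']; exact Finset.mem_univ _
  simp only [s, Finset.mem_insert, Finset.mem_singleton] at this
  rcases this with h | h | h | h
  · left; exact congrArg Subtype.val h
  · right; left; exact congrArg Subtype.val h
  · right; right; left; exact congrArg Subtype.val h
  · right; right; right; exact congrArg Subtype.val h

/-! ### representations -/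

end Basic

/-- faithful orthogonal 8-dimensional representation of `Sp6(2)` -/
structure Rep (V : Type*) [AddCommGroup V] [Module (ZMod 2) V] where
  ρ : Sp6 →* (V ≃ₗ[ZMod 2] V)
  q : V → ZMod 2
  b : LinearMap.BilinForm (ZMod 2) V
  q_add : ∀ x y, q (x + y) = q x + q y + b x y
  nondeg : ∀ x, (∀ y, b x y = 0) → x = 0
  q_inv : ∀ g x, q (ρ g x) = q x
  inj : Function.Injective ρ
  card : Nat.card V = 256

namespace Rep

variable {V : Type*} [AddCommGroup V] [Module (ZMod 2) V] (R : Rep V)

theorem mul (g h : Sp6) (x : V) : R.ρ (g * h) x = R.ρ g (R.ρ h x) := by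
  rw [map_mul]; rfl

theorem one (x : V) : R.ρ 1 x = x := by
  rw [map_one]; rfl

theorem b_inv (g : Sp6) (x y : V) : R.b (R.ρ g x) (R.ρ g y) = R.b x y := by
  have h1 := R.q_add x y
  have h2 := R.q_add (R.ρ g x) (R.ρ g y)
  rw [← map_add, R.q_inv, R.q_inv, R.q_inv, h1] at h2
  exact (add_left_cancel h2).symm

theorem b_comm (x y : V) : R.b x y = R.b y x := by
  have h1 := R.q_add x y
  have h2 := R.q_add y x
  rw [add_comm y x, h1, add_comm (R.q y)] at h2
  exact add_left_cancel h2

theorem q_zero : R.q 0 = 0 := by
  have h := R.q_add 0 0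
  simpa using h

theorem b_self (x : V) : R.b x x = 0 := by
  have h := R.q_add x x
  rw [v_add_self, R.q_zero] at h
  have : ∀ a b : ZMod 2, 0 = a + a + b → b = 0 := by decide
  exact this _ _ h

include R in
theorem finite : Finite V := by
  have := R.card
  exact (Nat.card_pos_iff.1 (by rw [this]; norm_num)).2

/-- the element `T u * T w` -/
abbrev r (u w : W) : V ≃ₗ[ZMod 2] V := R.ρ (T u * T w)

theorem T_sq (u : W) (x : V) : R.ρ (T u) (R.ρ (T u) x) = x := by
  rw [← R.mul, T_mul_self, R.one]

theorem r_apply (u w : W) (x : V) : R.r u w x = R.ρ (T u) (R.ρ (T w) x) := R.mul _ _ _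

theorem r_cube {u w : W} (h : om u w = 1) (x : V) : R.r u w (R.r u w (R.r u w x)) = x := by
  show R.ρ _ (R.ρ _ (R.ρ _ x)) = x
  rw [← R.mul, ← R.mul]
  have : T u * T w * (T u * T w) * (T u * T w) = 1 := by
    calc T u * T w * (T u * T w) * (T u * T w)
        = (T u * T w * T u) * (T w * T u * T w) := by group
      _ = 1 := by
        rw [T_braid h, T_braid (u := w) (w := u) (by rw [om_comm]; exact h), add_comm w u,
          T_mul_self]
  rw [this, R.one]

theorem T_r {u w : W} (x : V) : R.ρ (T u) (R.r u w x) = R.ρ (T w) x := by
  rw [R.r_apply, R.T_sq]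

/-- `d r d = r⁻¹` -/
theorem T_r' {u w : W} (h : om u w = 1) (x : V) :
    R.ρ (T u) (R.r u w x) = R.r u w (R.r u w (R.ρ (T u) x)) := by
  have h1 : T u * (T u * T w) = (T u * T w) * ((T u * T w) * T u) := by
    calc T u * (T u * T w) = (T u * T u) * T w := by group
      _ = (T u * T w * T u) * (T u * T w * T u) * T w := by
          rw [T_braid h, T_mul_self, T_mul_self]
      _ = (T u * T w) * (T u * T u) * (T w * T u * T w) := by group
      _ = (T u * T w) * ((T u * T w) * T u) := by
          rw [T_mul_self, mul_one, T_braid (u := w) (w := u) (by rw [om_comm]; exact h),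
            add_comm w u, ← T_braid h]
  show R.ρ (T u) (R.ρ (T u * T w) x) = R.ρ (T u * T w) (R.ρ (T u * T w) (R.ρ (T u) x))
  rw [← R.mul, ← R.mul, ← R.mul, h1, mul_assoc (T u * T w)]

theorem comm_apply {g h : Sp6} (hc : g * h = h * g) (x : V) :
    R.ρ g (R.ρ h x) = R.ρ h (R.ρ g x) := by
  rw [← R.mul, ← R.mul, hc]

theorem conj_apply {g h k : Sp6} (hc : g * h = k * g) (x : V) :
    R.ρ g (R.ρ h x) = R.ρ k (R.ρ g x) := by
  rw [← R.mul, ← R.mul, hc]

theorem P_conj {g h k : Sp6} (hc : g * h = k * g) (x : V) :
    R.ρ g (P (R.ρ h) x) = P (R.ρ k) (R.ρ g x) := by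
  simp only [P, map_add, R.conj_apply hc]

/-- `g T(u) T(w) g⁻¹ = T(gu) T(gw)` -/
theorem mul_r (g : Sp6) (u w : W) : g * (T u * T w) = (T (ac g u) * T (ac g w)) * g := by
  rw [← mul_assoc, mul_T g u, mul_assoc, mul_T g w, mul_assoc]

theorem mem_K_conj {u w : W} (g : Sp6) {x : V} (hx : x ∈ K (R.r u w)) :
    R.ρ g x ∈ K (R.r (ac g u) (ac g w)) := by
  rw [mem_K] at hx ⊢
  rw [← R.P_conj (mul_r g u w), hx, map_zero]

/-- vectors of `K` fixed by `T u` -/
def M (u w : W) : Submodule (ZMod 2) V := K (R.r u w) ⊓ Fx (R.ρ (T u))

theorem mem_M {u w : W} {x : V} :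
    x ∈ R.M u w ↔ P (R.r u w) x = 0 ∧ R.ρ (T u) x = x := Iff.rfl

theorem M_decomp {u w : W} (h : om u w = 1) {x : V} (hx : x ∈ K (R.r u w)) :
    x + R.ρ (T u) x ∈ R.M u w ∧
      x + R.r u w x + R.r u w (R.ρ (T u) x) ∈ R.M u w ∧
      x = (x + R.r u w x + R.r u w (R.ρ (T u) x)) + R.r u w (x + R.ρ (T u) x) := by
  have hP : P (R.r u w) x = 0 := hx
  have hPd : P (R.r u w) (R.ρ (T u) x) = 0 := by
    have h1 := R.r_cube h
    have h2 : R.ρ (T u) (P (R.r u w) x) = P (R.r u w) (R.ρ (T u) x) := by
      simp only [P, map_add, R.T_r' h, h1]
      abel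
    rw [← h2, hP, map_zero]
  have hPr : ∀ y, P (R.r u w) y = 0 → P (R.r u w) (R.r u w y) = 0 := by
    intro y hy
    have : P (R.r u w) (R.r u w y) = R.r u w (P (R.r u w) y) := by
      simp only [P, map_add]
    rw [this, hy, map_zero]
  refine ⟨⟨?_, ?_⟩, ⟨?_, ?_⟩, ?_⟩
  · show P _ _ = 0
    rw [P_add, hP, hPd, add_zero]
  · show R.ρ (T u) _ = _
    rw [map_add, R.T_sq, add_comm]
  · show P _ _ = 0
    rw [P_add, P_add, hP, hPr _ hP, hPr _ hPd]; simp
  · show R.ρ (T u) _ = _
    rw [map_add, map_add, R.T_r' h, R.T_r' h, R.T_sq]
    have h1 : R.r u w (R.r u w x) = x + R.r u w x := by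
      apply eq_of_add_eq_zero
      rw [← hP, P]; abel
    have h2 : R.r u w (R.r u w (R.ρ (T u) x)) = R.ρ (T u) x + R.r u w (R.ρ (T u) x) := by
      apply eq_of_add_eq_zero
      rw [← hPd, P]; abel
    rw [h1, h2]
    apply of_one_smul
    match_scalars <;> decide
  · rw [map_add]
    apply of_one_smul
    match_scalars <;> decide

theorem card_pow (X : Submodule (ZMod 2) V) [Finite V] : ∃ n, Nat.card X = 2 ^ n := by
  have : Module.Finite (ZMod 2) X := Module.Finite.of_finite
  refine ⟨Module.finrank (ZMod 2) X, ?_⟩
  have h := Module.natCard_eq_pow_finrank (K := ZMod 2) (V := X)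
  rwa [Nat.card_zmod] at h

theorem card_M_sq [Finite V] {u w : W} (h : om u w = 1) :
    Nat.card (R.M u w) * Nat.card (R.M u w) ≤ Nat.card (K (R.r u w)) := by
  rw [← Nat.card_prod]
  have h3 := R.r_cube h
  have hmem : ∀ x ∈ R.M u w, R.r u w x ∈ K (R.r u w) := by
    intro x hx
    show P _ _ = 0
    have : P (R.r u w) (R.r u w x) = R.r u w (P (R.r u w) x) := by
      simp only [P, map_add]
    rw [this, show P (R.r u w) x = 0 from hx.1, map_zero]
  refine Nat.card_le_card_of_injective
    (fun p : R.M u w × R.M u w =>
      (⟨p.1 + R.r u w p.2, (K (R.r u w)).add_mem p.1.2.1 (hmem _ p.2.2)⟩ : K (R.r u w))) ?_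
  have key : ∀ x ∈ R.M u w, ∀ y ∈ R.M u w, x + R.r u w y = 0 → x = 0 ∧ y = 0 := by
    intro x hx y hy hxy
    have h1 : x = R.r u w y := eq_of_add_eq_zero hxy
    have h2 : R.r u w y = R.r u w (R.r u w y) := by
      have h4 : R.ρ (T u) x = R.ρ (T u) (R.r u w y) := by rw [h1]
      rw [R.T_r' h, show R.ρ (T u) x = x from hx.2, show R.ρ (T u) y = y from hy.2, h1] at h4
      exact h4
    have h5 : R.r u w y = y := ((R.r u w).injective h2).symm
    have hy0 : y = 0 := eq_zero_of_P_fix h5 hy.1
    refine ⟨?_, hy0⟩
    rw [h1, hy0, map_zero]
  rintro ⟨a, b⟩ ⟨a', b'⟩ hab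
  have h1 : (a : V) + R.r u w b = a' + R.r u w b' := congrArg Subtype.val hab
  have h2 := key (a + a') ((R.M u w).add_mem a.2 a'.2) (b + b') ((R.M u w).add_mem b.2 b'.2) (by
    rw [map_add]
    have : (a : V) + a' + (R.r u w b + R.r u w b') = (a + R.r u w b) + (a' + R.r u w b') := by abel
    rw [this, h1, v_add_self])
  have ha : a = a' := Subtype.ext (eq_of_add_eq_zero h2.1)
  have hb : b = b' := Subtype.ext (eq_of_add_eq_zero h2.2)
  rw [ha, hb]

theorem card_M_le [Finite V] {u w : W} (h : om u w = 1) (hK : Nat.card (K (R.r u w)) < 256) :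
    Nat.card (R.M u w) ≤ 8 := by
  have h1 := R.card_M_sq h
  obtain ⟨n, hn⟩ := card_pow (R.M u w)
  rw [hn] at h1 ⊢
  have h2 : 2 ^ n * 2 ^ n < 256 := lt_of_le_of_lt h1 hK
  have : n < 4 := by
    by_contra hc
    have : 2 ^ 4 ≤ 2 ^ n := Nat.pow_le_pow_right (by norm_num) (by omega)
    nlinarith only [hK, h1, this]
  calc 2 ^ n ≤ 2 ^ 3 := Nat.pow_le_pow_right (by norm_num) (by omega)
    _ = 8 := by norm_num

/-- an element fixing `M` pointwise and commuting with `r` fixes `K` pointwise -/
theorem fix_K {u w : W} (h : om u w = 1) (A : V ≃ₗ[ZMod 2] V)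
    (hA : ∀ x, A (R.r u w x) = R.r u w (A x)) (hM : ∀ x ∈ R.M u w, A x = x) :
    ∀ x ∈ K (R.r u w), A x = x := by
  intro x hx
  obtain ⟨h1, h2, h3⟩ := R.M_decomp h hx
  rw [h3, map_add, hM _ h2, hA, hM _ h1]

theorem comm_T_of_ac {g : Sp6} {u : W} (h : ac g u = u) : g * T u = T u * g := by
  rw [mul_T, h]

theorem comm_r_of_ac {g : Sp6} {u w : W} (h : ac g u = u) (h' : ac g w = w) :
    g * (T u * T w) = (T u * T w) * g := by
  rw [mul_r, h, h']

theorem M_inv {u w : W} {g : Sp6} (h : ac g u = u) (h' : ac g w = w) {x : V}
    (hx : x ∈ R.M u w) : R.ρ g x ∈ R.M u w := by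
  refine ⟨?_, ?_⟩
  · have := R.mem_K_conj g hx.1
    rwa [h, h'] at this
  · show R.ρ (T u) (R.ρ g x) = R.ρ g x
    rw [← R.comm_apply (comm_T_of_ac h), show R.ρ (T u) x = x from hx.2]

theorem main_identity {A B : V ≃ₗ[ZMod 2] V} (hA3 : ∀ x, A (A (A x)) = x)
    (hBA : ∀ x, B (A x) = A (B x)) {x : V} (h1 : P A x = 0)
    (h2 : P B x = 0) (h3 : P (A * B) x = 0) (h4 : P (A * A * B) x = 0) : x = 0 := by
  have h5 : P A (P B x) = 0 := by rw [h2, P_zero]
  have e : x = P A x + P B x + P (A * B) x + P (A * A * B) x + P A (P B x) := by
    simp only [P, LinearEquiv.mul_apply, map_add, hBA, hA3]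
    apply of_one_smul
    match_scalars <;> decide
  rw [e, h1, h2, h3, h4, P_zero]
  simp

theorem r_trivial [Finite V] {e f : Fin 3 → W} (hF : Frame e f)
    (hK : Nat.card (K (R.r (e 0) (f 0))) < 256) :
    ∀ x ∈ K (R.r (e 0) (f 0)), R.r (e 1) (f 1) x = x := by
  have hM := R.card_M_le (hF.ef 0) hK
  obtain ⟨s, s1, s2, s3, s4, s5, s6⟩ := hF.exists_swap 1 2 0 (by decide) (by decide) (by decide)
  have fe : ∀ i j, i ≠ j → om (f i) (e j) = 0 := fun i j hij => by
    rw [om_comm]; exact hF.ef' _ _ hij.symm
  set A := R.r (e 1) (f 1) with hAdef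
  set B := R.r (e 2) (f 2) with hBdef
  have hA3 : ∀ x, A (A (A x)) = x := R.r_cube (hF.ef 1)
  have hB3 : ∀ x, B (B (B x)) = x := R.r_cube (hF.ef 2)
  -- fixing vectors
  have acT : ∀ (u v : W), om v u = 0 → ac (T u) v = v := fun u v h => ac_T_of_zero h
  have ac1 : ∀ j, j ≠ 1 → ac (T (e 1) * T (f 1)) (e j) = e j := by
    intro j hj
    rw [ac_mul, acT _ _ (hF.ef' _ _ hj), acT _ _ (hF.ee _ _)]
  have ac1' : ∀ j, j ≠ 1 → ac (T (e 1) * T (f 1)) (f j) = f j := by
    intro j hj
    rw [ac_mul, acT _ _ (hF.ff _ _), acT _ _ (fe _ _ hj)]
  have ac2 : ∀ j, j ≠ 2 → ac (T (e 2) * T (f 2)) (e j) = e j := by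
    intro j hj
    rw [ac_mul, acT _ _ (hF.ef' _ _ hj), acT _ _ (hF.ee _ _)]
  have ac2' : ∀ j, j ≠ 2 → ac (T (e 2) * T (f 2)) (f j) = f j := by
    intro j hj
    rw [ac_mul, acT _ _ (hF.ff _ _), acT _ _ (fe _ _ hj)]
  have hBA : ∀ x, B (A x) = A (B x) := by
    intro x
    exact R.comm_apply (comm_r_of_ac (ac2 1 (by decide)) (ac2' 1 (by decide))) x
  have hMA : ∀ x ∈ R.M (e 0) (f 0), A x ∈ R.M (e 0) (f 0) := fun x hx =>
    R.M_inv (ac1 0 (by decide)) (ac1' 0 (by decide)) hx
  have hMB : ∀ x ∈ R.M (e 0) (f 0), B x ∈ R.M (e 0) (f 0) := fun x hx =>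
    R.M_inv (ac2 0 (by decide)) (ac2' 0 (by decide)) hx
  -- s
  have hsA : ∀ x, R.ρ s (A x) = B (R.ρ s x) := by
    intro x
    refine R.conj_apply ?_ x
    rw [mul_r, s1, s2]
  -- X1
  have hX1 : ∀ x ∈ (R.M (e 0) (f 0) ⊓ Fx B ⊓ K A : Submodule (ZMod 2) V), x = 0 := by
    refine small (R.M (e 0) (f 0)) hM _ (fun x hx => hx.1.1) (R.ρ s) ?_ ?_ A ?_ ?_
    · intro x hx
      exact R.M_inv s5 s6 hx.1.1
    · intro x hx hx'
      have h1 : B (R.ρ s x) = R.ρ s x := hx'.1.2
      rw [← hsA] at h1
      exact eq_zero_of_P_fix ((R.ρ s).injective h1) hx.2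
    · intro x hx
      refine ⟨⟨hMA _ hx.1.1, ?_⟩, ?_⟩
      · show B (A x) = A x
        rw [hBA, show B x = x from hx.1.2]
      · show P A (A x) = 0
        have : P A (A x) = A (P A x) := by simp only [P, map_add]
        rw [this, show P A x = 0 from hx.2, map_zero]
    · intro x hx h
      exact eq_zero_of_P_fix h hx.2
  -- t
  have ht1 : ac (T (e 1)) (e 0) = e 0 := acT _ _ (hF.ee _ _)
  have ht2 : ac (T (e 1)) (f 0) = f 0 := acT _ _ (fe _ _ (by decide))
  have htB : ∀ x, R.ρ (T (e 1)) (B x) = B (R.ρ (T (e 1)) x) := by
    intro x
    exact R.comm_apply (comm_r_of_ac (acT _ _ (hF.ee _ _)) (acT _ _ (fe _ _ (by decide)))) x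
  have htA : ∀ x, R.ρ (T (e 1)) (A x) = A (A (R.ρ (T (e 1)) x)) := R.T_r' (hF.ef 1)
  have hX2 : ∀ x ∈ (R.M (e 0) (f 0) ⊓ Fx (A * B) ⊓ K A : Submodule (ZMod 2) V), x = 0 := by
    refine small (R.M (e 0) (f 0)) hM _ (fun x hx => hx.1.1) (R.ρ (T (e 1))) ?_ ?_ A ?_ ?_
    · intro x hx
      exact R.M_inv ht1 ht2 hx.1.1
    · intro x hx hx'
      have h1 : A (B (R.ρ (T (e 1)) x)) = R.ρ (T (e 1)) x := hx'.1.2
      have h2 : A (B x) = x := hx.1.2
      have h3 : R.ρ (T (e 1)) (A x) = R.ρ (T (e 1)) x := by
        calc R.ρ (T (e 1)) (A x) = R.ρ (T (e 1)) (A (A (B x))) := by rw [h2]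
          _ = A (A (A (A (R.ρ (T (e 1)) (B x))))) := by rw [htA, htA]
          _ = A (B (R.ρ (T (e 1)) x)) := by rw [hA3, htB]
          _ = _ := h1
      exact eq_zero_of_P_fix ((R.ρ (T (e 1))).injective h3) hx.2
    · intro x hx
      refine ⟨⟨hMA _ hx.1.1, ?_⟩, ?_⟩
      · show A (B (A x)) = A x
        rw [hBA, show A (B x) = x from hx.1.2]
      · show P A (A x) = 0
        have : P A (A x) = A (P A x) := by simp only [P, map_add]
        rw [this, show P A x = 0 from hx.2, map_zero]
    · intro x hx h
      exact eq_zero_of_P_fix h hx.2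
  apply R.fix_K (hF.ef 0) A
  · intro x
    exact R.comm_apply (comm_r_of_ac (ac1 0 (by decide)) (ac1' 0 (by decide))) x
  · intro x hx
    have hP : ∀ C : V ≃ₗ[ZMod 2] V, (∀ y ∈ R.M (e 0) (f 0), C y ∈ R.M (e 0) (f 0)) →
        ∀ y ∈ R.M (e 0) (f 0), P C y ∈ R.M (e 0) (f 0) := by
      intro C hC y hy
      exact Submodule.add_mem _ (Submodule.add_mem _ hy (hC _ hy)) (hC _ (hC _ hy))
    have hx1M : x + P A x ∈ R.M (e 0) (f 0) := Submodule.add_mem _ hx (hP A hMA x hx)
    have hPA : P A (x + P A x) = 0 := P_add_P hA3 x
    generalize hx1 : x + P A x = x1 at hx1M hPA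
    have hAP : ∀ (C : V ≃ₗ[ZMod 2] V), (∀ y, A (C y) = C (A y)) → ∀ y, P A y = 0 →
        P A (P C y) = 0 := by
      intro C hC y hy
      have : P A (P C y) = P C (P A y) := by
        show P C y + A (P C y) + A (A (P C y)) = P C (y + A y + A (A y))
        rw [P_comm hC, P_comm hC, P_add, P_add]
      rw [this, hy, P_zero]
    have y1 : P B x1 = 0 := by
      refine hX1 _ ⟨⟨hP B hMB _ hx1M, fix_P hB3 x1⟩, hAP B (fun y => (hBA y).symm) _ hPA⟩
    have hABM : ∀ y ∈ R.M (e 0) (f 0), (A * B) y ∈ R.M (e 0) (f 0) := fun y hy => hMA _ (hMB _ hy)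
    have hAABM : ∀ y ∈ R.M (e 0) (f 0), (A * A * B) y ∈ R.M (e 0) (f 0) := fun y hy =>
      hMA _ (hMA _ (hMB _ hy))
    have hAB3 : ∀ y, (A * B) ((A * B) ((A * B) y)) = y := by
      intro y
      simp only [LinearEquiv.mul_apply, hBA, hA3, hB3]
    have hAAB3 : ∀ y, (A * A * B) ((A * A * B) ((A * A * B) y)) = y := by
      intro y
      simp only [LinearEquiv.mul_apply, hBA, hA3, hB3]
    have y2 : P (A * B) x1 = 0 := by
      refine hX2 _ ⟨⟨hP _ hABM _ hx1M, fix_P hAB3 x1⟩, hAP _ (fun y => ?_) _ hPA⟩
      simp only [LinearEquiv.mul_apply, hBA]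
    have y3 : P (A * A * B) x1 = 0 := by
      have hc : ∀ y, R.ρ (T (e 1)) ((A * A * B) y) = (A * B) (R.ρ (T (e 1)) y) := by
        intro y
        simp only [LinearEquiv.mul_apply, htA, htB, hA3]
      have hPc : R.ρ (T (e 1)) (P (A * A * B) x1) = P (A * B) (R.ρ (T (e 1)) x1) := by
        simp only [P, map_add, hc]
      have h0 : R.ρ (T (e 1)) (P (A * A * B) x1) = 0 := by
        refine hX2 _ ⟨⟨R.M_inv ht1 ht2 (hP _ hAABM _ hx1M), ?_⟩, ?_⟩
        · rw [hPc]; exact fix_P hAB3 _
        · rw [hPc]
          show P A _ = 0
          apply hAP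
          · intro y
            simp only [LinearEquiv.mul_apply, hBA]
          · have : P A (R.ρ (T (e 1)) x1) = R.ρ (T (e 1)) (P A x1) := by
              simp only [P, map_add, htA, hA3]; abel
            rw [this, hPA, map_zero]
      exact (map_eq_zero_iff _ (R.ρ (T (e 1))).injective).1 h0
    have h0 : x1 = 0 := main_identity hA3 hBA hPA y1 y2 y3
    rw [h0] at hx1
    have h1 : P A x = x := (eq_of_add_eq_zero hx1).symm
    rw [← h1]; exact fix_P hA3 x

theorem r_trivial' [Finite V] {e f : Fin 3 → W} (hF : Frame e f)
    (hK : ∀ u w, om u w = 1 → Nat.card (K (R.r u w)) < 256) {i j : Fin 3} (hij : i ≠ j) :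
    ∀ x ∈ K (R.r (e i) (f i)), R.r (e j) (f j) x = x := by
  have hσ : ∀ i j : Fin 3, i ≠ j → ∃ σ : Equiv.Perm (Fin 3), σ 0 = i ∧ σ 1 = j := by decide
  obtain ⟨σ, h0, h1⟩ := hσ i j hij
  have h := R.r_trivial (hF.perm σ) (hK _ _ ((hF.perm σ).ef 0))
  simpa only [h0, h1] using h

theorem card_K_le [Finite V] {u w u' w' : W} (h : om u w = 1) (h' : om u' w' = 1) :
    Nat.card (K (R.r u w)) ≤ Nat.card (K (R.r u' w')) := by
  obtain ⟨g, h1, h2⟩ := exists_hyperbolic h h'
  refine Nat.card_le_card_of_injective
    (fun x : K (R.r u w) => (⟨R.ρ g x, by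
      have := R.mem_K_conj g x.2
      rwa [h1, h2] at this⟩ : K (R.r u' w'))) ?_
  intro x y hxy
  exact Subtype.ext ((R.ρ g).injective (congrArg Subtype.val hxy))

theorem card_K_eq [Finite V] {u w u' w' : W} (h : om u w = 1) (h' : om u' w' = 1) :
    Nat.card (K (R.r u w)) = Nat.card (K (R.r u' w')) :=
  le_antisymm (R.card_K_le h h') (R.card_K_le h' h)

/-- the spin alternative -/
def Spin : Prop := ∀ u w, om u w = 1 → ∀ x,
  R.ρ (T u) x + R.ρ (T w) x + R.ρ (T (u + w)) x = 0

theorem sum_eq {u w : W} (h : om u w = 1) (x : V) :
    R.ρ (T u) x + R.ρ (T w) x + R.ρ (T (u + w)) x = P (R.r u w) (R.ρ (T u) x) := by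
  have h1 : R.ρ (T (u + w)) x = R.r u w (R.ρ (T u) x) := by
    rw [← T_braid h, R.mul]
  have h2 : R.ρ (T w) x = R.r u w (R.r u w (R.ρ (T u) x)) := by
    rw [← R.T_r' h, R.T_r]
  rw [h1, h2, P]; abel

theorem spin_or [Finite V] : R.Spin ∨ ∀ u w, om u w = 1 → Nat.card (K (R.r u w)) < 256 := by
  by_cases hc : ∃ u w, om u w = 1 ∧ ¬ Nat.card (K (R.r u w)) < 256
  · left
    obtain ⟨u, w, h, hcard⟩ := hc
    intro u' w' h'
    have h1 : Nat.card (K (R.r u' w')) = Nat.card V := by
      have h2 : Nat.card (K (R.r u' w')) ≤ Nat.card V :=
        Nat.card_le_card_of_injective _ Subtype.val_injective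
      have h3 := R.card_K_eq h h'
      have h4 := R.card
      omega
    have htop : K (R.r u' w') = ⊤ := by
      have h2 : Nat.card (K (R.r u' w')).toAddSubgroup = Nat.card V := h1
      have h3 := AddSubgroup.eq_top_of_card_eq _ h2
      rw [eq_top_iff]
      intro x _
      have : x ∈ (K (R.r u' w')).toAddSubgroup := by rw [h3]; trivial
      exact this
    intro x
    rw [R.sum_eq h']
    have : R.ρ (T u') x ∈ K (R.r u' w') := by rw [htop]; trivial
    exact this
  · right
    intro u w h
    by_contra hcon
    exact hc ⟨u, w, h, hcon⟩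

/-- non-spin case -/
abbrev NS : Prop := ∀ u w, om u w = 1 → Nat.card (K (R.r u w)) < 256

theorem exists_ne_zero {u w : W} (h : om u w = 1) : ∃ x ∈ K (R.r u w), x ≠ 0 := by
  by_contra hc
  push Not at hc
  have h3 := R.r_cube h
  have h1 : ∀ x, R.r u w x = x := by
    intro x
    have h4 := hc _ (P_add_P h3 x)
    have h5 : P (R.r u w) x = x := (eq_of_add_eq_zero h4).symm
    rw [← h5]; exact fix_P h3 x
  have h2 : T u * T w = 1 := by
    apply R.inj
    rw [map_one]
    ext x
    exact h1 x
  have h4 : T u = T w := by
    rw [← T_inv w]; exact eq_inv_of_mul_eq_one_left h2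
  rw [T_inj h4, om_self] at h
  exact absurd h (by decide)

theorem indep [Finite V] {e f : Fin 3 → W} (hF : Frame e f) (hns : R.NS) {x y z : V}
    (hx : x ∈ K (R.r (e 0) (f 0))) (hy : y ∈ K (R.r (e 1) (f 1)))
    (hz : z ∈ K (R.r (e 2) (f 2))) (hxyz : x + (y + z) = 0) : x = 0 ∧ y = 0 ∧ z = 0 := by
  have h1 : P (R.r (e 0) (f 0)) (x + (y + z)) = 0 := by rw [hxyz, P_zero]
  rw [P_add, P_add, show P (R.r (e 0) (f 0)) x = 0 from hx, zero_add,
    P_of_fix (R.r_trivial' hF hns (i := 1) (j := 0) (by decide) y hy),
    P_of_fix (R.r_trivial' hF hns (i := 2) (j := 0) (by decide) z hz)] at h1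
  have h2 : P (R.r (e 1) (f 1)) (y + z) = 0 := by rw [h1, P_zero]
  rw [P_add, show P (R.r (e 1) (f 1)) y = 0 from hy, zero_add,
    P_of_fix (R.r_trivial' hF hns (i := 2) (j := 1) (by decide) z hz)] at h2
  rw [h2, add_zero] at h1
  rw [h1, h2, add_zero, add_zero] at hxyz
  exact ⟨hxyz, h1, h2⟩

theorem card_K_prod [Finite V] {e f : Fin 3 → W} (hF : Frame e f) (hns : R.NS) :
    Nat.card (K (R.r (e 0) (f 0))) *
      (Nat.card (K (R.r (e 1) (f 1))) * Nat.card (K (R.r (e 2) (f 2)))) ≤ 256 := by
  rw [← R.card, ← Nat.card_prod, ← Nat.card_prod]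
  refine Nat.card_le_card_of_injective (fun p : K (R.r (e 0) (f 0)) ×
    (K (R.r (e 1) (f 1)) × K (R.r (e 2) (f 2))) => (p.1 : V) + (p.2.1 + p.2.2)) ?_
  rintro ⟨a, b, c⟩ ⟨a', b', c'⟩ hab
  have h1 : (a : V) + (b + c) = a' + (b' + c') := hab
  obtain ⟨k1, k2, k3⟩ := R.indep hF hns (Submodule.add_mem _ a.2 a'.2)
    (Submodule.add_mem _ b.2 b'.2) (Submodule.add_mem _ c.2 c'.2) (by
      have : (a : V) + a' + (b + b' + (c + c')) = (a + (b + c)) + (a' + (b' + c')) := by abel
      rw [this, h1, v_add_self])
  have ha : a = a' := Subtype.ext (eq_of_add_eq_zero k1)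
  have hb : b = b' := Subtype.ext (eq_of_add_eq_zero k2)
  have hc : c = c' := Subtype.ext (eq_of_add_eq_zero k3)
  rw [ha, hb, hc]

theorem r_mem_K {u w : W} {x : V} (hx : x ∈ K (R.r u w)) : R.r u w x ∈ K (R.r u w) := by
  show P _ _ = 0
  have : P (R.r u w) (R.r u w x) = R.r u w (P (R.r u w) x) := by simp only [P, map_add]
  rw [this, show P (R.r u w) x = 0 from hx, map_zero]

theorem three_le_card_K [Finite V] {u w : W} (h : om u w = 1) :
    3 ≤ Nat.card (K (R.r u w)) := by
  obtain ⟨x, hx, hx0⟩ := R.exists_ne_zero h
  have h01 : (0 : K (R.r u w)) ≠ ⟨x, hx⟩ := fun h => hx0 (congrArg Subtype.val h).symm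
  have h02 : (0 : K (R.r u w)) ≠ ⟨R.r u w x, R.r_mem_K hx⟩ := fun h => hx0 (by
    have h' : R.r u w x = 0 := (congrArg Subtype.val h).symm
    exact (map_eq_zero_iff (R.r u w) (R.r u w).injective).1 h')
  have h12 : (⟨x, hx⟩ : K (R.r u w)) ≠ ⟨R.r u w x, R.r_mem_K hx⟩ := fun h => by
    have h' : R.r u w x = x := (congrArg Subtype.val h).symm
    exact hx0 (eq_zero_of_P_fix h' hx)
  exact three_le h01 h02 h12

theorem card_K [Finite V] (hns : R.NS) {u w : W} (h : om u w = 1) :
    Nat.card (K (R.r u w)) = 4 := by
  have hge := R.three_le_card_K h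
  have hle : Nat.card (K (R.r u w)) * (Nat.card (K (R.r u w)) * Nat.card (K (R.r u w))) ≤ 256 :=
    (congrArg₂ (· * ·) (R.card_K_eq h (frame_std.ef 0))
      (congrArg₂ (· * ·) (R.card_K_eq h (frame_std.ef 1))
        (R.card_K_eq h (frame_std.ef 2)))).trans_le (R.card_K_prod frame_std hns)
  obtain ⟨n, hn⟩ := card_pow (K (R.r u w))
  rw [hn] at hge hle ⊢
  have hn2 : 2 ≤ n := by
    by_contra hc
    have : n = 0 ∨ n = 1 := by omega
    rcases this with h | h <;> subst h <;> norm_num at hge
  have hn3 : n < 3 := by
    by_contra hc
    have : 2 ^ 3 ≤ 2 ^ n := Nat.pow_le_pow_right (by norm_num) (by omega)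
    have h8 : 8 * (8 * 8) ≤ 2 ^ n * (2 ^ n * 2 ^ n) := by
      apply Nat.mul_le_mul this (Nat.mul_le_mul this this)
    omega
  have : n = 2 := by omega
  rw [this]; norm_num

theorem orth {u w : W} {x y : V} (hx : x ∈ K (R.r u w)) (hy : R.r u w y = y) :
    R.b x y = 0 := by
  have h1 : R.b (R.r u w x) y = R.b x y := by
    conv_lhs => rw [← hy]
    exact R.b_inv _ _ _
  have h2 : R.b (R.r u w (R.r u w x)) y = R.b x y := by
    conv_lhs => rw [← hy]
    rw [← h1]
    exact R.b_inv _ _ _
  have h3 : R.b (P (R.r u w) x) y = R.b x y + R.b x y + R.b x y := by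
    rw [P, map_add, map_add, LinearMap.add_apply, LinearMap.add_apply, h1, h2]
  rw [show P (R.r u w) x = 0 from hx, map_zero, LinearMap.zero_apply] at h3
  have : ∀ a : ZMod 2, 0 = a + a + a → a = 0 := by decide
  exact this _ h3

theorem exists_root [Finite V] (hns : R.NS) {u w : W} (h : om u w = 1) :
    ∃ a, a ≠ 0 ∧ R.ρ (T u) a = a ∧ a ∈ K (R.r u w) ∧ (∀ x ∈ R.M u w, x = 0 ∨ x = a) ∧
      (∀ x ∈ K (R.r u w), x = 0 ∨ x = a ∨ x = R.r u w a ∨ x = a + R.r u w a) := by
  have hcard := R.card_K hns h
  have hM := R.card_M_sq h
  rw [hcard] at hM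
  obtain ⟨x, hx, hx0⟩ := R.exists_ne_zero h
  obtain ⟨h1, h2, h3⟩ := R.M_decomp h hx
  have hM2 : Nat.card (R.M u w) < 3 := by
    by_contra hc
    nlinarith only [hM, hc]
  obtain ⟨a, haM, ha0⟩ : ∃ a ∈ R.M u w, a ≠ 0 := by
    by_contra hc
    push Not at hc
    rw [hc _ h1, hc _ h2, map_zero, add_zero] at h3
    exact hx0 h3
  have hMa : ∀ m ∈ R.M u w, m = 0 ∨ m = a := by
    intro m hm
    by_contra hc
    push Not at hc
    have := three_le (a := (0 : R.M u w)) (b := ⟨a, haM⟩) (c := ⟨m, hm⟩)
      (fun h => ha0 (congrArg Subtype.val h).symm) (fun h => hc.1 (congrArg Subtype.val h).symm)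
      (fun h => hc.2 (congrArg Subtype.val h).symm)
    omega
  refine ⟨a, ha0, haM.2, haM.1, hMa, ?_⟩
  intro y hy
  obtain ⟨h1, h2, h3⟩ := R.M_decomp h hy
  rcases hMa _ h1 with h4 | h4 <;> rcases hMa _ h2 with h5 | h5 <;> rw [h4, h5] at h3
  · left; rw [h3, map_zero, add_zero]
  · right; left; rw [h3, map_zero, add_zero]
  · right; right; left; rw [h3, zero_add]
  · right; right; right; exact h3

theorem root_form [Finite V] {u w : W} (h : om u w = 1) {a : V} (ha0 : a ≠ 0)
    (ha : R.ρ (T u) a = a) (haK : a ∈ K (R.r u w))
    (hK : ∀ x ∈ K (R.r u w), x = 0 ∨ x = a ∨ x = R.r u w a ∨ x = a + R.r u w a) :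
    R.q a = 1 ∧ R.b a (R.r u w a) = 1 ∧
      ∀ x ∈ K (R.r u w), R.ρ (T u) x = x + R.b x a • a := by
  have h3 := R.r_cube h
  have hra : R.r u w (R.r u w a) = a + R.r u w a := by
    apply eq_of_add_eq_zero
    have : P (R.r u w) a = 0 := haK
    rw [← this, P]; abel
  have hq1 : R.q (R.r u w a) = R.q a := R.q_inv _ _
  have hq2 : R.q (a + R.r u w a) = R.q a := by rw [← hra, R.q_inv, hq1]
  have hb : R.b a (R.r u w a) = R.q a := by
    have := R.q_add a (R.r u w a)
    rw [hq1, hq2] at this
    have h4 : ∀ x y : ZMod 2, x = x + x + y → y = x := by decide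
    exact h4 _ _ this
  have hqa : R.q a = 1 := by
    rcases zmod2 (R.q a) with h4 | h4
    · exfalso
      rw [h4] at hb
      apply ha0
      apply R.nondeg
      intro y
      have e : y = (y + P (R.r u w) y) + P (R.r u w) y := by
        rw [add_assoc, v_add_self, add_zero]
      rw [e, map_add, R.orth haK (fix_P h3 y), add_zero]
      have hy : y + P (R.r u w) y ∈ K (R.r u w) := P_add_P h3 y
      rcases hK _ hy with h5 | h5 | h5 | h5 <;> rw [h5]
      · exact map_zero _
      · exact R.b_self a
      · exact hb
      · rw [map_add, R.b_self, hb, add_zero]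
    · exact h4
  rw [hqa] at hb
  refine ⟨hqa, hb, ?_⟩
  have hb' : R.b (R.r u w a) a = 1 := by rw [R.b_comm]; exact hb
  have hdr : R.ρ (T u) (R.r u w a) = a + R.r u w a := by rw [R.T_r' h, ha, hra]
  intro x hx
  rcases hK _ hx with h5 | h5 | h5 | h5 <;> rw [h5]
  · simp
  · rw [ha, R.b_self, zero_smul, add_zero]
  · rw [hdr, hb', one_smul, add_comm]
  · rw [map_add, map_add, LinearMap.add_apply, hb', R.b_self, hdr, ha, zero_add, one_smul]
    abel

/-- an element fixing `u` and `w` is trivial on `K` -/
theorem fix_K_of_ac [Finite V] (hns : R.NS) {u w : W} (h : om u w = 1) {g : Sp6}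
    (h1 : ac g u = u) (h2 : ac g w = w) {x : V} (hx : x ∈ K (R.r u w)) : R.ρ g x = x := by
  obtain ⟨a, ha0, ha1, ha2, hM, -⟩ := R.exists_root hns h
  refine R.fix_K h (R.ρ g) (R.comm_apply (comm_r_of_ac h1 h2)) ?_ x hx
  intro m hm
  rcases hM m hm with h3 | h3
  · rw [h3, map_zero]
  · rw [h3]
    rcases hM _ (R.M_inv h1 h2 (⟨ha2, ha1⟩ : a ∈ R.M u w)) with h4 | h4
    · exact absurd ((map_eq_zero_iff _ (R.ρ g).injective).1 h4) ha0
    · exact h4

/-! ### the common fixed space of a frame -/

/-- common fixed points of the three elements of order 3 -/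
def CF (e f : Fin 3 → W) : Submodule (ZMod 2) V :=
  Fx (R.r (e 0) (f 0)) ⊓ Fx (R.r (e 1) (f 1)) ⊓ Fx (R.r (e 2) (f 2))

theorem mem_CF {e f : Fin 3 → W} {x : V} : x ∈ R.CF e f ↔ ∀ i, R.r (e i) (f i) x = x := by
  constructor
  · intro h i
    fin_cases i
    · exact h.1.1
    · exact h.1.2
    · exact h.2
  · intro h
    exact ⟨⟨h 0, h 1⟩, h 2⟩

theorem r_comm {e f : Fin 3 → W} (hF : Frame e f) {i j : Fin 3} (hij : i ≠ j) (x : V) :
    R.r (e i) (f i) (R.r (e j) (f j) x) = R.r (e j) (f j) (R.r (e i) (f i) x) := by
  refine R.comm_apply (comm_r_of_ac ?_ ?_) x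
  · rw [ac_mul, ac_T_of_zero (hF.ef' _ _ hij.symm), ac_T_of_zero (hF.ee _ _)]
  · rw [ac_mul, ac_T_of_zero (hF.ff _ _), ac_T_of_zero (by rw [om_comm]; exact hF.ef' _ _ hij)]

theorem decomp [Finite V] {e f : Fin 3 → W} (hF : Frame e f) (x : V) :
    ∃ x0 ∈ K (R.r (e 0) (f 0)), ∃ x1 ∈ K (R.r (e 1) (f 1)), ∃ x2 ∈ K (R.r (e 2) (f 2)),
      ∃ c ∈ R.CF e f, x = x0 + (x1 + (x2 + c)) := by
  have h0 := R.r_cube (hF.ef 0)
  have h1 := R.r_cube (hF.ef 1)
  have h2 := R.r_cube (hF.ef 2)
  refine ⟨x + P (R.r (e 0) (f 0)) x, P_add_P h0 x, P (R.r (e 0) (f 0)) x +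
    P (R.r (e 1) (f 1)) (P (R.r (e 0) (f 0)) x), P_add_P h1 _,
    P (R.r (e 1) (f 1)) (P (R.r (e 0) (f 0)) x) +
    P (R.r (e 2) (f 2)) (P (R.r (e 1) (f 1)) (P (R.r (e 0) (f 0)) x)), P_add_P h2 _,
    P (R.r (e 2) (f 2)) (P (R.r (e 1) (f 1)) (P (R.r (e 0) (f 0)) x)), ?_, ?_⟩
  · rw [R.mem_CF]
    intro i
    fin_cases i
    · show R.r (e 0) (f 0) _ = _
      rw [P_comm (R.r_comm hF (by decide)), P_comm (R.r_comm hF (by decide)), fix_P h0]
    · show R.r (e 1) (f 1) _ = _
      rw [P_comm (R.r_comm hF (by decide)), fix_P h1]
    · exact fix_P h2 _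
  · generalize P (R.r (e 2) (f 2)) (P (R.r (e 1) (f 1)) (P (R.r (e 0) (f 0)) x)) = c
    generalize P (R.r (e 1) (f 1)) (P (R.r (e 0) (f 0)) x) = d
    generalize P (R.r (e 0) (f 0)) x = k
    apply of_one_smul
    match_scalars <;> decide

theorem indep4 [Finite V] {e f : Fin 3 → W} (hF : Frame e f) (hns : R.NS) {x y z c : V}
    (hx : x ∈ K (R.r (e 0) (f 0))) (hy : y ∈ K (R.r (e 1) (f 1)))
    (hz : z ∈ K (R.r (e 2) (f 2))) (hc : c ∈ R.CF e f) (h : x + (y + (z + c)) = 0) :
    x = 0 ∧ y = 0 ∧ z = 0 ∧ c = 0 := by
  rw [R.mem_CF] at hc
  have h1 : P (R.r (e 0) (f 0)) (x + (y + (z + c))) = 0 := by rw [h, P_zero]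
  rw [P_add, P_add, P_add, show P (R.r (e 0) (f 0)) x = 0 from hx, zero_add,
    P_of_fix (R.r_trivial' hF hns (i := 1) (j := 0) (by decide) y hy),
    P_of_fix (R.r_trivial' hF hns (i := 2) (j := 0) (by decide) z hz), P_of_fix (hc 0)] at h1
  have h2 : P (R.r (e 1) (f 1)) (y + (z + c)) = 0 := by rw [h1, P_zero]
  rw [P_add, P_add, show P (R.r (e 1) (f 1)) y = 0 from hy, zero_add,
    P_of_fix (R.r_trivial' hF hns (i := 2) (j := 1) (by decide) z hz), P_of_fix (hc 1)] at h2
  have h3 : P (R.r (e 2) (f 2)) (z + c) = 0 := by rw [h2, P_zero]
  rw [P_add, show P (R.r (e 2) (f 2)) z = 0 from hz, zero_add, P_of_fix (hc 2)] at h3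
  rw [h3, add_zero] at h2
  rw [h2, h3, add_zero, add_zero] at h1
  rw [h1, h2, h3, add_zero, add_zero, add_zero] at h
  exact ⟨h, h1, h2, h3⟩

theorem card_CF [Finite V] {e f : Fin 3 → W} (hF : Frame e f) (hns : R.NS) :
    Nat.card (R.CF e f) = 4 := by
  have hb : Function.Bijective (fun p : K (R.r (e 0) (f 0)) ×
      (K (R.r (e 1) (f 1)) × (K (R.r (e 2) (f 2)) × R.CF e f)) =>
      (p.1 : V) + (p.2.1 + (p.2.2.1 + p.2.2.2))) := by
    constructor
    · rintro ⟨a, b, c, d⟩ ⟨a', b', c', d'⟩ hab
      have h1 : (a : V) + (b + (c + d)) = a' + (b' + (c' + d')) := hab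
      obtain ⟨k1, k2, k3, k4⟩ := R.indep4 hF hns (Submodule.add_mem _ a.2 a'.2)
        (Submodule.add_mem _ b.2 b'.2) (Submodule.add_mem _ c.2 c'.2)
        (Submodule.add_mem _ d.2 d'.2) (by
          have : (a : V) + a' + (b + b' + (c + c' + (d + d'))) =
            (a + (b + (c + d))) + (a' + (b' + (c' + d'))) := by abel
          rw [this, h1, v_add_self])
      have ha : a = a' := Subtype.ext (eq_of_add_eq_zero k1)
      have hb : b = b' := Subtype.ext (eq_of_add_eq_zero k2)
      have hc : c = c' := Subtype.ext (eq_of_add_eq_zero k3)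
      have hd : d = d' := Subtype.ext (eq_of_add_eq_zero k4)
      rw [ha, hb, hc, hd]
    · intro x
      obtain ⟨x0, h0, x1, h1, x2, h2, c, hc, rfl⟩ := R.decomp hF x
      exact ⟨⟨⟨x0, h0⟩, ⟨x1, h1⟩, ⟨x2, h2⟩, ⟨c, hc⟩⟩, rfl⟩
  have h := Nat.card_congr (Equiv.ofBijective _ hb)
  rw [Nat.card_prod, Nat.card_prod, Nat.card_prod, R.card, R.card_K hns (hF.ef 0),
    R.card_K hns (hF.ef 1), R.card_K hns (hF.ef 2)] at h
  omega

theorem CF_T_e [Finite V] {e f : Fin 3 → W} (hF : Frame e f) (i : Fin 3) {x : V}
    (hx : x ∈ R.CF e f) : R.ρ (T (e i)) x ∈ R.CF e f := by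
  rw [R.mem_CF] at hx ⊢
  intro j
  by_cases hij : i = j
  · subst hij
    have h1 := R.T_r' (hF.ef i) x
    rw [hx i] at h1
    have h2 := R.r_cube (hF.ef i) (R.ρ (T (e i)) x)
    rw [← h1] at h2
    exact h2
  · have h1 : T (e i) * (T (e j) * T (f j)) = (T (e j) * T (f j)) * T (e i) :=
      comm_r_of_ac (ac_T_of_zero (hF.ee _ _))
        (ac_T_of_zero (by rw [om_comm]; exact hF.ef' _ _ hij))
    have h2 := R.comm_apply h1 x
    have h3 : R.ρ (T (e j) * T (f j)) x = x := hx j
    rw [h3] at h2
    exact h2.symm

theorem CF_nondeg [Finite V] {e f : Fin 3 → W} (hF : Frame e f) {v : V} (hv : v ∈ R.CF e f)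
    (h : ∀ x ∈ R.CF e f, R.b v x = 0) : v = 0 := by
  apply R.nondeg
  intro y
  obtain ⟨x0, h0, x1, h1, x2, h2, c, hc, rfl⟩ := R.decomp hF y
  have hv' := R.mem_CF.1 hv
  rw [map_add, map_add, map_add, R.b_comm v x0, R.b_comm v x1, R.b_comm v x2,
    R.orth h0 (hv' 0), R.orth h1 (hv' 1), R.orth h2 (hv' 2), h c hc]
  simp

theorem four (C : Submodule (ZMod 2) V) [Finite V] (hC : Nat.card C = 4)
    (hnd : ∀ v ∈ C, (∀ x ∈ C, R.b v x = 0) → v = 0) (g : Sp6)
    (hg : ∀ x ∈ C, R.ρ g x ∈ C) (hg2 : ∀ x, R.ρ g (R.ρ g x) = x) :
    (∀ x ∈ C, R.ρ g x = x) ∨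
      ∃ v ∈ C, R.q v = 1 ∧ R.ρ g v = v ∧ ∀ x ∈ C, R.ρ g x = x + R.b x v • v := by
  by_cases htriv : ∀ x ∈ C, R.ρ g x = x
  · exact Or.inl htriv
  · right
    push Not at htriv
    obtain ⟨c, hc, hcc⟩ := htriv
    have hvC : c + R.ρ g c ∈ C := C.add_mem hc (hg c hc)
    have hv0 : c + R.ρ g c ≠ 0 := fun h => hcc (eq_of_add_eq_zero h).symm
    have hc0 : c ≠ 0 := by
      intro h; rw [h, map_zero] at hcc; exact hcc rfl
    have hcv : c ≠ c + R.ρ g c := by
      intro h
      have : R.ρ g c = 0 := by simpa using h
      exact hc0 ((map_eq_zero_iff _ (R.ρ g).injective).1 this)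
    have hgv : R.ρ g (c + R.ρ g c) = c + R.ρ g c := by rw [map_add, hg2, add_comm]
    have hqv : R.q (c + R.ρ g c) = R.b c (c + R.ρ g c) := by
      rw [R.q_add, R.q_inv, map_add, R.b_self, zero_add]
      have : ∀ a b : ZMod 2, a + a + b = b := by decide
      exact this _ _
    have h4 := card_four hC hc hvC hc0 hv0 hcv
    have hgc : R.ρ g c = c + (c + R.ρ g c) := by rw [← add_assoc, v_add_self, zero_add]
    generalize hv : c + R.ρ g c = v at *
    have hcv1 : R.b c v = 1 := by
      rcases zmod2 (R.b c v) with h | h
      · exfalso
        apply hv0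
        apply hnd v hvC
        have hvc : R.b v c = 0 := by rw [R.b_comm]; exact h
        intro x hx
        rcases h4 x hx with h5 | h5 | h5 | h5 <;> rw [h5]
        · exact map_zero _
        · exact hvc
        · exact R.b_self v
        · rw [map_add, hvc, R.b_self, add_zero]
      · exact h
    refine ⟨v, hvC, by rw [hqv, hcv1], hgv, ?_⟩
    intro x hx
    rcases h4 x hx with h5 | h5 | h5 | h5 <;> rw [h5]
    · simp
    · rw [hcv1, one_smul]; exact hgc
    · rw [R.b_self, zero_smul, add_zero]; exact hgv
    · rw [map_add, map_add, LinearMap.add_apply, hcv1, R.b_self, add_zero, one_smul, hgc, hgv]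

theorem r_swap {s : Sp6} {u w u' w' : W} (h1 : ac s u = u') (h2 : ac s w = w') {x : V}
    (hx : R.r u w x = x) : R.r u' w' (R.ρ s x) = R.ρ s x := by
  have h3 : s * (T u * T w) = (T u' * T w') * s := by rw [mul_r, h1, h2]
  have h4 := R.conj_apply h3 x
  have h5 : R.ρ (T u * T w) x = x := hx
  rw [h5] at h4
  exact h4.symm

theorem exists_swap_CF {e f : Fin 3 → W} (hF : Frame e f) {i j : Fin 3} (hij : i ≠ j) :
    ∃ s : Sp6, ac s (e i) = e j ∧ ∀ x ∈ R.CF e f, R.ρ s x ∈ R.CF e f := by
  have hk : ∀ i j : Fin 3, i ≠ j → ∃ k, i ≠ k ∧ j ≠ k ∧ ∀ l, l = i ∨ l = j ∨ l = k := by decide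
  obtain ⟨k, hik, hjk, hl⟩ := hk i j hij
  obtain ⟨s, s1, s2, s3, s4, s5, s6⟩ := hF.exists_swap i j k hij hik hjk
  refine ⟨s, s1, ?_⟩
  intro x hx
  rw [R.mem_CF] at hx ⊢
  intro l
  rcases hl l with h | h | h <;> subst h
  · exact R.r_swap s3 s4 (hx j)
  · exact R.r_swap s1 s2 (hx i)
  · exact R.r_swap s5 s6 (hx l)

theorem CF_cases [Finite V] {e f : Fin 3 → W} (hF : Frame e f) (hns : R.NS) :
    (∀ i, ∀ x ∈ R.CF e f, R.ρ (T (e i)) x = x) ∨
      ∃ v ∈ R.CF e f, R.q v = 1 ∧ ∀ i, ∀ x ∈ R.CF e f, R.ρ (T (e i)) x = x + R.b x v • v := by
  have hcard := R.card_CF hF hns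
  have hnd : ∀ v ∈ R.CF e f, (∀ x ∈ R.CF e f, R.b v x = 0) → v = 0 :=
    fun v hv h => R.CF_nondeg hF hv h
  have hfour : ∀ i, (∀ x ∈ R.CF e f, R.ρ (T (e i)) x = x) ∨
      ∃ v ∈ R.CF e f, R.q v = 1 ∧ R.ρ (T (e i)) v = v ∧
        ∀ x ∈ R.CF e f, R.ρ (T (e i)) x = x + R.b x v • v := fun i =>
    R.four _ hcard hnd _ (fun x hx => R.CF_T_e hF i hx) (R.T_sq _)
  by_cases htriv : ∀ i, ∀ x ∈ R.CF e f, R.ρ (T (e i)) x = x
  · exact Or.inl htriv
  · right
    obtain ⟨i, hi⟩ : ∃ i, ¬ ∀ x ∈ R.CF e f, R.ρ (T (e i)) x = x := by
      by_contra hc
      push Not at hc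
      exact htriv hc
    obtain ⟨v, hv, hqv, hvv, hvf⟩ := (hfour i).resolve_left hi
    refine ⟨v, hv, hqv, ?_⟩
    have q0 : ∀ v, R.q v = 1 → v ≠ 0 := by
      intro v h h0
      rw [h0, R.q_zero] at h
      exact absurd h (by decide)
    intro j
    by_cases hij : i = j
    · subst hij; exact hvf
    rcases hfour j with hj | ⟨v', hv', hqv', hvv', hvf'⟩
    · exfalso
      apply hi
      obtain ⟨s, s1, s2⟩ := R.exists_swap_CF hF hij
      intro x hx
      have h1 : s * T (e i) = T (e j) * s := by rw [mul_T, s1]
      have h2 := R.conj_apply h1 x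
      rw [hj _ (s2 x hx)] at h2
      exact (R.ρ s).injective h2
    · have hvv'' : v = v' := by
        by_contra hne
        have h1 := R.comm_apply (T_comm (hF.ee i j)) v'
        rw [hvv', hvf' _ (R.CF_T_e hF i hv')] at h1
        have h2 : R.b (R.ρ (T (e i)) v') v' • v' = 0 := by simpa only [_root_.smul_eq_zero, _root_.add_eq_left] using h1.symm
        have h3 : R.b (R.ρ (T (e i)) v') v' = 0 := by
          rcases zmod2 (R.b (R.ρ (T (e i)) v') v') with h | h
          · exact h
          · rw [h, one_smul] at h2
            exact absurd h2 (q0 _ hqv')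
        rw [hvf _ hv', map_add, map_smul, LinearMap.add_apply, LinearMap.smul_apply, R.b_self,
          zero_add, R.b_comm v' v] at h3
        have h4 : R.b v v' = 0 := by
          rcases zmod2 (R.b v v') with h | h
          · exact h
          · rw [h] at h3; exact absurd h3 (by decide)
        apply q0 v hqv
        apply hnd v hv
        intro x hx
        rcases card_four hcard hv hv' (q0 _ hqv) (q0 _ hqv') hne x hx with h5 | h5 | h5 | h5 <;>
          rw [h5]
        · exact map_zero _
        · exact R.b_self v
        · exact h4
        · rw [map_add, R.b_self, h4, add_zero]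
      rw [hvv'']
      exact hvf'

/-- formula for the transvections of a frame, assuming the formula on the common fixed space -/
theorem T_formula [Finite V] {e f : Fin 3 → W} (hF : Frame e f) (hns : R.NS) (v : V)
    (hv : v ∈ R.CF e f) (i : Fin 3)
    (hvf : ∀ x ∈ R.CF e f, R.ρ (T (e i)) x = x + R.b x v • v) :
    ∃ a, a ≠ 0 ∧ R.ρ (T (e i)) a = a ∧ a ∈ K (R.r (e i) (f i)) ∧
      (∀ x ∈ R.M (e i) (f i), x = 0 ∨ x = a) ∧ R.q a = 1 ∧ R.b a v = 0 ∧
      ∀ x, R.ρ (T (e i)) x = x + R.b x a • a + R.b x v • v := by
  obtain ⟨a, ha0, ha1, ha2, hM, hK⟩ := R.exists_root hns (hF.ef i)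
  obtain ⟨hqa, -, hform⟩ := R.root_form (hF.ef i) ha0 ha1 ha2 hK
  have hv' := R.mem_CF.1 hv
  refine ⟨a, ha0, ha1, ha2, hM, hqa, R.orth ha2 (hv' i), ?_⟩
  have hKj : ∀ j, ∀ x ∈ K (R.r (e j) (f j)),
      R.ρ (T (e i)) x = x + R.b x a • a + R.b x v • v := by
    intro j x hx
    rw [R.orth hx (hv' j), zero_smul, add_zero]
    by_cases hij : i = j
    · subst hij; exact hform x hx
    · have h1 : R.b x a = 0 := R.orth hx (R.r_trivial' hF hns hij a ha2)
      rw [h1, zero_smul, add_zero]
      exact R.fix_K_of_ac hns (hF.ef j) (ac_T_of_zero (hF.ee _ _))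
        (ac_T_of_zero (by rw [om_comm]; exact hF.ef' _ _ hij)) hx
  have hC : ∀ x ∈ R.CF e f, R.ρ (T (e i)) x = x + R.b x a • a + R.b x v • v := by
    intro x hx
    have h1 : R.b x a = 0 := by rw [R.b_comm]; exact R.orth ha2 (R.mem_CF.1 hx i)
    rw [h1, zero_smul, add_zero]
    exact hvf x hx
  intro x
  obtain ⟨x0, h0, x1, h1, x2, h2, c, hc, rfl⟩ := R.decomp hF x
  rw [map_add, map_add, map_add, hKj 0 x0 h0, hKj 1 x1 h1, hKj 2 x2 h2, hC c hc]
  simp only [map_add, LinearMap.add_apply, add_smul]
  abel

/-! ### the transvections are not reflections -/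

theorem conj_formula {u : W} {a v : V} (h : ∀ x, R.ρ (T u) x = x + R.b x a • a + R.b x v • v)
    (g : Sp6) (x : V) : R.ρ (T (ac g u)) x =
      x + R.b x (R.ρ g a) • R.ρ g a + R.b x (R.ρ g v) • R.ρ g v := by
  have h1 : T (ac g u) = g * T u * g⁻¹ := (conj_T g u).symm
  have h2 : R.ρ g (R.ρ g⁻¹ x) = x := by rw [← R.mul, mul_inv_cancel, R.one]
  have h3 : ∀ c, R.b (R.ρ g⁻¹ x) c = R.b x (R.ρ g c) := by
    intro c
    rw [← R.b_inv g, h2]
  rw [h1, R.mul, R.mul, h, map_add, map_add, map_smul, map_smul, h2, h3, h3]

/-- the seven nonzero vectors of `F_2^3` -/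
def L7 : List (Fin 3 → ZMod 2) :=
  [![1,0,0], ![0,1,0], ![0,0,1], ![1,1,0], ![1,0,1], ![0,1,1], ![1,1,1]]

/-- combination of the `e i` -/
def ue (e : Fin 3 → W) (ε : Fin 3 → ZMod 2) : W := ε 0 • e 0 + ε 1 • e 1 + ε 2 • e 2

theorem om_smul_left (c : ZMod 2) (u v : W) : om (c • u) v = c * om u v :=
  Cfsg.Agent.ClassicalGeometry.SympBasic.sympForm_smul_left c u v

theorem om_smul_right (c : ZMod 2) (u v : W) : om u (c • v) = c * om u v :=
  Cfsg.Agent.ClassicalGeometry.SympBasic.sympForm_smul_right c u v

theorem om_ue_f {e f : Fin 3 → W} (hF : Frame e f) (ε : Fin 3 → ZMod 2) (i : Fin 3) :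
    om (ue e ε) (f i) = ε i := by
  rw [ue, om_add_left, om_add_left, om_smul_left, om_smul_left, om_smul_left]
  fin_cases i
  · show ε 0 * om (e 0) (f 0) + ε 1 * om (e 1) (f 0) + ε 2 * om (e 2) (f 0) = ε 0
    rw [hF.ef, hF.ef' 1 0 (by decide), hF.ef' 2 0 (by decide)]; simp
  · show ε 0 * om (e 0) (f 1) + ε 1 * om (e 1) (f 1) + ε 2 * om (e 2) (f 1) = ε 1
    rw [hF.ef, hF.ef' 0 1 (by decide), hF.ef' 2 1 (by decide)]; simp
  · show ε 0 * om (e 0) (f 2) + ε 1 * om (e 1) (f 2) + ε 2 * om (e 2) (f 2) = ε 2
    rw [hF.ef, hF.ef' 0 2 (by decide), hF.ef' 1 2 (by decide)]; simp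

theorem om_ue_ue {e f : Fin 3 → W} (hF : Frame e f) (ε ε' : Fin 3 → ZMod 2) :
    om (ue e ε) (ue e ε') = 0 := by
  simp only [ue, om_add_left, om_add_right, om_smul_left, om_smul_right, hF.ee]
  simp

theorem ac_list {e f : Fin 3 → W} (hF : Frame e f) (l : List (Fin 3 → ZMod 2)) (x : W) :
    ac ((l.map fun ε => T (ue e ε)).prod) x =
      x + (l.map fun ε => om x (ue e ε) • ue e ε).sum := by
  have horth : ∀ (l : List (Fin 3 → ZMod 2)) (c : (Fin 3 → ZMod 2) → ZMod 2) ε,
      om (l.map fun ε => c ε • ue e ε).sum (ue e ε) = 0 := by
    intro l c ε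
    induction l with
    | nil => simp
    | cons a l ih =>
      rw [List.map_cons, List.sum_cons, om_add_left, ih, om_smul_left, om_ue_ue hF]; simp
  induction l with
  | nil => simp [ac_one]
  | cons a l ih =>
    rw [List.map_cons, List.prod_cons, ac_mul, ih, List.map_cons, List.sum_cons, ac_T,
      om_add_left, horth l (fun ε => om x (ue e ε)), add_zero]
    abel

theorem prod_L7 {e f : Fin 3 → W} (hF : Frame e f) : (L7.map fun ε => T (ue e ε)).prod = 1 := by
  apply ext_ac
  intro x
  rw [ac_list hF, ac_one]
  simp only [L7, List.map_cons, List.map_nil, List.sum_cons, List.sum_nil, ue, om_add_right,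
    om_smul_right, Matrix.cons_val_zero, Matrix.cons_val_one, Matrix.cons_val]
  generalize e 0 = a
  generalize e 1 = b
  generalize e 2 = c
  rcases zmod2 (om x a) with h1 | h1 <;> rcases zmod2 (om x b) with h2 | h2 <;>
    rcases zmod2 (om x c) with h3 | h3 <;> rw [h1, h2, h3] <;>
    (apply of_one_smul; match_scalars <;> decide)

theorem not_reflections [Finite V] {e f : Fin 3 → W} (hF : Frame e f) (a : W → V)
    (hq : ∀ u, u ≠ 0 → R.q (a u) = 1)
    (ha : ∀ u, u ≠ 0 → ∀ x, R.ρ (T u) x = x + R.b x (a u) • a u) : False := by
  have hne0 : ∀ u, u ≠ 0 → a u ≠ 0 := by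
    intro u hu h
    have := hq u hu
    rw [h, R.q_zero] at this
    exact absurd this (by decide)
  have horth : ∀ u w, u ≠ 0 → w ≠ 0 → u ≠ w → om u w = 0 → R.b (a u) (a w) = 0 := by
    intro u w hu hw huw hom
    have hauw : a u ≠ a w := by
      intro h
      apply huw
      apply T_inj
      apply R.inj
      ext x
      show R.ρ (T u) x = R.ρ (T w) x
      rw [ha u hu, ha w hw, h]
    rcases zmod2 (R.b (a u) (a w)) with h | h
    · exact h
    · exfalso
      obtain ⟨x, hx⟩ : ∃ x, R.b x (a w) = 1 := by
        by_contra hc
        push Not at hc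
        apply hne0 w hw
        apply R.nondeg
        intro y
        rw [R.b_comm]
        exact (zmod2 _).resolve_right (hc y)
      have h1 := R.comm_apply (T_comm hom) x
      rw [ha w hw, ha u hu, ha u hu, ha w hw] at h1
      simp only [map_add, LinearMap.add_apply, map_smul, LinearMap.smul_apply, smul_eq_mul,
        R.b_comm (a w) (a u), h, hx, mul_one, one_smul] at h1
      rcases zmod2 (R.b x (a u)) with h2 | h2
      · rw [h2] at h1
        apply hne0 u hu
        have : x + a w + (0 + 1 : ZMod 2) • a u = x + (0 : ZMod 2) • a u + (1 + 0 : ZMod 2) • a w := h1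
        have h3 : (x + a w) + a u = x + a w := by simpa using this
        simpa using h3
      · rw [h2] at h1
        apply hauw
        have : x + a w + (1 + 1 : ZMod 2) • a u = x + (1 : ZMod 2) • a u + (1 + 1 : ZMod 2) • a w := h1
        rw [show (1 + 1 : ZMod 2) = 0 by decide] at this
        have h3 : x + a w = x + a u := by simpa using this
        exact (add_left_cancel h3).symm
  have hue0 : ∀ ε, ε ≠ 0 → ue e ε ≠ 0 := by
    intro ε hε h
    apply hε
    funext i
    rw [← om_ue_f hF ε i, h, om_zero_left]; rfl
  have hueinj : ∀ ε ε', ue e ε = ue e ε' → ε = ε' := by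
    intro ε ε' h
    funext i
    rw [← om_ue_f hF ε i, h, om_ue_f hF]
  have hL : ∀ (l : List (Fin 3 → ZMod 2)) (c : (Fin 3 → ZMod 2) → ZMod 2) (ε : Fin 3 → ZMod 2),
      ε ≠ 0 → ε ∉ l → (∀ ε ∈ l, ε ≠ 0) →
      R.b (l.map fun ε => c ε • a (ue e ε)).sum (a (ue e ε)) = 0 := by
    intro l c ε hε hεl hl
    induction l with
    | nil => simp
    | cons b l ih =>
      rw [List.map_cons, List.sum_cons, map_add, LinearMap.add_apply,
        ih (fun h => hεl (List.mem_cons_of_mem _ h)) (fun ε h => hl ε (List.mem_cons_of_mem _ h)),
        map_smul, LinearMap.smul_apply, horth _ _ (hue0 _ (hl b List.mem_cons_self)) (hue0 _ hε)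
          (fun h => hεl (by rw [← hueinj _ _ h]; exact List.mem_cons_self)) (om_ue_ue hF _ _)]
      simp
  have hρ : ∀ (l : List (Fin 3 → ZMod 2)), l.Nodup → (∀ ε ∈ l, ε ≠ 0) → ∀ x,
      R.ρ ((l.map fun ε => T (ue e ε)).prod) x =
        x + (l.map fun ε => R.b x (a (ue e ε)) • a (ue e ε)).sum := by
    intro l hnd hl x
    induction l with
    | nil => simp only [_root_.List.map_nil, _root_.List.prod_nil, _root_.map_one, _root_.LinearEquiv.coe_one, _root_.id_eq, _root_.List.sum_nil, _root_.add_zero]
    | cons b l ih =>
      rw [List.nodup_cons] at hnd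
      have hl' : ∀ ε ∈ l, ε ≠ 0 := fun ε h => hl ε (List.mem_cons_of_mem _ h)
      rw [List.map_cons, List.prod_cons, R.mul, ih hnd.2 hl',
        ha _ (hue0 _ (hl b List.mem_cons_self)), map_add, LinearMap.add_apply,
        hL l (fun ε => R.b x (a (ue e ε))) b (hl b List.mem_cons_self) hnd.1 hl', add_zero,
        List.map_cons, List.sum_cons]
      abel
  have hqs : ∀ (l : List (Fin 3 → ZMod 2)) (c : (Fin 3 → ZMod 2) → ZMod 2), l.Nodup →
      (∀ ε ∈ l, ε ≠ 0) → R.q (l.map fun ε => c ε • a (ue e ε)).sum = (l.map c).sum := by
    intro l c hnd hl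
    induction l with
    | nil => simpa using R.q_zero
    | cons b l ih =>
      rw [List.nodup_cons] at hnd
      have hl' : ∀ ε ∈ l, ε ≠ 0 := fun ε h => hl ε (List.mem_cons_of_mem _ h)
      rw [List.map_cons, List.sum_cons, R.q_add, ih hnd.2 hl', List.map_cons, List.sum_cons,
        R.b_comm, map_smul, hL l c b (hl b List.mem_cons_self) hnd.1 hl', smul_zero, add_zero]
      congr 1
      rcases zmod2 (c b) with h | h <;> rw [h]
      · rw [zero_smul, R.q_zero]
      · rw [one_smul, hq _ (hue0 _ (hl b List.mem_cons_self))]
  have hnd7 : L7.Nodup := by decide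
  have h07 : ∀ ε ∈ L7, ε ≠ 0 := by decide +kernel
  have h1 : ∀ x, (L7.map fun ε => R.b x (a (ue e ε)) • a (ue e ε)).sum = 0 := by
    intro x
    have h2 := hρ L7 hnd7 h07 x
    rw [prod_L7 hF, R.one] at h2
    simpa using h2.symm
  have h2 : ∀ x, (L7.map fun ε => R.b x (a (ue e ε))).sum = 0 := by
    intro x
    rw [← hqs L7 _ hnd7 h07, h1, R.q_zero]
  have h3 : ∀ (l : List (Fin 3 → ZMod 2)) x, R.b x (l.map fun ε => (1 : ZMod 2) • a (ue e ε)).sum =
      (l.map fun ε => R.b x (a (ue e ε))).sum := by
    intro l x
    induction l with
    | nil => simp only [_root_.one_smul, _root_.List.map_nil, _root_.List.sum_nil, _root_.map_zero]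
    | cons b l ih =>
      rw [List.map_cons, List.sum_cons, map_add, ih, one_smul, List.map_cons, List.sum_cons]
  have h4 : (L7.map fun ε => (1 : ZMod 2) • a (ue e ε)).sum = 0 := by
    apply R.nondeg
    intro y
    rw [R.b_comm, h3, h2]
  have h5 := hqs L7 (fun _ => 1) hnd7 h07
  rw [h4, R.q_zero] at h5
  exact absurd h5 (by decide)

theorem exists_b_one {v : V} (hv : v ≠ 0) : ∃ x, R.b x v = 1 := by
  by_contra hc
  push Not at hc
  apply hv
  apply R.nondeg
  intro y
  rw [R.b_comm]
  exact (zmod2 _).resolve_right (hc y)

theorem ne_zero_of_q {v : V} (hv : R.q v = 1) : v ≠ 0 := by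
  intro h
  rw [h, R.q_zero] at hv
  exact absurd hv (by decide)

/-- the reducible alternative -/
structure Red (v : V) : Prop where
  q_v : R.q v = 1
  fix : ∀ g, R.ρ g v = v
  root : ∀ u, u ≠ 0 → ∃ a, R.q a = 1 ∧ R.b a v = 0 ∧
    ∀ x, R.ρ (T u) x = x + R.b x a • a + R.b x v • v

theorem exists_red [Finite V] (hns : R.NS) : ∃ v, R.Red v := by
  have hF := frame_std
  have he0 : e0 0 ≠ 0 := by
    intro h
    have := hF.ef 0
    rw [h, om_zero_left] at this
    exact absurd this (by decide)
  rcases R.CF_cases hF hns with htriv | ⟨v, hv, hqv, hvf⟩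
  · exfalso
    obtain ⟨a, -, -, -, -, hqa, -, hform⟩ := R.T_formula hF hns 0 (Submodule.zero_mem _) 0
      (fun x hx => by rw [htriv 0 x hx]; simp)
    have hall : ∀ u, u ≠ 0 → ∃ a, R.q a = 1 ∧ ∀ x, R.ρ (T u) x = x + R.b x a • a := by
      intro u hu
      obtain ⟨g, hg⟩ := exists_transitive he0 hu
      refine ⟨R.ρ g a, by rw [R.q_inv, hqa], ?_⟩
      intro x
      have := R.conj_formula hform g x
      rw [hg, map_zero] at this
      simpa only [_root_.map_zero, _root_.smul_zero, _root_.add_zero] using this
    choose! a' h1 h2 using hall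
    exact R.not_reflections hF a' h1 h2
  · have hv0 := R.ne_zero_of_q hqv
    have hfix1 : ∀ i, ∀ g, ac g (e0 i) = e0 i → ac g (f0 i) = f0 i → R.ρ g v = v := by
      intro i g h1 h2
      obtain ⟨a, ha0, ha1, ha2, hM, hqa, hav, hform⟩ := R.T_formula hF hns v hv i (hvf i)
      have hga : R.ρ g a = a := R.fix_K_of_ac hns (hF.ef i) h1 h2 ha2
      obtain ⟨x, hx⟩ := R.exists_b_one hv0
      have h3 := R.conj_formula hform g x
      rw [h1, hform, hga, hx, one_smul] at h3
      have h4 : v = R.b x (R.ρ g v) • R.ρ g v := add_left_cancel h3
      rcases zmod2 (R.b x (R.ρ g v)) with h5 | h5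
      · rw [h5, zero_smul] at h4; exact absurd h4 hv0
      · rw [h5, one_smul] at h4; exact h4.symm
    have hfix2 : ∀ i u, om (e0 i) u = 0 → om (f0 i) u = 0 → R.ρ (T u) v = v := by
      intro i u h1 h2
      exact hfix1 i _ (ac_T_of_zero h1) (ac_T_of_zero h2)
    have hfe : ∀ i j, i ≠ j → om (f0 i) (e0 j) = 0 := fun i j hij => by
      rw [om_comm]; exact hF.ef' _ _ hij.symm
    have hfe' : ∀ i, om (f0 i) (e0 i) = 1 := fun i => by rw [om_comm]; exact hF.ef i
    have hT : ∀ u, R.ρ (T u) v = v := by
      intro u
      by_cases h2 : om (e0 2) u = 0 ∧ om (f0 2) u = 0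
      · exact hfix2 2 u h2.1 h2.2
      · obtain ⟨w, hw, hwe, hwf⟩ : ∃ w, om w u = 1 ∧ (∀ i, i ≠ 2 → om (e0 i) w = 0) ∧
            (∀ i, i ≠ 2 → om (f0 i) w = 0) := by
          rcases zmod2 (om (e0 2) u) with h3 | h3
          · have h4 : om (f0 2) u = 1 := (zmod2 _).resolve_left fun h4 => h2 ⟨h3, h4⟩
            exact ⟨f0 2, h4, fun i hi => hF.ef' _ _ hi, fun i _ => hF.ff _ _⟩
          · exact ⟨e0 2, h3, fun i _ => hF.ee _ _, fun i hi => hfe _ _ hi⟩
        generalize hx : om (f0 0) u • e0 0 + om (e0 0) u • f0 0 + w = x
        have hx1 : om (e0 1) x = 0 := by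
          rw [← hx, om_add_right, om_add_right, om_smul_right, om_smul_right, hwe 1 (by decide),
            hF.ee, hF.ef' 1 0 (by decide)]; simp
        have hx2 : om (f0 1) x = 0 := by
          rw [← hx, om_add_right, om_add_right, om_smul_right, om_smul_right, hwf 1 (by decide),
            hF.ff, hfe 1 0 (by decide)]; simp
        have hy1 : om (e0 0) (u + x) = 0 := by
          rw [← hx, om_add_right, om_add_right, om_add_right, om_smul_right, om_smul_right,
            hwe 0 (by decide), hF.ee, hF.ef, mul_zero, mul_one, zero_add, add_zero]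
          exact CharTwo.add_self_eq_zero _
        have hy2 : om (f0 0) (u + x) = 0 := by
          rw [← hx, om_add_right, om_add_right, om_add_right, om_smul_right, om_smul_right,
            hwf 0 (by decide), hF.ff, hfe', mul_zero, mul_one, add_zero, add_zero]
          exact CharTwo.add_self_eq_zero _
        have hxy : om x (u + x) = 1 := by
          rw [om_add_right, om_self, add_zero, ← hx, om_add_left, om_add_left, om_smul_left,
            om_smul_left, hw, mul_comm, CharTwo.add_self_eq_zero, zero_add]
        have hu : u = x + (u + x) := by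
          rw [add_comm u x, ← add_assoc, w_add_self, zero_add]
        rw [hu, ← T_braid hxy, R.mul, R.mul, hfix2 1 x hx1 hx2, hfix2 0 _ hy1 hy2,
          hfix2 1 x hx1 hx2]
    have hall : ∀ g, R.ρ g v = v := by
      intro g
      have hg : g ∈ Subgroup.closure (Set.range T) := by rw [closure_T]; trivial
      induction hg using Subgroup.closure_induction with
      | mem x hx =>
        obtain ⟨u, rfl⟩ := hx
        exact hT u
      | one => exact R.one v
      | mul x y _ _ hx hy => rw [R.mul, hy, hx]
      | inv x _ hx =>
        conv_lhs => rw [← hx]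
        rw [← R.mul, inv_mul_cancel, R.one]
    refine ⟨v, hqv, hall, ?_⟩
    intro u hu
    obtain ⟨g, hg⟩ := exists_transitive he0 hu
    obtain ⟨a, ha0, ha1, ha2, hM, hqa, hav, hform⟩ := R.T_formula hF hns v hv 0 (hvf 0)
    refine ⟨R.ρ g a, by rw [R.q_inv, hqa], ?_, ?_⟩
    · conv_lhs => rw [← hall g]
      rw [R.b_inv, hav]
    · intro x
      have := R.conj_formula hform g x
      rwa [hg, hall g] at this

/-- **Dichotomy** -/
theorem dichotomy [Finite V] : R.Spin ∨ ∃ v, R.Red v := by
  rcases R.spin_or with h | h
  · exact Or.inl h
  · exact Or.inr (R.exists_red h)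

end Rep

end Cfsg.Agent.Co2Type.Dichotomy
end

-- part: Co2Type/RedMain
section
/-!
# The representation of `Sp6(2)` on `Q/⟨t⟩` is the spin representation (R03, A1 + A2; helper587)

`spin_of_sit`: in the situation of S1675 (`Sit G Q t`, `O(G) = 1`, `Z(G) = 1`) the spin relation holds.
-/

set_option autoImplicit false

namespace Cfsg.Agent.Co2Type.RedMain

open Cfsg.Agent.Co2Type.Quad Cfsg.Agent.Co2Type.Setup Cfsg.Agent.Co2Type.Dichotomy
  Cfsg.Agent.Co2Type.RedGroup Cfsg.Agent.Co2Type.RedGroup2 Cfsg.Agent.Co2Type.RedGroup3
  Cfsg.Agent.Co2Type.RedLin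

variable {G : Type*} [Group G] {Q : Subgroup G} {t : G}

/-- the representation -/
noncomputable def rep (S : Sit G Q t) : _root_.Cfsg.Agent.Co2Type.Dichotomy.Rep S.large.V where
  ρ := S.rho
  q := S.large.q
  b := S.large.b
  q_add := S.large.q_add'
  nondeg := fun _ hx => S.large.b_nondeg hx
  q_inv := S.q_rho
  inj := S.rho_injective
  card := by rw [S.card_V]; norm_num

theorem card_W : Nat.card SympT.W = 64 := by
  rw [Nat.card_eq_fintype_card]
  simp [SympT.W]

/-- all the nonsingular vectors of `v^⊥` other than `v` occur -/
theorem exists_u {V : Type*} [AddCommGroup V] [Module (ZMod 2) V] [Finite V] (R : _root_.Cfsg.Agent.Co2Type.Dichotomy.Rep V) {v : V}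
    (hR : R.Red v) (a : V) (ha : R.q a = 1) (hav : R.b a v = 0) (hne : a ≠ v) :
    ∃ u, ∀ x, R.ρ (SympT.T u) x = x + R.b x a • a + R.b x v • v := by
  classical
  have hQF : QF R.q R.b := ⟨R.q_add, R.nondeg⟩
  have hroot := hR.root
  choose! F h1 h2 h3 using hroot
  let S1 : Type _ := {a : V // R.q a = 1 ∧ R.b a v = 0}
  let F' : SympT.W → S1 := fun u => if h : u = 0 then ⟨v, hR.q_v, R.b_self v⟩ else
    ⟨F u, h1 u h, h2 u h⟩
  have hinj : Function.Injective F' := by
    intro u w huw
    have h4 := congrArg (fun s : S1 => (s : V)) huw
    by_cases hu : u = 0 <;> by_cases hw : w = 0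
    · rw [hu, hw]
    · exfalso
      simp only [F', dif_pos hu, dif_neg hw] at h4
      apply SympT.T_ne_one hw
      apply R.inj
      rw [map_one]
      ext x
      rw [h3 w hw, ← h4, add_assoc, v_add_self, add_zero]
      rfl
    · exfalso
      simp only [F', dif_neg hu, dif_pos hw] at h4
      apply SympT.T_ne_one hu
      apply R.inj
      rw [map_one]
      ext x
      rw [h3 u hu, h4, add_assoc, v_add_self, add_zero]
      rfl
    · simp only [F', dif_neg hu, dif_neg hw] at h4
      apply SympT.T_inj
      apply R.inj
      ext x
      rw [h3 u hu, h3 w hw, h4]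
  -- cardinality of S1
  have hcard : 2 * Nat.card S1 ≤ 128 := by
    have hle : Nat.card (S1 × ZMod 2) ≤
        Nat.card (R.b.orthogonal (Submodule.span (ZMod 2) {v})) := by
      refine Nat.card_le_card_of_injective (fun s : S1 × ZMod 2 =>
        (⟨(s.1 : V) + s.2 • v, ?_⟩ : R.b.orthogonal (Submodule.span (ZMod 2) {v}))) ?_
      · rw [LinearMap.BilinForm.mem_orthogonal_iff]
        intro w hw
        obtain ⟨c, rfl⟩ := Submodule.mem_span_singleton.1 hw
        show R.b (c • v) ((s.1 : V) + s.2 • v) = 0
        rw [map_smul, LinearMap.smul_apply, map_add, map_smul, R.b_self, R.b_comm v, s.1.2.2]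
        simp
      · rintro ⟨s, β⟩ ⟨s', β'⟩ hss
        have h5 : (s : V) + β • v = s' + β' • v :=
          congrArg (fun y : R.b.orthogonal (Submodule.span (ZMod 2) {v}) => (y : V)) hss
        have h6 : ∀ s : S1, R.q ((s : V) + v) = 0 := by
          intro s
          rw [R.q_add, s.2.1, s.2.2, hR.q_v]; decide
        rcases zm β with rfl | rfl <;> rcases zm β' with rfl | rfl
        · rw [zero_smul, add_zero, add_zero] at h5
          rw [Subtype.ext h5]
        · exfalso
          rw [zero_smul, add_zero, one_smul] at h5
          have h7 := h6 s'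
          rw [← h5, s.2.1] at h7
          exact absurd h7 (by decide)
        · exfalso
          rw [zero_smul, add_zero, one_smul] at h5
          have h7 := h6 s
          rw [h5, s'.2.1] at h7
          exact absurd h7 (by decide)
        · rw [one_smul] at h5
          rw [Subtype.ext (add_right_cancel h5)]
    have hfin : Module.Finite (ZMod 2) V := Module.Finite.of_finite
    have hV : Module.finrank (ZMod 2) V = 8 := by
      have h := Module.natCard_eq_pow_finrank (K := ZMod 2) (V := V)
      rw [R.card, Nat.card_zmod] at h
      have h' : 2 ^ 8 = 2 ^ Module.finrank (ZMod 2) V := by rw [← h]; norm_num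
      exact (Nat.pow_right_injective le_rfl h').symm
    have h4 := Module.natCard_eq_pow_finrank (K := ZMod 2)
      (V := R.b.orthogonal (Submodule.span (ZMod 2) {v}))
    rw [LinearMap.BilinForm.finrank_orthogonal hQF.nondeg, hV,
      finrank_span_singleton (R.ne_zero_of_q hR.q_v), Nat.card_zmod] at h4
    rw [h4, Nat.card_prod, Nat.card_zmod] at hle
    norm_num only [] at hle
    omega
  have hS1 : Finite S1 := Subtype.finite
  have hsurj : Function.Surjective F' := by
    have := Fintype.ofFinite S1
    have h4 : Nat.card S1 ≤ Nat.card SympT.W := by rw [card_W]; omega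
    have h5 : Function.Bijective F' := by
      rw [Fintype.bijective_iff_injective_and_card]
      refine ⟨hinj, ?_⟩
      rw [← Nat.card_eq_fintype_card, ← Nat.card_eq_fintype_card]
      exact le_antisymm (Nat.card_le_card_of_injective _ hinj) h4
    exact h5.2
  obtain ⟨u, hu⟩ := hsurj ⟨a, ha, hav⟩
  have hu' := congrArg (fun s : S1 => (s : V)) hu
  by_cases hu0 : u = 0
  · simp only [F', dif_pos hu0] at hu'
    exact absurd hu'.symm hne
  · simp only [F', dif_neg hu0] at hu'
    exact ⟨u, by rw [← hu']; exact h3 u hu0⟩

/-- from the reducible alternative to `Wd` and `Tr` -/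
theorem exists_wd (S : Sit G Q t) {v : S.large.V} (hR : (rep S).Red v) :
    ∃ x, ∃ w : Wd Q t x, Tr w := by
  have hfin := S.finite_Q
  obtain ⟨x, hx⟩ := S.large.pr_surjective v
  have hact : ∀ c : Subgroup.centralizer ({t} : Set G), S.large.act c v = v := by
    intro c
    rw [← S.rho_psi]
    exact hR.fix _
  have w : Wd Q t x := by
    refine ⟨S.large, S.card, x.2, ?_, ?_⟩
    · rw [← S.large.q_eq_one, hx]; exact hR.q_v
    · intro c hc
      have h1 := hact ⟨c, Subgroup.mem_centralizer_singleton_iff.2 hc⟩
      rw [← hx, S.large.act_pr, S.large.pr_eq_pr] at h1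
      exact h1
  refine ⟨x, w, ?_⟩
  intro h h0 hq hb
  have hv : v0 w = v := hx
  rw [hv] at hb ⊢
  have hq1 : (rep S).q (h + v) = 1 := by
    rw [(rep S).q_add, hR.q_v, show (rep S).q h = 0 from hq, show (rep S).b h v = 0 from hb]
    decide
  have hb1 : (rep S).b (h + v) v = 0 := by
    rw [map_add, LinearMap.add_apply, (rep S).b_self, show (rep S).b h v = 0 from hb]
    decide
  have hne : h + v ≠ v := fun hc => h0 (by simpa using hc)
  obtain ⟨u, hu⟩ := exists_u (rep S) hR (h + v) hq1 hb1 hne
  obtain ⟨c, hc⟩ := S.psi_surj (SympT.T u)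
  have hcc : (c : G) * t = t * c := Subgroup.mem_centralizer_singleton_iff.1 c.2
  refine ⟨c, hcc, ?_⟩
  intro y
  have h1 : A w.large (c : G) hcc y = S.rho (SympT.T u) y := by
    rw [← hc, S.rho_psi]; rfl
  rw [h1]
  exact hu y

/-- **the reducible alternative is impossible** -/
theorem red_false [Finite G] (hO : Cfsg.oddCore G = ⊥) (hZ : Subgroup.center G = ⊥)
    (S : Sit G Q t) {v : S.large.V} (hR : (rep S).Red v) : False := by
  obtain ⟨x, w, T⟩ := exists_wd S hR
  have htt : t * t = 1 := S.large.z_sq
  have hord : orderOf t = 2 := orderOf_eq_prime (by rw [pow_two]; exact htt) S.large.z_ne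
  have hiso : Cfsg.IsIsolatedInvolution t :=
    ⟨hord, fun g hg => eq_of_commute w T g hg.eq.symm⟩
  have : Fact (Nat.Prime 2) := ⟨Nat.prime_two⟩
  have hp : IsPGroup 2 (Subgroup.zpowers t) := by
    rw [IsPGroup.iff_card]
    exact ⟨1, by rw [Nat.card_zpowers, hord, pow_one]⟩
  obtain ⟨P, hP⟩ := hp.exists_le_sylow
  have htP : t ∈ P := hP (Subgroup.mem_zpowers t)
  obtain ⟨N, hN, hodd, hcomm⟩ := Cfsg.Agent.S0215.result P t hord htP (fun g hg =>
    Cfsg.Agent.S1180.eq_of_conj_mem_isPGroup t hiso P P.isPGroup' htP g hg)
  have hNbot : N = ⊥ := by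
    have h1 : N ≤ Cfsg.oddCore G := by
      apply le_sSup
      exact ⟨hN, Nat.coprime_two_right.mpr hodd⟩
    rw [hO] at h1
    exact le_bot_iff.1 h1
  have hcen : t ∈ Subgroup.center G := by
    rw [Subgroup.mem_center_iff]
    intro g
    have h1 := hcomm g
    rw [hNbot, Subgroup.mem_bot, mul_inv_eq_one, mul_inv_eq_iff_eq_mul] at h1
    exact h1.symm
  rw [hZ, Subgroup.mem_bot] at hcen
  exact S.large.z_ne hcen

/-- **piece A1 + A2**: the spin relation -/
theorem spin_of_sit [Finite G] (hO : Cfsg.oddCore G = ⊥) (hZ : Subgroup.center G = ⊥)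
    (S : Sit G Q t) : ∀ u w : SympT.W, SympT.om u w = 1 → ∀ v : S.large.V,
      S.rho (SympT.T u) v + S.rho (SympT.T w) v + S.rho (SympT.T (u + w)) v = 0 := by
  have hfin := S.finite_Q
  rcases (rep S).dichotomy with h | ⟨v, h⟩
  · exact h
  · exact (red_false hO hZ S h).elim

end Cfsg.Agent.Co2Type.RedMain
end

-- part: Co2Type/PieceA
section
/-!
# Piece A of S1675: the structure of `C_G(t)` (R03, helper902)
-/

set_option autoImplicit false

namespace Cfsg.Agent.Co2Type.PieceA

open Cfsg Cfsg.Agent.Co2Type.Quad Cfsg.Agent.Co2Type.Setup Cfsg.Agent.Co2Type.Spin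
open Cfsg.Agent.Co2Type.QModel Cfsg.Agent.Co2Type.Act Cfsg.Agent.Co2Type.Coord
open Cfsg.Agent.Co2Type.Rels Cfsg.Agent.Co2Type.Abs
open Cfsg.Agent.Co2Type.Abs.Pre Cfsg.Agent.Co2Type.ExistsRels
open Cfsg.Agent.ClassicalGeometry.SympBasic

section

variable {C : Type*} [Group C] {t : C} {ev : QM →* C} {psi : C →* Sp6}

theorem card_of_pre (P : Pre t ev psi) : Nat.card C = 743178240 := by
  have h1 : Nat.card C = Nat.card (C ⧸ psi.ker) * Nat.card psi.ker :=
    Subgroup.card_eq_card_quotient_mul_card_subgroup _
  have h2 : Nat.card (C ⧸ psi.ker) = 1451520 := by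
    rw [Nat.card_congr (QuotientGroup.quotientKerEquivOfSurjective psi P.psi_surj).toEquiv, card_sp6]
  have h3 : psi.ker = ev.range := by
    ext x
    rw [MonoidHom.mem_ker, P.psi_ker]
  have h4 : Nat.card psi.ker = 512 := by
    rw [h3, ← Unique.card_QM]
    exact (Nat.card_congr (MonoidHom.ofInjective P.ev_inj).toEquiv).symm
  rw [h1, h2, h4]

theorem cen_of_pre (P : Pre t ev psi) (c : C) (hc : ∀ x, c * ev x = ev x * c) : c ∈ ev.range := by
  rcases P.self c (fun I => by rw [hc]; group) with h | h
  · rw [h]; exact one_mem _
  · rw [h, ← P.ev_z]; exact ⟨_, rfl⟩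

end

variable {G : Type*} [Group G]

/-- everything that we know about `C_G(t)` -/
structure A (Q : Subgroup G) (t : G) where
  S : Sit G Q t
  hs : SpinHyp S.rho
  ev : QM →* Subgroup.centralizer ({t} : Set G)
  D : ℕ → Subgroup.centralizer ({t} : Set G)
  R : Rels false (_root_.Cfsg.Agent.Co2Type.ExistsRels.tc t) ev D
  hpsi : ∀ j, j < 7 → S.psi (D j) = transv (uv j) 1
  P : Pre (tc t) ev S.psi
  hQ : ∀ x : QM, (ev x : G) ∈ Q
  hQ' : ∀ x ∈ Q, ∃ y : QM, (ev y : G) = x
  wc : Pair.WC Q t

namespace A

variable {Q : Subgroup G} {t : G}

theorem card (a : A Q t) : Nat.card (Subgroup.centralizer ({t} : Set G)) = 743178240 :=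
  card_of_pre a.P

theorem data (a : A Q t) : CCode.Data a.R := ⟨a.card, cen_of_pre a.P⟩

theorem t_sq (a : A Q t) : t * t = 1 := a.S.large.z_sq

theorem t_ne (a : A Q t) : t ≠ 1 := a.S.large.z_ne

end A

/-- piece A -/
theorem exists_A [Finite G] (hO : Cfsg.oddCore G = ⊥) (hZ : Subgroup.center G = ⊥) (t : G)
    (ht : orderOf t = 2)
    (hcon : Cfsg.IsPConstrained 2 (Subgroup.centralizer ({t} : Set G)))
    (hQ : Cfsg.IsExtraspecial 2 (Cfsg.pCore 2 (Subgroup.centralizer ({t} : Set G))))
    (hcard : Nat.card (Cfsg.pCore 2 (Subgroup.centralizer ({t} : Set G))) = 2 ^ 9)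
    (e : (Subgroup.centralizer ({t} : Set G)) ⧸ Cfsg.pCore 2 (Subgroup.centralizer ({t} : Set G)) ≃*
      Matrix.symplecticGroup (Fin 3) (ZMod 2)) :
    ∃ Q : Subgroup G, Nonempty (A Q t) := by
  obtain ⟨S⟩ := exists_sit t ht hcon hQ hcard e
  have hfin := S.finite_Q
  have hs : SpinHyp S.rho := RedMain.spin_of_sit hO hZ S
  obtain ⟨eps, ev, D, R, hpsi, h1, h2, P⟩ := _root_.Cfsg.Agent.Co2Type.ExistsRels.exists_rels S hs
  have heps := TwistDead.eps_false hO hZ S hs R hpsi P
  subst heps
  exact ⟨_, ⟨⟨S, hs, ev, D, R, hpsi, P, h1, h2, WeakB1.wc S hs⟩⟩⟩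

end Cfsg.Agent.Co2Type.PieceA
end

-- part: Co2Type/R5
section
/-!
# The centraliser of `ker n_u` in `Sp6(2)` (R03, Co2 type, letter B, helper595)

`fix_ker`: an element of `Sp6(2)` acting trivially on `ker n_u` is `line u w` or `d_u * line u w`
with `w ⊥ u`.
-/

set_option autoImplicit false

namespace Cfsg.Agent.Co2Type.R5

open Cfsg Cfsg.Agent.Co2Type.Quad Cfsg.Agent.Co2Type.Setup Cfsg.Agent.Co2Type.Spin
open Cfsg.Agent.Co2Type.LineMod
open Cfsg.Agent.SporRec.TwoSp6
open Cfsg.Agent.SporRec.TwoSp6.Sp (tr act act_om act_add act_mul act_one conj_tr tr_comm tr_sq act_tr)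

variable {G : Type*} [Group G] {Q : Subgroup G} {t : G} {S : Sit G Q t}

theorem addV {h : Large Q t} (v : h.V) : v + v = 0 := h.add_self v

theorem nontrivialV (S : Sit G Q t) : ∃ v : S.large.V, v ≠ 0 := by
  have : Finite S.large.V := (Nat.card_pos_iff.1 (by rw [S.card_V]; norm_num)).2
  have hnt : Nontrivial S.large.V := by
    rw [← Finite.one_lt_card_iff_nontrivial, S.card_V]; norm_num
  exact exists_ne 0

variable (hs : SpinHyp S.rho)

include hs

/-- `n_u ≠ 0` for `u ≠ 0` -/
theorem exists_n_ne {u : U} (hu : u ≠ 0) : ∃ v : S.large.V, n S.rho u v ≠ 0 := by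
  by_contra h
  push Not at h
  obtain ⟨a, ha⟩ := Sp.exists_om_one hu
  obtain ⟨v, hv⟩ := nontrivialV S
  have h1 := n_anticomm_apply hs u a v
  have ha' : sf u a = 1 := ha
  rw [h, h, map_zero, zero_add, ha', one_smul] at h1
  exact hv h1.symm

/-- `ker n_u = im n_u` -/
theorem exists_of_ker {u : U} (hu : u ≠ 0) {v : S.large.V} (hv : n S.rho u v = 0) :
    ∃ w, v = n S.rho u w := by
  obtain ⟨a, ha⟩ := Sp.exists_om_one hu
  have ha' : sf u a = 1 := ha
  refine ⟨n S.rho a v, ?_⟩
  rw [n_anticomm_apply hs u a, hv, map_zero, ha', one_smul, zero_add]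

theorem n_add_apply (u w : U) (v : S.large.V) :
    n S.rho (u + w) v = n S.rho u v + n S.rho w v + sf u w • v := by
  rw [n_add hs S.card_V]; rfl

/-- `n_w n_u = 0` only if `w ∈ ⟨u⟩` -/
theorem nn_zero {u w : U} (hu : u ≠ 0) (h : ∀ v, n S.rho w (n S.rho u v) = 0) : w = 0 ∨ w = u := by
  by_contra hne
  push Not at hne
  obtain ⟨hw0, hwu⟩ := hne
  obtain ⟨v, hv⟩ := exists_n_ne hs hu
  rcases zmod2_cases (sf w u) with h0 | h0
  · obtain ⟨a, ha1, ha2⟩ := Sp.exists_om_one_zero hw0 hwu
    have h1 : sf w a = 1 := ha1
    have h2 : sf u a = 0 := ha2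
    have e1 := n_anticomm_apply hs w a (n S.rho u v)
    rw [h, map_zero, h1, one_smul, zero_add] at e1
    have e2 : n S.rho a (n S.rho u v) = n S.rho u (n S.rho a v) := by
      rw [n_anticomm_apply hs a u, sf_comm, h2, zero_smul, add_zero]
    rw [e2, h] at e1
    exact hv e1.symm
  · have e1 := n_anticomm_apply hs w u v
    rw [h, h0, one_smul] at e1
    have e2 := congrArg (n S.rho u) e1
    rw [map_zero, map_add, n_n_apply, zero_add] at e2
    exact hv e2.symm

/-- `u ↦ n_u` is injective -/
theorem n_inj {u w : U} (h : ∀ v, n S.rho u v = n S.rho w v) : u = w := by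
  apply Invol.eq_of_add_eq_zero
  by_contra hne
  obtain ⟨v, hv⟩ := exists_n_ne hs hne
  rcases zmod2_cases (sf u w) with h0 | h0
  · apply hv
    rw [n_add_apply hs, h, h0, zero_smul, add_zero, addV]
  · have e1 : ∀ x, n S.rho (u + w) x = x := by
      intro x
      rw [n_add_apply hs, h, h0, one_smul, addV, zero_add]
    have e2 := n_n_apply (rho := S.rho) (u + w) v
    rw [e1] at e2
    exact hv e2

omit hs in
theorem act_line {u w : U} (h : sf u w = 0) (x : U) :
    act (line u w) x = x + (sf x w • u + sf x u • w) := Invol.tr3_apply h x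

/-- an element of `Sp6(2)` acting trivially on `ker n_u` -/
theorem fix_ker {u : U} (hu : u ≠ 0) {g : Sp6} (hg : ∀ v, n S.rho u v = 0 → S.rho g v = v) :
    ∃ w, sf u w = 0 ∧ (g = line u w ∨ g = tr u * line u w) := by
  have hbr := S.b_rho
  have hnd : ∀ v, (∀ w, S.large.b v w = 0) → v = 0 := fun v hv => S.large.b_nondeg hv
  have g1 : ∀ v, S.rho g (n S.rho u v) = n S.rho u v := fun v => hg _ (n_n_apply u v)
  -- `n_u g = n_u`
  have g2 : ∀ v, n S.rho u (S.rho g v) = n S.rho u v := by
    intro v
    have h1 : n S.rho u (S.rho g v + v) = 0 := by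
      apply hnd
      intro x
      rw [b_n_left hbr, map_add, LinearMap.add_apply]
      have h2 := hbr g v (n S.rho u x)
      rw [g1] at h2
      rw [h2]
      exact zmod2_add_self _
    rw [map_add] at h1
    have h2 := congrArg (fun z => z + n S.rho u v) h1
    simp only [add_assoc, addV, add_zero, zero_add] at h2
    exact h2
  -- `g u = u`
  have gu : act g u = u := by
    apply n_inj hs
    intro v
    obtain ⟨v', rfl⟩ := (S.rho g).surjective v
    have h1 := rho_n (rho := S.rho) g u v'
    rw [g1] at h1
    show n S.rho ((g : Matrix _ _ (ZMod 2)).mulVec u) _ = _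
    rw [← h1, g2]
  -- `g p = p` or `p + u` for `p ⊥ u`
  have gp : ∀ p, sf u p = 0 → act g p = p ∨ act g p = p + u := by
    intro p hp
    have h1 : ∀ v, n S.rho (act g p) (n S.rho u v) = n S.rho p (n S.rho u v) := by
      intro v
      have h2 := rho_n (rho := S.rho) g p (n S.rho u v)
      rw [g1] at h2
      have h3 : S.rho g (n S.rho p (n S.rho u v)) = n S.rho p (n S.rho u v) := by
        apply hg
        rw [n_anticomm_apply hs u p, n_n_apply, map_zero, hp, zero_smul, add_zero]
      rw [h3] at h2
      exact h2.symm
    have h4 : ∀ v, n S.rho (act g p + p) (n S.rho u v) = sf (act g p) p • n S.rho u v := by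
      intro v
      rw [n_add_apply hs, h1, addV, zero_add]
    rcases zmod2_cases (sf (act g p) p) with h0 | h0
    · have h5 : ∀ v, n S.rho (act g p + p) (n S.rho u v) = 0 := by
        intro v; rw [h4, h0, zero_smul]
      rcases nn_zero hs hu h5 with h6 | h6
      · left; exact Invol.eq_of_add_eq_zero h6
      · right
        rw [add_comm]
        apply Invol.eq_of_add_eq_zero
        rw [← add_assoc, add_right_comm, h6, Sp.add_self]
    · exfalso
      obtain ⟨v, hv⟩ := exists_n_ne hs hu
      have h5 := h4 v
      rw [h0, one_smul] at h5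
      have h6 := congrArg (n S.rho (act g p + p)) h5
      rw [n_n_apply, h5] at h6
      exact hv h6.symm
  -- the vector `w`
  obtain ⟨a, ha⟩ := Sp.exists_om_one hu
  have ha' : sf u a = 1 := ha
  have hom : ∀ x y : U, sf (act g x) (act g y) = sf x y := act_om g
  set w := act g a + a with hw
  have huw : sf u w = 0 := by
    have h1 := hom u a
    rw [gu] at h1
    rw [hw, sf_add, h1]
    exact zmod2_add_self _
  have hgp : ∀ p, sf u p = 0 → act g p = p + sf p w • u := by
    intro p hp
    have h1 := hom p a
    rcases gp p hp with h2 | h2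
    · have h3 : sf p w = 0 := by
        rw [h2] at h1
        rw [hw, sf_add, h1]; exact zmod2_add_self _
      rw [h3, zero_smul, add_zero]; exact h2
    · have h3 : sf p w = 1 := by
        have h4 : sf u (act g a) = 1 := by
          have := hom u a
          rw [gu, ha'] at this; exact this
        rw [h2, sf_add', h4] at h1
        rw [hw, sf_add, ← h1]
        generalize sf p (act g a) = z
        revert z; decide
      rw [h3, one_smul]; exact h2
  refine ⟨w, huw, ?_⟩
  have hga : act g a = a + w := by
    rw [hw, add_comm (act g a) a, ← add_assoc, Sp.add_self, zero_add]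
  have hau : sf a u = 1 := by rw [sf_comm]; exact ha'
  have hdec : ∀ x : U, sf u (x + sf x u • a) = 0 := by
    intro x
    rw [sf_add, sf_comm u x]
    rcases zmod2_cases (sf x u) with h | h
    · rw [h, zero_smul, zero_add]
      exact Invol.om_zero u
    · rw [h, one_smul, ha']; decide
  have hgx : ∀ x : U, act g x = (x + sf x u • a) + sf (x + sf x u • a) w • u +
      sf x u • (a + w) := by
    intro x
    have h1 : x = (x + sf x u • a) + sf x u • a := by
      rw [add_assoc, Sp.add_self, add_zero]
    conv_lhs => rw [h1]
    rw [act_add, hgp _ (hdec x), Invol.act_smul, hga]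
  rcases zmod2_cases (sf a w) with h0 | h0
  · left
    apply Sp.act_ext
    intro x
    rw [hgx, act_line huw]
    rcases zmod2_cases (sf x u) with h | h
    · simp only [h, zero_smul, add_zero]
    · simp only [h, one_smul]
      rw [sf_add', h0, add_zero]
      calc x + a + sf x w • u + (a + w) = (a + a) + (x + (sf x w • u + w)) := by abel
        _ = _ := by rw [Sp.add_self, zero_add]
  · right
    apply Sp.act_ext
    intro x
    rw [act_mul, act_tr, hgx, act_line huw]
    have e1 : Sp.om (x + (sf x w • u + sf x u • w)) u = sf x u := by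
      show sf _ u = _
      have huu : sf u u = 0 := sf_self u
      have hwu : sf w u = 0 := by rw [sf_comm]; exact huw
      rw [sf_add', sf_add']
      have e2 : sf (sf x w • u) u = 0 := by
        have := Invol.om_smul' (sf x w) u u
        rw [show Sp.om u u = 0 from huu, mul_zero] at this
        exact this
      have e3 : sf (sf x u • w) u = 0 := by
        have := Invol.om_smul' (sf x u) w u
        rw [show Sp.om w u = 0 from hwu, mul_zero] at this
        exact this
      rw [e2, e3, add_zero, add_zero]
    rw [e1]
    rcases zmod2_cases (sf x u) with h | h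
    · simp only [h, zero_smul, add_zero]
    · simp only [h, one_smul]
      rw [sf_add', h0, add_smul, one_smul]
      calc x + a + (sf x w • u + u) + (a + w) = (a + a) + (x + (sf x w • u + w) + u) := by abel
        _ = _ := by rw [Sp.add_self, zero_add]

end Cfsg.Agent.Co2Type.R5
end

-- part: Co2Type/CosetB
section
/-!
# Involutions over the types `b1` and `c2` (R03, Co2 type, letter B, helper595)

`BC r h`: `r = d_h` or `r = d_a d_b` with `a ⊥ b`, `h = a + b`.  Then `ker (ρ(r)-1) = im (ρ(r)-1) = ker n_h`.
`chi_gen`: `σ r` centralises every `x ∈ Q` with `x̄` fixed by `r`, if `r` commutes with a hyperbolic pair of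
transvections.  `coset`: every involution of `C(t)` over `r` is `Q`-conjugate to `σ r` or `t σ r`.
-/

set_option autoImplicit false

namespace Cfsg.Agent.Co2Type.CosetB

open Cfsg Subgroup Cfsg.Agent.Co2Type.Quad Cfsg.Agent.Co2Type.Setup Cfsg.Agent.Co2Type.Spin
open Cfsg.Agent.Co2Type.LineMod Cfsg.Agent.Co2Type.Alpha Cfsg.Agent.Co2Type.R5
open Cfsg.Agent.SporRec.TwoSp6
open Cfsg.Agent.SporRec.TwoSp6.Sp (tr act act_om act_add act_mul act_one conj_tr tr_comm tr_sq act_tr)

/-- the types `b1` and `c2` -/
def BC (r : Sp6) (h : U) : Prop :=
  (h ≠ 0 ∧ r = tr h) ∨ ∃ a b, IsLine a b ∧ h = a + b ∧ r = tr a * tr b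

theorem BC.ne {r : Sp6} {h : U} (H : BC r h) : h ≠ 0 := by
  rcases H with ⟨H, -⟩ | ⟨a, b, hl, rfl, -⟩
  · exact H
  · intro h0
    exact hl.2.2.1 (Invol.eq_of_add_eq_zero h0).symm

theorem BC.sq {r : Sp6} {h : U} (H : BC r h) : r * r = 1 := by
  rcases H with ⟨-, rfl⟩ | ⟨a, b, hl, -, rfl⟩
  · exact tr_sq h
  · have h1 : tr a * tr b = tr b * tr a := tr_comm hl.2.2.2
    calc tr a * tr b * (tr a * tr b) = tr a * (tr b * tr a) * tr b := by group
      _ = (tr a * tr a) * (tr b * tr b) := by rw [← h1]; group
      _ = 1 := by rw [tr_sq, tr_sq, one_mul]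

/-- a hyperbolic pair commuting with `r` -/
theorem BC.exists_hyp {r : Sp6} {h : U} (H : BC r h) :
    ∃ p p' : U, sf p p' = 1 ∧ sf h p = 0 ∧ sf h p' = 0 ∧ r * tr p = tr p * r ∧
      r * tr p' = tr p' * r := by
  rcases H with ⟨H, rfl⟩ | ⟨a, b, hl, rfl, rfl⟩
  · obtain ⟨g, hg⟩ := Sp.exists_act (u := e 0) (w := h) (by decide +kernel) H
    have h1 : sf h (act g (e 1)) = 0 := by
      rw [← hg]; exact (act_om g _ _).trans (sf_e_e 0 1)
    have h2 : sf h (act g (f 1)) = 0 := by
      rw [← hg]; exact (act_om g _ _).trans (by show sf _ _ = 0; rw [sf_e_f]; rfl)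
    refine ⟨act g (e 1), act g (f 1), ?_, h1, h2, tr_comm h1, tr_comm h2⟩
    exact (act_om g _ _).trans (by show sf _ _ = 1; rw [sf_e_f]; rfl)
  · obtain ⟨u, w, h1, h2, h3, h4, h5⟩ := LineMod.exists_hyp hl
    refine ⟨u, w, h5, by rw [sf_add', h1, h2, add_zero], by rw [sf_add', h3, h4, add_zero], ?_, ?_⟩
    · have e1 : tr a * tr u = tr u * tr a := tr_comm h1
      have e2 : tr b * tr u = tr u * tr b := tr_comm h2
      rw [mul_assoc, e2, ← mul_assoc, e1, mul_assoc]
    · have e1 : tr a * tr w = tr w * tr a := tr_comm h3
      have e2 : tr b * tr w = tr w * tr b := tr_comm h4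
      rw [mul_assoc, e2, ← mul_assoc, e1, mul_assoc]

variable {G : Type*} [Group G] {Q : Subgroup G} {t : G}

section Mod

variable {S : Sit G Q t} (hs : SpinHyp S.rho)
include hs

theorem rho_sub {r : Sp6} {h : U} (H : BC r h) :
    ∃ φ : S.large.V → S.large.V, (∀ v, S.rho r v + v = n S.rho h (φ v)) ∧
      (∀ v, φ (φ v) = v) ∧ (∀ v, n S.rho h v = 0 → n S.rho h (φ v) = 0) := by
  rcases H with ⟨H, rfl⟩ | ⟨a, b, hl, rfl, rfl⟩
  · refine ⟨id, ?_, fun _ => rfl, fun _ h => h⟩
    intro v
    rw [rho_tr, add_comm v, add_assoc, addV, add_zero]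
    rfl
  · refine ⟨fun v => v + n S.rho a v, ?_, ?_, ?_⟩
    · intro v
      rw [map_mul, LinearEquiv.mul_apply, rho_tr, rho_tr, n_add_zero hs S.card_V hl.2.2.2]
      simp only [map_add, n_n_apply]
      rw [n_comm_apply hs hl.2.2.2]
      calc v + n S.rho b v + (n S.rho a v + n S.rho b (n S.rho a v)) + v
          = (v + v) + (n S.rho b v + (n S.rho a v + n S.rho b (n S.rho a v))) := by abel
        _ = _ := by rw [addV]; abel
    · intro v
      simp only [map_add, n_n_apply, add_zero]
      rw [add_assoc, addV, add_zero]
    · intro v hv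
      simp only [map_add]
      have hc : sf (a + b) a = 0 := by
        rw [sf_add', sf_self, sf_comm, hl.2.2.2, add_zero]
      rw [hv, n_comm_apply hs hc, hv, map_zero, add_zero]

theorem fix_iff {r : Sp6} {h : U} (H : BC r h) (v : S.large.V) :
    S.rho r v = v ↔ n S.rho h v = 0 := by
  obtain ⟨φ, h1, h2, h3⟩ := rho_sub hs H
  constructor
  · intro hv
    have h4 := h1 v
    rw [hv, addV] at h4
    have h5 := h3 _ h4.symm
    rwa [h2] at h5
  · intro hv
    have h4 := h1 v
    rw [h3 v hv] at h4
    have h5 := congrArg (fun z => z + v) h4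
    simp only [add_assoc, zero_add] at h5
    rwa [addV, add_zero] at h5

theorem exists_sub {r : Sp6} {h : U} (H : BC r h) {v : S.large.V} (hv : n S.rho h v = 0) :
    ∃ w, v = S.rho r w + w := by
  obtain ⟨φ, h1, h2, h3⟩ := rho_sub hs H
  obtain ⟨w, rfl⟩ := exists_of_ker hs H.ne hv
  exact ⟨φ w, by rw [h1, h2]⟩

end Mod

section Chi

variable (S : Sit G Q t) (σ : Sp6 →* centralizer ({t} : Set G)) (hσ : ∀ g, S.psi (σ g) = g)
variable (hs : SpinHyp S.rho)
include hσ hs

/-- `σ r` centralises every element of `Q` whose image it fixes -/
theorem chi_gen {r : Sp6} {p p' : U} (hpp : sf p p' = 1) (c1 : r * tr p = tr p * r)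
    (c2 : r * tr p' = tr p' * r) {x : G} (hx : x ∈ Q)
    (hfix : S.rho r (S.large.pr ⟨x, hx⟩) = S.large.pr ⟨x, hx⟩) :
    sg σ r * x = x * sg σ r := by
  have htt := tt S
  have hmem : ∀ g : Sp6, sg σ g * x * (sg σ g)⁻¹ ∈ Q := fun g => conj_mem S (sg_comm σ g) hx
  have hrt : sg σ r * t = t * sg σ r := sg_comm σ _
  have h1 : sg σ r * x * (sg σ r)⁻¹ = x ∨ sg σ r * x * (sg σ r)⁻¹ = x * t := by
    apply eq_or_of_pr S (hmem _) hx
    rw [pr_conj S σ r ⟨x, hx⟩ (hmem _) hσ, hfix]
  rcases h1 with h1 | h1
  · exact mul_inv_eq_iff_eq_mul.mp h1
  exfalso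
  set l1 := tr p * tr p' with hl1
  set l2 := tr p * tr (p + p') with hl2
  have e3 : tr p * tr p' * (tr p)⁻¹ = tr (p + p') := by
    have h3 := conj_tr (tr p) p'
    rw [h3, act_tr]
    have : Sp.om p' p = 1 := by rw [Sp.om_symm]; exact hpp
    rw [this, one_smul, add_comm]
  have c1' : r * (tr p)⁻¹ = (tr p)⁻¹ * r := by
    rw [eq_inv_mul_iff_mul_eq, ← mul_assoc, ← c1, mul_assoc, mul_inv_cancel, mul_one]
  have c3 : r * tr (p + p') = tr (p + p') * r := by
    rw [← e3]
    calc r * (tr p * tr p' * (tr p)⁻¹) = (r * tr p) * tr p' * (tr p)⁻¹ := by group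
      _ = tr p * (r * tr p') * (tr p)⁻¹ := by rw [c1]; group
      _ = tr p * tr p' * (r * (tr p)⁻¹) := by rw [c2]; group
      _ = _ := by rw [c1']; group
  have d1 : r * l1 = l1 * r := by rw [hl1, ← mul_assoc, c1, mul_assoc, c2, mul_assoc]
  have d2 : r * l2 = l2 * r := by rw [hl2, ← mul_assoc, c1, mul_assoc, c3, mul_assoc]
  have mv : ∀ l : Sp6, r * l = l * r →
      sg σ r * (sg σ l * x * (sg σ l)⁻¹) * (sg σ r)⁻¹ = (sg σ l * x * (sg σ l)⁻¹) * t := by
    intro l hl
    have e1 : sg σ r * sg σ l = sg σ l * sg σ r := by rw [← sg_mul, hl, sg_mul]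
    have e2 : (sg σ l)⁻¹ * (sg σ r)⁻¹ = (sg σ r)⁻¹ * (sg σ l)⁻¹ := by
      rw [← mul_inv_rev, e1, mul_inv_rev]
    have e3 : t * (sg σ l)⁻¹ = (sg σ l)⁻¹ * t := by
      rw [← sg_inv]; exact (sg_comm σ _).symm
    calc sg σ r * (sg σ l * x * (sg σ l)⁻¹) * (sg σ r)⁻¹
        = (sg σ r * sg σ l) * x * ((sg σ l)⁻¹ * (sg σ r)⁻¹) := by group
      _ = sg σ l * (sg σ r * x * (sg σ r)⁻¹) * (sg σ l)⁻¹ := by rw [e1, e2]; group
      _ = sg σ l * x * (t * (sg σ l)⁻¹) := by rw [h1]; group
      _ = _ := by rw [e3]; group
  have m1 := mv l1 d1
  have m2 := mv l2 d2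
  have q1 := hmem l1
  have q2 := hmem l2
  have p1 := pr_conj S σ l1 ⟨x, hx⟩ q1 hσ
  have p2 := pr_conj S σ l2 ⟨x, hx⟩ q2 hσ
  set x1 := sg σ l1 * x * (sg σ l1)⁻¹ with hx1
  set x2 := sg σ l2 * x * (sg σ l2)⁻¹ with hx2
  have hsum : ∀ v, v + S.rho l1 v + S.rho l2 v = 0 := by
    intro v
    have h2 := hs p p' hpp v
    have h3 : S.rho (tr p) (S.rho (tr p) v) + S.rho (tr p) (S.rho (tr p') v) +
        S.rho (tr p) (S.rho (tr (p + p')) v) = 0 := by
      have h3 := congrArg (S.rho (tr p)) h2
      rw [map_zero, map_add, map_add] at h3
      exact h3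
    have e0 : S.rho (tr p) (S.rho (tr p) v) = v := by
      have e1 : S.rho (tr p * tr p) v = v := by
        rw [tr_sq, map_one]; rfl
      rw [map_mul] at e1
      exact e1
    rw [e0] at h3
    rw [hl1, hl2, map_mul, map_mul]
    exact h3
  have h4 : S.large.pr (⟨x, hx⟩ * ⟨x1, q1⟩ * ⟨x2, q2⟩) = 0 := by
    rw [S.large.pr_mul, S.large.pr_mul, p1, p2, hsum]
  have h5 : x * x1 * x2 = 1 ∨ x * x1 * x2 = t := S.large.pr_eq_zero.1 h4
  have h6 : sg σ r * (x * x1 * x2) * (sg σ r)⁻¹ = x * x1 * x2 := by
    rcases h5 with h5 | h5
    · rw [h5]; group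
    · rw [h5, hrt]; group
  have x1t : x1 * t = t * x1 := comm_t S q1
  have x2t : x2 * t = t * x2 := comm_t S q2
  have h7 : sg σ r * (x * x1 * x2) * (sg σ r)⁻¹ = x * x1 * x2 * t := by
    calc sg σ r * (x * x1 * x2) * (sg σ r)⁻¹ = (sg σ r * x * (sg σ r)⁻¹) *
          (sg σ r * x1 * (sg σ r)⁻¹) * (sg σ r * x2 * (sg σ r)⁻¹) := by group
      _ = (x * t) * (x1 * t) * (x2 * t) := by rw [h1, m1, m2]
      _ = x * (t * x1) * (t * x2) * t := by group
      _ = x * (x1 * t) * (t * x2) * t := by rw [← x1t]
      _ = x * x1 * (t * t) * x2 * t := by group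
      _ = _ := by rw [htt]; group
  rw [h6] at h7
  exact t_ne S (left_eq_mul.mp h7)

theorem chi_BC {r : Sp6} {h : U} (H : BC r h) {x : G} (hx : x ∈ Q)
    (hfix : n S.rho h (S.large.pr ⟨x, hx⟩) = 0) : sg σ r * x = x * sg σ r := by
  obtain ⟨p, p', hpp, -, -, c1, c2⟩ := H.exists_hyp
  exact chi_gen S σ hσ hs hpp c1 c2 hx ((fix_iff hs H _).2 hfix)

/-- every involution over `r` is `Q`-conjugate to `σ r` or `t σ r` -/
theorem coset {r : Sp6} {h : U} (H : BC r h) {z : G} (hzt : z * t = t * z) (hzz : z * z = 1)
    (hz : S.ps hzt = r) :
    ∃ q ∈ Q, q * sg σ r * q⁻¹ = z ∨ q * (t * sg σ r) * q⁻¹ = z := by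
  set s := sg σ r with hsdef
  have hst : s * t = t * s := sg_comm σ r
  have hss : s * s = 1 := by rw [hsdef, ← sg_mul, H.sq, sg_one]
  have hsi : s⁻¹ = s := inv_eq_of_mul_eq_one_left hss
  have htt := tt S
  have hps : S.ps hst = r := by
    have : S.ps hst = S.psi (σ r) := rfl
    rw [this, hσ]
  -- x = z s⁻¹
  have hx : z * s ∈ Q := by
    have hzs : z * s * t = t * (z * s) := by rw [mul_assoc, hst, ← mul_assoc, hzt, mul_assoc]
    rw [← S.ps_eq_one hzs, S.ps_mul hzt hst hzs, hz, hps, H.sq]
  set x := z * s with hxdef
  have hzx : z = x * s := by rw [hxdef, mul_assoc, hss, mul_one]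
  have hsx : s * x * s⁻¹ = x⁻¹ := by
    rw [hsi]
    have h1 : x * s * (x * s) = 1 := by rw [← hzx]; exact hzz
    calc s * x * s = x⁻¹ * (x * s * (x * s)) := by group
      _ = x⁻¹ := by rw [h1, mul_one]
  have hfix : S.rho r (S.large.pr ⟨x, hx⟩) = S.large.pr ⟨x, hx⟩ := by
    have h1 := pr_conj S σ r ⟨x, hx⟩ (conj_mem S hst hx) hσ
    rw [← h1]
    have h2 : (⟨sg σ r * x * (sg σ r)⁻¹, conj_mem S hst hx⟩ : Q) = (⟨x, hx⟩ : Q)⁻¹ :=
      Subtype.ext hsx
    rw [h2, S.large.pr_inv, S.large.neg_eq]
  have hn := (fix_iff hs H _).1 hfix
  obtain ⟨w, hw⟩ := exists_sub hs H hn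
  obtain ⟨y, rfl⟩ := S.large.pr_surjective w
  -- y s y⁻¹ s⁻¹
  have hm : (y : G) * (s * (y : G)⁻¹ * s⁻¹) ∈ Q := mul_mem y.2 (conj_mem S hst (inv_mem y.2))
  have h3 : S.large.pr ⟨_, hm⟩ = S.large.pr ⟨x, hx⟩ := by
    rw [hw]
    have h4 : (⟨_, hm⟩ : Q) = y * ⟨s * (y⁻¹ : Q) * s⁻¹, conj_mem S hst (y⁻¹).2⟩ := Subtype.ext rfl
    rw [h4, S.large.pr_mul, pr_conj S σ r (y⁻¹) _ hσ, S.large.pr_inv, S.large.neg_eq, add_comm]
  refine ⟨y, y.2, ?_⟩
  have hyt : (y : G) * t = t * y := comm_t S y.2
  rcases eq_or_of_pr S hm hx h3 with h5 | h5
  · left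
    calc (y : G) * s * (y : G)⁻¹ = (y * (s * (y : G)⁻¹ * s⁻¹)) * s := by group
      _ = z := by rw [h5, ← hzx]
  · right
    calc (y : G) * (t * s) * (y : G)⁻¹ = (y * t) * s * (y : G)⁻¹ := by group
      _ = t * ((y * (s * (y : G)⁻¹ * s⁻¹)) * s) := by rw [hyt]; group
      _ = (t * x) * t * s := by rw [h5]; group
      _ = (x * t) * t * s := by rw [comm_t S hx]
      _ = x * (t * t) * s := by group
      _ = z := by rw [htt, mul_one, ← hzx]

end Chi

end Cfsg.Agent.Co2Type.CosetB
end

-- part: Co2Type/CentCard
section
/-!
# `|C_Q(x)| ≥ 16` for an involution `x` of `C(t)` (R03, Co2 type, letter B, helper595)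
-/

set_option autoImplicit false
open Cfsg

namespace Cfsg.Agent.Co2Type.Pair

open Cfsg.Agent.Co2Type.Quad Cfsg.Agent.Co2Type.Setup

variable {G : Type*} [Group G] {Q : Subgroup G} {t : G}

theorem card_cent_ge (S : Sit G Q t) {x : G} (hxt : x * t = t * x) (hxx : x * x = 1) :
    2 ^ 4 ≤ Nat.card (dsub Q x) := by
  classical
  have := S.finite_Q
  have : Module.Finite (ZMod 2) S.large.V := Module.Finite.of_finite
  set c : Subgroup.centralizer ({t} : Set G) := ⟨x, Subgroup.mem_centralizer_singleton_iff.2 hxt⟩ with hc
  have hcc : c * c = 1 := Subtype.ext hxx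
  set N : S.large.V →ₗ[ZMod 2] S.large.V := LinearMap.id + (S.large.act c : S.large.V →ₗ[ZMod 2] S.large.V)
    with hN
  have hNa : ∀ v, N v = v + S.large.act c v := fun v => rfl
  have haa : ∀ v, S.large.act c (S.large.act c v) = v := by
    intro v
    have h1 : S.large.act (c * c) v = v := by rw [hcc, map_one]; rfl
    rw [map_mul] at h1
    exact h1
  have hNN : ∀ v, N (N v) = 0 := by
    intro v
    rw [hNa, hNa, map_add, haa]
    have h2 := S.large.add_self
    calc v + S.large.act c v + (S.large.act c v + v)
        = (v + v) + (S.large.act c v + S.large.act c v) := by abel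
      _ = 0 := by rw [h2, h2, add_zero]
  have hle : LinearMap.range N ≤ LinearMap.ker N := by
    rintro _ ⟨v, rfl⟩
    exact hNN v
  have h3 := LinearMap.finrank_range_add_finrank_ker N
  rw [S.finrank_V] at h3
  have h4 : Module.finrank (ZMod 2) (LinearMap.range N) ≤ Module.finrank (ZMod 2) (LinearMap.ker N) :=
    Submodule.finrank_mono hle
  have h5 : Module.finrank (ZMod 2) (LinearMap.range N) ≤ 4 := by omega
  have h6 : Nat.card (LinearMap.range N) ≤ 2 ^ 4 := by
    rw [Module.natCard_eq_pow_finrank (K := ZMod 2), Nat.card_zmod]
    exact Nat.pow_le_pow_right (by norm_num) h5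
  -- the preimage of the image of `N`
  let K : Subgroup G :=
    { carrier := {m | ∃ hm : m ∈ Q, S.large.pr ⟨m, hm⟩ ∈ LinearMap.range N}
      one_mem' := ⟨one_mem Q, by
        have : S.large.pr ⟨1, one_mem Q⟩ = 0 := S.large.pr_one
        rw [this]; exact Submodule.zero_mem _⟩
      mul_mem' := by
        rintro a b ⟨ha, ha'⟩ ⟨hb, hb'⟩
        refine ⟨mul_mem ha hb, ?_⟩
        have : S.large.pr ⟨a * b, mul_mem ha hb⟩ = S.large.pr ⟨a, ha⟩ + S.large.pr ⟨b, hb⟩ :=
          S.large.pr_mul ⟨a, ha⟩ ⟨b, hb⟩
        rw [this]; exact Submodule.add_mem _ ha' hb'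
      inv_mem' := by
        rintro a ⟨ha, ha'⟩
        refine ⟨inv_mem ha, ?_⟩
        have : S.large.pr ⟨a⁻¹, inv_mem ha⟩ = - S.large.pr ⟨a, ha⟩ := S.large.pr_inv ⟨a, ha⟩
        rw [this]; exact Submodule.neg_mem _ ha' }
  have hKQ : K ≤ Q := fun m hm => hm.1
  have hKt : t ∈ K := ⟨S.large.z_mem, by
    have : S.large.pr ⟨t, S.large.z_mem⟩ = 0 := S.large.pr_eq_zero.2 (Or.inr rfl)
    rw [this]; exact Submodule.zero_mem _⟩
  have hKc : Nat.card K ≤ 2 ^ 5 := by
    rw [card_two_mul S.large K hKQ hKt]
    have h7 : Nat.card {v : S.large.V // ∃ x : Q, (x : G) ∈ K ∧ S.large.pr x = v} ≤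
        Nat.card (LinearMap.range N) := by
      apply Nat.card_le_card_of_injective
        (fun v => (⟨v.1, by obtain ⟨x, ⟨hx, hx'⟩, he⟩ := v.2; rw [← he]; exact hx'⟩ :
          LinearMap.range N))
      intro v w hvw
      apply Subtype.ext
      exact congrArg (fun z : LinearMap.range N => (z : S.large.V)) hvw
    calc 2 * _ ≤ 2 * 2 ^ 4 := Nat.mul_le_mul_left _ (h7.trans h6)
      _ = 2 ^ 5 := by norm_num
  have hKfin : Finite K := Finite.of_injective (fun m : K => (⟨m.1, hKQ m.2⟩ : Q)) (by
    intro a b hab
    exact Subtype.ext (congrArg (fun z : Q => (z : G)) hab))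
  -- the commutator map
  have hcm : ∀ y : Q, (y : G) * x * (y : G)⁻¹ * x⁻¹ ∈ K := by
    intro y
    have h1 : x * (y : G)⁻¹ * x⁻¹ ∈ Q := S.large.conj_mem x hxt _ (inv_mem y.2)
    have h2 : (y : G) * x * (y : G)⁻¹ * x⁻¹ ∈ Q := by
      have := mul_mem y.2 h1
      rwa [← mul_assoc, ← mul_assoc] at this
    refine ⟨h2, ?_⟩
    have h3 : (⟨(y : G) * x * (y : G)⁻¹ * x⁻¹, h2⟩ : Q) = y * S.large.conjQ c y⁻¹ := by
      apply Subtype.ext
      show (y : G) * x * (y : G)⁻¹ * x⁻¹ = y * (x * (y : G)⁻¹ * x⁻¹)
      group
    rw [h3, S.large.pr_mul, ← S.large.act_pr, S.large.pr_inv, S.large.neg_eq]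
    exact ⟨S.large.pr y, rfl⟩
  let H : Subgroup Q := (dsub Q x).subgroupOf Q
  let g : Q ⧸ H → K := fun a => ⟨_, hcm a.out⟩
  have hinj : Function.Injective g := by
    intro a b hab
    have h1 : (a.out : G) * x * (a.out : G)⁻¹ * x⁻¹ = (b.out : G) * x * (b.out : G)⁻¹ * x⁻¹ :=
      congrArg (fun z : K => (z : G)) hab
    have h2 := mul_right_cancel h1
    have h3 : a.out⁻¹ * b.out ∈ H := by
      rw [Subgroup.mem_subgroupOf, mem_dsub]
      refine ⟨(a.out⁻¹ * b.out).2, ?_⟩
      show ((a.out : G)⁻¹ * b.out) * x = x * ((a.out : G)⁻¹ * b.out)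
      calc ((a.out : G)⁻¹ * b.out) * x = (a.out : G)⁻¹ * ((b.out : G) * x * (b.out : G)⁻¹) * b.out := by
            group
        _ = (a.out : G)⁻¹ * ((a.out : G) * x * (a.out : G)⁻¹) * b.out := by rw [h2]
        _ = _ := by group
    have h4 : (QuotientGroup.mk a.out : Q ⧸ H) = QuotientGroup.mk b.out := QuotientGroup.eq.2 h3
    rwa [QuotientGroup.out_eq', QuotientGroup.out_eq'] at h4
  have h8 : Nat.card (Q ⧸ H) ≤ 2 ^ 5 := (Nat.card_le_card_of_injective g hinj).trans hKc
  have h9 := Subgroup.card_eq_card_quotient_mul_card_subgroup H
  rw [S.card] at h9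
  have h10 : Nat.card H = Nat.card (dsub Q x) :=
    Nat.card_congr (Subgroup.subgroupOfEquivOfLe (fun y hy => (mem_dsub.1 hy).1)).toEquiv
  rw [h10] at h9
  by_contra hlt
  push Not at hlt
  have h11 : Nat.card (Q ⧸ H) * Nat.card (dsub Q x) ≤ 2 ^ 5 * (2 ^ 4 - 1) :=
    Nat.mul_le_mul h8 (by omega)
  rw [← h9] at h11
  norm_num at h11

end Cfsg.Agent.Co2Type.Pair
end

-- part: Co2Type/DuoInf
section
/-!
# A fused involution over `b1` or `c2`: `Q ∩ Q' = 1` (R03, Co2 type, letter B, helper595)

`Duo S S' σ r h`: `s ∈ {σ r, t σ r}` is conjugate to `t`, `Q' = O_2(C(s))`, `r` of type `b1` or `c2`.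
-/

set_option autoImplicit false

namespace Cfsg.Agent.Co2Type.CosetB

open Cfsg Subgroup Cfsg.Agent.Co2Type.Quad Cfsg.Agent.Co2Type.Setup Cfsg.Agent.Co2Type.Spin
open Cfsg.Agent.Co2Type.LineMod Cfsg.Agent.Co2Type.Alpha Cfsg.Agent.Co2Type.R5
open Cfsg.Agent.Co2Type.Pair
open Cfsg.Agent.SporRec.TwoSp6
open Cfsg.Agent.SporRec.TwoSp6.Sp (tr act act_om act_add act_mul act_one conj_tr tr_comm tr_sq act_tr)

variable {G : Type*} [Group G] {Q Q' : Subgroup G} {t s : G}

/-- the situation: a fused involution over `b1` or `c2` -/
structure Duo (S : Sit G Q t) (S' : Sit G Q' s) (σ : Sp6 →* centralizer ({t} : Set G)) (r : Sp6)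
    (h : U) : Prop where
  hσ : ∀ g, S.psi (σ g) = g
  hs : SpinHyp S.rho
  wc : WC Q t
  wc' : WC Q' s
  conj : IsConj t s
  H : BC r h
  sr : s = sg σ r ∨ s = t * sg σ r

namespace Duo

variable {S : Sit G Q t} {S' : Sit G Q' s} {σ : Sp6 →* centralizer ({t} : Set G)} {r : Sp6} {h : U}
variable (d : Duo S S' σ r h)

include d

theorem st : s * t = t * s := by
  have h1 : sg σ r * t = t * sg σ r := sg_comm σ r
  rcases d.sr with h2 | h2
  · rw [h2]; exact h1
  · rw [h2, mul_assoc, h1]

theorem ps_s : S.ps d.st = r := by
  have h1 : sg σ r * t = t * sg σ r := sg_comm σ r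
  have h2 : S.ps h1 = r := d.hσ r
  rcases d.sr with h3 | h3
  · subst h3; exact h2
  · subst h3
    rw [S.ps_mul (x := t) rfl h1, (S.ps_eq_one rfl).2 S.large.z_mem, one_mul, h2]

/-- elements centralising `σ r` and `t` centralise `s` -/
theorem comm_s {x : G} (hx : x * t = t * x) (hr : x * sg σ r = sg σ r * x) : x * s = s * x := by
  rcases d.sr with h2 | h2
  · rw [h2]; exact hr
  · rw [h2, ← mul_assoc, hx, mul_assoc, hr, mul_assoc]

theorem comm_r {x : G} (hx : x * t = t * x) (hxs : x * s = s * x) : x * sg σ r = sg σ r * x := by
  rcases d.sr with h2 | h2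
  · rw [← h2]; exact hxs
  · have h3 : sg σ r = t * s := by
      rw [h2, ← mul_assoc, tt S, one_mul]
    rw [h3, ← mul_assoc, hx, mul_assoc, hxs, mul_assoc]

/-- `C_Q(s)` is the preimage of `ker n_h` -/
theorem mem_D {x : G} (hx : x ∈ Q) : x ∈ dsub Q s ↔ n S.rho h (S.large.pr ⟨x, hx⟩) = 0 := by
  have hxt := comm_t S hx
  rw [mem_dsub]
  constructor
  · rintro ⟨-, hxs⟩
    have h1 := d.comm_r hxt hxs
    rw [← fix_iff d.hs d.H]
    have h2 := pr_conj S σ r ⟨x, hx⟩ (conj_mem S (sg_comm σ r) hx) d.hσ
    rw [← h2]
    congr 1
    apply Subtype.ext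
    show sg σ r * x * (sg σ r)⁻¹ = x
    rw [← h1, mul_inv_cancel_right]
  · intro hn
    exact ⟨hx, d.comm_s hxt (chi_BC S σ d.hσ d.hs d.H hx hn).symm⟩

theorem t_not_mem : t ∉ Q' := by
  refine not_mem_of_wc d.wc' d.conj.symm ?_
  intro he
  have h1 := d.ps_s
  have h2 : S.ps d.st = 1 := by
    rw [S.ps_eq_one]; rw [he]; exact S.large.z_mem
  rw [h2] at h1
  have h3 := (fix_iff d.hs d.H)
  obtain ⟨v, hv⟩ := exists_n_ne d.hs d.H.ne
  apply hv
  rw [← h3, ← h1, map_one]
  rfl

/-- `J = pr (Q ∩ Q')` -/
def J (S : Sit G Q t) (Q' : Subgroup G) (v : S.large.V) : Prop :=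
  ∃ x : Q, (x : G) ∈ Q' ∧ S.large.pr x = v

omit d in
theorem J_add {v w : S.large.V} (hv : J S Q' v) (hw : J S Q' w) : J S Q' (v + w) := by
  obtain ⟨x, hx, rfl⟩ := hv
  obtain ⟨y, hy, rfl⟩ := hw
  exact ⟨x * y, mul_mem hx hy, S.large.pr_mul x y⟩

theorem J_ker {v : S.large.V} (hv : J S Q' v) : n S.rho h v = 0 := by
  obtain ⟨x, hx, rfl⟩ := hv
  exact (d.mem_D x.2).1 (mem_dsub.2 ⟨x.2, S'.large.comm_z x hx⟩)

/-- `J` is invariant under `n_p` for `p` with `d_p` commuting with `r` -/
theorem J_n {p : U} (hp : r * tr p = tr p * r) {v : S.large.V} (hv : J S Q' v) :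
    J S Q' (n S.rho p v) := by
  have h1 : J S Q' (S.rho (tr p) v) := by
    obtain ⟨x, hx, rfl⟩ := hv
    have hpt : sg σ (tr p) * t = t * sg σ (tr p) := sg_comm σ _
    have hps : sg σ (tr p) * s = s * sg σ (tr p) := by
      apply d.comm_s hpt
      rw [← sg_mul, ← hp, sg_mul]
    have h2 := pr_conj S σ (tr p) x (conj_mem S hpt x.2) d.hσ
    rw [← h2]
    exact ⟨_, S'.large.conj_mem _ hps x hx, rfl⟩
  have h2 := J_add hv h1
  rwa [rho_tr, ← add_assoc, addV, zero_add] at h2

/-- the key relation `β(v, w) = 1` -/
theorem beta {v w v0 : S.large.V} (hv : J S Q' v) (hw : J S Q' w) (hv0 : v ≠ 0) (hw0 : w ≠ 0)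
    (hne : v ≠ w) (h0 : v = S.rho r v0 + v0) : S.large.b v0 w = 1 := by
  have hwker := d.J_ker hw
  obtain ⟨w0, hw1⟩ := exists_sub d.hs d.H hwker
  obtain ⟨x, hx, hxv⟩ := hv
  obtain ⟨y, hy, hyw⟩ := hw
  obtain ⟨q, rfl⟩ := S.large.pr_surjective v0
  obtain ⟨p, rfl⟩ := S.large.pr_surjective w0
  -- `m q = s⁻¹ q s q⁻¹`
  have hst := d.st
  have hsit : s⁻¹ * t = t * s⁻¹ := (show Commute s t from hst).inv_left
  have hm : ∀ q : Q, s⁻¹ * q * s * (q : G)⁻¹ ∈ Q := by
    intro q
    have h1 := S.large.conj_mem s⁻¹ hsit q q.2
    rw [inv_inv] at h1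
    exact mul_mem h1 (inv_mem q.2)
  have hpm : ∀ q : Q, S.large.pr ⟨_, hm q⟩ = S.rho r (S.large.pr q) + S.large.pr q := by
    intro q
    have h1 : S.ps hsit = r := by
      rw [S.ps_inv d.st hsit, d.ps_s]
      exact inv_eq_of_mul_eq_one_left d.H.sq
    have h2 := S.rho_ps hsit q
    rw [h1] at h2
    have h3 : (⟨_, hm q⟩ : Q) = ⟨s⁻¹ * q * (s⁻¹)⁻¹, S.large.conj_mem s⁻¹ hsit q q.2⟩ * q⁻¹ := by
      apply Subtype.ext
      show s⁻¹ * q * s * (q : G)⁻¹ = s⁻¹ * q * (s⁻¹)⁻¹ * (q : G)⁻¹
      rw [inv_inv]
    rw [h3, S.large.pr_mul, ← h2, S.large.pr_inv, S.large.neg_eq]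
  -- `m q` is never in `Q'` unless trivial
  have hW : ∀ q z : Q, (z : G) ∈ Q' → S.large.pr z ≠ 0 →
      S.large.pr z = S.rho r (S.large.pr q) + S.large.pr q → s⁻¹ * q * s * (q : G)⁻¹ = z * t := by
    intro q z hz hz0 hzq
    have h1 : S.large.pr ⟨_, hm q⟩ = S.large.pr z := by rw [hpm, hzq]
    rcases S.large.pr_eq_pr.1 h1 with h2 | h2
    · exfalso
      simp only at h2
      have h3 : (z : G) ≠ 1 := by
        intro h4
        exact hz0 (S.large.pr_eq_zero.2 (Or.inl h4))
      apply not_isConj_mul d.wc' S'.large hz h3
      rw [isConj_iff]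
      refine ⟨q, ?_⟩
      rw [← h2]; group
    · exact h2
  have ex := hW q x hx (by rw [hxv]; exact hv0) (by rw [hxv]; exact h0)
  have ey := hW p y hy (by rw [hyw]; exact hw0) (by rw [hyw]; exact hw1)
  have exy := hW (q * p) (x * y) (mul_mem hx hy) (by
    rw [S.large.pr_mul, hxv, hyw]
    intro h4
    apply hne
    rw [← S.large.neg_eq w]
    exact eq_neg_of_add_eq_zero_left h4) (by
    rw [S.large.pr_mul, S.large.pr_mul, hxv, hyw, map_add]
    conv_lhs => rw [h0, hw1]
    abel)
  rw [← hyw]
  rcases zmod2_cases (S.large.b (S.large.pr q) (S.large.pr y)) with hb | hb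
  · exfalso
    rw [S.large.b_pr] at hb
    have hyt := comm_t S y.2
    have hxt := comm_t S x.2
    have hqt := comm_t S q.2
    have e1 : s⁻¹ * ((q * p : Q) : G) * s * ((q * p : Q) : G)⁻¹ =
        (s⁻¹ * q * s * (q : G)⁻¹) * ((q : G) * (s⁻¹ * p * s * (p : G)⁻¹) * (q : G)⁻¹) := by
      rw [Subgroup.coe_mul]; group
    rw [e1, ex, ey] at exy
    have e2 : (q : G) * (y * t) * (q : G)⁻¹ = y * t := by
      calc (q : G) * (y * t) * (q : G)⁻¹ = (q * y) * (t * (q : G)⁻¹) := by group
        _ = (y * q) * (t * (q : G)⁻¹) := by rw [hb]
        _ = y * (q * t) * (q : G)⁻¹ := by group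
        _ = y * (t * q) * (q : G)⁻¹ := by rw [hqt]
        _ = y * t := by group
    rw [e2] at exy
    have e3 : (x : G) * t * (y * t) = x * y := by
      calc (x : G) * t * (y * t) = x * (t * y) * t := by group
        _ = x * (y * t) * t := by rw [← hyt]
        _ = x * y * (t * t) := by group
        _ = x * y := by rw [tt S, mul_one]
    rw [e3, Subgroup.coe_mul] at exy
    exact t_ne S (left_eq_mul.1 exy)
  · exact hb

/-- `dim J ≤ 2` -/
theorem dim2 {v w w' : S.large.V} (hv : J S Q' v) (hw : J S Q' w) (hw' : J S Q' w') (v0 : v ≠ 0)
    (w0 : w ≠ 0) (w0' : w' ≠ 0) (hww : w ≠ w') (vw : v ≠ w) (vw' : v ≠ w') (vww : v ≠ w + w') :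
    False := by
  obtain ⟨x, hx⟩ := exists_sub d.hs d.H (d.J_ker hv)
  have h1 := d.beta hv hw v0 w0 vw hx
  have h2 := d.beta hv hw' v0 w0' vw' hx
  have h3 := d.beta hv (J_add hw hw') v0 (by
    intro h4
    apply hww
    rw [← S.large.neg_eq w']
    exact eq_neg_of_add_eq_zero_left h4) vww hx
  rw [map_add, h1, h2] at h3
  exact absurd h3 (by decide)

/-- `n_x J = 0` for `x` orthogonal to a hyperbolic pair -/
theorem n_zero_aux {p p' x : U} (hpp : sf p p' = 1) (cp : r * tr p = tr p * r)
    (cp' : r * tr p' = tr p' * r) (cx : r * tr x = tr x * r) (hxp : sf x p = 0) (hxp' : sf x p' = 0)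
    {j : S.large.V} (hj : J S Q' j) (hne : n S.rho p (n S.rho p' (n S.rho x j)) ≠ 0) : False := by
  have hs := d.hs
  have c1 : ∀ v, n S.rho x (n S.rho p v) = n S.rho p (n S.rho x v) := fun v =>
    n_comm_apply hs hxp v
  have c2 : ∀ v, n S.rho x (n S.rho p' v) = n S.rho p' (n S.rho x v) := fun v =>
    n_comm_apply hs hxp' v
  set e1 := n S.rho p (n S.rho p' (n S.rho x j)) with he1
  set e2 := n S.rho p' (n S.rho x j) with he2
  set e3 := n S.rho p (n S.rho p' j) with he3
  have J1 : J S Q' e1 := d.J_n cp (d.J_n cp' (d.J_n cx hj))
  have J2 : J S Q' e2 := d.J_n cp' (d.J_n cx hj)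
  have J3 : J S Q' e3 := d.J_n cp (d.J_n cp' hj)
  have k1 : n S.rho p e1 = 0 := n_n_apply _ _
  have k3 : n S.rho p e3 = 0 := n_n_apply _ _
  have k2 : n S.rho p e2 = e1 := rfl
  have m3 : n S.rho x e3 = e1 := by rw [he3, c1, c2]
  have m1 : n S.rho x e1 = 0 := by rw [he1, c1, c2, n_n_apply, map_zero, map_zero]
  refine d.dim2 J2 J1 J3 ?_ hne ?_ ?_ ?_ ?_ ?_
  · intro h0; rw [h0, map_zero] at k2; exact hne k2.symm
  · intro h0; rw [h0, map_zero] at m3; exact hne m3.symm
  · intro h0; rw [← h0, m1] at m3; exact hne m3.symm
  · intro h0; rw [h0, k1] at k2; exact hne k2.symm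
  · intro h0; rw [h0, k3] at k2; exact hne k2.symm
  · intro h0; rw [h0, map_add, k1, k3, add_zero] at k2; exact hne k2.symm

theorem n_zero {p p' x : U} (hpp : sf p p' = 1) (cp : r * tr p = tr p * r)
    (cp' : r * tr p' = tr p' * r) (cx : r * tr x = tr x * r) (hxp : sf x p = 0) (hxp' : sf x p' = 0)
    {j : S.large.V} (hj : J S Q' j) : n S.rho x j = 0 := by
  by_contra hne
  have h1 := n_anticomm_apply d.hs p p' (n S.rho x j)
  rw [hpp, one_smul] at h1
  have h2 : n S.rho p (n S.rho p' (n S.rho x j)) = 0 := by
    by_contra h3
    exact d.n_zero_aux hpp cp cp' cx hxp hxp' hj h3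
  have h3 : n S.rho p' (n S.rho p (n S.rho x j)) = 0 := by
    by_contra h3
    exact d.n_zero_aux (by rw [sf_comm]; exact hpp) cp' cp cx hxp' hxp hj h3
  rw [h2, h3, zero_add] at h1
  exact hne h1.symm

/-- `J = 0` -/
theorem J_zero {j : S.large.V} (hj : J S Q' j) : j = 0 := by
  have hs := d.hs
  rcases d.H with ⟨H, hr⟩ | ⟨a, b, hl, hh, hr⟩
  · obtain ⟨g, hg⟩ := Sp.exists_act (u := e 0) (w := h) (by decide +kernel) H
    have key : ∀ x : U, sf (e 0) x = 0 → r * tr (act g x) = tr (act g x) * r := by
      intro x hx
      rw [hr, ← hg]
      apply tr_comm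
      exact (act_om g _ _).trans hx
    have hom : ∀ x y : U, sf (act g x) (act g y) = sf x y := act_om g
    have z1 : sf (e 0) (e 1) = 0 := sf_e_e 0 1
    have z2 : sf (e 0) (f 1) = 0 := by rw [sf_e_f]; rfl
    have z3 : sf (e 0) (e 2) = 0 := sf_e_e 0 2
    have z4 : sf (e 0) (f 2) = 0 := by rw [sf_e_f]; rfl
    have z5 : sf (e 1) (f 1) = 1 := by rw [sf_e_f]; rfl
    have z6 : sf (e 2) (f 2) = 1 := by rw [sf_e_f]; rfl
    have n1 : n S.rho (act g (e 2)) j = 0 := by
      refine d.n_zero (p := act g (e 1)) (p' := act g (f 1)) ?_ (key _ z1) (key _ z2) (key _ z3) ?_ ?_ hj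
      · rw [hom]; exact z5
      · rw [hom]; exact sf_e_e 2 1
      · rw [hom, sf_e_f]; rfl
    have n2 : n S.rho (act g (f 2)) j = 0 := by
      refine d.n_zero (p := act g (e 1)) (p' := act g (f 1)) ?_ (key _ z1) (key _ z2) (key _ z4) ?_ ?_ hj
      · rw [hom]; exact z5
      · rw [hom, sf_f_e]; rfl
      · rw [hom]; exact sf_f_f 2 1
    have h1 := n_anticomm_apply hs (act g (e 2)) (act g (f 2)) j
    rw [n1, n2, map_zero, map_zero, hom, z6, one_smul, zero_add] at h1
    exact h1.symm
  · obtain ⟨p, p', h1, h2, h3, h4, h5⟩ := LineMod.exists_hyp hl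
    have hab := hl.2.2.2
    have cc : ∀ x : U, sf a x = 0 → sf b x = 0 → r * tr x = tr x * r := by
      intro x hx hx'
      have e1 : tr a * tr x = tr x * tr a := tr_comm hx
      have e2 : tr b * tr x = tr x * tr b := tr_comm hx'
      rw [hr, mul_assoc, e2, ← mul_assoc, e1, mul_assoc]
    have cp := cc p h1 h2
    have cp' := cc p' h3 h4
    have ca := cc a (sf_self a) (by rw [sf_comm]; exact hab)
    have cb := cc b hab (sf_self b)
    have na : ∀ j, J S Q' j → n S.rho a j = 0 := fun j hj => d.n_zero h5 cp cp' ca h1 h3 hj
    have nb : ∀ j, J S Q' j → n S.rho b j = 0 := fun j hj => d.n_zero h5 cp cp' cb h2 h4 hj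
    -- the form vanishes on J
    have him : ∀ x, J S Q' x → ∃ y, x = n S.rho a (n S.rho b y) := by
      intro x hx
      refine im_of_perp hs S.b_rho (fun v hv => S.large.b_nondeg hv) hl ?_ ?_
      · intro v
        rw [← b_n_left S.b_rho, na x hx, map_zero, LinearMap.zero_apply]
      · intro v
        rw [← b_n_left S.b_rho, nb x hx, map_zero, LinearMap.zero_apply]
    have hz : ∀ x y, J S Q' x → J S Q' y → x ≠ 0 → y ≠ 0 → x ≠ y → False := by
      intro x y hx hy hx0 hy0 hxy
      obtain ⟨x0, hx1⟩ := him x hx
      obtain ⟨y0, hy1⟩ := him y hy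
      have h0 : x = S.rho r (n S.rho a x0) + n S.rho a x0 := by
        rw [hr, map_mul, LinearEquiv.mul_apply, rho_tr, rho_tr]
        simp only [map_add, n_n_apply]
        rw [hx1, n_comm_apply hs (show sf b a = 0 by rw [sf_comm]; exact hab), n_n_apply]
        simp only [add_zero]
        rw [add_right_comm, addV, zero_add]
      have hb := d.beta hx hy hx0 hy0 hxy h0
      rw [hy1, b_n_left S.b_rho, n_n_apply, map_zero] at hb
      exact absurd hb (by decide)
    by_contra hj0
    have h6 := n_anticomm_apply hs p p' j
    rw [h5, one_smul] at h6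
    -- e = n_p n_p' j or n_p' n_p j is nonzero
    have aux : ∀ p p' : U, r * tr p = tr p * r → r * tr p' = tr p' * r →
        n S.rho p (n S.rho p' j) ≠ 0 → False := by
      intro p p' cp cp' hne
      refine hz (n S.rho p' j) (n S.rho p (n S.rho p' j)) (d.J_n cp' hj)
        (d.J_n cp (d.J_n cp' hj)) ?_ hne ?_
      · intro h0; rw [h0, map_zero] at hne; exact hne rfl
      · intro h0
        have h7 := congrArg (n S.rho p) h0
        rw [n_n_apply] at h7
        exact hne h7
    have z1 : n S.rho p (n S.rho p' j) = 0 := by
      by_contra h7; exact aux p p' cp cp' h7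
    have z2 : n S.rho p' (n S.rho p j) = 0 := by
      by_contra h7; exact aux p' p cp' cp h7
    rw [z1, z2, zero_add] at h6
    exact hj0 h6.symm

/-- `Q ∩ Q' = 1` -/
theorem inf_eq {x : G} (hx : x ∈ Q) (hx' : x ∈ Q') : x = 1 := by
  have h1 := d.J_zero (j := S.large.pr ⟨x, hx⟩) ⟨⟨x, hx⟩, hx', rfl⟩
  rcases S.large.pr_eq_zero.1 h1 with h2 | h2
  · exact h2
  · exfalso
    have h3 : x = t := h2
    rw [h3] at hx'
    exact d.t_not_mem hx'

end Duo

end Cfsg.Agent.Co2Type.CosetB
end

-- part: Co2Type/DuoD
section
/-!
# A fused involution over `b1` or `c2`: the group `D' = C_{Q'}(t)` (R03, Co2 type, helper595)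

`[D, D'] = 1`, `D'` embeds in `C_L(ker n_h)`.  For `r = d_h`: `s = σ d_h` and `D' = σ(R5)`.
-/

set_option autoImplicit false

namespace Cfsg.Agent.Co2Type.CosetB

open Cfsg Subgroup Cfsg.Agent.Co2Type.Quad Cfsg.Agent.Co2Type.Setup Cfsg.Agent.Co2Type.Spin
open Cfsg.Agent.Co2Type.LineMod Cfsg.Agent.Co2Type.Alpha Cfsg.Agent.Co2Type.R5
open Cfsg.Agent.Co2Type.Pair
open Cfsg.Agent.SporRec.TwoSp6
open Cfsg.Agent.SporRec.TwoSp6.Sp (tr act act_om act_add act_mul act_one conj_tr tr_comm tr_sq act_tr)

theorem line_zero (h : U) : line h 0 = 1 := by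
  unfold line
  rw [Sp.tr_zero, mul_one, add_zero, tr_sq]

theorem line_self (h : U) : line h h = 1 := by
  unfold line
  rw [Sp.add_self, Sp.tr_zero, mul_one, tr_sq]

/-- `line a b` depends on `b` only modulo `a` -/
theorem line_add (a b : U) (hab : sf a b = 0) : line a (b + a) = line a b := by
  apply Sp.act_ext
  intro x
  have h2 : sf a (b + a) = 0 := by rw [sf_add, hab, sf_self, add_zero]
  rw [act_line h2, act_line hab, sf_add, add_smul, smul_add]
  calc x + (sf x b • a + sf x a • a + (sf x a • b + sf x a • a))
      = x + (sf x b • a + sf x a • b) + (sf x a • a + sf x a • a) := by abel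
    _ = _ := by rw [Sp.add_self, add_zero]

/-- lines with a common point, general case -/
theorem line_mul_line' {a b c : U} (ab : sf a b = 0) (ac : sf a c = 0) (bc : sf b c = 1) :
    line a b * line a c = line a (b + c) * tr a := by
  apply Sp.act_ext
  intro x
  have h2 : sf a (b + c) = 0 := by rw [sf_add, ab, ac, add_zero]
  have smulf : ∀ (k : ZMod 2) (y z : U), sf (k • y) z = k * sf y z := fun k y z =>
    Invol.om_smul' k y z
  have aa : sf a a = 0 := sf_self a
  have ca : sf c a = 0 := by rw [sf_comm]; exact ac
  have cb : sf c b = 1 := by rw [sf_comm]; exact bc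
  rw [act_mul, act_mul, act_line ab, act_line ac, act_line h2, act_tr]
  have e1 : sf (x + (sf x c • a + sf x a • c)) b = sf x b + sf x a := by
    rw [sf_add', sf_add', smulf, smulf, ab, cb, mul_zero, mul_one, zero_add]
  have e2 : sf (x + (sf x c • a + sf x a • c)) a = sf x a := by
    rw [sf_add', sf_add', smulf, smulf, aa, ca, mul_zero, mul_zero, add_zero, add_zero]
  have e3 : Sp.om x a = sf x a := rfl
  have e4 : sf (x + sf x a • a) (b + c) = sf x b + sf x c := by
    rw [sf_add', smulf, h2, mul_zero, add_zero, sf_add]
  have e5 : sf (x + sf x a • a) a = sf x a := by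
    rw [sf_add', smulf, aa, mul_zero, add_zero]
  rw [e1, e2, e3, e4, e5]
  simp only [add_smul, smul_add]
  abel

variable {G : Type*} [Group G] {Q Q' : Subgroup G} {t s : G}

namespace Duo

variable {S : Sit G Q t} {S' : Sit G Q' s} {σ : Sp6 →* centralizer ({t} : Set G)} {r : Sp6} {h : U}
variable (d : Duo S S' σ r h)

include d

/-- `[D, D'] = 1` -/
theorem comm_D {x y : G} (hx : x ∈ dsub Q s) (hy : y ∈ dsub Q' t) : x * y = y * x := by
  have h1 := Pair.mem_inf.1 (commutator_mem S.large S'.large hx hy)
  have h2 := d.inf_eq h1.1 h1.2
  rw [mul_inv_eq_one, mul_inv_eq_iff_eq_mul] at h2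
  exact h2

theorem ps_mem {y : G} (hy : y ∈ dsub Q' t) (hyt : y * t = t * y) :
    ∃ w, sf h w = 0 ∧ (S.ps hyt = line h w ∨ S.ps hyt = tr h * line h w) := by
  apply fix_ker d.hs d.H.ne
  intro v hv
  obtain ⟨x, rfl⟩ := S.large.pr_surjective v
  have hx : (x : G) ∈ dsub Q s := (d.mem_D x.2).2 hv
  have h1 := d.comm_D hx hy
  rw [S.rho_ps]
  congr 1
  apply Subtype.ext
  show y * x * y⁻¹ = x
  rw [← h1, mul_inv_cancel_right]

theorem eq_of_ps {y y' : G} (hy : y ∈ dsub Q' t) (hy' : y' ∈ dsub Q' t) (hyt : y * t = t * y)
    (hyt' : y' * t = t * y') (he : S.ps hyt = S.ps hyt') : y = y' := by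
  have h1 : y⁻¹ * t = t * y⁻¹ := (show Commute y t from hyt).inv_left
  have h2 : y⁻¹ * y' * t = t * (y⁻¹ * y') := by rw [mul_assoc, hyt', ← mul_assoc, h1, mul_assoc]
  have h3 : S.ps h2 = 1 := by
    rw [S.ps_mul h1 hyt' h2, S.ps_inv hyt h1, he, inv_mul_cancel]
  rw [S.ps_eq_one] at h3
  have h4 : y⁻¹ * y' ∈ Q' := mul_mem (inv_mem (mem_dsub.1 hy).1) (mem_dsub.1 hy').1
  exact (inv_mul_eq_one.1 (d.inf_eq h3 h4))

/-- `σ l` normalises `D'` for `l` commuting with `r` -/
theorem conj_D' {l : Sp6} (hl : l * r = r * l) {y : G} (hy : y ∈ dsub Q' t) :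
    sg σ l * y * (sg σ l)⁻¹ ∈ dsub Q' t := by
  apply conj_mem_dsub S'.large _ (sg_comm σ l) hy
  apply d.comm_s (sg_comm σ l)
  rw [← sg_mul, hl, sg_mul]

omit d in
theorem ps_sg (hσ : ∀ g, S.psi (σ g) = g) (l : Sp6) : S.ps (sg_comm σ l) = l := hσ l

/-- an element of `D'` over `l` is `σ l` or `t σ l` if a hyperbolic pair commutes with `r` and `l` -/
theorem eq_sg {l : Sp6} {p p' : U} (hpp : sf p p' = 1) (c1 : r * tr p = tr p * r)
    (c2 : r * tr p' = tr p' * r) (l1 : l * tr p = tr p * l) (l2 : l * tr p' = tr p' * l) {y : G}
    (hy : y ∈ dsub Q' t) (hyt : y * t = t * y) (hps : S.ps hyt = l) :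
    y = sg σ l ∨ y = t * sg σ l := by
  have hlt := sg_comm σ l
  have hlit : (sg σ l)⁻¹ * t = t * (sg σ l)⁻¹ := (show Commute (sg σ l) t from hlt).inv_left
  have hδt : y * (sg σ l)⁻¹ * t = t * (y * (sg σ l)⁻¹) := by
    rw [mul_assoc, hlit, ← mul_assoc, hyt, mul_assoc]
  have hδQ : y * (sg σ l)⁻¹ ∈ Q := by
    rw [← S.ps_eq_one hδt, S.ps_mul hyt hlit hδt, S.ps_inv hlt hlit, hps, ps_sg d.hσ,
      mul_inv_cancel]
  have key : ∀ p : U, r * tr p = tr p * r → l * tr p = tr p * l →
      n S.rho p (S.large.pr ⟨_, hδQ⟩) = 0 := by
    intro p cr cl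
    have hpt := sg_comm σ (tr p)
    have hpit : (sg σ (tr p))⁻¹ * t = t * (sg σ (tr p))⁻¹ :=
      (show Commute (sg σ (tr p)) t from hpt).inv_left
    have hm := d.conj_D' (l := tr p) cr.symm hy
    have hmt : sg σ (tr p) * y * (sg σ (tr p))⁻¹ * t = t * (sg σ (tr p) * y * (sg σ (tr p))⁻¹) :=
      (mem_dsub.1 hm).2
    have h1 : sg σ (tr p) * y * t = t * (sg σ (tr p) * y) := by
      rw [mul_assoc, hyt, ← mul_assoc, hpt, mul_assoc]
    have h2 : sg σ (tr p) * y * (sg σ (tr p))⁻¹ = y := by
      apply d.eq_of_ps hm hy hmt hyt
      rw [S.ps_mul h1 hpit hmt, S.ps_mul hpt hyt h1, S.ps_inv hpt hpit, ps_sg d.hσ, hps, ← cl,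
        mul_inv_cancel_right]
    have h3 : sg σ (tr p) * sg σ l = sg σ l * sg σ (tr p) := by rw [← sg_mul, ← cl, sg_mul]
    have h4 := pr_conj S σ (tr p) ⟨_, hδQ⟩ (conj_mem S hpt hδQ) d.hσ
    have h5 : sg σ (tr p) * (y * (sg σ l)⁻¹) * (sg σ (tr p))⁻¹ = y * (sg σ l)⁻¹ := by
      have h6 : (sg σ l)⁻¹ * (sg σ (tr p))⁻¹ = (sg σ (tr p))⁻¹ * (sg σ l)⁻¹ := by
        rw [← mul_inv_rev, h3, mul_inv_rev]
      calc sg σ (tr p) * (y * (sg σ l)⁻¹) * (sg σ (tr p))⁻¹
          = sg σ (tr p) * y * ((sg σ l)⁻¹ * (sg σ (tr p))⁻¹) := by group
        _ = (sg σ (tr p) * y * (sg σ (tr p))⁻¹) * (sg σ l)⁻¹ := by rw [h6]; group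
        _ = _ := by rw [h2]
    have h7 : S.rho (tr p) (S.large.pr ⟨_, hδQ⟩) = S.large.pr ⟨_, hδQ⟩ := by
      rw [← h4]
      congr 1
      exact Subtype.ext h5
    rw [rho_tr] at h7
    exact (add_eq_left.1 h7)
  have h8 := n_anticomm_apply d.hs p p' (S.large.pr ⟨_, hδQ⟩)
  rw [key p c1 l1, key p' c2 l2, map_zero, map_zero, hpp, one_smul, zero_add] at h8
  rcases S.large.pr_eq_zero.1 h8.symm with h9 | h9
  · left
    simp only at h9
    exact mul_inv_eq_one.1 h9
  · right
    simp only at h9
    exact mul_inv_eq_iff_eq_mul.1 h9

theorem s_mem : s ∈ dsub Q' t := mem_dsub.2 ⟨S'.large.z_mem, d.st⟩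

end Duo

/-! ### the case `b1` -/

namespace Duo

variable {S : Sit G Q t} {S' : Sit G Q' s} {σ : Sp6 →* centralizer ({t} : Set G)} {h : U}
variable (d : Duo S S' σ (tr h) h)

include d

/-- some line element lies in `psi D'` -/
theorem b1_exists_line : ∃ w, IsLine h w ∧ ∃ y, ∃ hy : y ∈ dsub Q' t,
    S.ps (mem_dsub.1 hy).2 = line h w := by
  classical
  have hts : t * s = s * t := d.st.symm
  have hcard := card_cent_ge S' hts S.large.z_sq
  have hfin : Finite (dsub Q' t) := (Nat.card_pos_iff.1 (by omega)).2
  -- an element different from 1 and s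
  obtain ⟨y, hy1, hys⟩ : ∃ y : dsub Q' t, (y : G) ≠ 1 ∧ (y : G) ≠ s := by
    by_contra hno
    push Not at hno
    have hle : Nat.card (dsub Q' t) ≤ 2 := by
      let g : dsub Q' t → ({1, s} : Finset G) := fun y => ⟨y, by
        simp only [Finset.mem_insert, Finset.mem_singleton]
        by_cases hy : (y : G) = 1
        · exact Or.inl hy
        · exact Or.inr (hno y hy)⟩
      have hg : Function.Injective g := by
        intro a b hab
        exact Subtype.ext (congrArg (fun z : ({1, s} : Finset G) => (z : G)) hab)
      refine (Nat.card_le_card_of_injective g hg).trans ?_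
      rw [Nat.card_eq_fintype_card, Fintype.card_coe]
      exact Finset.card_le_two
    omega
  have hyt : (y : G) * t = t * y := (mem_dsub.1 y.2).2
  obtain ⟨w, hw, hl⟩ := d.ps_mem y.2 hyt
  have h1 : S.ps hyt ≠ 1 := by
    rw [Ne, S.ps_eq_one]
    intro hyQ
    exact hy1 (d.inf_eq hyQ (mem_dsub.1 y.2).1)
  have h2 : S.ps hyt ≠ tr h := by
    intro he
    apply hys
    exact d.eq_of_ps y.2 d.s_mem hyt d.st (he.trans d.ps_s.symm)
  have hhne := d.H.ne
  have hline : IsLine h w := by
    refine ⟨hhne, ?_, ?_, hw⟩
    · rintro rfl
      rw [line_zero, mul_one] at hl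
      rcases hl with h3 | h3
      · exact h1 h3
      · exact h2 h3
    · rintro rfl
      rw [line_self, mul_one] at hl
      rcases hl with h3 | h3
      · exact h1 h3
      · exact h2 h3
  refine ⟨w, hline, ?_⟩
  rcases hl with h3 | h3
  · exact ⟨y, y.2, h3⟩
  · refine ⟨s * y, mul_mem d.s_mem y.2, ?_⟩
    have h4 : s * y * t = t * (s * y) := (mem_dsub.1 (mul_mem d.s_mem y.2)).2
    rw [S.ps_mul d.st hyt h4, d.ps_s, h3, ← mul_assoc, tr_sq, one_mul]

/-- all line elements through `h` lie in `psi D'` -/
theorem b1_line {w : U} (hw : IsLine h w) : ∃ y, ∃ hy : y ∈ dsub Q' t,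
    S.ps (mem_dsub.1 hy).2 = line h w := by
  obtain ⟨w0, hw0, y, hy, hps⟩ := d.b1_exists_line
  obtain ⟨g, hg1, hg2⟩ := exists_act_line hw0 hw
  have hgr : g * tr h = tr h * g := by
    have h1 := conj_tr g h
    rw [hg1, mul_inv_eq_iff_eq_mul] at h1
    exact h1
  have hm := d.conj_D' hgr hy
  refine ⟨_, hm, ?_⟩
  have hgt := sg_comm σ g
  have hgit : (sg σ g)⁻¹ * t = t * (sg σ g)⁻¹ := (show Commute (sg σ g) t from hgt).inv_left
  have hyt := (mem_dsub.1 hy).2
  have h1 : sg σ g * y * t = t * (sg σ g * y) := by
    rw [mul_assoc, hyt, ← mul_assoc, hgt, mul_assoc]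
  rw [S.ps_mul h1 hgit (mem_dsub.1 hm).2, S.ps_mul hgt hyt h1, S.ps_inv hgt hgit, ps_sg d.hσ, hps,
    line_conj, hg1, hg2]

/-- elements of `D'` over a line -/
theorem b1_eq_sg {w : U} (hw : IsLine h w) {y : G} (hy : y ∈ dsub Q' t)
    (hps : S.ps (mem_dsub.1 hy).2 = line h w) : y = sg σ (line h w) ∨ y = t * sg σ (line h w) := by
  obtain ⟨p, p', h1, h2, h3, h4, h5⟩ := LineMod.exists_hyp hw
  exact d.eq_sg h5 (tr_comm h1) (tr_comm h3) (line_comm_tr h1 h2) (line_comm_tr h3 h4) hy _ hps

/-- if `t σ(line h w)` is in `D'` for one line then for all -/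
theorem b1_transport {w w' : U} (hw : IsLine h w) (hw' : IsLine h w')
    (hm : t * sg σ (line h w) ∈ dsub Q' t) : t * sg σ (line h w') ∈ dsub Q' t := by
  obtain ⟨g, hg1, hg2⟩ := exists_act_line hw hw'
  have hgr : g * tr h = tr h * g := by
    have h1 := conj_tr g h
    rw [hg1, mul_inv_eq_iff_eq_mul] at h1
    exact h1
  have h1 := d.conj_D' hgr hm
  have h2 : sg σ g * (t * sg σ (line h w)) * (sg σ g)⁻¹ = t * sg σ (line h w') := by
    calc sg σ g * (t * sg σ (line h w)) * (sg σ g)⁻¹
        = (sg σ g * t) * (sg σ (line h w) * (sg σ g)⁻¹) := by group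
      _ = t * (sg σ g * sg σ (line h w) * (sg σ g)⁻¹) := by rw [sg_comm σ g]; group
      _ = _ := by rw [← sg_inv, ← sg_mul, ← sg_mul, line_conj, hg1, hg2]
  rwa [h2] at h1

theorem b1_line_mem {w : U} (hw : IsLine h w) : sg σ (line h w) ∈ dsub Q' t := by
  obtain ⟨y, hy, hps⟩ := d.b1_line hw
  rcases d.b1_eq_sg hw hy hps with h1 | h1
  · rw [← h1]; exact hy
  exfalso
  rw [h1] at hy
  -- three lines in a plane
  obtain ⟨g, hg⟩ := Sp.exists_act (u := e 0) (w := h) (by decide +kernel) d.H.ne
  have l1 : IsLine h (act g (e 1)) := by
    have := isLine_act g isLine_e01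
    rwa [hg] at this
  have l2 : IsLine h (act g (e 2)) := by
    have := isLine_act g isLine_e02
    rwa [hg] at this
  have l3 : IsLine h (act g (e 1) + act g (e 2)) := by
    have := isLine_act g isLine_e012
    rwa [hg, act_add] at this
  have m1 := d.b1_transport hw l1 hy
  have m2 := d.b1_transport hw l2 hy
  have m3 := d.b1_transport hw l3 hy
  have h12 : sf (act g (e 1)) (act g (e 2)) = 0 := (act_om g _ _).trans (sf_e_e 1 2)
  have h3 : line h (act g (e 1)) * line h (act g (e 2)) = line h (act g (e 1) + act g (e 2)) :=
    line_mul_line (S := S) d.hs l1.2.2.2 l2.2.2.2 h12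
  have m4 := mul_mem m1 m2
  have e4 : t * sg σ (line h (act g (e 1))) * (t * sg σ (line h (act g (e 2)))) =
      sg σ (line h (act g (e 1) + act g (e 2))) := by
    rw [← h3, sg_mul]
    calc t * sg σ (line h (act g (e 1))) * (t * sg σ (line h (act g (e 2))))
        = t * (sg σ (line h (act g (e 1))) * t) * sg σ (line h (act g (e 2))) := by group
      _ = (t * t) * (sg σ (line h (act g (e 1))) * sg σ (line h (act g (e 2)))) := by
          rw [sg_comm]; group
      _ = _ := by rw [tt S, one_mul]
  rw [e4] at m4
  have m5 := mul_mem m3 (inv_mem m4)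
  rw [mul_inv_cancel_right] at m5
  exact d.t_not_mem (mem_dsub.1 m5).1

/-- `σ d_h ∈ D'` -/
theorem b1_tr_mem : sg σ (tr h) ∈ dsub Q' t := by
  obtain ⟨g, hg⟩ := Sp.exists_act (u := e 0) (w := h) (by decide +kernel) d.H.ne
  have l1 : IsLine h (act g (e 1)) := by
    have := isLine_act g isLine_e01
    rwa [hg] at this
  have i2 : IsLine (e 0) (f 1) := by
    refine ⟨?_, ?_, ?_, ?_⟩
    · decide +kernel
    · decide +kernel
    · decide +kernel
    · rw [sf_e_f]; rfl
  have i3 : IsLine (e 0) (e 1 + f 1) := by
    refine ⟨?_, ?_, ?_, ?_⟩
    · decide +kernel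
    · decide +kernel
    · decide +kernel
    · rw [sf_add, sf_e_e, sf_e_f]; rfl
  have l2 : IsLine h (act g (f 1)) := by
    have := isLine_act g i2
    rwa [hg] at this
  have l3 : IsLine h (act g (e 1) + act g (f 1)) := by
    have := isLine_act g i3
    rwa [hg, act_add] at this
  have h12 : sf (act g (e 1)) (act g (f 1)) = 1 := (act_om g _ _).trans (by
    show sf _ _ = 1
    rw [sf_e_f]; rfl)
  have h3 := line_mul_line' l1.2.2.2 l2.2.2.2 h12
  have h4 : tr h = (line h (act g (e 1) + act g (f 1)))⁻¹ *
      (line h (act g (e 1)) * line h (act g (f 1))) := by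
    rw [h3, inv_mul_cancel_left]
  rw [h4, sg_mul, sg_mul, sg_inv]
  exact mul_mem (inv_mem (d.b1_line_mem l3)) (mul_mem (d.b1_line_mem l1) (d.b1_line_mem l2))

/-- the fused class over the transvections is the class of `σ d_h` -/
theorem b1_eq : s = sg σ (tr h) := by
  apply d.eq_of_ps d.s_mem d.b1_tr_mem d.st (sg_comm σ _)
  rw [d.ps_s, ps_sg d.hσ]

end Duo

/-- `t σ d_h` is not conjugate to `t` -/
theorem not_tb1 {S : Sit G Q t} {σ : Sp6 →* centralizer ({t} : Set G)}
    (hσ : ∀ g, S.psi (σ g) = g) (hs : SpinHyp S.rho) (wc : WC Q t) {h : U} (hh : h ≠ 0) :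
    ¬ IsConj t (t * sg σ (tr h)) := by
  intro hc
  obtain ⟨g, hg⟩ := isConj_iff.1 hc
  have d : Duo S (S.conj g) σ (tr h) h := by
    refine ⟨hσ, hs, wc, wc.conj g, ?_, Or.inl ⟨hh, rfl⟩, Or.inr hg⟩
    rw [hg]; exact hc
  have h1 := d.b1_eq
  rw [hg] at h1
  exact S.large.z_ne (mul_eq_right.1 h1)

end Cfsg.Agent.Co2Type.CosetB
end

-- part: Co2Type/FList
section
/-!
# The classes of `D 0` and `t * D 3 * D 5 * D 6` in `C = 2^{1+8}_+ : Sp6(2)` as explicit tables of codes
(R03, helper757)

An entry `(l, mask)` of a table stands for the elements with code `q + 512 * l`, `mask.testBit q`.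
-/

set_option autoImplicit false

namespace Cfsg.Agent.Co2Type.FList

open Cfsg.Agent.Co2Type.QModel Cfsg.Agent.Co2Type.Act Cfsg.Agent.Co2Type.Rels Cfsg.Agent.Co2Type.CCode
open Cfsg.Agent.Lib.PackMat (force allBelow allBelow_spec)

/-- 63 entries -/
def tabB : List (ℕ × ℕ) := [
  (0x403004030040300403, 0x10400000404000000000000000000000500000000000000000000000000000004010000010100000000000000000000000500000505),
  (0x202002020020200202, 0x10080000000080080000000000000000000000000000000090000000000000008001000000001001000000000000000000000000000000000009000000009009),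
  (0x601006010060100601, 0x12002200000000003000000000000000000000000000000000000000000000002100110000000000030033),
  (0x601036050060121605, 0x20100000000000020010000000000000000000000000000000022000000000020100000000000000210000000000000000022110000000000000011),
  (0x202032160020221306, 0x81000000000000080100000000000000000000000008800000000000001881180000000000000010800000000000000000000000001001),
  (0xb00432040435045314, 0x200001400000000001002008000000080040000000002000000000002000000000000000000800000000000000400000000000000100004000080000000001),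
  (0xb00432040830061204, 0x801000000004001000000000000000000000000000000000000000048000000402000000000082000000000000000000000482100000000000000000021),
  (0x403014170040301507, 0x41000000000000000000000000000040010000000000000000000040400000410000000000000000000000414100000140000000000000000000000101),
  (0xf07436170471345617, 0x40020080000200800000010000004000018000000080000000000000000001000000000000000000000000004000000000000002000000020000400001),
  (0xf07436170874361707, 0x410000000002010000000000000000000002408241000000000000000000008200000000008040000000000000000000008001),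
  (0x745516551475145715, 0x4000000000000000000800000000000000000000000000200000000001000000000400000080080080000000004004010000100002000002000020000000001),
  (0x601036050c61105715, 0x2000000100100200000000010010200002000010000000000000001000000200000000000000000020000000000000000000000000012000020000000001),
  (0x106410160c11265016, 0x4002000000100000080000020000400000100800400000000000400000000000000000000000080000000010000000000000000000020002000000000800001),
  (0x106410160014241106, 0x8100000000000000000000200100000000000000000000000020800000000024000000000024810000000004800000000000000000000000000401),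
  (0x342512461431245216, 0x80000002000000000000000000400000010000000000000008000010000100000000400000200400000020040000020000000080000800001),
  (0x202032160c25205216, 0x10000800008000000001000008001000000100800000100010000000000000000000000000000001000000800000000000000000080000000000080000800001),
  (0x344512541830061204, 0x2040000000000280000000000000000000008412000000000000000048000000010800000000100400000000000000000000000000000000000000000021),
  (0xa40112541c21005314, 0x1000000000000001000000000000002000000000000002000000040000820000000000400800200000004008000000000104000080000000001),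
  (0x202002020c25224312, 0x800000001000000000008000100000000008000800000001000800080001100000008000000010008000000000000001000000000001),
  (0x501404010c55144411, 0x80000000000080000000400000004000000000002000200000000000000000000000800080000000400000004000000020002000000000001000100010001),
  (0xd43534471c51365417, 0x200000000000000000000000000004000000008000000000000100000000000000000820000800100004000010000000800002000002004000000000400001),
  (0x403014170445325417, 0x1400001004000010000400000004000010000010000000100000000000040000000000000000000000000000100000000400000004000000000400001),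
  (0x501404010050140401, 0x6000a000c0000000000000000000000000000000000000000000000000000000900050003000f),
  (0x743516471874361707, 0x14280000000000000000000028000000000040800000000000000000000002400000000000000000000000000014000000000102000000000000000000008001),
  (0xe47116471c65305617, 0x80000000000000000000000000010000000000000010080000000000000000000002004001000080020000004000000800002400000000000020000400001),
  (0x601006010c61124611, 0x200000000000100000002000000010000000000000000000020002000000000000002000100000002000000010000000020002000100010000000000010001),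
  (0xe41116551060121605, 0x408000000000000008400000000000000000112200000000000022000000000004080000000000008004000000000000000000000000000000000011),
  (0xe47126531c65324713, 0x2000400000000080002000400010080002000400010000000002000400008000000000001000000000000000000000000000000000000008000000000001),
  (0x403004030445304513, 0x4000000000001000000000000000000000000000400010000040000000400000000010004000000000400010004000104000100000000000000000100000001),
  (0x944500401c15044010, 0x10002000400080000200010008000400004000800010002000000000000000000000000000000000000000000000000000000000000000000008000400020001),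
  (0x942530461014241106, 0x420000000000812400000000084000000000000000000000000020800000000000180000000000000000000010020000000000000000000000000401),
  (0x46130461405225016, 0x100000000400000000000000000000100000000400000000000200400000080000002000008000010000020040080000002000000000800001),
  (0xa46112461020221306, 0x81184200000000000000204000000000000000000000000008800000000000000000002400000000000004020000000000000000000000001001),
  (0xa40122401c21024210, 0x4000800020001004000800020001000004000800000000000040008000000000000000000000000000000000000000000000000002000100000000000020001),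
  (0xa46122521020200202, 0x4200000000001100000000000000000000000000000000000060000000000000240000000000880000000000000000000000000000000006000000000009009),
  (0x46100521405204112, 0x200040008000100200000008000000200040008000100000020000000800000000000000000000000004000000010000000000000000000000000400000001),
  (0x342522521834240202, 0x840028000000000000000000000000000000000000090060000000060000000012004100000000000000000000000000000000000000000000000000009),
  (0x441104411040100401, 0x6ac0000000000000000000000000000000000000000000000000000000000000953f),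
  (0xd45504411050140401, 0x900005000030000000000000000000000000000000000000000000000000000060000a0000c0000f),
  (0x447134471040301507, 0x2800000000000000000000001414000002800000000000000000000040400000002800000000000000000000000000008002000000000000000000000101),
  (0xe41126411060100601, 0x8400110000000000000c00000000000000000000000000000000000000000000480022000000000000c00033),
  (0x745526411870140601, 0x280042000000000000000000003c00c00000000000000000000000000000000014008100000000000000000000000003),
  (0x447104531040300403, 0x80200000101000000000000000000000000a0000000000000000000000000000208000004040000000000000000000000a0000000505),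
  (0x743526531471364713, 0x10000000000080000000000000000000000000000000000000000002000400000000400020000000002000800010004004000100080002000008000000000001),
  (0xd43504531054340403, 0x408000002040000000000000000000000000050a00000a000000000000000000102000008010000000000000000000000000000000000005),
  (0x40100401401004010, 0x8000400020001000080004000200010000800040002000100008000400020001),
  (0x344522401435064210, 0x10002000040008000000000200010004000800100020008000400000800040000000000000000000020001),
  (0x942500521c11244112, 0x10000000400000000000000000000020000000800000040002000100080080000000200000010008000400020000000000400000001),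
  (0xb06402020431264312, 0x80001000100084000000020000000200040000000000000000008000800000000000000000000000020000000400000000000400020000001000000000001),
  (0x944530541010041004, 0x10080000000000000000010400000000000000000012000000000000000000000240000000000000000020800000000000000000480000000000000000008421),
  (0x401004010441104411, 0x1000100000001000000010000000100010000000000000000000000000001000000000001000000010000000100000000000100010001000100010001),
  (0xf01406010475164611, 0x40008000000080000000400000000100010002000200020002000000000040000000000080000000800000004000000000000000000000000000010001),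
  (0xd45534551c55165515, 0x800008000084000000000400004200002000000000210000100001000008000000000000000000004000000000000000000002000000000000000000001),
  (0x507404030c51344513, 0x800020000000001000400010004080002000000000000040000000400000200000000000800000000000000000000000000080002000000000100000001),
  (0x441134551040101405, 0x80080000000000000404000000000000002200000000000000000000000000000880000000000000404000000000000022000000000000001111),
  (0x100410040c15065114, 0x80000000000000000400000000000000002080000400002000000001002004000000002000018000000004008000000100000000000000000001),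
  (0x40130541401025114, 0x80040020000000080000420000000080040000002000080000400002000000000000000001000000000000000010000000000000000100000000000000001),
  (0x401014050040101405, 0x1100000000000001010000000000000110000000000000000000000000000001001000000000000010100000000000000110000000000001111),
  (0x401014050441125515, 0x10000000000000000000010000000000000000000010000010000100001000000000010000100001100000000010000110000100000000010000000000000001),
  (0x100410040010041004, 0x4200000000000000000802000000000000000008400000000000000000000008001000000000000000004010000000000000000002100000000000000008421),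
  (0x507404030054340403, 0x20100000801000000000000000000000000000000000a0000000000000000000804000002040000000000000000000000000a0500000005),
  (0xb06402020834240202, 0x2001400100000000000000000000000000000000000000000000000060000000400820080000000000000000000000000000000000006009000000000009),
  (0xf01406010870140601, 0x4100810000000000000000000000c00000000000000000000000000000000000820042000000000000000000c30003)]

/-- 315 entries -/
def tabA : List (ℕ × ℕ) := [
  (0x401004010944500401, 0x10000000000000000000000000000000000000000000000000001000100010000),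
  (0x401004010d43534471, 0x100000000000000000000000100000000000000000000000000010000000000000000000000010000000000000000000000000000000000000000),
  (0xd15444010954540401, 0x10000000000000000000000000000000000000000000000000008000400020000),
  (0x401004010342512461, 0x10000000000010000000000000000000000010001000000000000000000000000000000000000000000000000000000000000),
  (0x401004010046130461, 0x1000000000000000000000000000000010000000000000000000000010000000000000000000000000000000100000000000000000000000000000000),
  (0x956771567d17675176, 0x10000000020000000000004000000000000800000000000000000000000000000),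
  (0xc15044010040100401, 0x1000000000000000000000000000000000000000000000000000000000000000e),
  (0x401004010745516551, 0x1000000000001000000000000000000000000000000000000000000010000000000000000000000000000000000000000000100000000000000000000),
  (0x401004010e47116471, 0x1000000000000000100000000000000000000000000010000000000000001000000000000000000000000000000000000000000000000),
  (0xf37677376b76773767, 0x18000000000000000000000000200000000000040000000000000000000000000),
  (0x407235176046331567, 0x10000400000000000000000000000010000000040000000000000000000000000),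
  (0x401a01106104480401, 0x100000000010000000000000000000000000000000000000000000000004000000000400000),
  (0xc51365417040100401, 0x20810000000000000000000000000000000000000000000000000000000000000400),
  (0x401004010a40112541, 0x100000000000000010000000000000000000000000000000000010000000000000000000000000000000000000000000000010000000000000000),
  (0xb74573745f35477354, 0x10000400000000000080000000000000000000000002000000000000000000000),
  (0x401004010a40122401, 0x10000000000000000000000000000000000000000000100010000000000010000),
  (0xa66333767e27237376, 0x10000000000001000080000000000000000800000000000000000000000000000),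
  (0x5e1f2170791c4c0401, 0x10000000000000010000000000000000000000000000000000000000000000000000080000800000),
  (0x431245216040100401, 0x2410000000000000000000000000000000000000000000000000000000000008000),
  (0x555f415071144c0401, 0x400000000010000000000000000000000000000000000000000000000002000000000800000),
  (0x405225016040100401, 0x40410000000000000000000000000000000000000000000000000000000000000100),
  (0x403a11066503695477, 0x400000000000010000000000004000000000000000000000000000010000000000000000000000000000000000000000000000000000000000000000),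
  (0x401004010e47126531, 0x10001000000000001000000000000000000000000000000000001000000000000),
  (0xe21037354a60133745, 0x10000000020000000000000000200000000000000000000100000000000000000),
  (0x4a1021204908400401, 0x1000010000000000000000000000000000000000000000000000002000020000000000),
  (0x475145715040100401, 0x48010000000000000000000000000000000000000000000000000000000000000020),
  (0xe21026210a60122601, 0x10000000000000000000000000000000000000000002000100000000000020000),
  (0xcb5a6130690c480401, 0x80000000000000010000000000000000000000000000000000000000000000000000020000400000),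
  (0xc65305617040100401, 0x8810000000000000000000000000000000000000000000000000000000000001000),
  (0xaa102a21056f414f70, 0x2000000000000000000000000000000000000000010000000000100000000000000000000000020000000000000000000000000000),
  (0x3e2f1767737a7d3266, 0x10000000000000000000000008000000000000800000000000000000000000010000000000000000000000000000000000000000000000000000000000000000),
  (0x114c440105575d4170, 0x400000000000000000000000000000000000000010000000000080000000000000000000000020000000000000000000000000000),
  (0x52b55477042391066, 0x2000000000000000000000000400000000800000000000000000000000010000000000000000000000000000000000000000000000000000000000000000),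
  (0x401004010046100521, 0x10000000000000000000000010000000100000000000000000000000100000000),
  (0xa66322723e27226332, 0x18000000000001000000000000000000000000000000000000008000000000000),
  (0xdf1561605918440401, 0x2000010000000000000000000000000000000000000000000000004000080000000000),
  (0xc21005314040100401, 0x22010000000000000000000000000000000000000000000000000000000000000010),
  (0xfe4f3e7c353f5d5b7d, 0x800000000000000000000000000000000000000000010000000000080000000000000000000010000000000000000000000000000000),
  (0x6a1013244729417655, 0x2000000000000200000000000000000000000010000000000000000000010000000000000000000000000000000000000000000000000000000000000000),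
  (0x4a1024210848100401, 0x3000010000000000000000000000000000000000000000000000000000000000000002),
  (0xc21024210040100401, 0x10000000000000000000000000000000000000000000000000000000000000032),
  (0x7b265f26653b755a77, 0x20000000000800000000000004000000000000000000000000000010000000000000000000000000000000000000000000000000000000000000000),
  (0x7b3e5326663b2d7677, 0x80000200000000000000004000000000000000000000000000010000000000000000000000000000000000000000000000000000000000000000),
  (0x8a1028210b4e432d60, 0x200000000000000000000000000000000000000000000000000000000000010000000000000000000000000010000000000002000000000000000000000000),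
  (0x21028210042010d60, 0x10000000000000000000000000000000010000002000000000000000000000000000000002000000000000000000000000),
  (0x894844010b4e5b2160, 0x80000000000000000000000000000000000000000000000000000000000010000000000000000000000000004000000000002000000000000000000000000),
  (0x14844010042190160, 0x4000000000000000000000000000000010000000800000000000000000000000000000002000000000000000000000000),
  (0x407204132046300523, 0x10000000000000000000004000000010000000000000000000000000400000000),
  (0x5e1f2471385c1c0401, 0x90000000000000010000000000000000000000000000000000000000000000000000000000000008),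
  (0xc65324713040100401, 0x10000000000000000000000000000000000000000000000000000000000009008),
  (0x2f394b6b556b694e7a, 0x400000000000002000000000080000000000000000000000000000010000000000000000000000000000000000000000000000000000000000000000),
  (0x2f0157655268113244, 0x400000000000000008000000000000000000002000000000000000010000000000000000000000000000000000000000000000000000000000000000),
  (0x404a04182b065b2169, 0x4000000000000000000000000000000000000000000000000000000000000010000000000000000000000000004000000000100000000000000000000000000),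
  (0x9e7f387f3f596f7c5e, 0x8000000000000000000000010000000800000000100000000000000000000000000000000000000000000000),
  (0x633387f3042211d6e, 0x1000000000000000000000000000000000010000000800000000000000000000000000008000000000000000000000000000),
  (0x990444010f59576050, 0x2000000000000000000010000000800000000000400000000000000000000000000000000000000000000),
  (0xfe4f0b6170780c0a01, 0x80000000000000000000000000000810000000000000000000000000000000010000000000000000000000000000000),
  (0x6a1026210268122601, 0x10002000000000000000010000000000000000000000000000000000000000000000000000000000020000),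
  (0x3d375b47737a653e66, 0x4000000000000000000000020000000000000800000000000000000000000010000000000000000000000000000000000000000000000000000000000000000),
  (0xcb426d306a08122801, 0x8000000000000000000000010000000000000000000000000000000000000000000002000000000000400000),
  (0x63319677042211c66, 0x800000000000000000000001000000000800000000000000000000000010000000000000000000000000000000000000000000000000000000000000000),
  (0x994c4401065b1f6170, 0x80000000000000000000000000000000000000000000000010000000000000000000400000000000000020000000000000000000000000000),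
  (0x22102a210663036f70, 0x100000000000000000000000000000000000000000000000010000000000000000002000000000000000020000000000000000000000000000),
  (0x401a04112044180401, 0x500000000010000000000000000000000000000000000000000000000000000000000000004),
  (0x405204112040100401, 0x10000000000000000000000000000000000000000000000000000000000000504),
  (0xaa101f3c4028101e0c, 0x20000000000000000000000000000000000000000000000000020010000000000100000000000000000000000000000000000000000000000000000),
  (0x3e2f2272363b2e6332, 0x10000000000080000000000000000000000000000000000000000000000000010000000000000000000000000000000000000000000000000008000000000000),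
  (0x772d576e53327d326f, 0x200000000000000000000008000000000040000000000000000000000000010000000000000000000000000000000000000000000000000000000000000000),
  (0xdf2d7d6e5e1f3e793f, 0x200000000000000000000000000000000000000000000000000000000000010000000000000800000000000000000000000000000000004000000000000000),
  (0x21009294042010c68, 0x2000000000000000000000000010000002000000000000000000000000010000000000000000000000000000000000000000000000000000000000000000),
  (0x890044010248132040, 0x200000000000000010000000000080000000000000004000000000000000000000000000000000000),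
  (0x406a041a2f017b605b, 0x400000000000000000000010000010000000000000400000000000000000000000000000000000000000000),
  (0x4022041a260333617b, 0x1000000000000000000000000000000000000000000000000010000000000000000000400000000000004000000000000000000000000000000),
  (0x6d2b4f4a7729796a5b, 0x2000000000000080000000000000000000000400000000000000000000010000000000000000000000000000000000000000000000000000000000000000),
  (0x66033e7c3220133a4d, 0x100000000000000000010000000000080000000000008000000000000000000000000000000000000000),
  (0x404a29016040080801, 0x40000000000000000000000000410000000000000000000000000000000000000100000000000000000000000000),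
  (0x9e7f3d767e1f3f7d76, 0x10000000000000800100000000000000000800000000000000000000000000000),
  (0x430a49216040080801, 0x2000000000000000000000000410000000000000000000000000000000000008000000000000000000000000000),
  (0xc81004010248122401, 0x2000200000000000000010000000000000000000000000000000000000000000000000000000000010000),
  (0x6d434f507a28122a01, 0x400000000000000000000010000000000000000000000000000000000000000000020000000000000800000),
  (0x40221d066603317877, 0x1004000000000000000004000000000000000000000000000010000000000000000000000000000000000000000000000000000000000000000),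
  (0x66032f707220122a01, 0x100000000000000000010000000000000000000000000000000000000000080000000000000000800000),
  (0x403a040b204438050b, 0x10400000000000000000000000000000000000000010000000000000000000000000000000000000000000000000000000000000400),
  (0x403a04132042380523, 0x10000000400000000000000000000000000000000010000000000000000000000000000000000000000000000000000000400000000),
  (0x8a1005384008100408, 0x20000000000000000000000000000000000002010000000000000000000000000010000000000000000000000000000000000000),
  (0x8a102d384a08132d48, 0x10000000020000000000000000010000000000000000002000000000000000000),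
  (0x4769597f504028180f, 0x800000000000000000000000000000000000000000000000000000040010000002000000000000000000000000000000000000000000000000000000000),
  (0xd85c0401065b1e6531, 0x80000000000080000000000000000000000000000000000000000000000010000000000000000000000000000000000000000000000000001000000000000),
  (0x333e532f67716d765e, 0x40000000000200000000000000000000008000000000000000000000010000000000000000000000000000000000000000000000000000000000000000),
  (0x8739616b504628052a, 0x2000000000000000000000000000000000000000010000000000000000000000000000400000000000000000000000080000000000),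
  (0x2210132d466301767c, 0x100200000000000000200000000000000000000000000000010000000000000000000000000000000000000000000000000000000000000000),
  (0x3d5f5b5d7e7f0e7f3c, 0x4000000000000000000000000000000000000000000000000000000000000010000000000000080000000000000000000000000000000002000000000000000),
  (0x22103b2d4663027f3c, 0x100000000000000000000000000000000000000000000000010200000000000000000000000000000000000000000000002000000000000000),
  (0x400204182200132049, 0x10000000000000000010000000004000000000000000004000000000000000000000000000000000000),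
  (0x400204002200102001, 0x400010000000000000400010000000000000000000000000000000000000000000000000000000000000000),
  (0x406a390f604028180f, 0x40000000000000000000000000000000000000000000000000000040010000010000000000000000000000000000000000000000000000000000000000),
  (0x40020d086200112849, 0x400000000000000000400000000000000000010000000000000000010000000000000000000000000000000000000000000000000000000000000000),
  (0x406a391760462b1967, 0x10000010000000000000000000000400000000040000000000000000000000000),
  (0xfd0f6b4170780c0a01, 0x200000000000000000000000000000810000000000000000000000000000000004000000000000000000000000000000),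
  (0x780c0a010e7f0d6a71, 0x80000000000000000100000000000000000000000000010000000000000080000000000000000000000000000000000000000000000000),
  (0xf36e7b376b766f3b67, 0x10200000000000000000000008000000000000040000000000000000000000000),
  (0x40020d106200122801, 0x10000000000000000010000000000000000000000000000000000000000400000000000000000400000),
  (0x3e2f1a6e383c2e1b0e, 0x10080000000000000000000000000000000000000000000000000000000000010000000000000000000000000000000000000000000000000000000000008000),
  (0x401a04092042180429, 0x4000000000000000000000100000000010000000000000000000004000000000000000000000000000000000000000000),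
  (0x405204092040100509, 0x404000000000000000000000000000000010000000000000000000000000000000000000000000000000000000000000100),
  (0x405804010042180521, 0x400000004000000000000000000000000000000010000000000000000000000000000000000000000000000000000000100000000),
  (0x9e7f056a70183c040a, 0x80000000000000000000000000000000000000000008010000000000000000100000000000000000000000000000000000000000000000),
  (0xaa10373c4a2813374c, 0x10000000000100000000000000200000000000000000020000000000000000000),
  (0x1f7d457a50183c040a, 0x4000000000000000000000000000000000000000000008010000000000000000002000000000000000000000000000000000000000000000),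
  (0x28101e0c0a28113f4c, 0x100000000000020000000000000000000000000000000000000010000000000000000000000000000000000000000000020000000000000000000),
  (0xb77d6f7a5f357f6f5a, 0x10000400000000000002000000000000000000000080000000000000000000000),
  (0x835a61396046080528, 0x800000000000000000000000000000000000000000010000000000000000000000000000004000000000000000000000020000000000),
  (0x6603176c722011324d, 0x8000000000000008000000000000000000100000000000000000010000000000000000000000000000000000000000000000000000000000000000),
  (0x21021294042000528, 0x10000000000000000000000000000000010000000000000000000020000000000000000000000000000000020000000000),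
  (0x660306603220102201, 0x8000100000000000000800010000000000000000000000000000000000000000000000000000000000000000),
  (0x404a291960460b0969, 0x10000400000000000000000000000004000000100000000000000000000000000),
  (0x40221d1e660332793f, 0x1000000000000000000000000000000000000000000000000010040000000000000000000000000000000000000000000004000000000000000),
  (0x402204022603306033, 0x4000000000001000000000000000000000000000000000000040000000000010000000000000000000000000000000000000000000000000000000000000000),
  (0x406a04022f07786033, 0x40000000000010000010004000000000000000000000000000000000000000000000000000000),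
  (0xad137f4c7028101e0c, 0x8000000000000000000000000000000000000000000000000020010000000004000000000000000000000000000000000000000000000000000000),
  (0x4008080100460b0861, 0x40000000000000000000000000000000010000000000000000000000010000000000000000000000000000004000000000000000000000000000000000),
  (0xad7b7f567d2f7b5f76, 0x10000000004000000000020000000000000800000000000000000000000000000),
  (0x495044010848100401, 0xc00010000000000000000000000000000000000000000000000000000000000000002),
  (0x400808010342492861, 0x400000000000010000000000000000000000010040000000000000000000000000000000000000000000000000000000000000),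
  (0x6a100e210868120e01, 0x12000000000000000000010000000000000000000000000000000000000000000000000000000000000020),
  (0x5e1f1c6d365b1c7c3d, 0x80000000000000000000000000000000010000000000000018000000000000000000000000000000000000000000000000000000000000000),
  (0xc6531c6d3040121d0d, 0x80080000000000000000000000000000000000000000000000010000000000000000000000000000000000000000000000000000000000001000),
  (0x4078041b004238042b, 0x400000000000000000000000400000000010000000000000000000000010000000000000000000000000000000000000000),
  (0x4072040b204630042b, 0x400000000000000000000000000000400000000010000000000000000000000000000010000000000000000000000000000000000),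
  (0xfe4f337d7e7f0f737d, 0x10000000000000080080000000000000010000000000000000000000000000000),
  (0xb1245286008100408, 0x400000000000000000000000000000000002010000000000000000000000008000000000000000000000000000000000000000),
  (0x81004080a08112548, 0x20000000000000000010000000000000000000000000000000000010000000000000000000000000000000000000000000002000000000000000000),
  (0xef69737f5f6d6b735f, 0x10000002000000000080000000000000000000000400000000000000000000000),
  (0xef516f715868120e01, 0x10000000000000000000000000000000000000000480000000000000000000020),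
  (0x4028180f00462b186f, 0x1000000000000000000000000000040000000000000000000000000010000000000000000000000000000400000000000000000000000000000000000),
  (0x4028180f074569795f, 0x1000000004000000000000000000000000000000000000000000000010000000000000000000000000000000000000000400000000000000000000000),
  (0x633217b704220052a, 0x1000000000000000000000000000000000010000000000000000000000800000000000000000000000000000080000000000),
  (0x221002210663006630, 0x200000000000100000000000000000000000000000000000020000000000010000000000000000000000000000000000000000000000000000000000000000),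
  (0x63300633042200422, 0x800000001000000000000000000000000008000000010000000000000000000000000000000000000000000000000000000000000000),
  (0x9e7f0063315e6c0422, 0x8000000010000000000000000100000008000000000000000000000000000000000000000),
  (0xfd676b5b7d7f674b7b, 0x10000000020000000000000800000000004000000000000000000000000000000),
  (0x404a04002b00582001, 0x400010000000000000000000000000000000004000100000000000000000000000000),
  (0x331c422107734c6630, 0x40008000000000000000000000000000000000000000020000000000010000000000000000000000000000000000000000000000000000000000000000),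
  (0x591c4401085c1c0401, 0x60000000000010000000000000000000000000000000000000000000000000000000000000008),
  (0x780c0a010d7b4f4a71, 0x8000000000000000000000000100000000000000000000000000010000000000000000000000800000000000000000000000000000000000000000),
  (0x59544401015c540401, 0x40008000000010000000000000000000000000000000000000000000000000000000000020000),
  (0x4a100c210248102c01, 0x200000000001000010000000000000000000000000000000000000000002000000000000000000000),
  (0xc2100c210040120c01, 0x2200000000000000010000000000000000000000000000000000000000000000000000000000000010),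
  (0xb86c3a1e063b2c7a3e, 0x80000000000000000000000000000000000080000000000000010001000000000000000000000000000000000000000000000000000000000000),
  (0xa6631a6e3e27207a3e, 0x80000000000000000000000000000000000000000000080000000000000010000000000001000000000000000000000000000000000000000000000000000),
  (0xc2102d314040120c01, 0x10000000000000000000000000000000000000000000022000000000000000010),
  (0x401004190040100509, 0x10000000000000000000000000000010100000000000000000000000000000100),
  (0x401004190046100429, 0x10000000000000000000000000000000100000000010000000000000000000000000000000100000000000000000000000000000000),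
  (0x183c040a0e1f3d647a, 0x1000000000000080000000000000000000000000000010000000000000800000000000000000000000000000000000000000000000000),
  (0xbb76773e6b3e77376e, 0x10040000000000000000000000200000000008000000000000000000000000000),
  (0xbb6e7b3e683c2e1b0e, 0x10240000000000000000000000000000000000000000000000000000000008000),
  (0x183c040a071d7d655a, 0x800000000000001000000000000000000000000000000000000000000010000000000000000000000000000000000000000080000000000000000000000),
  (0x1f455974571d457954, 0x800000000004000000000000000000000000000000000000000000000010000000000000000000000000000000000000000002000000000000000000000),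
  (0x6a103b244d29435e55, 0x10000000000000000000010200000000000000000020000000000000000000000000000000000000000000),
  (0x28101e0c0d2b535e7c, 0x100000000000000000000200000000000000000000000000000010000000000000000000020000000000000000000000000000000000000000000),
  (0x21000210042000420, 0x2000000010000000000000000000000002000000010000000000000000000000000000000000000000000000000000000000000000),
  (0x8a100021014e400420, 0x2000000010000000000000000002000000010000000000000000000000000000000000000),
  (0xfe4f06603b385c2201, 0x800010000000000000000000000000000000010008000000000000000000000000000),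
  (0xb184021014a480420, 0x80000000400000000000000000000000000002000000010000000000000000000000000000000000000000000000000000000000000000),
  (0x491844010148580401, 0x2000400010000000000000000000000000000000000000000000000000008000000000000),
  (0x770f466033305c2201, 0x200040000000000000000000000800010000000000000000000000000000000000000000000000000000000000000000),
  (0x831840210046080420, 0x2000000010000000000000000000000800000004000000000000000000000000000000000),
  (0xc11844010044180401, 0xa000000010000000000000000000000000000000000000000000000000000000000000004),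
  (0xc8100401014c500401, 0x20002000000010000000000000000000000000000000000000000000000000000000000010000),
  (0xe8102e010268102e01, 0x2000000000002000010000000000000000000000000000000000000000000100000000000000000000),
  (0xe2100e210a60102e01, 0x2000000000000002000010000000000000000000000000000000000000000000000100000000000000000),
  (0xc6533d7d7040121d0d, 0x10000000000000880000000000000000000000000000000000000000000001000),
  (0x40103c1d0040121d0d, 0x10000000000001001000000000000000000000000000000000000000000001000),
  (0x40103c1d0e47107c3d, 0x10000000000000000000000000000000000000000000000010000000000000010000000000000001000000000000000000000000000000000000000000000000),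
  (0xe2101f354a60113f45, 0x20000000000000020000000000000000000000000000000000000010000000000000000000000000000000000000000000000100000000000000000),
  (0x87017d655040131844, 0x2000000000000000010000000000000800000000000000400000000000000000000000000000000000),
  (0x4078041b004438050b, 0x10000000000000000000004010000000000000000000000000000000000000400),
  (0x8100408030a512468, 0x10000000002000000000000000000000000010200000000000000000000000000000000000000000000000000000000000000),
  (0xb0a4928630a492868, 0x400000000002000000000000000000000000018000000000000000000000000000000000000000000000000000000000000000),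
  (0xc57b655b704438050b, 0x10000000000000000000020800000000000000000000000000000000000000400),
  (0x3e2f2f7b7d7d7f4b5a, 0x10000000000000000000000000000000000000000000000000000000000000010000000000000000000000800000000000000000080000000000000000000000),
  (0xe8102e010f6d536f51, 0x10000002000000000002000000000000000000000000100000000000000000000),
  (0x4a1009204308402c01, 0x200002000000000000000000001000010000000000000000000000000000000000000000000000000000000000000000),
  (0xbb044e210d79574a50, 0x2000000000000000000010040000000000000000000800000000000000000000000000000000000000000),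
  (0xd85c040101585c0401, 0x8000800010000000000000000000000000000000000000000000000000001000000000000),
  (0xaa1002210f6f406630, 0x20000000000010000002000100000000000000000000000000000000000000000000000000000),
  (0x1f374063315a640422, 0x4000000020000000000000000000000000000008000000010000000000000000000000000000000000000000000000000000000000000000),
  (0x490a44002308582001, 0x80002000000000000000000000400010000000000000000000000000000000000000000000000000000000000000000),
  (0xbb1c42210e7f0c6630, 0x20000000000010040000000000080000000000000000000000000000000000000000000000000),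
  (0xd11c440109505c0401, 0x20000000800010000000000000000000000000000000000000000000000000000000400000000),
  (0x877b40633046280422, 0x8000000010000000000000000000020000000400000000000000000000000000000000000),
  (0x40102c010040120c01, 0x10000000000000000000000000000000000000000000000110000000000000010),
  (0x40102c010a40102c01, 0x10000000000000001000010000000000000000000000000000000000000000000000010000000000000000),
  (0xa6630b6a7e27216a7a, 0x80000000000000080000000000000000000000000000010000000000001000000000000000000000000000000000000000000000000000),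
  (0x405225196040100509, 0x10000000000000000000000000000404000000000000000000000000000000100),
  (0x83426d396040130948, 0x80000000000000000000000000000000000000000000000000010000000000000000000000000000004000000000000002000000000000000000),
  (0xb86c3a1e083c2e1b0e, 0x18001000000000000000000000000000000000000000000000000000000008000),
  (0x40102c010a40132d41, 0x10000000000100000000000000010000000000000000000010000000000000000),
  (0x77154b605330442e01, 0x80040000000000000000000002000010000000000000000000000000000000000000000000000000000000000000000),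
  (0x83004c210040130840, 0x200000000000000010000000000000080000000000000004000000000000000000000000000000000),
  (0x405804010044180401, 0x10000000000000000000000000000000000000000000000000000000500000004),
  (0xb86c3a1e0b3e6f3b6e, 0x10001000000000000000000008000000000008000000000000000000000000000),
  (0x950f714c7d134f507c, 0x8000000000000000000000200000000000000000000000000000010000000000000000000004000000000000000000000000000000000000000000),
  (0x5e1f196c771b4c7c3d, 0x800008000000000000000000000000000000000000010000000000000010000000000000000000000000000000000000000000000000000000000000000),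
  (0x403a111e650569555f, 0x10000000000000000000000000000000000000000010040000000000000000000000000000000000000400000000000000000000000),
  (0xef7b5a6e3d2d6b5f5f, 0x80000000000000000000000000000000000000000000000000000000000010000000000000000000020000000000000000000400000000000000000000000),
  (0x40102c010040110d41, 0x100000000000000010000000000000000000000000000000010000000000000000000000000000000000000000000000010000000000000000),
  (0xfd156b405b38442e01, 0x2000010000000000000000000000000000000004008000000000000000000000000000),
  (0xb004c210248112840, 0x8000000000000000400000000000000000000200000000000000010000000000000000000000000000000000000000000000000000000000000000),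
  (0x405804010940580401, 0x40000000400010000000000000000000000000000000000000000000000000000000100000000),
  (0x59264402271b746033, 0x800020000000000000000000000000000000000000000040000000000010000000000000000000000000000000000000000000000000000000000000000),
  (0xef4346603a28102201, 0x800010000000000000000000000000000000000000000400020000000000000000000),
  (0x596e44022e1f3c6033, 0x40000000000010200000000000800000000000000000000000000000000000000000000000000),
  (0xe8102e010868120e01, 0x10000000000000000000000000000000000000000002100000000000000000020),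
  (0x40103c1d0e47137d7d, 0x10000000000000001100000000000000010000000000000000000000000000000),
  (0x4072350f604633146f, 0x40000000000000000000000000000040000000000000000000000000010000000000000000000000000000010000000000000000000000000000000000),
  (0x33265f2f6773747a3e, 0x40020000000000000000000000000000000000000080000000000000010000000000000000000000000000000000000000000000000000000000000000),
  (0x543555d704011114c, 0x400000000000000000000000000000000010000000000000080000000000000000000000000000020000000000000000000),
  (0x87435c6d304013194c, 0x80000000000000000000000000000000000000000000000010000000000000000000000000000400000000000000020000000000000000000),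
  (0x81004080008100408, 0x10000000000000000000000000000000002010000000000000000000000000200000000000000000000000000000000000000),
  (0xe8102e01056d514f51, 0x200000000000000000002000000000000000000000000000000000000000010000000000000000000000000000000000000000000100000000000000000000),
  (0x401029004b00402c01, 0x1000010000000000000000000000000000000010000100000000000000000000000000),
  (0x33044e210771556a50, 0x40000000000080000000000000000000000002000000000000000000010000000000000000000000000000000000000000000000000000000000000000),
  (0xd85c0401085c1c0401, 0x10000000000000000000000000000000000000000000000000009000000000008),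
  (0x4078041b0d477b457b, 0x10000000004000000000000010000000004000000000000000000000000000000),
  (0x40103c1d0040111c4d, 0x1000000000000000100000000000000000010000000000000001000000000000000000000000000000000000000000000000),
  (0x401a01086102480429, 0x4000000000400000000000000000000000000100000000010000000000000000000000000000000000000000000000000000000000000000),
  (0xad697f5f5f6f787a3e, 0x80000000000000010000002004000000000000000000000000000000000000000000000000000000),
  (0x116e440b25557d415a, 0x400000000000000000000000000000000000000010200000000000000000000000000000000000000080000000000000000000000),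
  (0x1f0f5c6d365b1d787c, 0x84000000000000000200000000000000000000000000000010000000000000000000000000000000000000000000000000000000000000000),
  (0x40101d154040111d45, 0x1000000000000001000000000000000000000000000000000010000000000000000000000000000000000000000000000100000000000000000),
  (0xad017f455268133a44, 0x2000000000000000010000000004000000000000008000000000000000000000000000000000000000),
  (0x494244002a08102001, 0x400010000000000000000000000000000000000000000080002000000000000000000),
  (0x183c040a00183c040a, 0x1000000000000000000000000000000000000000008010000000000000000080000000000000000000000000000000000000000000000),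
  (0x401004190046130569, 0x10000010000000000000000000000000100000100000000000000000000000000),
  (0xb86c3a1e05396d5a5e, 0x800000000000000000008000000000000000000000010001000000000000000000000000000000000000000000000000000000000000),
  (0x5537414a711264042b, 0x80000020000000000000000000000000000400000000010000000000000000000000000000000000000000000000000000000000000000),
  (0x4010391c4f07407c3d, 0x10000000000000010000010000100000000000000000000000000000000000000000000000000000),
  (0x10044010040110040, 0x80000000000000004000000000000000200000000000000010000000000000000000000000000000000000000000000000000000000000000),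
  (0x14244092040110148, 0x4000000000000000000000000000000010000000000000800000000000000000000000000000002000000000000000000),
  (0x77375a6e3332653e6f, 0x80000000000000000000020000000000040000000000000000000000000010000000000000000000000000000000000000000000000000000000000000000),
  (0x28101e0c0028101e0c, 0x100000000000000000000000000000000000000000000000020010000000020000000000000000000000000000000000000000000000000000000),
  (0x183c040a091a7c052a, 0x1000008000000000000000000000000000000000000010000000000000000000000000000000000000000000000000000080000000000),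
  (0x3d455b54553d455b54, 0x4000000000000000000800000000000000000000000000000000000000000010000000000000000000000000000000000000000002000000000000000000000),
  (0x401039044f01437c55, 0x10000000000000000000010000010000000000100000000000000000000000000000000000000000000000),
  (0xc81004010848100401, 0x10000000000000000000000000000000000000000000000000000000000030002),
  (0x401004190040130449, 0x1000000000000000000000000000000010000000000000000010000000000000000000000000000000100000000000000000000000000000000),
  (0x40100d094040110c49, 0x10000000000000010000000000000000010000000000001000000000000000000000000000000000000000000000000000),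
  (0x557d415a51166c042b, 0x400000000010000000000000000002000008000000000000000000000000000000000000000),
  (0xfd7d6b5a563b2f6f7b, 0x80000000000000000000000000000000000000000000000000010000000000000000002000000000000004000000000000000000000000000000),
  (0x10a44092042190068, 0x800000000000000000000000004000002000000000000000000000000010000000000000000000000000000000000000000000000000000000000000000),
  (0x40100d114040120c01, 0x110000000000000000010000000000000000000000000000000000000000000000000000000000000010),
  (0x4028180f004028180f, 0x1000000000000000000000000000000000000000000000000000040010000400000000000000000000000000000000000000000000000000000000000),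
  (0x8100408090a500528, 0x200000000010000000000000000000000000000000000010000000000000000000000000000000000000000000000000000020000000000),
  (0x4078041b0d417b445b, 0x4000000000000000000000000000000000000000400000000000000000000010000000000000000000000010000000000000000000000000000000000000000),
  (0x6d394f4b5569794e5b, 0x2000000000000000000400000000000000000000018000000000000000000000000000000000000000000000000000000000000000),
  (0x110444010551554050, 0x80000000000000000000400000000000000000002000000000000000000010000000000000000000000000000000000000000000000000000000000000000),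
  (0x401001184106400429, 0x100000000010000000000000000100000000010000000000000000000000000000000000000),
  (0x401029184b06432d69, 0x10000000000000000000000000000000000000000000000000000000000000010000000000000000000000000010000000000100000000000000000000000000),
  (0x50155455040111044, 0x80000000000000000400000000000000002000000000000000010000000000000000000000000000000000000000000000000000000000000000),
  (0x1126440b255375407a, 0x20000000000000400000000080000000000000000000000000000010000000000000000000000000000000000000000000000000000000000000000),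
  (0x780c0a0100780c0a01, 0x100000000000000000000000000810000000000000000000000000000000000800000000000000000000000000000),
  (0x4028180f07436a793f, 0x1400000000000000000000000000000000000000000000000000000010000000000000000000000000000000000000000000000004000000000000000),
  (0x895a4418290e580528, 0x10000000000000000080000000004000000000000000000000000020000000000),
  (0x6d514f515868120e01, 0x8400000000000000000000010000000000000000000000000000000000000000000000000000000000000020),
  (0x4010350d404013144d, 0x100000000000000000000000000000100000000000000000010000000000000000000000000000010000000000000000000000000000000000),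
  (0x40101d0d4040121d0d, 0x1100000000000000000000000000000000000000000000000010000000000000000000000000000000000000000000000000000000000001000),
  (0x569555f504239116e, 0x400000000000000000000000000000000010000002000000000000000000000000000008000000000000000000000000000),
  (0x400808010040080801, 0x10000000000000000000000410000000000000000000000000000000000000040000000000000000000000000),
  (0x28101e0c072b527f3c, 0x2000000100000000000000000000000000000000000000000000000000010000000000000000000000000000000000000000000000002000000000000000),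
  (0x9976441a291e74052a, 0x10000000000000000000400000200000000000000000000000000080000000000),
  (0x405804010946580521, 0x10000000000000000000400000004000000000000000000000000000100000000),
  (0x952d714e5d116f505e, 0x200000000000000000000000000000000000008000000000000000000000010000000000000000000004000000000000000000000000000000000000000000),
  (0x3d2d5b4e583c2e1b0e, 0x4200000000000000000000000000000000000000000000000000000000000010000000000000000000000000000000000000000000000000000000000008000),
  (0x401011044501415455, 0x10000000000000000000010000000000000000000010000000000000000000010000000000000000000000000000000000000000000000000000000000000000),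
  (0x4010111c450741557d, 0x10000000000000000000000000000000000000000010000000000100000000000000000000010000000000000000000000000000000),
  (0x401025114040100401, 0x10000000000000000000000000000000000000000000000000000000000001110),
  (0x551541405110440401, 0x80000400002000010000000000000000000000000000000000000000000000000000000000000000),
  (0x4008080103444a2801, 0x4000010000000000000000000000010000000000000000000000000000000000000000000000000000000000400000),
  (0xb75f7e7c3f375e7f3c, 0x10000400000080000000000000000000000000000000000002000000000000000),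
  (0x993e441a20183c040a, 0x200000000000000000000000000000000000000000008010000000000000000000400000000000000000000000000000000000000000000),
  (0x401025094040100509, 0x1010000000000000000000000000000000010000000000000000000000000000000000000000000000000000000000000100),
  (0x780c0a01037c4e2a01, 0x100800000000000000000000000010000000000000000000000000000000000000000000000000000000000800000),
  (0xd85c04010f5f5e6531, 0x10000000800080000000000000000000000000000000000000001000000000000),
  (0xdf67787f3f5f66793f, 0x10000000820000000000000000000000000000000000000004000000000000000),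
  (0x891244182008100408, 0x8000000000000000000000000000000000002010000000000000000000000000004000000000000000000000000000000000000),
  (0xd13e441329527c0523, 0x200000008000000000000000000000000000000000000010000000000000000000000000000000000000000000000000000000400000000),
  (0xc539654b504438050b, 0x802000000000000000000000000000000000000000010000000000000000000000000000000000000000000000000000000000000400),
  (0xc55165515040100401, 0x10000000000000000000000000000000000000000000000000000000000008420),
  (0x401001004100400401, 0x10000100001000010000000000000000000000000000000000000000000000000000000000000000),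
  (0x401035154040131545, 0x10000000000001000000000000000010000000000000000100000000000000000),
  (0xf34c6a210b744e2a01, 0x10000000000000000000000000000000000020040000000000000000000800000),
  (0x472b787f304028180f, 0x2000000000000000000000000000000000000000000000000000000040010000000800000000000000000000000000000000000000000000000000000000),
  (0xc81004010b4c522401, 0x10000000000000000000000000000000000020002000000000000000000010000),
  (0xcb4868210b4c4a2801, 0x10000000000000000000000000000000000800002000000000000000000400000),
  (0x2f2b6272372b6a6332, 0x2000400000000000000000000000000000000000000000000000000000010000000000000000000000000000000000000000000000000008000000000000),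
  (0x2f137e7c3028101e0c, 0x400000000000000000000000000000000000000000000000000020010000000000080000000000000000000000000000000000000000000000000000),
  (0xc11244112040100401, 0xa010000000000000000000000000000000000000000000000000000000000000004),
  (0xc15a44112044180401, 0x100000000000000000000000000000000000000000000000000000a0000000004),
  (0x954571545d15475154, 0x18000000000000000000004000000000000000000002000000000000000000000),
  (0x401004010040130541, 0x10000000000000001000000000000000100000000000000010000000000000000),
  (0x434868210040080801, 0x800000000000000000000000410000000000000000000000000000000000000002000000000000000000000000),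
  (0x7b546621037c562601, 0x4000800000000000000000000000010000000000000000000000000000000000000000000000000000000000020000),
  (0x7b4c6a2100780c0a01, 0x4000000000000000000000000000810000000000000000000000000000000000020000000000000000000000000000),
  (0x471364713040100401, 0x60010000000000000000000000000000000000000000000000000000000000000008),
  (0xdf5f6471385c1c0401, 0x10000000000000000000000000000000000000000000000006000000000000008),
  (0xd17644132956740523, 0x10000000000000000080000000200000000000000000000000000000400000000),
  (0x401004010d45534551, 0x10001000000000000000000010000000000000000000100000000000000000000),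
  (0x435064210040100401, 0xc10000000000000000000000000000000000000000000000000000000000000002),
  (0xcb5064210848100401, 0x10000000000000000000000000000000000000000000000000000000000c00002),
  (0xb76762723f37666332, 0x10000400020000000000000000000000000000000000000000008000000000000),
  (0x401004010942500521, 0x1000000010000000000000000000000000000000000010000000000000000000000000000000000000000000000000000000100000000),
  (0xf35466210b74562601, 0x10000000000000000000000000000000000800040000000000000000000020000),
  (0x401004010743526531, 0x1000100000000000000000000000000000000000000000000000000010000000000000000000000000000000000000000000000000001000000000000),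
  (0x401004010344522401, 0x100010000000000000000000000010000000000000000000000000000000000000000000000000000000000010000)]


/-- the codes of the 317 elements of `F ∩ C_C(D 0)` -/
def listK : List ℕ := [0x80200802008020080300,
  0x80600806008060080600,
  0x80600806008060080602,
  0x80600806008060080608,
  0x80600806008060080620,
  0x80600806008060080680,
  0x8060080600806008060a,
  0x80600806008060080622,
  0x80600806008060080782,
  0x80600806008060080728,
  0x80600806008060080688,
  0x8060080600806008078a,
  0x806008060080600806a0,
  0x8060080600806008072a,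
  0x806008060080600807a8,
  0x806008060080600806aa,
  0x806008060080600807a2,
  0x8060282e0080602a0e00,
  0x8060282e0080602a0e08,
  0x8060282e0080602a0e80,
  0x20c8202c18224ca02c00,
  0x20c8202c002848220c00,
  0x8060282e0080602a0e88,
  0x20c8202c18224ca02d8a,
  0x20c8202c002848220c0a,
  0x20c8202c18224ca02ca0,
  0x20c8202c002848220ca0,
  0x20c8202c18224ca02d2a,
  0xa028080218aa28882200,
  0x1a86a688e38a26ca82e00,
  0x8060282e088a64a82e00,
  0xa028080200a028080200,
  0x80600806088a608a2600,
  0x20c8202c002848220caa,
  0xa028080218aa28882382,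
  0x1a86a688e38a26ca82f82,
  0x8060282e088a64a82fa8,
  0xa028080200a028080202,
  0x80600806088a608a2620,
  0xa028080218aa28882220,
  0x1a86a688e38a26ca82eaa,
  0x8060282e088a64a82e80,
  0xa028080200a028080220,
  0x80600806088a608a2680,
  0xa028080218aa288823a2,
  0x1a86a688e38a26ca82f28,
  0x8060282e088a64a82f28,
  0x1288a0080382a08802000,
  0x1284a608c202848220c00,
  0x8c2608c280a44a02c00,
  0x80600806088a608a26a0,
  0x8c200a4280a40822400,
  0xa028080200a028080222,
  0x1288a0080382a0880218a,
  0x1284a608c202848220da2,
  0x8c2608c280a44a02da2,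
  0x8c200a4280a40822422,
  0x1288a0080382a08802022,
  0x1284a608c202848220c0a,
  0x8c2608c280a44a02c88,
  0x8c200a4280a40822488,
  0x1288a0080382a088021a8,
  0x1284a608c202848220da8,
  0x8c2608c280a44a02d2a,
  0x88220882208020080200,
  0x1a8aa088220a028080200,
  0x88e2688e2080602a0e00,
  0x8c200a4280a408224aa,
  0x88e208a6208060080600,
  0x1a86a08a620a868080600,
  0x88220882208020080208,
  0x1a8aa088220a02808032a,
  0x88e2688e2080602a0f82,
  0x88e208a6208060080602,
  0x1a86a08a620a868080602,
  0x88220882208020080202,
  0x1a8aa088220a028080202,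
  0x88e2688e2080602a0e08,
  0x88e208a6208060080608,
  0x1a86a08a620a86808072a,
  0x8822088220802008020a,
  0x1a8aa088220a028080328,
  0x88e2688e2080602a0f8a,
  0x8020080280200802000,
  0x88e208a620806008060a,
  0x1a86a08a620a868080728,
  0x1284a00a4382248822400,
  0x1288a60a8202008200800,
  0x8020080280200802088,
  0x1284a00a4382248822422,
  0x1288a60a820200820080a,
  0x8020080280200802022,
  0x1284a00a438224882258a,
  0x1288a60a82020082009a2,
  0x80200802802008020aa,
  0x80200802088220882200,
  0x1284a00a43822488225a8,
  0x1288a60a82020082009a8,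
  0x1a8aa68aa38aa2caa2a00,
  0xa0e8080618a2688a2600,
  0x882268aa208020280a00,
  0x80200802088220882280,
  0x1a8aa68aa38aa2caa2aaa,
  0xa0e8080618a2688a2620,
  0x882268aa208020280a08,
  0x80200802088220882220,
  0x1a8aa68aa38aa2caa2b82,
  0xa0e8080618a2688a2782,
  0x882268aa208020280b82,
  0x802008020882208822a0,
  0x1a8aa68aa38aa2caa2b28,
  0xa0e8080618a2688a27a2,
  0x882268aa208020280b8a,
  0x20082008182a0ca22800,
  0x80260a8280204a22800,
  0x20082008182a0ca228a0,
  0x80260a8280204a22888,
  0x20082008182a0ca2298a,
  0x80260a8280204a229a2,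
  0x20082008182a0ca2292a,
  0x80260a8280204a2292a,
  0x8020280a008020280a00,
  0x8020280a088224aa2a00,
  0x8020280a008020280a80,
  0x8020280a088224aa2a80,
  0x8020280a008020280a08,
  0x8020280a088224aa2ba8,
  0x8020280a008020280a88,
  0x8020280a088224aa2b28,
  0x20082008002008200800,
  0x200820080020082008a0,
  0x2008200800200820080a,
  0x200820080020082008aa,
  0xa0e8080600a868080600,
  0xa0e8080600a868080620,
  0xa0e8080600a868080602,
  0xa0e8080600a868080622,
  0x802008021288a0080300,
  0x802008021288a0080220,
  0x802008021a86a688e300,
  0x1a2a8880212a8a8080300,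
  0x802008021a86a688e2a0,
  0x1a2a8880212a8a8080222,
  0x80200802008c2608c300,
  0x12acee2acfa2ecea2ed00,
  0x182a08802008020080300,
  0x80200802008c2608c280,
  0x12acee2acfa2ecea2ecaa,
  0x182a08802008020080202,
  0x80e46a2ec08c662acf00,
  0x80340220c20890080300,
  0x18a26ca82e08020080300,
  0x80e46a2ec08c662ace88,
  0x80340220c20890080328,
  0x18a26ca82e0802008020a,
  0xaabe82a0e22898080300,
  0x80a44a02c08020080300,
  0x8074220cca06d2a8ef00,
  0xaabe82a0e2289808032a,
  0x80a44a02c08020080208,
  0x8074220cca06d2a8efa8,
  0x229888020aaeba82e100,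
  0xa56aa8ee0847220cd00,
  0x229888020aaeba82e1a2,
  0xa56aa8ee0847220cd8a,
  0x80200802008c200a4300,
  0x290880200843202c100,
  0x80200802008c200a4220,
  0x80200802008c200a4280,
  0x290880200843202c182,
  0x80200802008c200a42a0,
  0x80e40826408c600a4700,
  0x80e40826408c600a4622,
  0x80e40826408c600a4688,
  0x80e40826408c600a46aa,
  0x80340822408830080300,
  0x80a40822408020080300,
  0x80340822408830080202,
  0x80a40822408020080202,
  0x8034082240883008032a,
  0x80a40822408020080208,
  0x80340822408830080328,
  0x80a4082240802008020a,
  0x807408164088700a1700,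
  0x807408264084700a4700,
  0x807408164088700a160a,
  0x807408264084700a4622,
  0x807408164088700a17a2,
  0x807408264084700a478a,
  0x807408164088700a17a8,
  0x807408264084700a47a8,
  0x80340812408430085300,
  0x80a408124080200a1300,
  0x80b008020084300a4300,
  0x803408124084300852aa,
  0x80a408124080200a1208,
  0x80b008020084300a4220,
  0x80340812408430085382,
  0x80a408124080200a1382,
  0x80b008020084300a4382,
  0x80340812408430085328,
  0x80a408124080200a138a,
  0x80b008020084300a43a2,
  0x80f00836008470085700,
  0x80e40816408c60085700,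
  0x80f008360084700856a0,
  0x80e40816408c60085688,
  0x80f0083600847008578a,
  0x80e40816408c600857a2,
  0x80f0083600847008572a,
  0x80e40816408c6008572a,
  0x802008320080200a1300,
  0x80200832008c20085300,
  0x182308802008830080300,
  0x802008320080200a1280,
  0x80200832008c20085280,
  0x182308802008830080202,
  0x802008320080200a1208,
  0x80200832008c200853a8,
  0x802008320080200a1288,
  0x80200832008c20085328,
  0x80f008360088700a1700,
  0x18af6cab6e088700a1700,
  0x1a238880212a0b8080300,
  0x80f008360088700a16a0,
  0x18af6cab6e088700a160a,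
  0x1a238880212a0b8080222,
  0x80f008360088700a160a,
  0x80f008360088700a16aa,
  0x80a44a32c080200a1300,
  0x80b00802008830080300,
  0x12a1ee298fa269ea0f900,
  0x8074223cca0ad2aabf00,
  0x80b008021280b0080300,
  0x80a44a32c080200a1208,
  0x80b00802008830080220,
  0x12a1ee298fa269ea0f8aa,
  0x8074223cca0ad2aabfa8,
  0x80b008021280b0080220,
  0x80b00802008830080202,
  0x80b00802008830080222,
  0x80e46a1ec08c6628df00,
  0xa86aabae08022229900,
  0x80f008361a8ef68af700,
  0x80340210c20490085300,
  0x22dc88164aaafa82b500,
  0x80e46a1ec08c6628de88,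
  0xa86aabae0802222998a,
  0x80f008361a8ef68af6a0,
  0x80340210c20490085328,
  0x22dc88164aaafa82b5a2,
  0x80200832008c260ad300,
  0xaa6e8294e224c8085700,
  0x2008802008022008100,
  0x2848812408022029100,
  0x80200832008026089300,
  0xaafa82b4a22cd8085700,
  0x214881240843200d100,
  0x80200832008c260ad280,
  0xaa6e8294e224c808572a,
  0x2008802008022008182,
  0x2848812408022029182,
  0x80200832008026089280,
  0xaafa82b4a22cd808572a,
  0x214881240843200d182,
  0x80f008361a82f688b700,
  0x220888020aa2aa80a100,
  0x80200230820c80085300,
  0xa02aa8aa08022208900,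
  0x224c88164aa6ea80f500,
  0x80206a1a808026289b00,
  0xad2aabea0847222dd00,
  0x80f008361a82f688b6a0,
  0x220888020aa2aa80a1a2,
  0x80200230820c80085328,
  0xa02aa8aa0802220898a,
  0x224c88164aa6ea80f5a2,
  0x80206a1a808026289a88,
  0xad2aabea0847222dd8a,
  0x80b00802128cb00a4300,
  0x12a5ae29cba22dea0bd00,
  0x802022088a0282a8ab00,
  0x802022388a0e82aafb00,
  0x80204a22808020080300,
  0xaa2a8280a22088080300,
  0x80204a128080200a1300,
  0x80b00802128cb00a4220,
  0x12a5ae29cba22dea0bcaa,
  0x802022088a0282a8aba8,
  0x802022388a0e82aafba8,
  0x80204a22808020080208,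
  0xaa2a8280a2208808032a,
  0x80204a128080200a1208,
  0x1a27c882652a4f80a4700,
  0x18a72ca96a088700a1700,
  0x18aa2caa2a08020080300,
  0x80200200820080080300,
  0x80206a2a8080262a8b00,
  0x1a27c882652a4f80a4622,
  0x18a72ca96a088700a160a,
  0x18aa2caa2a0802008020a,
  0x80200200820080080328,
  0x80206a2a8080262a8a88,
  0x182248822408020080300,
  0x182b48822408830080300,
  0x12a8ae2a8ba2a8ea2a900,
  0x802008020080260a8300,
  0x182248822408020080202,
  0x182b48822408830080202,
  0x12a8ae2a8ba2a8ea2a8aa,
  0x802008020080260a8280,
  0x1a2ec882652ace80a4700,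
  0x802008021a8aa68aa300,
  0x1a2ec882652ace80a4622,
  0x802008021a8aa68aa2a0,
  0x802008021284a00a4300,
  0x802008021284a00a4220]

/-- `c` is the code of an element of the table -/
def InT (T : List (ℕ × ℕ)) (c : ℕ) : Prop := ∃ p ∈ T, ∃ q < 512, p.2.testBit q = true ∧ c = q + 512 * p.1

/-- kernel-fast `all` -/
noncomputable def allL {α : Type} (P : α → Bool) (T : List α) : Bool :=
  List.rec (motive := fun _ => Bool) true (fun p _ ih => cond (P p) ih false) T

theorem allL_spec {α : Type} {P : α → Bool} {T : List α} (h : allL P T = true) : ∀ p ∈ T, P p = true := by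
  induction T with
  | nil => simp
  | cons p T ih =>
    change cond (P p) (allL P T) false = true at h
    intro x hx
    cases hp : P p with
    | false => rw [hp] at h; simp at h
    | true =>
      rw [hp, cond_true] at h
      rcases List.mem_cons.1 hx with rfl | hx
      · exact hp
      · exact ih h x hx

/-- kernel-fast `any` -/
noncomputable def anyL {α : Type} (P : α → Bool) (T : List α) : Bool :=
  List.rec (motive := fun _ => Bool) false (fun p _ ih => cond (P p) true ih) T

theorem anyL_spec {α : Type} {P : α → Bool} {T : List α} (h : anyL P T = true) : ∃ p ∈ T, P p = true := by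
  induction T with
  | nil => exact absurd (show false = true from h) (by decide)
  | cons p T ih =>
    change cond (P p) true (anyL P T) = true at h
    cases hp : P p with
    | false =>
      rw [hp, cond_false] at h
      obtain ⟨x, hx, hx2⟩ := ih h
      exact ⟨x, List.mem_cons_of_mem _ hx, hx2⟩
    | true => exact ⟨p, List.mem_cons_self, hp⟩

/-- kernel-fast test of a bit -/
def tb (m q : ℕ) : Bool := Nat.beq (Nat.land (Nat.shiftRight m q) 1) 1

theorem tb_eq (m q : ℕ) : tb m q = m.testBit q := by
  have h : (m >>> q) &&& 1 = (m.testBit q).toNat := by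
    rw [Nat.and_one_is_mod, Nat.toNat_testBit, Nat.shiftRight_eq_div_pow]
  show Nat.beq ((m >>> q) &&& 1) 1 = m.testBit q
  rw [h]
  cases m.testBit q <;> rfl

/-- the position of the lowest bit of a number below `2 ^ 512` (no proof depends on the table) -/
def lowPos (m : ℕ) : ℕ :=
  Nat.land (Nat.shiftRight 0x1054182441d36095854214d4dc09098f5618554249f538cb4e0a40289509d673d86c61dc11596d42932281b653dba330144e5472955f02d7e2581c0a2055a1c83dd531b43a621f4708c015cae5b9cd42d264ccf2285be6dd7b540ab6ec8633489055e04e99552142298d0580e0030e95fd7525c8c074fc0a5a0818515a418725dc3e0d5551ff1b9e30ecd9624747d4c670d3d3051f161172bc665bd98739584307e49d034d14b3cc9d289656fd306e1455f203545f22b1246f0a921d93338e72299e058d3784724ed156587c5256350df029ce534513584e3385e7035e93a85d6000f5d9d7261eb235ad078ec3f43f0a85f6844581d82148925a8110643772978774dd3e5d93591c5549a801901bded791d40f08f3698d629af1d4b87d82031db2710ee4f84d308ff4807816441460b42c02c19cbb5c061665a873da3565f9434471fc304a209410234d584530083d054278ca28c945986b7016c4c5b56e4135195e5f41b811c7548397ccbf2b5cc494f16f57a2a885221df6514133cdf3a17422cfb67c5005ddb351fe788d81ccc54f11e4586565d571f5025289c5912f512027c5232a1923999d348714507b589ef39112389e67a05c039d67a9ac3ac3e1784460491040365dcdc7611b2658f7b1d32398c6b8b707db13b44c3f877100b30acba181a7689f81182f8202260c0714cc924c6a5adb40495d069c60e0be72cf05e48477940379733e84f769fd35cc4474645590126d2e805226459c1c07a7b9117945b755ab0f4432403536d1a639d262cb66c04b1d8b22e5a67dc2e08406320696cd5c714bd3bc834fd72139fc30c634012d4859b1e510169aa10834465d12d44a2c5a50b4051a15b2f0825c5fb1892c6690f6a4337404969004568817e92b43832120032012a0c4024a40100000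
    (Nat.mul 10 (Nat.mod (Nat.xor m (Nat.land m (Nat.sub m 1))) 523))) 1023

/-- `P` holds for all positions of the bits of a number -/
noncomputable def allBits (P : ℕ → Bool) (fuel : ℕ) : ℕ → Bool :=
  Nat.rec (motive := fun _ => ℕ → Bool) (fun m => Nat.beq m 0)
    (fun _ ih m => cond (Nat.beq m 0) true
      (force (lowPos m) fun q => cond (P q) (force (Nat.xor m (Nat.pow 2 q)) ih) false)) fuel

theorem allBits_spec {P : ℕ → Bool} {q : ℕ} : ∀ {fuel m : ℕ}, allBits P fuel m = true → m.testBit q = true → P q = true := by
  intro fuel
  induction fuel with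
  | zero =>
    intro m h hq
    rw [Nat.eq_of_beq_eq_true (show Nat.beq m 0 = true from h), Nat.zero_testBit] at hq
    exact absurd hq (by decide)
  | succ n ih =>
    intro m h hq
    change cond (Nat.beq m 0) true (cond (P (lowPos m)) (allBits P n (m ^^^ 2 ^ lowPos m)) false) = true at h
    cases h0 : Nat.beq m 0 with
    | true =>
      rw [Nat.eq_of_beq_eq_true h0, Nat.zero_testBit] at hq
      exact absurd hq (by decide)
    | false =>
      rw [h0, cond_false] at h
      cases h1 : P (lowPos m) with
      | false => rw [h1, cond_false] at h; exact absurd h (by decide)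
      | true =>
        rw [h1, cond_true] at h
        by_cases e : lowPos m = q
        · exact e ▸ h1
        · exact ih h (by rw [Nat.testBit_xor, hq, Nat.testBit_two_pow_of_ne e]; rfl)

/-- `P` holds for all codes of the table -/
noncomputable def tabAll (P : ℕ → Bool) (T : List (ℕ × ℕ)) : Bool :=
  allL (fun p => allBits (fun q => P (Nat.add q (Nat.mul 512 p.1))) 512 p.2) T

theorem tabAll_spec {P : ℕ → Bool} {T : List (ℕ × ℕ)} (h : tabAll P T = true) {c : ℕ} (hc : InT T c) : P c = true := by
  obtain ⟨p, hp, q, hq, hb, rfl⟩ := hc
  exact allBits_spec (P := fun q => P (Nat.add q (Nat.mul 512 p.1))) (allL_spec h p hp) hb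

/-- the `L`-level check: the codes `q0 + 512 l` are closed under conjugation by the `D j` -/
noncomputable def chkL (T : List (ℕ × ℕ)) (q0 : ℕ) : Bool :=
  allL (fun p => allBelow (fun j =>
    force (mulN (gN j) (mulN (Nat.add q0 (Nat.mul 512 p.1)) (gN j))) fun c =>
      cond (Nat.beq (Nat.land c 511) q0) (force (Nat.shiftRight c 9) fun l => anyL (fun p' => Nat.beq p'.1 l) T) false) 7) T

/-- the `Q`-level check -/
noncomputable def chkQ (T : List (ℕ × ℕ)) (q0 : ℕ) : Bool :=
  allL (fun p => cond (tb p.2 q0) (allBits (fun q => allBelow (fun I =>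
    tb p.2 (qm (qm (Nat.pow 2 I) q) (Nat.land (Nat.shiftRight p.1 (Nat.mul 9 I)) 511))) 8) 512 p.2) false) T

section

variable {C : Type*} [Group C] {t : C} {ev : QM →* C} {D : ℕ → C} {R : Rels false t ev D}

/-- conjugation by a generator of `Q` changes slot `0` only -/
theorem isCode_conj_X (A : Data R) {y : C} {f : ℕ → ℕ} (hf : IsCode ev D y f) {I : ℕ} (hI : I < 8) :
    IsCode ev D (ev (dec (2 ^ I)) * y * (ev (dec (2 ^ I)))⁻¹)
      (fun k => if k = 0 then qmul (qmul (2 ^ I) (f 0)) (f (I + 1)) else f k) := by
  obtain ⟨f1, h, hh, e, f2⟩ := hf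
  have hx : (ev (dec (2 ^ I)))⁻¹ = ev (dec (2 ^ I)) := by
    have := gv_inv A (7 + I)
    unfold gv at this
    rw [if_neg (by omega), if_pos (by omega)] at this
    rw [show 7 + I - 7 = I by omega] at this
    exact this
  have h2 : (2 : ℕ) ^ I < 512 := by
    calc (2 : ℕ) ^ I ≤ 2 ^ 7 := Nat.pow_le_pow_right (by norm_num) (by omega)
      _ < 512 := by norm_num
  refine ⟨?_, h, hh, ?_, ?_⟩
  · intro k hk
    dsimp only
    split
    · exact qmul_lt (qmul_lt h2 (f1 0 (by norm_num))) (f1 _ (by omega))
    · exact f1 k hk
  · have h3 := f2 ⟨I, hI⟩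
    simp only at h3
    simp only [if_true, dec_qmul, map_mul]
    rw [← h3, hx, e]
    group
  · intro J
    have h3 := f2 J
    simpa only [_root_.Nat.add_eq_zero_iff, _root_.Fin.val_eq_zero_iff, _root_.Fin.isValue, _root_.one_ne_zero, _root_.and_false, ↓ _root_.reduceIte] using h3

theorem cd_conj_X (A : Data R) {y : C} {q l : ℕ} (hq : q < 512) (h : cd ev D y = q + 512 * l) {I : ℕ} (hI : I < 8) :
    cd ev D (ev (dec (2 ^ I)) * y * (ev (dec (2 ^ I)))⁻¹) = qmul (qmul (2 ^ I) q) ((l >>> (9 * I)) &&& 511) + 512 * l := by
  obtain ⟨f, hf, e⟩ := cd_spec (R := R) y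
  have hp : pack f = q + 512 * l := by rw [← e, h]
  have h0 : f 0 = q := by
    have := slot_pack hf.1 (k := 0) (by norm_num)
    rw [hp, slot_eq] at this
    omega
  have hI1 : f (I + 1) = (l >>> (9 * I)) &&& 511 := by
    rw [← slot_pack hf.1 (k := I + 1) (by omega), hp]
    unfold slot
    congr 1
    have h9 : 9 * (I + 1) = 9 + 9 * I := by ring
    rw [h9, Nat.shiftRight_add]
    congr 1
    rw [Nat.shiftRight_eq_div_pow]
    omega
  rw [cd_eq A (isCode_conj_X A hf hI), h0, hI1]
  unfold pack at hp ⊢
  simp only [if_true, Nat.one_ne_zero, OfNat.ofNat_ne_zero, if_false]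
  rw [h0] at hp
  omega

/-- all conjugates of `y0` are in the table -/
theorem conj_mem (A : Data R) {T : List (ℕ × ℕ)} {q0 : ℕ} (hq0 : q0 < 512) (hL : chkL T q0 = true) (hQ : chkQ T q0 = true)
    {y0 : C} {p0 : ℕ × ℕ} (hp0 : p0 ∈ T) (h0 : cd ev D y0 = q0 + 512 * p0.1) (k : C) :
    InT T (cd ev D (k * y0 * k⁻¹)) := by
  -- level `L`
  have s1 : ∀ h ∈ LL D, ∀ y : C, (∃ p ∈ T, cd ev D y = q0 + 512 * p.1) ↔
      ∃ p ∈ T, cd ev D (h * y * h⁻¹) = q0 + 512 * p.1 := by
    intro h hh
    induction hh using Subgroup.closure_induction with
    | one => intro y; simp only [_root_.Prod.exists, _root_.exists_and_right, _root_.one_mul, _root_.inv_one, _root_.mul_one]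
    | mem x hx =>
      obtain ⟨j, hj, rfl⟩ := hx
      have hinv : (D j)⁻¹ = D j := by
        have := gv_inv A j
        unfold gv at this
        rw [if_pos hj] at this
        exact this
      have hcd : cd ev D (D j) = gN j := by
        have := cd_gv A j
        unfold gv at this
        rw [if_pos hj] at this
        exact this
      have key : ∀ y : C, (∃ p ∈ T, cd ev D y = q0 + 512 * p.1) →
          ∃ p ∈ T, cd ev D (D j * y * (D j)⁻¹) = q0 + 512 * p.1 := by
        rintro y ⟨p, hp, e⟩
        have h1 := allBelow_spec (allL_spec hL p hp) j hj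
        rw [Cfsg.Agent.Lib.PackMat.force_eq] at h1
        have h2 : mulN (gN j) (mulN (Nat.add q0 (Nat.mul 512 p.1)) (gN j)) = cd ev D (D j * y * (D j)⁻¹) := by
          rw [hinv, mul_assoc, cd_mul A, cd_mul A, hcd, e]
          rfl
        rw [h2, Cfsg.Agent.Lib.PackMat.force_eq] at h1
        generalize cd ev D (D j * y * (D j)⁻¹) = c at h1 ⊢
        cases hc : Nat.beq (Nat.land c 511) q0 with
        | false => rw [hc] at h1; simp at h1
        | true =>
          rw [hc, cond_true] at h1
          obtain ⟨p', hp', e'⟩ := anyL_spec h1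
          refine ⟨p', hp', ?_⟩
          have e1 : c &&& 511 = q0 := Nat.eq_of_beq_eq_true hc
          have e2 : p'.1 = c >>> 9 := Nat.eq_of_beq_eq_true e'
          rw [show (511 : ℕ) = 2 ^ 9 - 1 by norm_num, Nat.and_two_pow_sub_one_eq_mod] at e1
          rw [Nat.shiftRight_eq_div_pow] at e2
          (clear * - e1 e2; omega)
      intro y
      refine ⟨key y, fun h => ?_⟩
      have := key _ h
      have e : D j * (D j * y * (D j)⁻¹) * (D j)⁻¹ = (D j * D j) * y * (D j * D j)⁻¹ := by group
      have e2 : D j * D j = 1 := by
        calc D j * D j = D j * (D j)⁻¹ := by rw [hinv]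
          _ = 1 := mul_inv_cancel _
      rw [e, e2, one_mul, inv_one, mul_one] at this
      exact this
    | mul a b _ _ iha ihb =>
      intro y
      rw [ihb y, iha]
      have e : a * (b * y * b⁻¹) * a⁻¹ = a * b * y * (a * b)⁻¹ := by group
      rw [e]
    | inv a _ iha =>
      intro y
      rw [iha (a⁻¹ * y * a⁻¹⁻¹)]
      have e : a * (a⁻¹ * y * a⁻¹⁻¹) * a⁻¹ = y := by group
      rw [e]
  -- level `Q`
  have hstep : ∀ I < 8, ∀ y : C, InT T (cd ev D y) →
      InT T (cd ev D (ev (dec (2 ^ I)) * y * (ev (dec (2 ^ I)))⁻¹)) := by
    rintro I hI y ⟨p, hp, q, hq, hb, e⟩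
    rw [cd_conj_X A hq e hI]
    have h1 := allL_spec hQ p hp
    cases h0 : tb p.2 q0 with
    | false => rw [h0] at h1; simp at h1
    | true =>
      rw [h0, cond_true] at h1
      have h2 := allBits_spec h1 hb
      have h3 := allBelow_spec h2 I hI
      rw [tb_eq, qm_eq, qm_eq] at h3
      refine ⟨p, hp, _, ?_, h3, rfl⟩
      refine qmul_lt (qmul_lt ?_ hq) (Nat.lt_of_le_of_lt Nat.and_le_right (by norm_num))
      calc (2 : ℕ) ^ I ≤ 2 ^ 7 := Nat.pow_le_pow_right (by norm_num) (by omega)
        _ < 512 := by norm_num
  have s2 : ∀ m : ℕ, ∀ y : C, InT T (cd ev D y) → InT T (cd ev D (ev (dec m) * y * (ev (dec m))⁻¹)) := by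
    intro m y hy
    have hbit : ∀ I < 8, ∀ b : Bool, ∀ y : C, InT T (cd ev D y) →
        InT T (cd ev D (ev (if b = true then dec (2 ^ I) else 1) * y * (ev (if b = true then dec (2 ^ I) else 1))⁻¹)) := by
      intro I hI b y hy
      cases b
      · simpa using hy
      · simpa only [↓ _root_.reduceIte] using hstep I hI y hy
    have hb8 : ∀ b : Bool, ∀ y : C, InT T (cd ev D y) →
        InT T (cd ev D (ev (if b = true then dec 256 else 1) * y * (ev (if b = true then dec 256 else 1))⁻¹)) := by
      intro b y hy
      cases b
      · simpa using hy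
      · have e : ev (dec 256) * y * (ev (dec 256))⁻¹ = y := by
          rw [R.ev_z, ← R.cent, mul_inv_cancel_right]
        simpa [e] using hy
    have hmul : ∀ a b : C, (∀ y : C, InT T (cd ev D y) → InT T (cd ev D (a * y * a⁻¹))) →
        (∀ y : C, InT T (cd ev D y) → InT T (cd ev D (b * y * b⁻¹))) →
        ∀ y : C, InT T (cd ev D y) → InT T (cd ev D (a * b * y * (a * b)⁻¹)) := by
      intro a b ha hb y hy
      have e : a * b * y * (a * b)⁻¹ = a * (b * y * b⁻¹) * a⁻¹ := by group
      rw [e]
      exact ha _ (hb _ hy)
    rw [dec_expand m]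
    simp only [map_mul]
    exact hmul _ _ (hmul _ _ (hmul _ _ (hmul _ _ (hmul _ _ (hmul _ _ (hmul _ _ (hmul _ _
      (hbit 0 (by norm_num) _) (hbit 1 (by norm_num) _)) (hbit 2 (by norm_num) _)) (hbit 3 (by norm_num) _))
      (hbit 4 (by norm_num) _)) (hbit 5 (by norm_num) _)) (hbit 6 (by norm_num) _)) (hbit 7 (by norm_num) _))
      (hb8 _) y hy
  obtain ⟨q, h, hh, rfl⟩ := exists_decomp (R := R) k
  obtain ⟨m, _, rfl⟩ := dec_512 q
  obtain ⟨p, hp, e⟩ := (s1 h hh y0).1 ⟨p0, hp0, h0⟩
  have h1 : InT T (cd ev D (h * y0 * h⁻¹)) := by
    refine ⟨p, hp, q0, hq0, ?_, e⟩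
    have h1 := allL_spec hQ p hp
    rw [← tb_eq]
    cases h0 : tb p.2 q0 with
    | false => rw [h0] at h1; simp at h1
    | true => rfl
  have := s2 m _ h1
  have e : ev (dec m) * (h * y0 * h⁻¹) * (ev (dec m))⁻¹ = ev (dec m) * h * y0 * (ev (dec m) * h)⁻¹ := by group
  rw [e] at this
  exact this

end

/-! ### faster products with a generator -/

theorem qm_zero (a : ℕ) : qm a 0 = a := by
  rw [qm_def, Nat.xor_zero, Nat.zero_and, Nat.add_zero]
  have h : ∀ k < 16, (T0 >>> (16 * k)) &&& 1 = 0 := by decide +kernel
  rw [h _ (Nat.lt_of_le_of_lt Nat.and_le_right (by norm_num)), Nat.zero_shiftLeft, Nat.xor_zero]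

/-- one factor, skipped when the bit is not set -/
noncomputable def qc (m k acc s : ℕ) : ℕ :=
  Bool.rec (motive := fun _ => ℕ) (qm acc s) acc (Nat.beq (Nat.land (Nat.shiftRight m k) 1) 0)

theorem qc_eq (m k acc s : ℕ) : qm acc (Nat.mul s (Nat.land (Nat.shiftRight m k) 1)) = qc m k acc s := by
  unfold qc
  have h : Nat.land (Nat.shiftRight m k) 1 ≤ 1 := Nat.and_le_right
  generalize Nat.land (Nat.shiftRight m k) 1 = b at h ⊢
  rcases Nat.le_one_iff_eq_zero_or_eq_one.1 h with rfl | rfl
  · exact qm_zero acc
  · exact congrArg (qm acc) (Nat.mul_one s)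

noncomputable def sapp (s1 s2 s3 s4 s5 s6 s7 s8 m : ℕ) : ℕ := force m fun m =>
  Nat.xor (qc m 7 (qc m 6 (qc m 5 (qc m 4 (qc m 3 (qc m 2 (qc m 1
    (Nat.mul s1 (Nat.land (Nat.shiftRight m 0) 1)) s2) s3) s4) s5) s6) s7) s8) (Nat.land m 256)

theorem sapp_eq (s1 s2 s3 s4 s5 s6 s7 s8 m : ℕ) : lapp8 s1 s2 s3 s4 s5 s6 s7 s8 m = sapp s1 s2 s3 s4 s5 s6 s7 s8 m := by
  unfold lapp8 sapp
  rw [Cfsg.Agent.Lib.PackMat.force_eq, Cfsg.Agent.Lib.PackMat.force_eq, qc_eq, qc_eq, qc_eq, qc_eq, qc_eq, qc_eq, qc_eq]

/-- `mulN` for a sparse second factor -/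
noncomputable def mulS (x y : ℕ) : ℕ :=
  force x fun x =>
  force (Nat.land (Nat.shiftRight x 9) 511) fun s1 =>
  force (Nat.land (Nat.shiftRight x 18) 511) fun s2 =>
  force (Nat.land (Nat.shiftRight x 27) 511) fun s3 =>
  force (Nat.land (Nat.shiftRight x 36) 511) fun s4 =>
  force (Nat.land (Nat.shiftRight x 45) 511) fun s5 =>
  force (Nat.land (Nat.shiftRight x 54) 511) fun s6 =>
  force (Nat.land (Nat.shiftRight x 63) 511) fun s7 =>
  force (Nat.land (Nat.shiftRight x 72) 511) fun s8 =>
  Nat.add (qm (Nat.land (Nat.shiftRight x 0) 511) (sapp s1 s2 s3 s4 s5 s6 s7 s8 (Nat.land (Nat.shiftRight y 0) 511)))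
  (Nat.add (Nat.mul 0x200 (sapp s1 s2 s3 s4 s5 s6 s7 s8 (Nat.land (Nat.shiftRight y 9) 511)))
  (Nat.add (Nat.mul 0x40000 (sapp s1 s2 s3 s4 s5 s6 s7 s8 (Nat.land (Nat.shiftRight y 18) 511)))
  (Nat.add (Nat.mul 0x8000000 (sapp s1 s2 s3 s4 s5 s6 s7 s8 (Nat.land (Nat.shiftRight y 27) 511)))
  (Nat.add (Nat.mul 0x1000000000 (sapp s1 s2 s3 s4 s5 s6 s7 s8 (Nat.land (Nat.shiftRight y 36) 511)))
  (Nat.add (Nat.mul 0x200000000000 (sapp s1 s2 s3 s4 s5 s6 s7 s8 (Nat.land (Nat.shiftRight y 45) 511)))
  (Nat.add (Nat.mul 0x40000000000000 (sapp s1 s2 s3 s4 s5 s6 s7 s8 (Nat.land (Nat.shiftRight y 54) 511)))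
  (Nat.add (Nat.mul 0x8000000000000000 (sapp s1 s2 s3 s4 s5 s6 s7 s8 (Nat.land (Nat.shiftRight y 63) 511)))
  (Nat.mul 0x1000000000000000000 (sapp s1 s2 s3 s4 s5 s6 s7 s8 (Nat.land (Nat.shiftRight y 72) 511))))))))))

theorem mulS_eq (x y : ℕ) : mulN x y = mulS x y := by
  rw [mulN_def]
  simp only [sapp_eq]
  rfl

/-- the action of `D 0, …, D 6` on `Q` -/
def TG : ℕ := 0x663359ccf64b2196ca6331d88c561b0982c06e375bcdf6cb61b6da6b35da8d569b49a2d0763b5dcef74ba1d6ea7339dc8e571b89c2e07e3f5fcff7cbe1f6fa7b3dde8f579bc9e2f04e2753c9f4ca61369a4b25d289549a492290462351c8f44a21168a4321d088541a0902805e2f57cbf5cae176ba5b2dd68b559ac962b0562b55caf54aa156aa5329d48a551a8942a0361b4dc6f349a0d66a3319cc86531988c2603e1f4fc7f3c9e0f67a3b1dce875399c8e270261349c4f24920964a2311c88452190882402e174bc5f2c960b65a2b15ca85529948a2501e0f47c3f1c8e0763a1b0dc6835198c86230160b45c2f148a0562a1309c48251188842200e0743c1f0c860361a0b05c2815098482210060341c0f04820160a0301c080501808020007c7a5a3ca596ad278c3e594ab461b49c2f00fc3a7a2cad92af268cbe196aa469b09e2e017cfa1a1cb59ea9258d3ed90a9471bc982d01fcba3a0cbd9aab248dbe992a8479b89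a2c027d7ada7c8586a5238e3f59caf441a4942b02fd3afa6c8d82a7228ebf19eae449a0962a037dfa9a5c958ea1218f3fd98ad451ac902903fdbaba4c9d8aa3208fbf99aac459a89228047e7b5abce5b6bd2f883c584a3421948c2704fe3b7aacedb2bf2e88bc186a2429908e26057efb1a9cf5beb92d893cd80a14319c882505febb3a8cfdbabb2c89bc982a0439988a24067f7bdafcc5a6b52b8a3d58ca740184842306ff3bfaeccda2b72a8abd18ea6409808622077ffb9adcd5aeb1298b3dd88a54118c802107ffbbbaccddaab3288bbd98aa44198882200783c5e4f37a3d5ecf77c3e5f4fb7e3f5fcfff0f83c7e2f2f93cfe6f4fa3d7eaf6fb3dfeee974fa1d1eb75fa9d5ed76fb1d9ef77fb9dd61b0982c063b198ac465b2992c867b399accda6d76db7d86c765b3de6f77dbfdc6e775bb52a914ea650a8146a256ab15eae54aa156aacb65f2995c964f2191cf67f399dcd66f319943a190a8441a09028047a391a8c45a291288bc5e6f57bbe5f6fd7fb85c6e573ba5d6ed77b4da2d76ab6db2df6eb0d82c762b2d92cf662d16cb0592f17cb85d2914ca0512b15ca855259289248279389a4c219088240239188a441e0f47c3f1c0e4743b1a0d46c37180c46433168b05e2e148a0562a128904e261088046220f07c381d0d06c30190b05c28150904c2011078381a0c058281208038180a040180802009e0b43d0f3cda0b74a5b29f298579b89a2c0960f41d1f34de0975a532df099571bc982d08e0347d2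f2cd20f76a4b21f69a569b09e2e0860745d3f24d60d77a4325f49b561b49c2f0b61f49d5f14ce0171a733df89d551ac90290be1b4bd4f1cca0370a7b39fa9c559a892280a6174dd7f04c60573a6335fc9f541a4942b0ae134fd6f0cc20772a6b31fe9e549a0962a0ce2357daf6cf21f7ea0b01e692529908e260c62755dbf64f61d7fa0305e493521948c270de2b53d8f7cfa1b7ca1b09e290539988a240d62f51d9f74fe197da130de0915319c88250e6375ddff44e6157ba2315ec975018484230ee335fdef4ce2177aa2b11ee965098086220f63f59ddf54ee1179a331de8955118c80210fe3b5bdcf5cea1378a3b19ea9451988822004ce7927944ae493f9848e59379c4ee692f90f4bbbc6e4f2b8bdee8f0b9bd6ecf6babcee01ccf867341acc87f3818cd8773c1ece86f30a493a8644a290a9e48a091a964ca692a8e402cd78a7542ad48bf5828d58b75c2ed68af50948ba46249288a5e289089a562c968aa4e207cff9e7f47afc9fff878fd9f7fc7efe9eff0c4a3b0684c2a0b1e88c0a1b168cc6a2b0e800cc7827140ac483f1808c58371c0ec682f10b49bac664b298ade68b099ad66cb69aace605cef967b45aec97fb858ed977bc5eee96fb0e4b3b86c4e2b0b9ec8e0b1b96cce6b2b8ec06cf79a7d46af49bfd868f59b7dc6ef69afd0d4abb46a4d2a8b5ea8d0a9b56acd6aab4ea03cdf8e7743adc8ff7838dd8f77c3ede8ef708483a06048280a1e088081a160c8682a0e00552ad52a8572bd5aac53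29d4aa45128d42a05d2ed72b85f2fd7abc5b2dd6ab4592cd62b04d26d32984f27d3a9c4b25d2a944924d22904522d12884723d1a8c4321d0a844120d0280753add2e8773bddaec7339dcae47138dc2e07d3edf2f87f3fdfafc7b3ddeaf4793cde2f06d36db2d86f37dbadc6b35daad46934da2d06532d92c86733d9acc6331d8ac46130d82c0351acd268371bcda6c3319cca643118cc2603d1ecf2783f1fcfa7c3b1dcea74391cce2702d16cb2582f17cba5c2b15caa542914ca2502512c92482713c9a4c2311c8a442110c8240150ac5228170bc5a2c1309c4a241108c42201d0ec72381f0fc7a3c1b0dc6a34190cc62300d06c32180f07c3a1c0b05c2a140904c22100502c12080703c1a0c0301c0a040100c02002a958ae542c968b6582e978be5c28948a65032998ce64349a8d668369b8de6c30988c6603a9d8ee743c9e8f6783e9f8fe7c389c8e670229188e44249289648269389e4c2090886404aa592e944ca6936984ea793e9c48a49269052a994ea454aa956a856ab95eac50a8946a05aad96eb45cae976b85eaf97ebc58ac966b042a190e8444a29168846a391e8c40a0906806ab59aed46cb69b6d86eb79bedc68b49a6d072b99cee474ba9d6e876bb9deec70b89c6e07abd9eef47cbe9f6f87ebf9fefc78bc9e6f062b198ec464b2996c866b399ecc60b0986c00a8582e140c86836180e8783e1c088482610128984e24148a85628168b85e2c1088846201a8d86e341c8e876381e8f87e3c188c86630028180e04048281608068381e0c008080600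

noncomputable def lkT (j m : ℕ) : ℕ := force m fun m =>
  Nat.xor (Nat.land (Nat.shiftRight TG (Nat.mul 9 (Nat.add j (Nat.land m 255)))) 511) (Nat.land m 256)

theorem TG_ok : allBelow (fun j => allBelow (fun m => Nat.beq (sapp (slot (gN j) 1) (slot (gN j) 2) (slot (gN j) 3)
    (slot (gN j) 4) (slot (gN j) 5) (slot (gN j) 6) (slot (gN j) 7) (slot (gN j) 8) m) (lkT (Nat.mul 256 j) m)) 512) 7 = true := by
  decide +kernel

noncomputable def mulT (j g y : ℕ) : ℕ := force j fun j => force y fun y =>
  Nat.add (qm g (lkT j (Nat.land (Nat.shiftRight y 0) 511)))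
  (Nat.add (Nat.mul 0x200 (lkT j (Nat.land (Nat.shiftRight y 9) 511)))
  (Nat.add (Nat.mul 0x40000 (lkT j (Nat.land (Nat.shiftRight y 18) 511)))
  (Nat.add (Nat.mul 0x8000000 (lkT j (Nat.land (Nat.shiftRight y 27) 511)))
  (Nat.add (Nat.mul 0x1000000000 (lkT j (Nat.land (Nat.shiftRight y 36) 511)))
  (Nat.add (Nat.mul 0x200000000000 (lkT j (Nat.land (Nat.shiftRight y 45) 511)))
  (Nat.add (Nat.mul 0x40000000000000 (lkT j (Nat.land (Nat.shiftRight y 54) 511)))
  (Nat.add (Nat.mul 0x8000000000000000 (lkT j (Nat.land (Nat.shiftRight y 63) 511)))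
  (Nat.mul 0x1000000000000000000 (lkT j (Nat.land (Nat.shiftRight y 72) 511))))))))))

/-- `mulN (gN j)` by the table -/
noncomputable def mulG (j y : ℕ) : ℕ :=
  Bool.rec (motive := fun _ => ℕ) (mulN (gN j) y) (mulT (Nat.mul 256 j) (slot (gN j) 0) y) (Nat.blt j 7)

theorem mulG_eq (j y : ℕ) : mulN (gN j) y = mulG j y := by
  unfold mulG
  cases hj : Nat.blt j 7 with
  | false => rfl
  | true =>
    have h := fun k => Nat.eq_of_beq_eq_true (allBelow_spec (allBelow_spec TG_ok j (Nat.blt_eq ▸ hj)) (slot y k)
      (Nat.lt_of_le_of_lt Nat.and_le_right (by norm_num)))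
    rw [mulN_def]
    simp only [sapp_eq, h]
    rfl

/-- the keys of the table in one number -/
noncomputable def pkT (T : List (ℕ × ℕ)) : ℕ :=
  List.rec (motive := fun _ => ℕ) 0 (fun p _ ih => Nat.add p.1 (Nat.mul 0x1000000000000000000 ih)) T

/-- positions of the keys by residue (no proof depends on it) -/
noncomputable def ixT (T : List (ℕ × ℕ)) : ℕ → ℕ → ℕ :=
  List.rec (motive := fun _ => ℕ → ℕ → ℕ) (fun _ a => a) (fun p _ ih n a =>
    force (Nat.lor a (Nat.shiftLeft n (Nat.mul 10 (Nat.mod p.1 8191)))) fun a => force (Nat.succ n) fun n => ih n a) T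

theorem any_of_pk (T : List (ℕ × ℕ)) (hb : allL (fun p => Nat.blt p.1 0x1000000000000000000) T = true) {l : ℕ} (hl : l ≠ 0) :
    ∀ i, (pkT T >>> (72 * i)) % 0x1000000000000000000 = l → anyL (fun p' => Nat.beq p'.1 l) T = true := by
  induction T with
  | nil =>
    intro i h
    change ((0 : ℕ) >>> (72 * i)) % 0x1000000000000000000 = l at h
    rw [Nat.zero_shiftRight, Nat.zero_mod] at h
    exact absurd h.symm hl
  | cons p T ih =>
    intro i h
    have h1 : Nat.blt p.1 0x1000000000000000000 = true := allL_spec hb p List.mem_cons_self
    have h2 : p.1 < 0x1000000000000000000 := Nat.blt_eq ▸ h1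
    change cond (Nat.blt p.1 0x1000000000000000000) (allL _ T) false = true at hb
    rw [h1, cond_true] at hb
    change cond (Nat.beq p.1 l) true (anyL _ T) = true
    change ((p.1 + 0x1000000000000000000 * pkT T) >>> (72 * i)) % 0x1000000000000000000 = l at h
    cases i with
    | zero =>
      rw [Nat.mul_zero, Nat.shiftRight_zero, Nat.add_mul_mod_self_left, Nat.mod_eq_of_lt h2] at h
      rw [h, Nat.beq_refl, cond_true]
    | succ i =>
      rw [Nat.mul_succ, Nat.add_comm (72 * i), Nat.shiftRight_add, Nat.shiftRight_eq_div_pow _ 72,
        show (2 : ℕ) ^ 72 = 0x1000000000000000000 by norm_num, Nat.add_mul_div_left _ _ (by norm_num),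
        Nat.div_eq_of_lt h2, Nat.zero_add] at h
      rw [ih hb i h]
      cases Nat.beq p.1 l <;> rfl

/-- the search, first at the position given by `I` -/
noncomputable def srch (T : List (ℕ × ℕ)) (P I l : ℕ) : Bool :=
  Bool.rec (motive := fun _ => Bool) (Bool.rec (motive := fun _ => Bool) (anyL (fun p' => Nat.beq p'.1 l) T) true
    (Nat.beq (Nat.mod (Nat.shiftRight P (Nat.mul 72 (Nat.land (Nat.shiftRight I (Nat.mul 10 (Nat.mod l 8191))) 1023)))
      0x1000000000000000000) l)) (anyL (fun p' => Nat.beq p'.1 l) T) (Nat.beq l 0)

theorem srch_eq {T : List (ℕ × ℕ)} (hb : allL (fun p => Nat.blt p.1 0x1000000000000000000) T = true) (I l : ℕ) :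
    anyL (fun p' => Nat.beq p'.1 l) T = srch T (pkT T) I l := by
  unfold srch
  cases h0 : Nat.beq l 0 with
  | true => rfl
  | false =>
    generalize Nat.land (Nat.shiftRight I (Nat.mul 10 (Nat.mod l 8191))) 1023 = i
    cases h1 : Nat.beq (Nat.mod (Nat.shiftRight (pkT T) (Nat.mul 72 i)) 0x1000000000000000000) l with
    | false => rfl
    | true => exact any_of_pk T hb (Nat.ne_of_beq_eq_false h0) i (Nat.eq_of_beq_eq_true h1)

theorem chkL_of {T : List (ℕ × ℕ)} {q0 : ℕ} (hb : allL (fun p => Nat.blt p.1 0x1000000000000000000) T = true)
    (h : (force (pkT T) fun P => force (ixT T 0 0) fun I => allL (fun p => force (Nat.add q0 (Nat.mul 512 p.1)) fun x =>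
      allBelow (fun j => force (mulG j (mulS x (gN j))) fun c =>
        cond (Nat.beq (Nat.land c 511) q0) (force (Nat.shiftRight c 9) fun l => srch T P I l) false) 7) T) = true) :
    chkL T q0 = true := by
  simp only [Cfsg.Agent.Lib.PackMat.force_eq, ← srch_eq hb, ← mulS_eq, ← mulG_eq] at h
  exact h

/-! ### the checks -/

theorem chkL_B : chkL tabB 0 = true := chkL_of (by decide +kernel) (by decide +kernel)
theorem chkQ_B : chkQ tabB 0 = true := by decide +kernel
theorem chkL_A : chkL tabA 256 = true := chkL_of (by decide +kernel) (by decide +kernel)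
theorem chkQ_A : chkQ tabA 256 = true := by decide +kernel

/-! ### the set `F` -/

section

variable {C : Type*} [Group C] {t : C} {ev : QM →* C} {D : ℕ → C} {R : Rels false t ev D}

/-- `F = {t} ∪ class (D 0) ∪ class (t D 3 D 5 D 6)` -/
def InF (t : C) (D : ℕ → C) (y : C) : Prop := y = t ∨ IsConj (D 0) y ∨ IsConj (t * D 3 * D 5 * D 6) y

/-- the codes of the elements of `F` -/
def FC (c : ℕ) : Prop := c = gN 15 ∨ InT tabB c ∨ InT tabA c

theorem gv_lt {j : ℕ} (hj : j < 7) : gv ev D j = D j := by unfold gv; rw [if_pos hj]

theorem gv_15 : gv ev D 15 = ev (dec 256) := by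
  unfold gv
  rw [if_neg (by norm_num), if_neg (by norm_num), if_pos rfl]

include R in
theorem gv_t : gv ev D 15 = t := by
  rw [gv_15, R.ev_z]

theorem cd_t (A : Data R) : cd ev D t = gN 15 := by
  rw [← gv_t (R := R)]; exact cd_gv A 15

theorem cd_D (A : Data R) {j : ℕ} (hj : j < 7) : cd ev D (D j) = gN j := by
  have := cd_gv A j
  rwa [gv_lt hj] at this

theorem beta_mem (A : Data R) {y : C} (h : IsConj (D 0) y) : InT tabB (cd ev D y) := by
  obtain ⟨k, rfl⟩ := isConj_iff.1 h
  refine conj_mem A (q0 := 0) (by norm_num) chkL_B chkQ_B
    (p0 := (0x403004030040300403, 0x10400000404000000000000000000000500000000000000000000000000000004010000010100000000000000000000000500000505)) List.mem_cons_self ?_ k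
  rw [cd_D A (by norm_num)]
  rfl

theorem alpha_mem (A : Data R) {y : C} (h : IsConj (t * D 3 * D 5 * D 6) y) : InT tabA (cd ev D y) := by
  obtain ⟨k, rfl⟩ := isConj_iff.1 h
  have e : t * D 3 * D 5 * D 6 = wv ev D [15, 3, 5, 6] := by
    simp only [wv, gv_t (R := R), gv_lt (ev := ev) (D := D) (show 3 < 7 by norm_num),
      gv_lt (ev := ev) (D := D) (show 5 < 7 by norm_num), gv_lt (ev := ev) (D := D) (show 6 < 7 by norm_num),
      mul_one, mul_assoc]
  rw [e]
  refine conj_mem A (q0 := 256) (by norm_num) chkL_A chkQ_A
    (p0 := (0x401004010944500401, 0x10000000000000000000000000000000000000000000000000001000100010000)) List.mem_cons_self ?_ k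
  rw [cd_wv A]
  have : Nat.beq (wN [15, 3, 5, 6]) (256 + 512 * 0x401004010944500401) = true := by decide +kernel
  exact Nat.eq_of_beq_eq_true this

theorem FC_of_InF (A : Data R) {y : C} (h : InF t D y) : FC (cd ev D y) := by
  rcases h with rfl | h | h
  · exact Or.inl (cd_t A)
  · exact Or.inr (Or.inl (beta_mem A h))
  · exact Or.inr (Or.inr (alpha_mem A h))

theorem InF_conj {y : C} (h : InF t D y) (ht : ∀ g : C, g * t = t * g) (k : C) : InF t D (k * y * k⁻¹) := by
  have hc : IsConj y (k * y * k⁻¹) := isConj_iff.2 ⟨k, rfl⟩
  rcases h with rfl | h | h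
  · left
    rw [ht, mul_inv_cancel_right]
  · exact Or.inr (Or.inl (h.trans hc))
  · exact Or.inr (Or.inr (h.trans hc))

end

/-- the test for membership in `listK` -/
noncomputable def chkK (c : ℕ) : Bool :=
  cond (Nat.beq (mulN (gN 0) c) (mulN c (gN 0))) (anyL (fun x => Nat.beq x c) listK) true

theorem chkK_eq : chkK = fun c => force c fun c =>
    cond (Nat.beq (mulG 0 c) (mulS c (gN 0))) (anyL (fun x => Nat.beq x c) listK) true := by
  funext c
  unfold chkK
  rw [mulG_eq, mulS_eq]
  rfl

theorem chkK_B : tabAll chkK tabB = true := by rw [chkK_eq]; decide +kernel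
theorem chkK_A : tabAll chkK tabA = true := by rw [chkK_eq]; decide +kernel
theorem chkK_t : chkK (gN 15) = true := by decide +kernel

theorem mem_listK {c : ℕ} (h : FC c) (hc : mulN (gN 0) c = mulN c (gN 0)) : c ∈ listK := by
  have key : chkK c = true := by
    rcases h with rfl | h | h
    · exact chkK_t
    · exact tabAll_spec chkK_B h
    · exact tabAll_spec chkK_A h
  unfold chkK at key
  rw [hc, Nat.beq_refl, cond_true] at key
  obtain ⟨x, hx, e⟩ := anyL_spec key
  rw [Nat.eq_of_beq_eq_true e] at hx
  exact hx

/-- `F ∩ C_C(D 0)` -/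
theorem cd_mem_listK {C : Type*} [Group C] {t : C} {ev : QM →* C} {D : ℕ → C} {R : Rels false t ev D}
    (A : Data R) {y : C} (h : InF t D y) (hc : D 0 * y = y * D 0) : cd ev D y ∈ listK := by
  apply mem_listK (FC_of_InF A h)
  rw [← cd_D A (show 0 < 7 by norm_num), ← cd_mul A, ← cd_mul A, hc]

end Cfsg.Agent.Co2Type.FList
end

private theorem dce_82df282cb9b9 : _root_.True := by
  try have : _root_.True := by simp only [_root_.Cfsg.Agent.Co2Type.RedGroup.A.eq_1]
  try have : _root_.True := by simp only [_root_.Cfsg.Agent.Co2Type.RedGroup.A.congr_simp]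
  try have : _root_.True := by simp only [_root_.Cfsg.Agent.Co2Type.Dichotomy.Rep.ue.eq_1]
  try have : _root_.True := by simp only [_root_.Cfsg.Agent.Co2Type.RedGroup2.v0.eq_1]
  try have : _root_.True := by simp only [_root_.Cfsg.Agent.Co2Type.Dichotomy.Rep.L7.eq_1]
  try have : _root_.True := by simp only [_root_.Cfsg.Agent.Co2Type.Dichotomy.P.eq_1]
  exact _root_.True.intro
end
end
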