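import Cfsg.Agent.Co2Type.MatCodes
set_option linter.all false

/-!
# Stabiliser chain of `Spor.Co2`, level 0 (R03, helper903)
-/

set_option autoImplicit false

namespace Cfsg.Agent.Co2Type.Chain0

open Cfsg Cfsg.Agent.Lib.PackMat Cfsg.Agent.SporRec.LeechMod3 Cfsg.Agent.SporRec.LeechChain

/-- generators of level 0 -/
def gs : List ℕ := Cfsg.Agent.Co2Type.MatCodes.gsP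

/-- base row -/
def V : ℕ := 0x200040000000000000000000000000000000000000000000000000000000000000000000000000000000000

/-- transversal -/
def T_0 : List (List ℕ) := [
  [4], [4,6], [1,2,4,5,8], [1,2,4,5,8,6], [2,4,7,5,4,2,1], [2,4,7,5,4,2,7], [1,2,4,5,4,7,2], [1,2,4,5,4,6,7,2],
  [1,2,4,6,7,5,4,2], [1,2,4,7,5,4,2], [1,8,6,7,2,4,7,5], [1,8,7,2,4,7,5], [1,2,6,7,2,3], [1,2,7,2,3],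
  [2,4,5,4,2,6], [2,4,5,4,2], [2,3,4,5,8], [2,3,4,5,8,6], [2,6,7,2], [2,7,2], [2,4,5,4,7,2,1], [2,4,5,4,7,2,7],
  [5,6,7,2,1,3,2,4,8], [5,6,7,8], [1,5,4,6,7,8], [4,2,1,3,2,5,7,8], [2,1,4,5,8], [2,1,4,5,8,6], [2,4,5,4,6,7,2,4],
  [2,4,5,4,7,2,4], [8,7,2,1,4,7,5], [8,6,7,2,1,4,7,5], [0,5,6,7,2,3,8], [0,1,5,4,6,7,2,8], [0,3,5,6,7,2,8],
  [2,4,2,1,7,2,8,7,8], [0,5,4,6,7,5,8], [0,1,5,4,6,7,5,8,7], [2,4,5,4,6,7,2,3], [2,4,5,4,7,2,3],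
  [0,3,5,4,6,7,5,8,7], [0,1,0,5,4,6,7,5,8], [1,6], [2,4,5,4,7,2,1,0], [0,3,8,7,2,1,5], [2,3,4,6,7,2,5,8],
  [1,2,7,5,8,7,5], [0,2,4,5,8,6,7], [2,1,8,7,2,8], [0,1,0,2,1,3], [1,2,3,7,8,7,5], [0,2,4,5,4,2], [0,1,0,5,4,7,5],
  [0,8,7,2,3,4,7,5], [2,8,7,2,8,7], [0,3,2,4,5,8,6], [0,1,0,2,6,8,7,8], [0,4], [2,3,7,5,8,7,5], [1,2,1,4,5,7],
  [2,1,0,4,5,4,7,2], [2,1,0,4], [1,2,1,4,5,4,2,7], [1,2,4,2,1,5], [2,1], [1,2,1,0,4,5,6], [1,4,5,6,7,2,1,7,5],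
  [2,1,4,2,5,7,2,7], [2,1,0,4,5,4,6], [2,4,2,1], [2,3,4,5,6,8], [1,2,4,5,7,2,1,0], [1,2,1,0], [2,1,0,4,5,6,7],
  [0,6,8,7,2,3,7,5], [2,4,5,7,2,1,3,5], [1,2,1,4,5,4,2,3], [2,1,3,4,5,7], [2,1,0,3], [1,2,4,2,1,3],
  [6,8,6,7,2,7,5], [0,6,8,6,7,2,7,5,4], [0,2,3,4,2,5,4,7,8], [2,1,0,3,4,2,5], [1,2,4,5,6,8], [2,3,4,2,5,7,8],
  [4,2,1,3], [2,3,7,2,1,4], [5,7,2,1,7,2,3,5], [1,6,8,7,2,7,5,4], [0,6,8,7,2,4,7,5], [0,1,0,8,7,5,8,6],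
  [0,2,3,4,2,5,6,7], [0,8,7,2,1,8,6,7], [0,2,1,3,4,5,6,7,2,3], [2,1,6,8,7,2,8,6], [0,2,3,4,2,3,5,6],
  [2,3,5,6,7,2,5,8], [2,6,7,5,4,2,8], [0,4,2,6,8,7,2,5,8], [0,2,3,4,5,7,2], [2,3,4,8,7,2,8], [0,2,1,3,4,2,5],
  [0,1,0,4,5,7,8], [0,2,3,4,2,5,4], [0,2,1,6,8,7,2,8,7], [0,2,3,4,2,6], [1,2,6,8,7,2,7], [4,2,1,3,2,4,8],
  [0,2,4,2,3,6,8,6], [4,2,6,8,7,2,7], [1,2,4,2,3,6,8], [1,8,6,7,2,8,7], [0,6,8], [0,3,4,6,8,7,2,3,7],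
  [2,6,8,7,2,1,7], [0,3,4,2,3,6,8], [1,6,8,6], [0,4,6,8,7,2,7], [0,2,6,8,7,2,7], [0,3,4,5,6,8], [8,7,2,7,8,7,8],
  [4,2,1,6,8], [2,7,2,3,5,4,8,7], [0,2,3,5,4], [4,2,7,8,6,7,2], [2,1,0,4,2,3,8], [2,1,3,8,7,5,8,6],
  [0,2,4,2,3,8,7,2,7], [2,7,8,7,2,3], [0,2,3,4,2,3,8], [0,1,0,5,4,7,2,3], [2,4,6,7,8,6], [0,2,3,8,7,5,8,6],
  [0,4,2,3,5], [0,1,2,3,8,6,7], [1,2,6,7,8], [1,4,2,7,8,7], [2,1,5,8,7,5,8,7], [2,3,7,2,8,7], [0,5,6,7,2,7],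
  [2,7,2,5,8,7], [0,3,4,5,7,2,7], [0,1,8,6,7,2,1], [0,2,3,4,2,1,8], [0,2,5,4,6,7,5,8], [0,2,1,5,4], [0,1,8,7,2,4],
  [0,2,4,2,8], [0,1,5,4,7,2], [0,4,5,7,2,1,7], [0,2,1,8,6,7,2], [0,8,7,2,4,7,2], [0,1,2,1,8,6,7],
  [2,3,5,7,2,5,8,7], [1,2,7,2,5,7], [1,2,8,6,7,2,1], [4,2,5,7,2,5], [8,7], [2,5,4,7,2,5], [1,2,8,6,7,2,3],
  [1,2,5,4,2,7], [1,8,6,7,2], [5,7], [2,8,6,7,2], [1,4,2,5,6,7,2], [2,3,8,7,2,3], [1,8,7,2,1,4], [1,2,8,6,7],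
  [2,8,7,2,4,5], [2,1,8,6,7,2,1], [0,1,2,1], [0,2,8,7,2,8], [0,2,4,5,4,6,7,2,3], [2,5,4,6,7,2,8],
  [0,2,5,4,7,2,7,5], [1,2,8,7,2,8], [0,2,3,4,5,8,6], [0,8,7,2,1,0,5], [0,3], [2,8,7,2,3,8], [0,2,4,5,4,7,2,4],
  [0,1,2,5,4,7,5], [0,2,1,4,5,4,7,2], [2,7,8,7,5], [2,8,6,7,2,8,7,5], [0,1,8,7,5], [2,1,0,4,2,5,7,2],
  [5,7,2,1,7,5], [2,4,5,6,7,2,1], [1,4,2,1], [1,2,4,2,1,7], [2,1,4,5,4,2], [2,1,4,5], [0,2,3,4,5,6,8,7],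
  [1,2,4,5,7,2,1,5], [2,4,2,1,5,4,6], [2,1,4,2,1,5,4,2], [4,2,1,7], [1,2,1,4], [2,1,4,5,4,6,7], [1,2,1,4,2,5,7,2],
  [0,2,3,4,2,5,6,8], [2,4,2,1,3,5], [0,2,4,5,6,8], [2,1,3,4], [1,2,3,4,5,4,2,1], [1,2,1,3,4,5], [1,2,3,7,2,1],
  [0,2,4,5,4,6,8,7], [2,1,4,5,4,2,3,7], [1,2,1,4,2,1,5,7,8], [0,2,4,5,6,8,7,8], [1,2,1,0,3,4], [0,3,6,8,7,2,7,5],
  [6,8,7,2,4,7,5,4], [1,2,1,3], [0,2,3,2,4,2,5,7,8], [2,4,5,6,8,7], [2,6,8,7,2,4,8], [0,2,1,3,2,4,2,6],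
  [0,2,3,5,6,7,2,8], [0,2,3,2,4,5,7,2,3], [0,4,5,7,2,1,8], [2,4,6,7,5,4,8,7,2], [0,1,8,7,5,8,6,7],
  [0,2,3,2,4,5,7,2,7], [0,8,7,2,1,4,8], [0,2,3,2,4,2,3,6], [0,1,8,7,8], [0,2,3,4,5,7,2,3,7], [4,2,6,8,7,2,8],
  [0,2,1,3,4,2,3,5,7], [0,8,7,2,1,5,8,6], [0,2,3,2,4,2,5,6], [0,1,0,6,8], [1,4,2,6,8], [6,8,7,2,4,7,2],
  [8,6,7,2,1,8,7], [2,1,0,3,5,4,2], [1,4,2,1,3,6,8], [1,2,4,2,1,6,8], [4,6,8], [4,6,8,7,2,4,7], [2,6,8,7,2,4,7],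
  [2,4,2,1,3,2,8], [0,1,4,5,6,8], [5,7,2,1,3,2,7], [4,2,3,6,8], [2,4,2,6,8], [0,4,2,6,8], [4,2,1,7,8,7],
  [0,2,3,5,6,7,2,7], [0,4,2,7,5,8,7,2], [2,1,0,6,8], [0,1,8,6,7,2,3], [2,6,7,2,8], [0,4,2,7,8,6,7],
  [2,6,7,8,6,7,2,7], [0,2,5,8,6,7,5,8], [1,2,5,8,7,5,8,7], [4,2,7,5,8,7], [0,4,5,7,2,3,7], [2,4,2,7,8,6,7],
  [0,2,4,2,1,3,8], [2,7,2,3,8,6,7], [0,2,1,3,5,7,2,1,7], [2,8,7,5,8,6], [0,4,5,6,7,2,4,7], [0,3,2,8,7,5,8,6],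
  [0,2,3,2,4,2,8], [0,2,1,5,8,7,2,4], [2,3,6,7,8], [2,7,8,7,2,1], [0,4,2,6,7,5], [0,1,0,2,8,6,7], [0,3,2,5,4],
  [0,1,0,8,6,7,2], [0,2,4,5,4,7,5], [0,4,2,5,7,5,8], [0,2,5,6], [1,2,7,8,7,2], [0,3,4,2,5], [2,5,7,5,4,2],
  [8,6,7,2,1], [2,1,8,7,2,4], [2,1,8,6,7], [2,4,8,6,7], [1,5,4,6,7], [2,7,2,3,5,7], [2,3,8,6,7], [2,1,5,4,8,7],
  [2,3,5,8,7,2], [8,7,2,4], [2,8,6,7,2,1,3], [2,5,7,2], [1,2,3,8,7,2], [1,4,5,6,7], [2,5,8,7], [2,1,3,5,4,7,2],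
  [1,4,2,3,6,8,7], [0,2,4,6,8,7,2], [1,4,6,8,7], [0,3,6,8,7], [0,1,4,6,8,7,2], [0,3,2,6,8,7,2], [8,6,7,2,8],
  [1,5,7,2,1,3,2], [4,2,1,3,6,8,7], [2,4,2,1,6,8,7], [0,3,4,2,6,8,7], [1,8,7,2,8,7,8], [0,4,6,8,7,2,3],
  [2,4,2,3,6,8,7], [0,8,6,7,8], [1,2,4,2,7,8,6], [1,2,6,7,2,8,7], [2,7,2,3,5,8], [0,4,5,6,7,2,3,4], [4,2,7,8],
  [0,2,3,5,6,7,2,1], [0,8,6,7,2,1,7,2,3], [2,6,7,8,7], [2,4,2,1,7,8,6], [0,2,4,2,3,8,7], [0,4,2,7,5,8],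
  [0,2,1,3,5,7,2], [0,4,2,7,8,7,2,7], [2,3,8,6,7,5,8], [4,2,1,7,5,8], [0,4,5,7,2,1,3], [2,7,2,5,4,8],
  [0,3,2,5,6,7], [2,7,8,7,2,7], [2,6,7,2,3,8,7], [2,1,8,7,5,8,6,7], [0,2,3,4,8,6,7,2], [2,3,7,5,8,7,2,7],
  [2,3,5,7,2,8,6], [2,7,2,8,6], [0,2,1,5,6,7], [0,8,7,2,1,0,7,2], [0,4,2,5,7], [2,3,7,2,5,8], [2,8,6,7,8],
  [2,3,7,2,4,8,6], [0,2,1,5,4,7,5], [2,1,4,8,6], [5,4,6], [1,2,7,2,3,5], [1,2,5,8], [1,2,8,7,2,4,5,7], [8,6,7,2,7],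
  [1,2,6,7,5,4,2], [2,8,6], [1,2,4,8,6], [2,3,8,7,2,7], [4,5,6], [2,1,5,8], [2,5,4,2], [2,7,2,5,4,2],
  [8,7,2,1,4,7], [2,8,6,7,2,3,7], [1,2,3,4,7,2,5,8], [0,2,8,7,2,3,5], [2,3,4,7,5,8,6], [0,8,7,2,5], [0,1,0,2],
  [0,2,8,7,2,5,7], [0,2,4,5,4,7,2,1,0,3], [0,2,8,6,7,5,4,2], [0,2,1,4,5,4,7,2,1,0], [0,2,5,8,7,5,4],
  [2,8,7,2,5,4,8,7,5], [0,5,4,7,5], [0,1], [0,3,2,8,7,2,5], [0,2,4,5,4,7,2,1,4,7], [4,2,5,6,7,5,8], [1,2,4,2],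
  [2,1,4,5,4,2,1,7], [2,4,5,7], [1,2,4,6,7,5,4], [2,4,5,7,2,5], [1,5,7,2,7,5], [1,2,4,5,6,7,2], [1,4,2,7],
  [1,2,4,7], [2,4,5,4,6], [2,3,4,2,5,4,8,7], [1,2,4,5,7,2,5,4], [1,2,4,5,7,2,5,7], [1,2,4,2,5,4,6],
  [5,6,7,2,7,5,4], [4,2], [1,2,3,4,5,7], [1,4,2,3], [1,2,3,4,6,7,5], [2,1,4,5,4,2,1,3], [1,2,4,2,3,5],
  [0,2,1,4,5,6,8,7], [2,3,4,7], [2,3,4,5,4,2], [2,3,4,2,3,5,4,2], [1,2,3,7], [1,2,4,5,7,2,3,5], [2,1,4,5,6,8],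
  [2,1,4,2,5,7,8], [2,3,4,6,7,5,4], [1,2,3,4], [0,6,8,7,2,1,7,5], [0,4,5,7,2,8,7], [0,2,3,2,4,5,7,2,1,7,2],
  [0,8,7,5,8,6], [0,2,3,2,4,5,7,2,1], [0,3,8,7,2,4,8], [1,2,1,8,7,2,7,8], [0,2,3,4,2,3,8,7,8],
  [0,2,3,4,5,6,7,2,1,4], [0,8,7,2,3,4,8], [0,2,1,3,4,2,1,3,5], [0,8,7,2,3,5,8,6], [0,2,3,4,2,1,3,5,4],
  [0,8,7,2,4,8,7], [0,2,3,4,2,1,0,3], [0,3,8,7,8], [0,2,3,4,5,7,2,1,3], [0,1,2,6,8,7,2], [1,8,6,7,2,1,8],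
  [0,1,6,8,7], [0,4,2,6,8,7,2], [0,8,7,2,8,7,8], [5,6,7,2,1,3,2,4], [2,4,6,8,7,2,5], [0,3,4,6,8,7,2],
  [0,2,6,8,7,2,1], [0,1,0,8,6,7,8], [1,4,6,8,7,2,4], [4,2,6,8,7], [2,6,8,7,2], [0,4,2,3,6,8,7], [6,8,6,7],
  [0,2,6,8,7,2,4], [2,3,8,7,5,8,6,7], [0,3,4,5,7,2,3], [2,7,8,7,2,1,3,7], [2,1,0,6,8,7,2], [0,2,4,2,7,8,6],
  [2,1,5,8,7,8], [4,2,7,5,8,7,2,7], [0,5,6,7,2,3], [1,4,2,7,5,8], [0,2,3,5,6,7], [1,4,2,1,7,8], [2,5,8,7,5,8],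
  [0,1,2,3,5,4,2,3], [1,2,5,8,7,8], [0,2,1,8,6,7,2,3,7], [0,3,4,2,3,5,7], [0,1,2,5,4,2], [0,2,3,4,2,8,7],
  [1,2,8,7,5,8,6,7], [0,2,5,4,7], [2,3,7,2,1,8], [0,3,5,6,7,2], [1,2,7,2,5,8], [0,3,4,5,7,2,1], [0,2,8,7,5,8,6,7],
  [0,3,2,5,4,7,5], [0,1,2,8,6], [0,3,4,5,6,7,2,4], [1,2,3,7,2,8], [0,2,4,2,1,8,7], [0,1,0,2,3,5,4,2], [0,4,5,7,2],
  [2,5,4,6,7,2,7], [2,8,6,7,2,7,5], [2,3,4,8,6], [1,8,6,7,2,1,7], [2,7,2,5], [1,2,8,6,7,2,7], [4,2,5,6,7,2,7],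
  [1,8], [1,8,7,2,4,7], [2,3,5,8], [2,8,6,7,2,4,7], [2,1,8,6,7,2,7], [1,5], [2,8,6,7,2,1,7], [1,4,2,5,7,2,5,7],
  [1,2,6,7,2,5,4], [0,2,1,4,5,8,6], [1,2,1,8,7,2,1,8], [0,1,2,3], [0,2,8,6,7,5], [0,2,4,5,4,6,7,2,1],
  [0,3,8,7,2,3,5], [1,2,4,7,5,4,2,8], [0,3,2,8,7,5,4], [1,2,4,7,5,8,6], [0,1,2,1,6,8,7,8], [0,1,0,4],
  [0,2,3,8,7,5,4], [2,4,7,5,4,8], [0,3,8,7,5], [0,8,7,2,1,4,7,5], [2,8,7,2,1,8], [2,4,2,5], [2,7], [1,2,4,5,6,7,5],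
  [4,5,6,7,2,7,5], [1,2,4,5], [2,4,5,7,2,5,4,7], [2,4], [2,3,4,2,5,8,6], [0,2,4,5,7,2,1,0], [1,2], [2,4,6,7,5],
  [2,4,5,7,2,4], [1,2,3,4,2,5,4,8], [2,4,5,6,7,5,4], [2,4,2,7], [1,2,4,5,4,6,7], [1,2,3,7,2,4], [2,1,4,5,6,8,7,2],
  [2,4,5,6,7,2,3], [2,3,4,5,7,5,4,2], [2,3,4,7,2,5,7,2], [2,3,4,2,3,5,8,6,7], [2,3,4,5], [2,3], [2,4,2,3],
  [2,4,2,3,5,4,6], [2,3,4,5,4,7,2,4], [2,1,6,8,7,2,7,5], [2,3,4,5,6,7,5], [2,3,4,5,4,6,7], [2,3,4,2,1,5,7,2,7],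
  [2,3,7,2], [0,8,7,2,8,6,7,2], [0,2,1,4,5,7,2,7,8], [0,4,5,7,2,3,8], [0,2,1,3,4,2,1,0], [0,3,8,7,5,8,6,7],
  [0,2,3,4,2,1,0,5], [0,8,7,2,8,6], [0,2,1,3,4,5,6,7,2,1], [0,4,5,7,8], [0,2,3,4,2,1,5,4,7], [0,6,8,7,2,4,8],
  [0,2,3,2,4,2,1,0], [0,3,8,7,2,5,8,6], [0,2,3,4,5,7,2,1,7], [0,3,4,5,7,2,8], [0,2,1,3,4,2,1,5,7], [1],
  [0,2,8,7,2,4,7,5], [0,1,8,6,7,5], [0,2,1,4,5,4,6,7,2], [2,7,8,6,7,5], [0,2,4,5,4,6,7,2,4], [0,1,2,8,7,8],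
  [0,3,6], [2,8,7,2,3,8,6], [0,2,3,4,5,8], [0,8,6,7,2,1,0,5], [0,2,1,4,5,4,2,7], [1,2,8,7,2,8,6],
  [0,2,4,5,4,7,2,3], [1,2,1,0,8,7,2,8], [0,1,2,1,6], [2,8,7,2,4,8], [1,2,1,4,2,5,4,2], [1,2,1,0,4,5,4,2],
  [1,2,1,4,6], [2,1,4,5,4,7], [1,5,7,2,1,7,5,4], [4,2,1,6,7], [1,2,4,5,6,7,2,1,5], [2,4,2,1,5,4], [2,1,4,5,6],
  [1,2,1,0,4,5,4,7], [1,2,4,2,1,6,7], [2,1,4,5,4,2,6], [2,4,5,7,2,1], [1,4,2,1,6], [2,1,0,4,2,5,4,2],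
  [5,6,7,2,1,7,5], [0,2,3,2,4,2,5,7,2,8], [2,4,5,6,8,6,7], [6,8,6,7,2,4,7,5,4], [2,5,6,8], [0,2,5,4,6,8],
  [0,3,6,8,6,7,2,7,5], [2,3,4,2,5,4,2,1], [2,1,0,3,4,5,4,7], [1,2,1,0,3,4,5,7], [1,6,8,7,2,4,7,5], [2,4,5,4,6,8],
  [0,1,2,5,6,8], [2,1,3,4,2], [2,1,4,2,1,3,5,8], [2,4,2,1,3,2,5], [0,2,4,5,6,8,6], [0,8,7,2,1,5,8],
  [0,2,3,2,4,2,5], [0,3,8,7,2,1,8], [2,4,6,7,5,4,2,8,7], [0,1,8,7,8,6], [0,2,3,2,4,5,7,2,4], [0,2,6,8,7,2,8],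
  [0,2,3,2,4,2,3], [0,1,8,7,5,8,7], [0,2,3,4,5,7,2,3,4], [0,6,8,7,2,1,8], [0,2,1,4,2,3,5,7,2], [2,3,5,6,7,2,3,8],
  [0,2,3,4,5,7,2,4,7], [0,8,7,2,1,0,8], [0,2,1,3,2,4,2], [2,4,2,6,8,6], [0,4,2,5,6,8], [1,4,2,1,3,2,5],
  [4,2,3,5,6,8], [2,4,2,1,3,2,8,6], [0,1,4,6,8], [8,6,7,2,4,8,7], [2,6,8,6,7,2,4,7], [2,1,3,5,4,2,1], [4,5,6,8],
  [0,2,4,2,1,6,8], [1,4,2,1,3,5,6,8], [6,8,6,7,2,4,7,2], [4,6,8,7,2,1,7], [0,1,0,6,8,6], [1,4,2,5,6,8],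
  [2,7,2,3,8,7], [0,3,4,5,7,2,3,4,7], [2,4,2,7,8,7], [0,2,4,2,1,3,8,6], [4,2,7,5,8,6,7], [0,4,5,6,7,2,3,7],
  [2,3,5,4,6,7,5,8], [1,2,5,8,7,5,8,6,7], [0,4,2,7,8,7], [2,6,7,8,7,2,7], [0,1,8,7,2,3], [2,6,7,2,8,6],
  [1,2,3,8,7,5,8], [0,2,3,2,5], [4,2,1,7,8,6,7], [0,2,3,5,7,2,7], [1,2,7,8,6,7,2], [0,3,4,2,5,6], [1,2,7,2,8,7],
  [0,2,5], [0,1,0,8,7,2], [0,2,4,5,4,6,7,5], [0,1,0,2,8,7], [0,3,2,5,4,6], [2,7,8,6,7,2,1], [0,4,2,7,5],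
  [0,1,0,8,7,2,1,0], [0,3,2,1,5], [0,3,2,8,7,5,8], [2,1,0,5,4,2,8], [2,8,7,5,8], [0,4,5,7,2,4,7], [1,4,5,7],
  [2,5,8,6,7], [2,5,6,7,2], [2,1,5,8,7,2], [8,6,7,2,4], [2,8,7,2,1,3], [1,2,3,4,8,7], [1,2,1,8,7,2], [2,3,8,7,2,4],
  [2,3,8,7], [2,4,8,7], [1,5,4,7], [1,2,5,4,7,2], [2,1,8,7], [1,2,8,7,2,4], [8,7,2,1], [0,4,6], [0,3,2,1,8,7,5],
  [0,3,2,4,5,8], [0,1,0,2,3,8,7,8], [0,8,6,7,2,3,4,7,5], [4,2,5,7,2,8], [0,2,4,5,4,2,6], [0,1,0,5,4,6,7,5],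
  [4,2,6,7,5,8], [0,2,1,5,8,7,5], [0,2,4,5,8,7], [2,1,8,7,2,8,6], [0,2,1,4,2,5,4,2], [0,2,1,3,8,7,5],
  [0,2,4,5,4,7,2,7], [0,3,8,6,7,2,1,5], [2,1,0,4,5,7], [0,6,8,6,7,2,3,7,5], [1,2,4,5,6,7,2,1,0], [1,2,1,0,6],
  [2,4,2,1,6], [1,2,1,4,5,4], [2,1,4,2,5,4,2,7], [2,1,0,4,5,4], [1,2,1,0,4,5], [1,4,5,7,2,1,7,5], [1,2,4,2,1,5,6],
  [2,1,6], [2,1,0,4,6], [1,2,1,4,5,4,7,2], [1,2,1,4,5,6,7], [2,1,0,4,5,4,2,7], [1,6,8,6,7,2,7,5,4],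
  [0,6,8,6,7,2,4,7,5], [2,3,6,7,2,1,4], [0,1,6,8,7,2,7,5], [2,1,4,2,5,4,2,3], [4,2,1,3,6], [2,1,0,3,4,5],
  [2,1,3,4,5,4], [0,6,8,7,2,7,5,4], [2,1,0,4,5,4,2,3], [1,2,4,2,1,3,2], [6,8,7,2,7,5], [2,1,3,4,2,5,7],
  [2,1,0,3,6], [2,4,5,6,7,2,1,3,5], [2,3,4,2,1,3,5,8], [0,2,3,4,8,7,2,8,7], [0,2,3,4,2], [0,1,0,6,8,7,8],
  [0,2,3,4,2,5,4,6], [2,6,7,8,7,2,8], [0,2,1,3,4,2,5,6], [0,2,6,8,7,2,8,7,5], [0,2,3,4,5,6,7,2],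
  [0,2,3,2,4,8,7,2,8], [0,2,1,3,4,2,3], [2,1,6,8,7,2,8], [0,2,3,4,2,3,5], [0,8,7,2,1,8,7], [0,2,1,3,4,5,7,2,3],
  [0,1,0,8,7,5,8], [0,2,3,4,2,5,7], [8,7,2,7,8,7,8,6], [4,2,1,5,6,8], [0,2,6,8,6,7,2,7], [0,3,4,6,8], [1,6,8],
  [0,8,6,7,2,8,7], [2,6,8,6,7,2,1,7], [0,3,4,2,3,5,6,8], [0,6,8,6], [0,3,8,6,7,2,3,8,7], [2,1,3,5,4,2,3],
  [1,4,6,8,7,2,7], [0,2,4,2,3,6,8], [8,6,7,2,8,7,2], [2,1,3,5,7,2,7], [4,2,1,3,2,4,5,4], [1,4,2,7,8,6,7],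
  [0,2,1,3,2,5,7,2,7], [0,1,2,3,8,7], [0,2,1,3,5], [0,2,3,8,7,5,8], [0,4,2,3,5,6], [2,4,2,1,7,2,8,7], [2,4,6,7,8],
  [2,4,6,8,7,5,8], [0,2,3,4,2,3,8,6], [2,1,3,8,7,5,8], [0,2,1,3,5,7,2,4,7], [4,2,7,8,7,2], [0,2,3,2,5,4,2],
  [0,1,8,7,2,1,0,3], [0,2,3,5,4,6], [0,1,2,1,8,7], [0,2,1,4,5,7,2,4,5], [0,2,1,8,7,2], [0,8,6,7,2,4,7,2],
  [0,1,5,4,6,7,2], [0,4,5,6,7,2,1,7], [0,1,2,5,8,7], [0,2,4,2,8,6], [1,2,1,8,7,5,8], [0,2,1,5,4,6], [0,1,8,7,2,1],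
  [0,2,3,4,2,1,8,6], [2,3,7,8,7,2], [0,3,4,5,6,7,2,7], [2,7,5,8,7,2], [0,5,7,2,7], [2,8,7,2,1,4], [2,1,8,7,2,1],
  [1,8,6,7,2,1,4], [1,2,8,7], [1,4,2,5,7,2], [2,7,2,5,4,7], [5,6,7], [2,8,7,2], [2,1,3,4,8,7], [1,8,7,2],
  [2,5,4,7,2,1], [1,2,8,7,2,3], [4,2,5,7,2,1], [8,6,7], [2,4,2,8,7,2], [1,2,8,7,2,1], [6,8,7], [0,8,6,7,2,1,8],
  [2,6,8,6,7,2], [0,4,2,3,5,6,8,7], [1,8,6,7,2,4,8], [4,2,5,6,8,7], [0,8,6,7,2,4,8], [0,1,0,4,6,8,7],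
  [2,4,6,8,7,2,3], [0,3,8,6,7,2,8], [2,1,3,5,7,2,1], [5,7,2,1,3,2,4], [0,1,6,8,6,7], [2,1,3,5,7,2,4],
  [0,1,2,3,5,8,7,8], [1,4,6,8,7,2,1], [0,2,1,8,7,2,3,7], [2,3,8,6,7,2,8], [0,1,8,7,2,3,7,2], [1,2,5,8,7,8,6],
  [0,1,2,3,5,8], [2,5,8,7,5,8,6], [0,1,2,1,3,8], [0,2,3,5,7], [2,7,8,7,2,3,7,2], [0,5,7,2,3], [0,2,4,2,7,8],
  [0,4,2,3,5,7,2], [2,1,4,6,8,7,5,8,7], [0,2,3,2,5,7,2], [2,3,8,7,5,8,7], [0,3,4,5,6,7,2,3], [2,4,2,1,6,7,2,8],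
  [0,4,5,6,7,2], [0,1,2,1,5,8], [2,7,2,5,7,8], [0,1,2,8], [0,3,4,5,7,2,4], [0,2,8,7,5,8,7], [0,3,2,5,4,6,7,5],
  [0,2,1,3,2,8], [0,3,4,5,6,7,2,1], [0,1,0,2,5,8], [0,3,5,7,2], [1,2,8,7,5,8,7], [0,2,5,4,6,7], [0,1,8,7,2,7],
  [0,2,3,4,2,8,6,7], [1,2,8,7,2,7,5,4], [1,2,7,2,5,4], [1,5,6], [2,8,7,2,1,7], [2,8,7,2,4,7], [2,1,8,7,2,7],
  [1,8,6,7,2,4,7], [1,2,1,8], [4,2,5,7,2,7], [1,8,6], [2,6,7,2,5], [1,2,8,7,2,7], [2,3,4,8], [1,8,7,2,1,7],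
  [2,5,4,7,2,7], [2,8,7,2,7,5], [0,8,6,7,2,1,4,7,5], [0,2,8,7,2,5,4], [2,4,7,5,4,8,6], [0,3,8,6,7,5], [0,1,0,4,6],
  [0,2,5,8,7,2,5], [1,2,4,7,5,8], [0,2,3,8,7,2,5], [0,2,1,3,4,2,5,8], [2,5,4,7,5,8], [0,2,4,5,4,7,2,1],
  [0,3,8,6,7,2,3,5], [0,1,2,3,6], [0,2,8,7,5], [0,2,1,4,5,8], [0,1,2,1,5,4,2,7,5], [2,4,2,6,7], [1,2,4,5,4,7],
  [2,1,4,2,5,4,2,1], [2,4,5,7,5,4], [2,4,7,5], [2,4,5,6,7,2,4], [0,2,4,5,6,7,2,1,0], [1,2,6], [2,4,6],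
  [2,3,4,2,5,8], [1,2,4,5,6], [2,1,0,4,5,4,2,1], [1,2,4,5,7,5], [4,5,7,2,7,5], [2,4,2,5,6], [2,6,7],
  [2,3,4,2,5,7,2,7], [2,3,6,7,2], [2,3,4,5,7,5], [2,3,4,5,4,7], [2,3,4,5,4,6,7,2,4], [1,2,3,5,7,2,7,5],
  [2,4,2,3,6], [2,4,2,3,5,4], [2,3,4,5,6], [2,3,6], [2,3,5,7,2,7,5,4], [2,3,4,2,3,5,8,7], [2,4,5,7,2,3],
  [2,3,5,7,2,5,7,5], [1,2,3,6,7,2,4], [1,2,3,4,5,4,7,2], [0,3,6,8,7,2,8], [2,3,4,7,2,5,7,8], [0,3,8,7,2,5,8],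
  [0,2,3,4,5,6,7,2,1,7], [0,4,5,7,2,4,8], [0,2,3,2,4,2,1], [0,6,8,7,8], [0,2,3,2,4,2,1,3,5], [0,8,7,2,8],
  [0,2,1,3,4,5,7,2,1], [0,3,8,7,5,8,7], [0,2,3,4,2,1,5], [0,6,8,7,2,3,8], [0,2,1,3,4,2,1], [0,8,7,2,8,7,2],
  [2,4,5,7,2,5,7,8], [2,4,2,6,8,7,5], [0,4,6,8,7], [8,6,7,2,1,4,8], [0,8,6,7,2,3,8], [0,1,0,2,5,8,7,8],
  [0,3,4,2,5,6,8,7], [4,2,1,3,2,5,7], [4,2,1,3,5,6,8,7], [2,1,0,3,5,7,2], [4,6,8,7,2], [0,3,6,8,6,7],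
  [0,1,8,6,7,2,8], [2,1,3,5,4,2,7], [1,8,6,7,8], [0,2,4,2,6,8,7], [1,4,2,3,5,6,8,7], [0,1,0,2,3,8],
  [0,4,5,6,7,2,1,3], [0,4,2,7,8,6,7,2,7], [2,4,6,7,8,7,5], [1,2,7,2,3,8], [1,2,6,7,8,7,2], [2,4,2,1,7,8],
  [0,2,4,2,3,8,6,7], [0,8,7,2,1,7,2,3], [2,6,7,8,6,7], [4,2,7,8,6], [0,2,3,5,7,2,1], [0,3,4,2,7,8],
  [0,4,5,7,2,3,4], [1,2,4,2,7,8], [0,2,1,3,2,5,7], [2,3,7,2,4,8], [0,2,1,5,4,6,7,5], [0,1,0,2,1,8], [2,8,6,7,8,6],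
  [2,5,4,6,7,5,8,7], [0,4,2,5,6,7], [2,7,2,8], [0,2,1,5,7], [0,3,2,1,8,7,2,7], [2,3,5,7,2,8], [2,1,8,7,5,8,7],
  [0,2,3,4,8,7,2], [2,7,8,6,7,2,7], [0,3,4,2,5,7,5], [2,7,2,5,4,8,6], [0,3,2,5,7], [8,6,7,2,1,4,7], [2,8,7,2,3,7],
  [2,5,4,2,6], [2,6,7,2,5,4,2], [4,5], [1,2,3,8], [1,2,4,8], [2,7,2,3,5,4], [1,2,7,5,4,2], [2,8],
  [1,2,8,7,2,1,4,7], [8,7,2,7]]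

/-- transversal -/
def T_1 : List (List ℕ) := [
  [0,4,2,6,7,8], [2,1,3,8], [2,1,4,8], [5,4], [0,1,2,1,8,7,2,4,7,5], [0,1,0,2,1,8,7,8], [0,1,6], [0,3,2,8,6,7,2,5],
  [0,2,4,5,4,7,2,1,7,8], [0,5,4,6,7,5], [2,1,3,5,7,2,8,7,5], [0,2,3,2,8,7,5], [0,2,4,5,4,7,2,1,3,7],
  [0,2,8,7,5,4,2], [0,1,0,2,6], [0,2,8,6,7,2,5,7], [2,3,4,7,5,8], [0,8,6,7,2,5], [0,2,1,4,5,4,2,1],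
  [0,2,8,6,7,2,3,5], [5,7,2,7,5,4], [4,2,6], [1,2,4,5,6,7,2,5,7], [1,2,4,2,5,4], [2,3,4,2,5,4,8,6,7],
  [1,2,4,5,6,7,2,5,4], [1,2,4,6,7], [2,4,5,4], [1,2,4,5,7,2], [1,4,2,6,7], [2,4,5,6,7,2,5], [2,1,4,2,5,8],
  [2,4,5,6,7], [1,2,4,7,5,4], [1,2,4,2,6], [1,2,3,4,2,5,8,7], [1,2,3,4,6], [0,6,8,6,7,2,1,7,5], [1,2,3,4,2,5,4,2],
  [2,3,4,7,5,4], [1,2,4,5,6,7,2,3,5], [1,2,3,4,5,4], [1,2,3,4,2,5,7,2], [1,2,3,6,7], [2,3,4,6,7], [2,3,4,5,4,2,6],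
  [1,2,4,2,3,5,6], [1,2,3,4,5,7,5,4], [1,2,3,4,7,5], [1,2,3,4,2,3,5,8], [1,2,3,4,5,6,7], [1,4,2,3,6],
  [0,3,8,7,8,6], [0,2,3,4,5,6,7,2,1,3], [0,3,8,7,2,3,8], [0,2,3,4,2,1,3], [0,8,7,2,3,5,8], [0,2,3,2,4,2,1,5,7],
  [0,3,8,7,2,8,7], [2,4,7,5,4,2,7,8], [0,2,3,4,2,6,8,7,8], [0,2,3,4,5,7,2,1,4], [0,8,7,2,3,8,7],
  [0,2,1,3,2,1,4,2,1], [0,8,7,5,8], [0,2,3,2,4,5,6,7,2,1], [0,6,8,7,2,8,7], [0,2,1,4,2,3,5,7,2,1,3], [1,4,6],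
  [1,4], [2,4,5,8,6], [2,4,5,8], [1,2,4,7,5,4,2,7], [1,2,4,7,5,4,2,1], [2,4,5,4,6,7,2], [2,4,5,4,7,2],
  [2,4,7,5,4,2], [2,4,6,7,5,4,2], [8,7,2,4,7,5], [8,6,7,2,4,7,5], [2,7,2,3], [2,6,7,2,3], [1,2,4,5,4,2],
  [2,1,3,4,5,8], [2,1,4,5,4,8], [1,2,3,4,5,8], [1,2,7,2], [1,2,6,7,2], [1,2,4,5,4,7,2,7], [1,2,4,5,4,7,2,1],
  [1,5,6,7,8], [4,2,1,3,2,4,8,7,8], [5,6,7,2,1,3,2,8], [5,4,6,7,8], [2,3,4,5,4,8], [1,2,1,4,5,8],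
  [1,2,4,5,4,7,2,4], [2,4,5,4,7,2,3,7], [1,8,6,7,2,1,4,7,5], [1,8,7,2,1,4,7,5], [0,1,0,5,4,6,7,2,8],
  [0,3,5,6,7,2,3,8], [0,1,5,4,6,7,2,3,8], [0,5,6,7,2,8], [0,1,0,5,4,6,7,5,8,7], [0,3,5,4,6,7,5,8],
  [1,2,4,5,4,7,2,3], [2,4,5,4,7,2,4,7], [0,1,5,4,6,7,5,8], [0,5,4,6,7,5,8,7], [], [0,2,1,3,4,5,7,2,1,3],
  [0,3,6,8,7,2,8,7], [0,2,3,4,5,6,7,2,1], [0,3,8,7,5,8], [0,2,1,3,2,4,2,1], [0,8,7,2,4,8,6], [0,2,3,2,4,5,7,2,1,4],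
  [0,4,5,7,2,8,7,2], [0,2,1,3,4,2,1,0,5], [0,8,7,2,8,7], [0,2,3,4,2,1,5,7], [0,3,8,7,2,3,5,8], [0,2,3,2,4,2,1,3],
  [0,8,7,2,3,8], [0,2,3,4,5,7,2,1,4,7], [0,8,7,8,6], [4,2,3,6], [2,3,4,5,6,7], [2,3,4,2,3,5,8], [2,3,4,7,5],
  [2,3,4,5,7,5,4], [2,4,2,3,5,6], [2,1,4,2,3,5,8], [1,2,3,4,6,7], [2,3,6,7], [2,3,4,2,5,7,2], [2,3,4,5,4],
  [2,4,5,6,7,2,3,5], [1,2,3,4,7,5,4], [2,3,4,2,5,4,2], [2,4,5,6,7,2,3,4], [2,3,4,6], [2,3,4,2,5,8,7], [2,4,2,6],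
  [2,4,7,5,4], [1,2,4,5,6,7], [5,6,7,2,7,5], [1,2,4,5,6,7,2,5], [4,2,6,7], [2,4,5,7,2], [1,2,4,5,4], [2,4,6,7],
  [2,4,5,6,7,2,5,4], [2,1,4,2,5,4,2,1,7], [2,4,2,5,4], [2,4,5,6,7,2,5,7], [1,4,2,6], [1,5,7,2,7,5,4],
  [4,2,5,7,2,1,8], [2,3,4,7,2,5,8,6], [0,3,8,6,7,2,5], [1,2,3,4,7,5,8], [0,2,8,7,2,3,5,4], [0,1,2,6],
  [0,2,8,7,5,4,2,3], [0,2,4,5,4,6,7,2,1,4], [0,2,3,8,7,5], [2,6,8,6,7,2,8,7,5], [0,3,5,4,6,7,5],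
  [0,2,4,5,4,7,2,1,7], [0,2,8,6,7,2,5], [0,1,0,6], [0,1,2,1,8,7,8], [0,2,4,5,4,7,2,1,3], [1,5,4], [1,2,1,4,8],
  [2,5,8,6], [2,6,7,2,3,5], [1,8,7,2,7], [2,8,7,2,1,4,7], [1,2,8], [2,7,5,4,2], [1,2,7,2,3,5,4], [2,4,8], [2,3,8],
  [1,4,5], [2,1,8,7,2,1,7], [2,1,3,4,8], [1,2,8,7,2,3,7], [1,8,6,7,2,1,4,7], [0,2,5,7], [0,2,1,3,2,4,8],
  [0,4,2,5,7,5], [1,2,7,8,6,7,2,7], [0,2,3,2,4,8,7,2], [0,8,7,2,1,7,2], [1,2,3,5,7,2,8], [0,2,1,8,7,2,7],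
  [0,3,2,1,5,7], [1,2,7,2,8], [0,3,4,2,5,6,7], [2,7,8,6,7,2,1,7], [0,2,1,5,4,6,7], [0,1,2,1,8], [2,8,6,7,5,8,6],
  [0,1,8,7,2,1,7], [2,6,7,2,8,6,7], [2,4,2,7,8], [0,3,4,5,7,2,3,4], [0,4,2,7,8], [0,2,3,2,5,7,2,1], [1,4,2,7,8,6],
  [0,2,1,3,5,7], [2,1,3,8,7,5,8,7], [2,7,2,3,5,7,8], [0,1,8,7,2,3,7], [2,6,7,8,7,2], [2,7,2,3,8],
  [0,2,1,3,2,5,7,2], [2,4,6,8,7,5,8,7], [0,2,1,3,5,7,2,4], [0,1,2,3,8], [4,2,3,5,6,8,7], [2,4,6,8,7,2], [8,6,7,8],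
  [2,4,2,6,8,6,7], [4,2,1,5,6,8,7], [0,6,8,6,7], [1,4,6,8,7,2], [0,2,6,8,6,7,2], [0,1,8,6,7,2,3,8],
  [5,6,7,2,1,3,2], [0,4,2,5,6,8,7], [0,1,2,5,8,7,8], [0,3,8,6,7,2,3,8], [8,7,2,8,7,8,6], [0,3,4,6,8,7],
  [0,2,4,6,8,7,2,5], [0,2,3,4,2,1,0,5,4], [0,3,8,7,2,8,7,2], [0,2,1,3,4,2,1,3], [0,3,6,8,7,2,3,8],
  [0,2,3,2,4,2,1,5], [0,8,7,5,8,7], [0,2,1,4,2,3,5,7,2,1], [0,3,8,7,2,8], [0,2,3,4,2,1,3,5], [0,3,6,8,7,8],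
  [0,2,3,4,2,1], [0,3,4,5,7,2,4,8], [0,2,3,4,5,7,2,1,3,4], [0,8,7,2,5,8], [1,2,3,4,7,2,5,7,8], [0,6,8,7,2,8],
  [2,3,4,5,4,7,2], [2,3,6,7,2,4], [0,2,1,4,5,6,8,7,2], [1,2,4,5,7,2,3], [0,6,8,7,2,1,7,2,5], [1,2,3,5,7,2,7,5,4],
  [1,2,3,6], [1,2,3,4,5,6], [1,2,4,2,3,5,4], [1,2,4,2,3,6], [2,3,5,7,2,7,5], [2,1,4,5,6,8,7,2,4], [1,2,3,4,5,4,7],
  [1,2,3,4,5,7,5], [1,2,3,6,7,2], [1,2,3,4,2,5,7,2,7], [1,2,6,7], [1,2,4,2,5,6], [1,4,5,7,2,7,5], [2,4,5,7,5],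
  [1,2,1,0,4,5,4,2,1], [2,4,5,6], [1,2,3,4,2,5,8], [1,2,4,6], [2,6], [4,5,6,7,2,7,5,4], [1,2,4,5,6,7,2,4],
  [1,2,4,7,5], [1,2,4,5,7,5,4], [2,3,4,2,5,4,8,6], [2,4,5,4,7], [1,2,4,2,6,7], [0,2,8,7,2,5,4,2], [0,2,1,4,2,5,8],
  [0,3,2,8,7,5], [0,1,0,2,3,6], [0,8,6,7,2,3,5], [0,2,8,7,2,1,4,7,5], [0,2,8,6,7,5,4], [2,4,7,5,4,2,8,6],
  [0,2,3,2,8,7,2,5], [2,4,7,5,8], [0,2,5,8,7,5], [0,1,4,6], [0,8,6,7,5], [0,2,1,3,4,5,8], [0,3,2,8,7,2,5,4],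
  [2,7,5,4,8,7,2,7,5], [1,2,8,7,2,7,5], [1,2,5,4,7,2,7], [8,7,2,1,7], [1,2,3,4,8], [2,8,7,2,7], [1,2,6,7,2,5],
  [8,6], [1,4,2,5,7,2,7], [2,1,8], [8,6,7,2,4,7], [1,2,1,8,7,2,7], [1,2,8,7,2,4,7], [1,2,8,7,2,1,7], [5,6],
  [2,7,2,5,4], [2,8,7,2,7,5,4], [2,3,5,7,2,1,8], [0,1,0,8,7,2,7], [0,3,2,5,4,6,7], [2,8,7,5,8,7], [0,5,7,2],
  [0,1,2,5,8], [0,4,5,6,7,2,1], [2,7,2,5,8,6], [0,2,5,4,6,7,5], [0,3,2,8,7,5,8,7], [0,4,5,7,2,4], [0,1,0,2,8],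
  [0,2,4,2,8,6,7], [2,3,7,2,8,6], [0,3,4,5,6,7,2], [0,1,2,3,5,4,2,6], [0,4,5,6,7,2,3], [1,2,3,8,7,5,8,7],
  [0,2,3,5,7,2], [2,3,5,4,6,7,5,8,7], [2,4,6,7,8,7], [0,2,4,2,1,7,8], [0,3,5,7,2,3], [0,2,3,8,7,5,8,7],
  [0,2,3,2,5,7], [4,2,7,5,8,6], [1,2,5,8,7,5,8,6], [4,2,1,7,8,6], [2,5,8,7,8,6], [2,4,2,1,7,2,8], [0,4,2,3,5,6,7],
  [4,2,7,8,7,2,7], [4,6,8,7,2,1], [2,3,7,2,1,5,7,2], [2,6,8,6,7,2,4], [0,1,0,6,8,6,7], [1,5,7,2,1,3,2,4],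
  [2,6,8,6,7,2,1], [0,8,6,7,2,8], [0,2,4,2,3,6,8,7], [0,1,4,6,8,7], [0,3,8,6,7,2,4,8], [1,4,2,5,6,8,7],
  [8,6,7,2,4,8], [2,4,6,8,7,2,5,4], [2,1,3,5,7,2], [4,2,5,6,8,7,2], [1,6,8,7], [2,8,7,2,1], [2,6,7,2,5,7],
  [1,8,6,7], [1,4,2,5,7,2,1], [2,8,7,2,3], [1,2,5,4,7,2,1], [8,7,2], [2,5,4,2,6,7], [1,2,8,7,2], [1,5,6,7],
  [0,4,2,5,6,7,8], [4,2,5,7,2], [2,8,7], [8,6,7,2,1,4], [1,2,1,8,7,2,1], [1,2,8,7,2,1,4], [0,3,5,7,2,7],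
  [0,1,2,1,5,8,7], [0,4,5,6,7,2,7], [0,2,1,3,2,8,7], [2,3,5,7,2,8,7], [0,1,0,8,7,2,1], [2,3,4,6,7,8],
  [2,1,8,7,5,8], [0,2,4,2,1,8,6], [0,1,0,2,5,8,7], [0,2,4,5,6,7,2,4,5], [0,1,0,5,4,6,7,2], [0,2,1,4,5,4,6,7,5],
  [0,3,2,1,8,7,2], [0,2,3,4,8,7,2,7], [0,1,0,2,1,8,7], [2,1,0,4,6,8], [0,2,4,2,7,8,7], [0,2,3,5,4,2],
  [0,2,1,8,7,2,3], [0,4,5,6,7,2,1,3,7], [2,5,8,6,7,5,8], [0,2,3,5,7,2,1,7], [0,4,2,7,8,6,7,2], [1,2,4,6,7,8],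
  [0,1,5,4,6,7,2,3], [0,3,4,2,3,5,6], [4,2,7,8,7,2,1], [2,6,7,8,6], [0,1,0,2,3,8,7], [2,4,6,7,5,8,7,5],
  [4,2,7,8,6,7], [5,7,2,1,3,2,4,7], [2,6,8,6,7,2,7], [0,8,6,7,2,1,8,7], [0,2,4,2,1,3,6,8], [4,6,8,7,2,7],
  [2,4,2,3,6,8,6], [0,8,6,7,2,3,8,7], [0,3,6,8,6], [0,4,2,3,5,6,8], [2,1,3,5,7,2,1,7], [0,3,8,6,7,2,8,7], [6,8],
  [0,4,6,8], [2,1,0,3,5,7,2,7], [1,4,2,1,5,6,8], [8,6,7,2,1,4,8,7], [0,2,3,2,4,2,5,7], [0,1,8,7,5,8],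
  [0,2,1,4,2,3,5,7,2,3], [2,6,8,7,2,8], [0,2,3,2,4,2,3,5], [2,3,5,6,7,2,8], [0,2,1,3,4,2], [0,2,3,4,8,7,2,8],
  [0,2,3,2,4,5,6,7,2], [0,8,7,2,1,0,5,8], [2,4,6,7,5,4,2,8], [0,6,8,7,2,1,8,7], [0,2,3,4,2,3,5,7], [0,1,6,8,7,8],
  [0,2,3,2,4,2], [0,4,5,7,2,1,0,8], [2,1,4,5,4,2,3,6], [0,6,8,6,7,2,4,7,5,4], [0,2,5,6,8], [2,4,5,4,6,8,7],
  [1,6,8,7,2,7,5], [2,4,2,1,3,2], [0,2,4,2,5,6,8,7,2], [2,4,5,7,2,1,3], [2,4,5,6,8,6], [1,2,1,0,3,4,5],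
  [1,4,2,1,3,6], [1,2,1,4,2,5,4,2,3], [2,4,2,1,3,5,4], [0,1,2,5,4,6,8], [2,1,0,4,5,4,2,3,7], [6,8,6,7,2,7,5,4],
  [0,2,3,4,5,6,8,7,2], [2,1,4,5,6,7], [2,1,4,5,4,7,2], [1,2,1,0,4,6], [1,2,1,6], [2,4,2,1,5,6], [4,5,7,2,1,7,5],
  [2,1,0,4,5], [1,2,1,0,4,5,4], [1,2,1,4,2,5,4,2,7], [2,1,4,5,4], [1,2,4,2,1,6], [2,1,0,6], [2,4,5,6,7,2,1,0],
  [2,4,5,6,7,2,1,4], [1,2,1,0,4,5,7], [0,8,6,7,2,1,5], [0,2,4,5,4,7,2,7,8], [2,7,5,8,6,7,5], [0,2,1,4,5,4,2],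
  [0,2,5,4,6,7,2,8], [0,3,2,4,5,8,7], [2,3,7,8,6,7,5], [0,1,2,1,3,6], [0,1,5,4,6,7,5], [0,2,3,4,5,8,7],
  [1,4,2,5,7,2,8], [0,2,1,4,5,4,6,7,2,3], [0,1,2,3,8,7,8], [0,2,4,5,8], [0,2,1,8,7,5], [0,3,4,6], [1,8,7,2,1],
  [2,8,7,2,4], [1,2,1,8,7], [2,5,4,7,2], [5,4,7], [1,2,4,8,7], [1,2,3,8,7], [0,4,2,6,7,8,7], [2,1,8,7,2],
  [2,3,4,8,7], [1,2,8,7,2,1,3], [1,8,6,7,2,4], [2,3,8,6,7,2], [2,1,4,8,7], [2,1,3,8,7], [4,5,7], [0,3,4,5,7,2,4,7],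
  [1,2,8,7,5,8], [0,2,3,4,2,8,6], [0,2,8,7,5,8], [0,2,1,5], [0,1,8,7,2,1,0], [0,3,4,2,7,5], [2,5,4,6,7,5,8],
  [0,2,5,4,6], [0,1,2,8,7], [2,8,6,7,2,8,7,2], [0,1,8,7,2], [0,3,2,5], [2,7,2,8,7], [0,4,2,5,6], [2,7,8,6,7,2],
  [0,2,3,2,5,7,2,7], [0,1,2,3,5,8,7], [0,2,3,5], [2,3,8,7,5,8], [0,2,1,3,2,5], [0,1,0,8,7,2,3], [1,2,6,7,8,7,2,7],
  [0,3,4,2,7,8,7], [2,5,8,7,5,8,6,7], [2,1,4,6,8,7,5,8], [0,3,4,5,6,7,2,3,7], [0,1,2,1,3,8,7], [0,2,4,2,3,8,6],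
  [0,1,8,7,2,1,3], [0,4,5,7,2,3,4,7], [1,2,7,2,3,8,7], [4,2,5,6,8], [0,1,6,8,6], [1,4,6,8,7,2,1,7],
  [0,8,6,7,2,4,8,7], [4,2,1,3,5,6,8], [0,2,4,2,6,8], [1,4,5,6,8], [2,4,2,1,6,8,6], [0,8,6,7,2,8,7,2],
  [1,8,6,7,2,4,8,7], [0,1,0,4,6,8], [2,1,3,5,4,2,1,3], [1,4,2,3,5,6,8], [4,2,1,3,2,5], [0,3,4,2,5,6,8],
  [2,1,3,5,4,2], [0,2,1,3,2,1,4,2], [0,2,6,8,7,2,8,7], [0,2,3,4,5,6,7,2,3], [2,1,3,4,8,7,2,8], [0,2,1,3,4,5,7,2],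
  [0,3,6,8,7,2,1,8], [0,2,3,4,5,6,7,2,7], [0,1,0,8,7,5,8,7], [0,2,3,4,2,3], [0,3,2,6,8,7,2,8], [0,2,3,4,5,7,2,4],
  [0,1,0,8,7,8,6], [0,2,1,3,4,2,5,6,7], [0,8,7,2,1,8], [0,2,3,4,2,5], [0,3,8,7,2,1,5,8], [2,1,0,3,4,5,4],
  [1,2,4,2,1,3,2,5], [2,3,4,5,4,2,1,6], [2,5,4,6,8], [2,3,6,7,2,1], [2,1,3,4,2,5], [6,8,7,2,4,7,5],
  [2,1,0,3,4,5,7], [0,2,4,5,6,8,6,7], [1,2,3,4,2,5,4,2,1], [0,6,8,6,7,2,7,5], [2,1,0,3,4,2], [2,1,3,6],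
  [2,1,4,2,5,4,2,3,7], [2,1,3,4,5,4,7], [0,2,3,4,2,5,7,2,8], [2,1,4,2,1,5,8], [1,2,1,0,4,2,5,4,2], [4,2,1,6],
  [1,2,4,5,7,2,1], [2,3,4,2,1,5,8], [2,4,2,1,6,7], [2,1,0,4,5,4,7], [1,2,1,4,5,6], [1,2,4,2,1,5,4],
  [2,4,5,6,7,2,1,5], [1,4,2,1,6,7], [5,7,2,1,7,5,4], [1,2,1,4,5,4,7], [2,1,4,6], [2,1,0,4,5,4,2], [2,1,4,2,5,4,2],
  [1,2,8,7,2,4,8], [0,1,0,2,1,6], [2,1,0,8,7,2,8], [0,2,4,5,7,2,1,4,2], [2,8,7,2,8,6], [0,2,1,3,4,2,1,5,8],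
  [0,3,8,6,7,2,1,0,5], [0,2,3,2,4,5,8], [0,4,2,5,7,2,8], [0,6], [0,1,0,2,8,7,8], [0,2,4,5,4,7,2,3,7],
  [1,2,7,8,6,7,5], [0,8,6,7,2,4,7,5], [0,1,0,8,6,7,5], [0,2,4,5,4,7,2], [6], [0,2,1,3,4,2,1,3,5,7], [0,4,5,7,2,8],
  [0,2,3,2,4,5,7,2,1,7], [0,8,7,2,5,8,6], [0,2,3,4,2,1,0], [0,3,6,8,7,2,4,8], [0,2,3,4,2,1,0,3,5], [0,3,4,5,7,8],
  [2,4,6,7,5,4,8,7,2,1], [0,3,8,7,2,8,6], [0,2,3,2,4,2,1,0,5], [0,8,7,5,8,6,7], [2,5,4,6,7,2,7,8],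
  [0,3,4,5,7,2,3,8], [0,2,3,4,2,1,5,4], [0,2,3,4,2,8,7,8], [1,2,3,7,2], [2,3,4,2,3,5,4,2,7], [2,1,4,5,6,8,7],
  [1,2,3,4,5,6,7,5], [2,3,5,6,7,2,7,5], [0,2,4,5,7,2,1,0,3], [1,2,4,2,3,5,4,6], [1,2,4,2,3], [1,2,3], [1,2,3,4,5],
  [2,1,4,5,4,2,1,3,7], [1,2,3,4,7,2,5,7,2], [0,2,1,6,8,7,2,7,5], [1,2,4,5,6,7,2,3], [2,3,4,5,4,6,7,2], [2,3,7,2,4],
  [2,4,5,4,6,7], [1,2,4,2,7], [1,2,4,5,6,7,5,4], [2,3,4,2,5,4,8], [1,2,4,5,7,2,4], [1,2,4,6,7,5], [2],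
  [4,5,7,2,7,5,4], [2,1,4,5,4,2,1], [1,2,4], [0,2,3,4,2,1,0,5,8], [2,4,5], [1,4,5,6,7,2,7,5], [2,4,5,6,7,5],
  [1,2,7], [1,2,4,2,5], [1,2,8,7,2,1,8], [0,2,1,4,5,4,7,2,1], [0,8,7,5], [1,2,4,7,5,4,8], [0,2,5,8,6,7,5], [0,1,4],
  [0,2,5,8,7,5,4,2], [2,4,7,5,8,6], [0,2,8,7,5,4], [2,4,7,5,4,2,8], [0,8,7,2,3,5], [2,8,6,7,2,1,8,7,5],
  [0,3,2,8,6,7,5], [0,1,0,2,3], [2,1,8,7,2,1,8], [2,3,4,7,5,4,8], [2,6,7,2,5,4], [4,2,5,7,2,5,7],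
  [1,2,8,6,7,2,1,7], [5], [2,3,5,8,7,2,7], [2,5,7,5,4,2,7], [2,1,8,6], [8,7,2,4,7], [8], [1,4,2,5,6,7,2,7],
  [2,8,6,7,2,7], [1,2,7,2,5], [8,6,7,2,1,7], [2,1,5,4,8], [1,2,8,6,7,2,7,5], [2,1,8,7,2,4,7], [0,3,4,5,7,2],
  [0,1,2,3,5,4,2], [0,2,4,2,8,7], [2,3,7,2,8], [0,4,5,6,7,2,4], [0,1,0,2,8,6], [0,2,5,4,7,5], [0,2,8,7,5,8,6,7,8],
  [0,4,5,7,2,1], [2,7,2,5,8], [0,5,6,7,2], [0,1,2,5,8,6], [0,3,2,5,4,7], [2,8,7,5,8,6,7], [0,2,3,2,4,2,8,7],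
  [0,1,0,2,5,4,2], [0,4,2,3,5,7], [4,2,7,8,6,7,2,7], [2,5,8,7,8], [2,4,2,1,7,2,8,6], [1,2,5,8,7,5,8], [4,2,1,7,8],
  [2,1,0,6,8,7], [4,2,7,5,8], [0,3,5,6,7,2,3], [0,2,3,8,7,5,8,6,7], [2,3,8,6,7,8], [2,7,2,3,5,4,8],
  [0,2,3,5,6,7,2], [0,2,5,8,6,7,5,8,7], [0,4,5,7,2,3], [0,4,2,7,5,8,7,2,7], [4,2,6,8,7,2], [1,6,8,6,7],
  [0,3,4,2,3,6,8,7], [1,2,6,8,7,2], [1,4,2,6,8,7], [4,6,8,7,2,4], [0,1,8,6,7,8], [0,3,2,6,8,7,2,1], [0,4,6,8,7,2],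
  [0,2,4,2,6,8,7,5], [4,2,1,3,2,4,8,7], [2,6,8,7,2,1], [2,6,8,7,2,4], [0,1,0,6,8,7], [8,6,7,2,1,8],
  [0,1,0,2,6,8,7,2], [0,2,3,2,4,5,7,2,1,3], [0,8,7,8], [2,3,5,6,7,2,7,8], [0,8,7,2,3,8,6], [0,2,3,4,2,1,0,5,7],
  [0,8,7,2,4,8,7,5], [0,2,1,3,4,2,1,5], [0,8,7,2,8,6,7], [0,2,3,4,5,7,2,1,3,7], [0,6,8,7,2,8,7,2], [2,1,8,7,2,7,8],
  [0,8,7,2,4,8], [0,2,3,4,5,7,2,1], [0,3,8,7,5,8,6], [0,2,3,4,5,7,2,1,7,2], [0,3,4,5,7,2,8,7], [2,4,5,7,2,3,4],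
  [2,3,4], [0,2,1,4,5,6,8], [1,2,1,4,2,5,7,8], [2,3,4,5,4,6], [2,4,5,7,2,3,5], [2,3,7], [2,3,4,2,1,5,7,2],
  [1,2,3,4,5,4,2], [1,2,3,4,7], [2,3,4,5,6,7,5,4], [2,4,2,3,5], [2,3,4,2,3,5,8,6], [2,3,4,6,7,5], [4,2,3],
  [2,3,4,5,7], [1,4,2], [2,1,4,2,5,4,8], [2,4,2,5,4,6], [2,4,5,7,2,5,7], [2,4,5,7,2,5,4], [0,2,1,4,5,7,2,1,0],
  [1,2,4,5,4,6], [2,4,7], [4,2,7], [2,4,5,6,7,2], [5,7,2,7,5], [1,2,4,5,7,2,5], [2,4,6,7,5,4], [1,2,4,5,7],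
  [2,3,4,2,5,8,6,7], [2,4,2], [0,1,2,1,5,4,7,5], [0,2,4,5,4,6,7,2,1,3], [0,2,8,7,2,5], [0,1,0], [0,3,5,4,7,5],
  [0,2,4,5,4,7,2,1,0], [0,2,3,8,6,7,5], [0,8,7,2,1,0,4,7,5], [2,5,4,7,2,5,8], [0,2,4,5,4,7,2,1,4], [2,8,7,2,1,3,8],
  [0,1,2], [0,3,8,7,2,5], [0,2,1,4,5,4,8], [2,8,7,2,1,8,7], [2,3,4,7,2,5,8], [1,2,8,6,7,2,3,7], [1,8,7,2,1,4,7],
  [1,2,7,2,5,4,2], [1,2,5,4,2], [2,3,8,6], [1,4,5,6], [0,2,4,2,6,7,8], [2,4,8,6], [1,2,8,6], [2,6,7,5,4,2],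
  [1,8,6,7,2,7], [2,8,7,2,4,5,7], [2,5,8], [2,7,2,3,5], [1,5,4,6], [2,3,5,4,8], [2,8,6,7,5,8], [0,1,2,1,5,4,8],
  [0,2,1,5,4,7], [0,1,2,1,8,6], [0,3,4,2,5,7], [2,7,8,7,2,1,7], [0,2,4,8,7,2], [1,2,7,2,8,6], [0,2,3,4,2,1,8,7],
  [0,2,1,8,6,7,2,7], [2,3,5,7,2,5,8], [0,8,6,7,2,1,7,2], [0,4,2,5,6,7,5], [1,2,7,8,7,2,7], [0,2,5,6,7],
  [1,2,7,2,5,4,8], [0,2,4,2,3,8,7,2], [0,1,2,3,8,6], [2,1,5,8,7,5,8], [2,7,8,7,2,3,7], [2,6,7,8,6,7,2],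
  [2,7,2,3,8,6], [0,1,6,8,7,2,1,0], [0,1,2,3,5,4,8], [1,2,6,7,8,7], [2,1,3,8,7,5,8,6,7], [0,2,3,4,2,3,8,7],
  [1,4,2,7,8], [0,2,1,3,5,7,2,1], [0,4,2,7,8,6], [2,6,7,2,8,7], [2,4,2,7,8,6], [0,3,8,6,7,8], [0,1,2,6,8,7,2,1],
  [0,3,4,6,8,7,2,3], [8,7,2,8,7,8], [0,4,2,6,8,7], [0,1,2,5,8,7,8,6], [0,1,2,6,8,7,2,4], [5,7,2,1,3,2],
  [1,8,6,7,2,8], [0,2,6,8,7,2], [4,2,1,6,8,7], [0,6,8,7], [4,6,8,7], [2,4,2,6,8,7], [4,2,3,6,8,7], [2,4,6,8,6,7,2],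
  [1,2,5,8,7], [4,5,6,7], [2,3,8,7,2], [1,2,5,7,2], [4,2,5,7,2,5,4], [1,8,7,2,4], [2,1,8,6,7,2], [2,3,4,8,6,7],
  [2,1,5,8,7], [1,2,7,2,3,5,7], [5,4,6,7], [2,5,7,2,1], [2,3,5,8,7], [2,5,4,6,7,2], [1,8,6,7,2,1], [2,8,6,7,2,4],
  [0,4,2,5], [2,7,8,7,2], [0,3,2,5,6], [2,7,2,8,6,7], [0,2,8,7,2,4,7,2], [0,1,8,6,7,2], [0,2,5,4], [0,1,2,8,6,7],
  [2,6,7,2,3,8], [1,2,7,8,7,2,1], [0,2,1,5,6], [2,7,2,5,4,8,7], [0,2,3,4,2,8], [0,2,8,7,5,8,6],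
  [0,3,4,5,6,7,2,4,7], [1,2,8,7,5,8,6], [0,4,5,6,7,2,3,4,7], [0,4,2,7,5,8,7], [0,2,4,2,3,8], [0,1,8,6,7,2,1,3],
  [0,3,4,5,7,2,3,7], [1,4,2,7,5,8,7], [2,5,8,7,5,8,7], [2,7,8,7,2,1,3], [0,2,1,3,5,7,2,7], [2,7,2,3,5,8,7],
  [1,2,6,7,2,8], [0,1,0,8,6,7,2,3], [0,2,3,5,6], [2,3,8,7,5,8,6], [0,2,3,4,2,1,3,8], [0,1,2,3,8,7,2],
  [0,3,4,2,6,8], [1,2,4,2,6,8], [1,4,2,3,6,8], [4,2,1,3,2,4,5], [0,1,0,4,5,6,8], [0,1,2,6,8,7,2,7],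
  [0,4,2,6,8,7,2,7], [0,6,8,7,2,4,7,2], [1,4,6,8], [2,4,2,1,6,8], [4,2,1,3,6,8], [0,2,4,2,6,8,6],
  [1,8,6,7,2,1,8,7], [0,2,6,8,7,2,1,7], [4,2,6,8], [0,1,6,8], [0,2,3,4,2,5,6], [4,2,6,8,7,2,5,8],
  [0,2,1,3,4,2,5,7], [0,8,7,2,1,8,6], [0,2,3,4,5,6,7,2,4], [0,1,0,8,7,8], [0,2,3,4,2,3,6], [0,3,8,7,2,1,4,8],
  [0,2,3,4,5,7,2,7], [0,1,0,8,7,5,8,6,7], [0,2,1,3,4,5,6,7,2], [0,3,4,5,7,2,1,8], [0,2,3,4,5,7,2,3],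
  [2,1,0,6,8,7,2,8], [2,6,7,2,5,4,2,8], [0,4,2,6,8,7,2,8], [1,2,4,5,6,8,7], [0,2,3,4,2,5,7,8], [2,1,3],
  [2,3,4,2,5,7,8,7], [0,6,8,7,2,7,5], [2,1,0,3,4], [0,2,4,5,6,8,7], [2,1,4,2,1,5,7,8], [6,8,6,7,2,4,7,5],
  [2,1,0,3,4,2,5,7], [2,3,7,2,1], [2,1,3,4,5], [2,3,4,5,4,2,1], [1,2,1,3,4], [0,3,2,4,5,6,8], [1,2,4,2,1,3,5],
  [2,1,0,4,5,4,2,6], [2,1,4,2,5,7,2], [2,3,4,5,6,8,7], [2,1,4], [1,4,2,1,7], [5,6,7,2,1,7,5,4], [5,7,2,1,7,2,5],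
  [2,4,5,7,2,1,5], [2,1,0,4,5,4,6,7], [1,2,1,4,5], [1,2,1,4,5,4,2], [2,4,2,1,7], [4,2,1], [1,2,4,5,6,7,2,1],
  [1,5,7,2,1,7,5], [0,2,3,4,2,5,4,6,8], [0,1,0,8,7,5], [0,2,4,5,4,6,7,2], [1,2,7,8,7,5], [0,8,7,2,4,7,5],
  [4,2,1,5,7,2,8], [0,2,4,5,7,2,4,7,2], [0,2,8,7,2,8,7], [0]]

/-- transversal -/
def T_2 : List (List ℕ) := [
  [0,3,8,7,2,1,0,5], [0,2,4,5,4,2,7], [2,8,7,2,8], [0,2,5,4,7,2,3,7,5], [2,1,8,7,2,4,8], [0,2,4,5,4,7,2,4,7],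
  [0,3,2,8,7,2,8], [0,1,0,2,1], [2,3,5,8,7,2,1], [1,2,8,7,2,4,5], [2,8,6,7], [8,7,2,1,4], [1,2,3,8,7,2,3],
  [4,2,5,6,7,2], [1,2,8,6,7,2], [1,5,7], [8,6,7,2], [2,5,4,2,7], [2,8,6,7,2,3], [1,2,5,4,7,2,5], [1,8,7],
  [1,4,2,5,7,2,5], [2,8,6,7,2,1], [2,7,2,5,7], [0,2,3,4,8,6,7,2,7], [4,2,5,7,5,8], [0,2,1,4,5,4,7,5],
  [2,3,7,5,8,7,2], [0,2,4,5,7,2,4,5], [0,1,0,5,4,7,2], [0,2,4,2,1,8], [0,1,0,8,7,2,4], [0,3,2,1,5,4],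
  [2,1,8,7,5,8,6], [0,2,3,2,4,2,1,8], [2,7,5,8,7,2,4], [0,4,5,7,2,7], [0,2,1,5,8,7,2], [2,1,0,4,2,8],
  [0,1,8,7,2,1,4], [0,8,7,2,4,7,2,3], [4,2,7,8,7], [2,6,7,8], [4,2,1,7,5,8,7], [0,3,4,2,3,5], [4,2,7,5,8,7,2],
  [0,2,1,3,5,4], [0,1,5,4,7,2,3], [0,2,3,2,4,2,3,8], [0,4,2,7,8,7,2], [0,4,5,7,2,1,3,7], [2,5,8,6,7,5,8,6],
  [0,2,3,5,4,2,6], [0,2,1,8,6,7,2,3], [0,2,3,2,5,4], [0,2,4,2,7,8,6,7], [1,4,2,1,6,8], [1,8,7,2,7,8,7,8],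
  [0,4,5,6,8], [0,3,2,6,8,7,2,7], [0,3,4,6,8,7,2,7], [6,8,6], [0,4,2,3,6,8], [0,8,7,2,7,8,7,8], [0,4,6,8,7,2,3,7],
  [0,3,6,8], [8,6,7,2,8,7], [2,4,2,3,6,8], [0,2,6,8,7,2,4,7], [2,1,0,3,5,4,2,3], [1,4,2,1,3,2,4,8], [2,6,8,7,2,7],
  [0,2,3,2,4,2,6], [0,4,5,7,2,1,3,8], [0,2,3,2,4,2,5,4], [0,1,4,5,7,8], [0,2,1,3,4,2,3,5], [0,4,5,7,2,1,8,7],
  [0,2,3,2,4,5,7,2], [2,6,8,7,2,4,5,8], [0,2,1,3,4,2,6], [0,2,1,6,8,7,2,8], [0,2,3,4,2,5,4,7], [2,3,5,6,7,2,8,6],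
  [0,2,3,4,5,7,2,4,7,5], [2,6,8,7,2,8,6], [0,2,3,4,2,3,5,4], [0,1,8,7,5,8,6], [0,3,6,8,7,2,4,7,5], [6,8,7,2,7,5,4],
  [2,4,2,1,3,2,5,4], [0,1,8,7,2,7,8], [1,4,2,1,3], [1,2,3,4,2,5,7,8], [2,4,5,6,8], [0,2,4,5,4,6,8],
  [0,2,3,4,2,3,5,6,8], [2,4,5,6,7,2,1,3], [1,6,8,6,7,2,7,5], [2,4,2,1,3], [1,2,1,0,3], [1,2,1,3,4,5,7],
  [2,1,4,5,4,2,3], [0,6,8,7,2,4,7,5,4], [2,4,5,7,2,1,4], [1,2,1,0,4,5,6,7], [2,1,0], [2,4,5,7,2,1,0],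
  [2,1,4,5,4,6], [1,2,4,2,1], [0,2,3,4,5,6,8], [1,2,1,4,2,5,7,2,7], [4,5,6,7,2,1,7,5], [2,1,0,4,5,6], [1,2,1],
  [2,4,2,1,5], [2,1,4,5,4,2,7], [1,2,1,0,4], [0,2,3,4,2,5,6,8,7], [2,1,4,5,7], [0,2,1,8,6,7,5], [0,3,4],
  [0,1,2,6,8,7,8], [0,2,4,5,8,6], [0,2,8,7,2,3,8], [0,2,1,4,5,4,7,2,3], [0,1,5,4,7,5], [0,3,2,4,5,4,2],
  [2,3,7,8,7,5], [0,1,2,1,3], [1,2,1,8,7,2,8], [2,5,7,8,7,5], [2,7,5,8,7,5], [0,2,1,4,5,4,2,6], [0,8,7,2,1,5],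
  [0,2,3,4,2,5,8,7,2], [0,2,3,4,2,5,8,7,8], [0,3,4,5,7,2,7,8,7], [1,2,4,5,4,7,5,8,7], [0,2,4,5,4,7,8,6,7],
  [2,4,5,4,7,2,1,0,8,7], [2,8,7,5,8,7,2,4,8], [0,4,6,8,7,2,7,8], [0,2,3,4,5,7,2,3,4,8], [0,8,7,2,1,0,4,7,8],
  [0,2,3,4,5,6,7,2,1,7,8,7], [2,8,7,2,5,4,8,7,5,8], [4,2,5,7,2,7,8], [2,1,4,5,4,7,5,8], [0,2,1,4,5,4,7,8],
  [1,2,4,5,7,2,3,5,8], [0,4,5,7,2,1,7,8], [0,2,4,5,7,2,4,5,8], [2,4,5,7,2,3,5,8], [0,2,1,4,2,5,4,7,8],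
  [0,8,7,2,7,8,7,2,3], [1,4,2,5,7,2,7,8], [0,2,4,5,4,7,2,1,0,8], [0,2,4,5,4,7,2,8,7,2,1], [0,2,6,8,7,2,4,7,8,7],
  [0,2,3,4,5,6,7,2,7,8], [0,3,4,6,8,7,2,7,8], [0,2,8,7,2,1,4,7,8], [0,2,3,4,2,5,8,7,2,8,7], [0,2,4,5,4,7,8,7],
  [2,4,5,4,7,5,8,7], [0,4,5,7,2,7,8,7], [0,2,1,4,5,7,2,1,4,8], [0,1,0,5,6,8], [0,5,6,8], [0,2,4,2,3,5,6,8],
  [2,1,0,3,4,5,4,2], [0,2,4,2,1,5,6,8], [0,2,4,2,5,6,8,7], [0,5,4,6,8], [2,1,0,3,2,1], [1,8,7,5,8,6,7],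
  [8,7,5,8,6], [1,4,5,7,2,8,7,2], [8,7,2,8,6,7,2], [8,7,2,8,7,2], [1,6,8,7,2,8,7,2], [8,7,5,8], [1,8,7,5,8,7],
  [8,7,5,8,7], [1,8,7,5,8], [6,8,7,2,8,7,2], [1,8,7,2,8,7,2], [2,3,4,2,8,7,8], [4,5,7,2,8,7,2], [1,8,7,5,8,6],
  [8,7,5,8,6,7], [0,1,5,4,6,8], [2,1,0,3,2], [0,2,4,2,1,5,6,8,7], [0,2,4,2,5,6,8], [0,2,4,2,5,4,6,8],
  [0,2,4,2,1,3,5,6,8], [0,3,5,6,8], [0,1,5,6,8], [2,4,5,7,2,8,7,2], [0,2,1,4,5,4,7,2,1,0,8], [2,3,4,5,7,2,8],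
  [0,2,3,4,5,4,7,2,8], [0,2,1,3,4,5,7,2,1,8], [1,6,8,7,2,4,7,5,8], [0,2,4,5,7,2,1,8], [2,4,5,4,7,2,8,7,2],
  [2,3,4,5,7,2,3,4,8], [0,2,4,5,7,2,8,7], [6,8,7,2,7,5,8,7,5], [0,2,1,3,4,5,7,2,8], [0,2,4,5,7,2,7,8],
  [2,3,4,5,7,2,8,7], [0,2,1,4,5,4,7,2,3,8], [6,8,7,2,4,7,5,8,7], [2,3,4,2,5,4,8,7,8], [0,8,7,2,3,4,7,5,8],
  [1,2,3,4,5,7,2,8,7], [0,2,4,5,7,2,8], [0,2,1,3,4,5,7,2,8,6], [2,1,4,2,5,7,2,7,8], [0,2,4,5,7,2,7,8,7],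
  [2,3,4,5,6,7,2,7,8], [1,2,4,5,4,7,2,8,7,2], [0,2,4,5,7,2,1,7,8], [6,8,7,2,4,7,5,8], [0,2,1,3,4,5,7,2,1,8,6],
  [0,2,4,5,7,2,1,8,7], [1,2,3,4,5,7,2,8], [0,8,7,2,1,0,4,7,5,8], [6,8,7,2,7,8,7,5], [2,1,3,4,5,4,7,2],
  [2,4,2,1,5,6,8,7], [0,2,6,8,6,7,2,7,5], [2,4,2,5,4,6,8], [6,8,7,2,4,8], [8,7,2,1,4,8], [1,4,5,7,2,8],
  [1,8,7,2,1,8], [1,4,5,7,2,4,8], [8,7,2,8,7], [6,8,7,2,8], [8,7,2,1,8,6], [2,4,5,6,8,7,2], [0,1,2,6,8,7,2,7,5],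
  [0,3,2,6,8,7,2,7,5], [1,2,4,2,5,6,8], [0,2,8,7,2,1,7,5,8], [2,1,4,5,7,2,1,8], [0,2,4,5,4,7,2,4,5,8],
  [1,2,4,5,4,7,2,4,8,7,2,1], [2,4,5,7,2,1,0,8], [0,8,7,2,1,7,2,8,7], [6,8,7,2,7,5,4,8], [1,2,3,8,7,5,8,7,8],
  [2,3,4,5,7,2,3,8,7,2], [0,4,5,7,2,4,7,2,8], [1,2,1,4,5,7,2,4,8], [0,2,8,7,5,8,7,2,8], [0,2,1,4,5,4,7,5,8],
  [1,4,5,7,2,7,5,8], [2,8,7,5,8,7,8], [2,3,4,5,4,7,2,8], [2,4,2,5,6,8], [0,2,6,8,7,2,7,5], [2,4,2,1,3,2,5,8],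
  [1,2,4,5,6,8,7,2], [8,7,2,4,8,7], [1,6,8,7,2,8], [1,8,7,2,8,7], [4,5,7,2,4,8], [8,7,2,1,8], [4,5,7,2,8],
  [8,7,2,8,6,7], [1,6,8,7,2,4,8], [2,1,3,4,5,4,2], [2,1,0,3,5,7,2,7,5], [1,2,4,2,1,5,6,8,7], [2,4,5,6,8,6,7,2],
  [1,2,3,4,5,4,7,2,8], [1,2,8,7,5,8,7,8], [4,5,7,2,7,5,8], [0,8,7,2,4,7,2,8], [2,8,7,2,5,8,7,8], [2,1,4,5,7,2,4,8],
  [0,2,1,5,4,7,2,5,7,8], [1,2,3,4,5,7,2,3,8,7,2], [2,3,8,7,5,8,7,8], [1,6,8,7,2,7,5,4,8], [2,1,5,8,7,5,8,7,8],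
  [6,8,7,2,7,5,8,7], [2,4,5,4,7,2,4,8,7,2,1], [0,2,8,7,2,7,5,4,8], [1,2,1,4,5,7,2,1,8], [2,7,2,8,7,2,7,8],
  [2,4,5,7,5,4,8], [0,2,1,8,7,2,3,7,8], [2,4,5,4,7,5,8], [0,2,4,5,4,7,8], [0,2,3,4,5,6,7,2,1,7,8],
  [4,2,6,8,7,2,7,8], [0,8,7,2,3,4,7,8], [0,2,3,4,5,6,7,2,7,8,7], [1,2,8,7,2,7,5,4,8], [2,4,5,4,7,2,1,0,8],
  [0,2,4,5,4,7,2,1,0,8,7], [0,2,4,5,4,7,2,5,8], [0,3,4,5,7,2,7,8], [2,4,5,7,2,1,3,5,8], [2,4,5,7,2,3,5,8,7],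
  [2,3,4,8,7,2,7,8], [8,7,2,7,8,7,5], [1,2,4,5,4,7,8], [2,8,7,2,5,4,8,7,5,8,7,2], [2,4,5,6,8,6,7,8],
  [1,2,3,4,5,7,2,5,8], [2,3,4,5,4,7,8], [0,2,4,5,7,8,6,7,2,1], [1,2,3,4,5,7,8], [0,2,4,5,7,8,6,7,2],
  [2,1,4,5,4,7,8], [1,2,3,4,5,7,2,3,5,8], [1,2,1,4,5,7,8], [0,2,3,4,5,7,2,1,8,7,2], [2,4,5,7,8], [8,7,2,1,7,8,7,5],
  [2,1,3,4,5,7,8], [0,2,1,3,4,5,4,7,8], [0,4,2,5,7,2,1,7,8], [0,2,1,8,7,2,7,8,7], [0,2,4,5,4,7,2,4,8,6,7],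
  [0,2,3,2,4,5,7,2,1,4,8,7], [0,6,8,7,2,4,7,8], [0,8,7,2,1,4,7,8], [0,2,4,5,7,2,8,7,2], [0,2,8,7,5,8,7,8],
  [0,2,4,5,4,7,2,1,0,3,8], [0,2,3,4,5,4,7,8,7], [2,8,7,2,4,7,8], [0,8,7,2,4,7,8,7], [2,4,5,7,2,5,8],
  [0,2,3,2,4,5,7,2,4,8], [0,2,4,5,7,2,8,7,5], [0,4,5,7,2,1,7,8,7], [0,2,1,4,5,7,2,4,8], [0,6,8,7,2,4,7,5,4,8],
  [0,4,5,7,2,7,8], [0,2,8,7,2,4,7,8], [2,8,7,2,5,4,8,7,5,8,7], [0,2,3,4,2,5,8,7,2,8], [2,8,7,2,7,5,4,8],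
  [0,2,4,5,4,7,2,8,7,2], [0,3,8,7,2,3,4,7,8], [0,2,6,8,7,2,4,7,8], [0,2,3,4,5,7,2,1,3,4,8], [0,2,4,5,4,7,8,6],
  [1,2,4,5,4,7,5,8], [4,2,7,8,7,2,7,8], [1,2,4,5,7,5,4,8], [1,2,1,3,4,5,7,8], [1,8,7,2,1,7,8,7,5], [1,2,4,5,7,8],
  [0,2,3,2,4,5,7,2,1,8,7,2], [2,1,4,5,7,8], [2,3,4,5,7,2,3,5,8], [1,2,1,4,5,4,7,8], [0,2,4,5,7,8,7,2],
  [2,3,4,5,7,8], [0,2,4,5,7,8,7,2,1], [1,2,3,4,5,4,7,8], [2,3,4,5,7,2,5,8], [2,1,3,4,5,4,7,8],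
  [0,2,4,5,4,7,2,1,0,8,7,2], [2,4,5,4,7,8], [1,8,7,2,7,8,7,5], [0,4,5,7,2,1,3,7,8], [0,2,3,4,5,7,2,4,8],
  [1,2,4,5,7,2,5,8], [0,3,8,7,2,4,7,8,7], [1,2,8,7,2,4,7,8], [8,7,2,7,8,7,2,5], [0,2,4,5,4,7,2,1,4,8],
  [0,2,8,7,5,8,7,8,6], [0,6,8,7,2,7,8,7,5], [0,3,8,7,2,1,4,7,8], [0,3,6,8,7,2,4,7,8], [0,2,3,4,5,7,2,1,4,8,7],
  [0,2,4,5,4,7,2,4,8,7], [0,8,7,2,7,8,7,2], [0,1,2,1,8,7,2,4,7,8], [2,4,5,7,2,5,8,7,2], [0,4,2,6,8,7,8,6],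
  [0,1,8,7,2,5,8], [2,3,8,7,2,4,8], [4,2,6,8,7,5,8], [2,4,2,7,8,7,5,4], [2,3,8,7,2,4,8,6], [0,1,8,7,2,5,8,6],
  [0,4,2,6,8,7,8], [0,2,1,3,2], [0,2,3,4,5,4,6,7,2,1], [0,3,4,2,3,6], [0,2,3,2,4,5,4,7,2], [2,1,0,4,5,6,8,7,2],
  [0,3,4,2,3], [0,2,3,4,5,4,7,2,1], [0,2,1,3,2,6], [0,2,1,4,5,7,2,1,3], [0,2,1,3,4,2,5,7,2], [0,2,3,4,5],
  [0,2,1,3,4,5,7], [0,2,1,3,4,5,6,7], [0,2,3,4,5,6], [0,2,3,4,2,5,7,2,1], [0,2,3,4,2,5,7,2,7], [0,2,3,8,7,2,8],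
  [0,1,2,3,5,8,7,5], [2,3,8,7,8], [2,1,0,3,8,7,8], [2,1,4,6,8,7,8], [2,3,8,7,8,6], [0,1,8,7,2,4,8],
  [1,4,2,3,5,7,8], [0,2,4,2,1,3,5], [0,2,1,3,4], [2,1,0,4,2,5,7,8], [0,2,3,2,4,6], [0,2,4,2,7,8,7,5],
  [0,2,1,3,8,7,8], [0,1,5,4,6,7,2,3,5], [4,2,3,5,7,2,8], [0,2,3,2,4], [0,2,3,2,4,2,5,4,2], [0,2,1,3,4,6],
  [0,2,4,2,1,3,5,6], [0,2,3,2,8,7,8], [0,1,5,4,7,2,3,5], [0,2,4,6,8,7,8], [0,2,4,2,7,8,6,7,5], [0,2,1,4,2,3,5],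
  [0,2,3,2,4,2,5,7,2], [0,2,3,2,4,5,7], [2,4,6,7,5,8,7,2,4], [2,5,8,6,7,8], [4,2,7,8,7,5], [1,2,3,7,8,7,8],
  [4,2,1,3,5,7,8], [2,4,2,3,8,7,8], [2,4,6,7,5,8,7,2,1], [2,3,5,6,7,8,6], [2,4,6,7,5,8,6,7], [0,1,0,8,7,2,8],
  [0,2,3,2,5,7,2,7,5], [1,2,3,4,8,7,8], [0,2,3,2,4,5,4], [0,2,1,4,2,5,7,2,3], [0,2,3,2,4,5,6,7],
  [0,2,3,4,2,3,5,4,2], [2,4,6,7,5,4,8], [0,1,0,2,3,8,7,5], [1,2,4,6,8,7,8], [2,4,2,6,8,7,8], [2,5,8,6,7,8,6],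
  [1,2,6,7,8,7,8], [2,1,0,4,5,6,8], [4,2,1,6,8,7,8], [0,2,3,4,2,1,3,5,8], [2,3,5,6,7,8], [2,4,6,7,5,8,7],
  [4,2,6,7,8,7,8], [0,2,3,4,2,3,5,8,7], [2,6,7,2,5,8], [0,2,4,5,7,2,3,4], [0,4,2,3], [0,2,3,4,5,4,6,7,2],
  [0,2,3,4,5,4,7,2], [0,4,2,3,6], [0,2,4,5,6,7,2,3,4], [0,2,1,3,2,1], [0,3,4,2,6,8,7,8], [4,2,1,6,8,7,5,8],
  [0,2,4,2,3,8,7,8], [0,1,8,7,2,1,5,8], [1,4,2,6,8,7,5,8], [0,4,2,6,7,8,7,8], [0,1,0,8,7,2,5,8], [0,1,8,7,2,1,0,8],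
  [4,2,3,5,7,8], [4,2,1,7,8,7,5], [1,2,3,8,7,8,6], [2,3,5,4,6,7,8], [0,2,5,8,6,7,8], [1,2,3,8,7,8],
  [2,4,2,1,6,8,7,8], [4,2,3,5,7,8,6], [0,2,3,2,4,2,5,7,2,7], [0,2,3,2,4,2,5,7,2,1], [0,2,3,2,4,5,6],
  [2,4,6,7,5,4,8,7], [0,2,1,4,2,3,5,7], [0,2,3,2,4,5], [0,2,1,3,4,2,3,5,7,2], [0,2,1,4,2,5,7,2,1,3],
  [2,7,2,3,5,4,8,7,5], [0,3,2,4,6,8,7,8], [0,1,0,5,4,7,2,3,5], [0,2,3,8,7,8], [0,2,4,2,3,5,6], [2,6,7,5,4,8],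
  [0,2,3,4,2,5,4,2], [0,2,3,4], [0,2,3,8,7,8,6], [2,4,2,1,7,2,8,7,5], [2,7,5,8,6,7,8], [0,1,8,7,2,1,0,3,5],
  [0,2,3,4,6], [0,2,3,4,2,5,4,2,6], [0,2,1,4,2,3], [0,2,4,2,3,5], [2,1,3,8,7,8,6], [0,2,3,8,7,2,8,7],
  [2,4,6,8,7,8], [0,1,2,3,8,7,5], [0,2,1,3,4,5,6], [0,2,3,4,2,5,6,7,2], [0,2,3,4,5,6,7], [0,2,1,4,5,7,2,3],
  [0,2,1,3,4,5,4,7,2,1], [0,1,4,5,7,2,1,8], [1,2,4,6,7,5,8,7], [2,1,6,8,7,8], [0,2,3,5,6,7,2,7,5], [0,1,8,7,2,8,6],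
  [0,2,3,4,5,4,6], [2,6,7,8,7,8], [0,1,2,3,8,6,7,5], [2,3,7,8,7,8], [1,4,2,7,8,7,5], [2,1,3,8,7,8],
  [0,2,1,4,5,6,7,2,3], [0,2,3,4,5,7], [0,2,3,4,2,5,7,2], [0,2,1,3,4,5], [0,2,3,4,5,4], [2,3,4,8,7,8],
  [0,2,3,5,7,2,7,5], [0,1,8,7,2,8], [0,2,1,3,4,5,4,7], [2,1,6,8,7,8,6], [0,2,1,3,5,7,2,1,7,5], [0,1,6,8,7,2,1,8],
  [1,2,5,6,7,8], [0,1,8,7,2,3,8], [0,1,2,1,5,6,7,8], [2,4,8,7,8], [2,4,8,7,8,6], [1,2,4,2,8,7,8],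
  [0,1,2,5,6,7,8,7], [0,2,4,8,7,5,8], [0,2,1,4,5,4,6,7], [2,3,5,7,2,8,7,5], [0,2,1,4,5,7,2,1,4], [0,2,4,5,4],
  [0,2,4,5,4,6], [0,2,4,5,4,2,7,2,7], [0,2,1,4,5,4,2,7,2], [0,2,1,4,5,4,7], [0,2,4,2,5], [0,2,4], [0,2,1,4,2],
  [0,5,7,2,7,5,4], [0,5,6,7,2,7,5,4], [0,2,1,4,2,6], [0,2,4,6], [0,2,4,2,5,6], [0,1,8,7,2,1,0,5], [0,2,8,7,8],
  [0,3,2,1,8,7,8], [0,1,0,5,4,7,2,5], [0,1,0,5,4,6,7,2,5], [0,3,2,1,8,7,8,6], [0,2,8,7,8,6], [2,7,2,5,4,8,7,5],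
  [0,2,1,4,5,7,2,1,7], [0,2,4,5,7], [0,1,2,1,5,8,7,5], [2,7,8,7,8], [0,2,1,4,5,6], [0,2,1,4,5,6,7,2],
  [2,1,8,7,8,6], [0,1,2,8,6,7,5], [0,2,1,4,5,7,2], [0,2,1,4,5], [0,1,2,8,7,5], [2,1,8,7,8], [0,2,4,5,6,7],
  [0,2,3,4,2,5,7,2,3], [2,7,8,7,8,6], [1,4,2,5,7,8,7], [2,4,2,7,8,7,8], [2,4,2,1,8,7,8], [1,2,4,7,8,7,8],
  [2,5,6,7,2,8], [2,4,6,7,5,8,7,2,3], [0,2,3,4,2,5,8,6], [0,2,1,4,2,5,4], [0,3,2,4,5,4,7], [0,2,5,6,7,8],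
  [2,1,5,6,7,8], [0,1,0,2,5,6,7,8], [4,2,3,6,8,7,8], [0,2,4,5,4,6,7,8], [2,3,4,6,7,5,8], [0,2,3,4,2,5,8],
  [0,2,1,4,2,5,7,2,4], [2,8,7,2,1,5], [2,8,6,7,2,5,7], [2,8,6,7,5], [2,1,5,8,7,5], [1,2,3,8,7,5], [2,8,7,5],
  [2,8,7,2,5,7], [2,8,7,2,5,4], [1,8,7,2,1,5], [1,2,7,2,8,7,8], [2,3,8,7,2,5], [8,6,7,2,5], [8,7,2,5],
  [2,3,8,6,7,2,5], [0,4,2,5,6,7,5,8], [1,8,6,7,2,1,5], [2,1,4,5,6,7,2,1], [2,1,4,5,7,2,4], [1,2,1,4,2,5,7],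
  [1,2,1,4,2,1,3,5], [1,2,1,4,2,1,5], [1,2,1,4,2,5,4], [2,1,4,5,6,7,2,4], [2,1,4,5,7,2,1], [1,2,4,2,1,7,2],
  [2,1,0,4,5,7,2], [1,2,1,0,4,5,6,7,2,1], [2,1,0,4,2,3], [2,1,0,4,2], [1,2,1,0,4,5,7,2,1], [2,1,0,4,5,6,7,2],
  [1,2,4,2,1,6,7,2], [0,2,1,4,2,5,4,7], [0,2,3,4,2,1,5,8], [0,2,3,4,2,5,8,6,7], [0,3,2,4,5,4,6], [0,3,2,4,5,4],
  [0,2,3,4,2,5,8,7], [0,2,3,4,2,1,5,8,6], [2,3,4,6,7,5,8,7], [2,5,6,7,8,6], [4,2,1,3,6,8,7,8], [2,4,2,8,7,8],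
  [0,2,1,5,6,7,8], [1,2,4,8,7,8], [2,4,2,8,7,8,6], [0,1,0,8,7,2,3,8], [2,5,6,7,8], [0,2,1,5,8,7,2,4,5],
  [0,3,2,8,7,8,6], [0,2,1,8,7,8,6], [0,1,5,4,6,7,2,5], [0,1,5,4,7,2,5], [0,2,1,8,7,8], [0,3,2,8,7,8],
  [0,1,0,8,7,2,1,0,5], [0,2,4,2,1,5,6], [0,3,2,4,6], [0,2,1,4,6], [0,2,4,5,8,7,2,4], [0,3,5,7,2,7,5,4], [0,2,1,4],
  [0,3,2,4], [0,2,4,2,1,5], [4,2,5,7,8,7], [1,2,7,8,7,8,6], [0,2,3,4,2,5,4,8,6], [0,2,4,5,6,7,8], [1,2,1,8,7,8],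
  [0,1,0,2,8,7,5], [0,2,1,4,2,5], [0,2,1,4,2,5,7,2], [4,2,1,5,7,8], [0,2,5,4,6,7,8], [0,2,1,4,2,5,6,7,2],
  [0,2,1,4,2,5,6], [1,2,7,8,7,8], [2,7,5,8,7,2,5], [0,3,2,4,5,7], [0,2,3,4,2,5,4,8], [0,2,1,4,5,7,2,4],
  [0,2,3,2,4,2,5,8], [0,2,1,4,5,4,6], [0,2,4,5,4,6,7], [1,4,2,3,6,8,7,8], [0,1,2,5,6,7,8], [2,3,6,8,7,8],
  [0,3,2,5,6,7,8], [0,2,4,5,4,7], [0,2,1,4,5,4], [0,2,4,5,4,2,7,2], [0,2,1,4,5,6,7,2,4], [2,1,4,8,7,8],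
  [2,4,7,8,7,8], [0,1,2,5,6,7,8,6], [0,1,8,7,2,1,3,8], [1,2,1,4,5,7,2,1], [1,2,1,4,5,6,7,2,4], [2,1,4,2,5,4],
  [2,1,4,2,1,5], [2,1,4,2,1,3,5], [2,1,4,2,5,7], [1,2,1,4,5,7,2,4], [1,2,1,4,5,6,7,2,1], [2,4,2,1,6,7,2],
  [1,2,1,0,4,5,6,7,2], [2,1,0,4,5,7,2,1], [1,2,1,0,4,2], [1,2,1,0,4,2,3], [2,1,0,4,5,6,7,2,1], [1,2,1,0,4,5,7,2],
  [2,4,2,1,7,2], [1,2,8,7,2,5,4], [1,2,8,7,2,5,7], [1,2,8,7,5], [2,3,8,7,5], [2,3,8,6,7,5], [1,2,8,6,7,5],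
  [2,8,7,2,3,5,4], [1,2,8,7,2,1,5], [8,6,7,2,1,5], [2,7,2,5,4,7,5], [2,1,5,8,7,2,5], [1,8,7,2,5], [1,8,6,7,2,5],
  [1,2,3,8,7,2,5], [2,7,2,8,7,8], [8,7,2,1,5], [0,1,0,5,4,7], [2,1,8,7,2,5,8], [0,3,2,1,8,7], [1,2,7,5,8,7],
  [0,1,2,1,5,4,2], [0,5,4,6], [0,2,3,2,8], [0,2,8,6], [0,2,1,3,8,7], [2,3,7,5,8,7], [2,1,8,7,2,5,8,6],
  [0,1,0,5,4,6,7], [0,2,8], [2,1,0,5,8], [0,5,4], [0,1,2,1,5,4,2,6], [0,2,8,7,2,1], [0,1,2,8,7,2], [2,7,8,6,7],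
  [0,8,6,7,2,1,0], [0,3,8,6,7,2,3,7], [0,2,3,5,8], [2,3,6,7,2,4,8], [0,3,2,8,7,2,7], [0,2,1,5,4,7,2,5,7],
  [0,2,8,7,2,3,4,5,7], [0,4,5,6], [0,2,5,4,6,7,2,7], [2,8,7,2,5,4,8], [0,4,2,5,7,2,1,5], [0,1,0,4,5,6,7],
  [0,2,1,3,4,2,8,7], [0,8,7,2,1,0], [2,7,8,7], [0,1,2,5,4,7], [0,2,8,6,7,2,1], [0,2,8,6,7,2,7,8], [0,1,0,2,1,5,4],
  [1,2,1,0,8], [0,3,8,7,2,3,7], [0,2,5,4,7,2,7], [0,4,5], [0,2,4,5,4,7,2,4,5], [0,2,4,5,4,7,2,7,5],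
  [0,2,5,4,7,2,1,3], [0,1,0,4,5,7], [0,4,2,5,7,2,1,0], [0,2,8,7,2,1,4,5], [0,3,8,7,2,1], [4,2,5,7,2,5,8],
  [0,1,0,2,8,7,2,3], [0,2,1,5,8,7], [0,1,2,1,3,5,4], [2,1,0,3,8], [0,8,6,7,2,7], [0,2,8,7,2,3,7], [0,1,2,1,5],
  [0,2,8,7,2,4,7], [0,1,0,2,5,6,7], [0,2,1,5,4,7,2,1], [0,8,6,7,2,3,4,7], [2,1,0,4,8], [0,3,8,7,2,1,0,4],
  [2,1,5,7,8], [1,2,3,7,8,7], [0,1,0,2,3,5,4,7], [2,8,7,2,8,7,5], [0,3,8,6,7,2,1], [0,2,8,6,7,2,3,7], [0,8,7,2,7],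
  [0,3,2,5,8], [0,2,3,8,7,2,7], [1,2,5,7,8,7], [0,8,7,2,3,4,7], [1,2,4,7,8,7], [2,1,3,5,7,2,8], [2,8,6,7,2,8,7],
  [0,1,2,1,5,6], [0,3,2,8,7,2,1,4], [0,1,0,2,5,7], [2,5,6,7,5], [2,3,4,2,8,7], [2,4,8,7,2,4], [1,5,6,7,2],
  [1,5,7,2], [0,2,8,6,7,8], [2,3,4,2,8,6,7], [2,5,7,5], [4,5,7,2], [1,4,2,5,6,7,5], [2,3,5,7,2,3], [1,4,5,6,7,2,4],
  [1,4,5,7,2,4], [2,3,5,6,7,2,3], [1,4,2,5,7,5], [4,5,6,7,2], [2,1,5,4,2], [1,2,1,0,5], [5,7,2,1,7], [2,1,0,5,4],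
  [2,1,0,5,4,6], [5,6,7,2,1,7], [0,2,3,6,8], [2,1,5,4,2,6], [1,2,1,0,5,4,2], [4,5,6,7,2,1,4,7], [1,4,5,7,2,1,7],
  [4,2,1,6,7,5], [4,2,1,7,5], [1,4,5,6,7,2,1,7], [4,5,7,2,1,4,7], [0,2,3,4,2,6,8], [1,2,3,5,4,7], [1,4,2,3,5,7],
  [0,1,2,1,6,8,7,2], [0,6,8,6,7,2,1], [0,6,8,7,2,1], [0,2,1,4,6,8,7,5], [1,4,2,3,5,6,7], [2,1,4,6,8,7],
  [0,2,1,6,8,7], [2,3,5,7,5,4], [1,2,3,4,2,3,8,7], [5,7,2,3], [5,6,7,2,3], [2,1,5,4,2,7,8], [4,2,3,5,7,2],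
  [1,2,3,5,7,5], [0,2,4,5,6,8,7,5,8], [0,3,6,8,7,2,7], [1,2,4,6,8], [4,2,1,3,5,6], [4,2,1,3,5], [2,1,3,5,4],
  [0,3,6,8,6,7,2,7], [2,7,5,8,7,5,8,7], [2,1,0,3,5], [0,2,4,6,8], [1,2,1,5,4,2,3], [2,1,4,2,1,3,8],
  [1,2,3,5,4,2,1], [2,3,4,2,1,3,8], [0,2,4,6,8,6], [0,3,2,6,8], [2,1,8,7,2,1,0,7], [0,3,5,4], [0,2,3,8,6],
  [0,3,2,8], [0,1,5,4,6,7], [0,2,1,5,4,2,7,8], [0,2,1,8,6,7], [2,7,5,8,6,7], [0,3,2,8,6], [0,2,3,8], [0,3,5,4,6],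
  [0,1,0,2,1,5,4,2], [2,7,5,8,7], [0,2,1,8,7], [1,2,1,8,7,2,5,8], [0,1,5,4,7], [0,8,7,2,3,7], [2,1,0,8],
  [0,1,2,1,5,4], [0,2,8,6,7,2,7], [0,3,2,8,6,7,2,1], [0,1,0,2,5,4,7], [1,2,7,8,7], [0,3,8,7,2,1,0],
  [0,2,1,5,4,2,1,7,2], [2,7,2,8,7,2,4], [0,1,4,5,7], [0,2,5,4,7,2,1], [0,2,8,7,2,4,5,7], [0,2,8,7,2,7,5,4],
  [0,3,4,5], [0,2,5,4,7,2,3,7], [0,2,8,7,2,7], [0,1,2,1,5,4,6], [2,1,0,8,6], [0,8,6,7,2,3,7], [0,3,8,6,7,2,1,0],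
  [1,2,7,8,6,7], [0,1,0,2,8,7,2], [0,3,2,8,7,2,1], [0,2,5,4,6,7,2,1], [0,1,4,5,6,7], [2,7,2,8,6,7,2,4],
  [1,2,8,7,2,5,4,8], [0,2,1,3,4,2,1,8], [0,3,4,5,6], [0,4,2,5,7,2,5,7], [0,4,5,7,2,4,7,2], [2,4,2,6,7,8],
  [0,2,5,8], [0,3,8,7,2,7], [4,2,5,6,7,2,8,7], [0,8,6,7,2,1], [0,1,2,1,8,7,2], [0,1,2,3,5,4,7], [2,3,7,8,7],
  [0,1,2,5,7], [0,2,8,7,2,1,4], [2,3,6,7,2,8], [0,2,1,5,4,7,2,7], [2,6,8,6,7,2,8], [2,4,7,8,7], [0,3,8,7,2,3,4,7],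
  [2,5,7,8,7], [0,3,2,8,7,2,3,7], [0,3,8,6,7,2,7], [0,2,5,8,6], [2,4,2,6,7,8,6], [2,3,7,8,6,7], [0,1,2,8,7,2,3],
  [0,1,2,1,8,6,7,2], [0,8,7,2,1], [1,2,1,5,7,8], [0,8,7,2,1,0,4], [1,2,1,0,4,8], [0,3,8,6,7,2,3,4,7],
  [2,8,6,7,2,1,8], [0,1,2,5,6,7], [0,2,4,5,4,7,2,5], [0,1,0,2,1,5], [2,3,4,2,1,8], [2,1,0,5,6], [2,1,4,2,1,8],
  [0,2,3,4,6,8], [1,2,1,0,5,4], [1,5,7,2,1,7], [2,1,0,5], [1,2,1,5,4,2], [2,1,0,5,4,2,6], [1,4,5,7,2,1,4,7],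
  [4,5,6,7,2,1,7], [1,4,2,1,7,5], [0,1,2,3,6,8], [4,5,7,2,1,7], [2,1,4,5,4,2,7,5], [2,1,0,5,4,2], [1,2,5,7,5],
  [2,1,5,4,2,1,7], [2,5,7,5,4], [5,7,2], [5,6,7,2], [2,5,6,7,5,4], [1,2,3,4,2,8,7], [2,4,8,7,2], [1,4,5,6,7,2],
  [4,2,5,7,5], [2,1,3,4,8,7,2], [4,5,7,2,4], [4,5,6,7,2,4], [1,2,3,5,7,2,3], [4,2,5,6,7,5], [1,4,5,7,2]]

/-- transversal -/
def T_3 : List (List ℕ) := [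
  [8,7,2,4,7,2,1,3], [0,6,8,6,7,2,7], [2,4,6,8,6], [1,4,2,1,3,5], [1,4,2,1,3,5,6], [2,4,6,8], [0,6,8,7,2,7],
  [0,2,4,5,6,8,7,5], [0,2,6,8], [2,1,0,3,5,4], [2,1,5,4,2,3,6], [2,3,5,4,2,1], [2,3,5,4,2,1,6], [2,1,5,4,2,3],
  [0,3,2,4,6,8], [0,2,6,8,6], [2,3,5,4,6,7], [4,2,3,5,6,7], [2,3,7,2,5,7,2], [0,3,6,8,7,2,1], [2,3,5,7,2,5,4],
  [2,3,5,4,7,5,4], [4,2,3,5,7], [2,3,5,4,7], [2,3,5,7,5], [0,2,1,4,6,8,7], [1,2,1,5,4,2,7,8], [1,5,6,7,2,3],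
  [1,5,7,2,3], [2,3,4,2,3,8,7], [0,2,3,8,6,7,8], [2,3,5,6,7,5], [0,2,8,7,2,7,5,8,6], [0,2,4,5,4,7,5,8,6],
  [1,2,3,4,5,7,2,3,8,7,2,1], [4,5,7,2,7,5,4,8], [0,2,8,7,5,8,7,2,4,8], [2,5,8,7,5,8,7,8], [1,2,1,4,5,7,2,8],
  [4,5,7,2,1,7,5,8], [2,1,4,5,7,2,1,0,8], [1,4,5,7,2,7,5,8,7], [0,2,8,7,2,1,7,5,4,8], [0,8,7,2,1,7,2,8],
  [2,4,5,4,7,2,4,8,7,2], [1,6,8,7,2,7,5,8], [2,8,7,2,1,0,7,8], [2,1,3,8,7,5,8,7,8], [2,4,5,7,2,1,5,8],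
  [0,3,4,5,7,2,3,7,8], [0,8,7,2,7,8,7,2,1], [0,2,3,2,4,5,4,7,8], [0,2,4,5,4,7,2,4,8,6], [2,8,7,2,1,4,7,8],
  [0,3,8,7,2,4,7,8], [0,2,3,4,5,7,2,4,8,7], [1,2,6,8,7,2,7,5], [2,1,3,4,5,4,2,1], [4,5,7,2,1,8], [1,8,7,2,4,8],
  [1,4,5,7,2,3,8], [8,7,2,4,8,6], [2,6,8,6,7,2,7,5], [2,4,2,1,5,6,8], [0,4,2,6,8,7,2,7,8], [0,2,3,2,4,5,7,2,1,4,8],
  [0,2,4,5,4,7,2,1,4,8,7], [0,2,8,7,2,3,4,7,8], [0,2,1,8,7,2,7,8], [2,3,4,5,7,5,4,8], [1,2,4,5,7,2,5,8,7],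
  [2,3,5,6,7,2,5,7,8], [2,4,5,6,8,7,2,3], [1,2,4,2,5,6,8,7], [6,8,7,2,8,7], [8,7,2,8], [1,4,5,7,2,8,7],
  [1,8,7,2,8,6], [0,2,6,8,7,2,1,7,5], [2,4,2,3,5,6,8], [2,3,4,2,5,7,8,7,8], [2,1,4,5,4,7,2,8,7],
  [0,2,1,3,4,5,7,2,1,3,8], [0,2,1,4,5,4,7,2,1,8], [2,4,5,7,2,5,4,8,7,2], [0,8,7,2,4,7,5,8], [2,1,4,5,4,7,2,8],
  [2,3,4,2,5,8,7,8], [0,2,4,5,7,2,1,4,8], [0,4,5,7,2,7,5,8,7], [2,3,4,5,7,2,3,8,7], [2,3,4,5,7,2,4,8],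
  [1,2,3,4,5,7,2,3,8], [1,2,3,4,5,7,2,4,8,7], [0,2,4,5,7,2,3,7,8], [0,2,4,5,7,2,4,8], [0,2,4,5,4,7,2,1,8,7,2,1],
  [1,2,4,5,4,7,2,8,7], [8,7,2,1,4,7,5,8], [2,4,5,4,7,2,1,8,7], [0,2,4,5,4,7,2,3,8,7,2], [1,2,4,5,4,7,2,3,8],
  [0,2,3,4,5,7,2,3,8,7,2], [2,4,5,4,7,2,3,8,7], [2,4,5,4,7,2,1,8], [0,2,4,5,4,7,2,1,8,6,7,2], [1,2,4,5,4,7,2,8],
  [1,8,7,2,4,7,5,8], [1,2,4,5,4,7,2,4,8,7], [2,3,4,5,7,2,4,8,7,5], [2,4,5,4,7,2,4,8], [0,2,4,5,4,7,2,4,8,6,7,2],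
  [2,1,0,6,8,7,8], [1,4,2,6,8,7,8], [2,6,8,7,8,6], [0,1,6,8,7,2,8], [0,2,3,2,4,2,3,5,8], [1,2,4,6,7,5,8],
  [0,2,1,3,5,7,2,7,5], [0,2,3,4,5,4,7], [0,2,3,4,2,3,5,8,6], [2,4,6,7,5,8,6], [2,6,7,8,7,2,7,5], [2,1,0,4,5,6,8,7],
  [2,5,4,2,6,7,8], [4,2,6,8,7,8,6], [1,2,6,8,7,8], [0,1,0,4,5,7,2,8], [0,2,4,2,8,7,8], [2,6,7,2,5,7,8,7], [0,4,2],
  [0,3,4,2,6,7], [0,1,0,8,7,2,5,4], [0,1,8,6,7,2,1,5,4], [0,2,4,5,6,7,2,4], [0,4,5,7,2,7,5], [0,2,1,4,2,5,7],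
  [0,2,1,4,2,5,6,7,2,1], [4,2,5,7,8], [1,2,1,0,8,7,8], [0,3,2,4,5,6], [0,2,1,4,2,5,7,2,7], [0,1,0,2,5,8,7,5],
  [1,2,8,7,8,6], [1,2,8,7,2,5], [1,2,5,8,7,5], [2,3,5,8,7,5], [2,8,6,7,2,3,5], [2,1,4,2,1,5,7],
  [1,2,1,4,5,7,2,1,0], [1,2,1,4,5,6,7,2], [2,1,4,2,3,5], [0,3,4,2,6], [0,4,2,7], [2,6,7,2,5,7,8],
  [0,2,4,2,7,8,7,8], [0,2,4,5,7,2,4,7], [0,2,4,5,6,7,2,1,4], [0,1,8,6,7,2,5,4], [2,4,2,7,8,7,5,8], [0,1,2,1,8,7,5],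
  [1,2,5,4,6,7,8], [0,2,1,4,5,6,7], [0,2,1,4,5,7,2,1], [0,1,8,7,2,4,5], [2,8,7,8], [0,2,4,5], [0,2,1,4,5,6,7,2,7],
  [1,2,1,4,2,1,5,4], [2,1,4,5,6,7,2,1,0], [2,1,4,5,7,2], [1,2,1,4,2,5], [2,8,6,7,2,5], [2,5,8,6,7,5], [2,1,8,7,5],
  [1,2,8,7,2,3,5], [0,2,5,4,2], [0,4,2,5,7,2,7], [0,3,8,6,7,2,4,7], [4,2,6,7,8], [0,1,4,5,7,2], [0,8,6,7,2,1,4],
  [0,1,2,1,8,7,2,4], [2,6,8,6,7,8], [4,2,5,6,7], [2,5,4,6,7], [2,5,4,7,5,4], [1,2,7,2,3,5,7,2], [0,6,8,6,7,2,3,7],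
  [8,7,2,4,7,2,1], [2,3,4,6,8], [1,4,2,1,5,6], [4,5,7,2,3,4], [1,4,5,6,7,2,3], [2,3,6,7,2,5,7], [1,2,3,5,7,2],
  [6,8,6,7,2,7], [1,6,8,7,2,4,7], [2,1,0,5,4,2,3], [0,1,2,6,8], [0,1,0,2,3,5,7], [0,3,8,7,2,1,4],
  [0,4,2,5,6,7,2,1], [1,2,3,4,7,8,7], [2,1,0,3,4,8], [2,8,6,7,2,3,8,7], [0,8,7,2,4,7], [0,1,2,1,3,5],
  [0,3,6,8,7,2,3,7], [2,1,0,5,4,7,2,7], [2,1,5,4], [4,2,1,5], [1,4,2,5,7], [1,2,5,4,7], [2,4,8,7,2,4,5],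
  [0,4,5,7,2,1,0], [1,6,8,7,2,7], [6,8,6,7,2,4,7], [0,2,3,4,2,3,6,8], [2,3,7,2,1,5], [1,4,5,6,7,2,3,4],
  [4,5,7,2,3], [1,2,3,7,2,5,7], [2,3,5,6,7,2], [0,8,7,2,1,7,2,3,8], [0,2,8,7,2,3,7,2,8], [6,8,7,2,7,5,8],
  [1,2,4,5,4,7,2,4,8,7,2], [2,1,8,7,5,8,7,8], [2,7,2,8,7,2,4,7,8], [4,5,7,2,7,5,8,7], [6,8,7,2,7,5,8,7,2],
  [1,4,5,7,2,1,7,5,8], [2,1,4,5,7,2,8], [1,2,5,8,7,5,8,7,8], [2,8,7,2,5,4,8,7,8], [0,2,4,5,7,2,1,0,8],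
  [2,3,4,5,7,2,3,8,7,2,1], [0,2,4,5,4,7,5,8], [0,2,8,7,2,7,5,8], [0,2,1,6,8,7,2,7,8], [2,4,5,7,2,5,8,7],
  [1,2,3,4,5,7,5,4,8], [0,2,1,8,7,2,7,8,6], [0,4,2,5,7,2,7,8], [0,2,3,4,2,5,8,7,2,8,7,5], [0,2,3,4,5,7,2,1,4,8],
  [2,6,8,7,2,4,7,8], [1,2,4,2,3,5,6,8], [6,8,7,2,4,7,2,5], [8,7,2,8,6], [4,5,7,2,8,7], [1,8,7,2,8],
  [1,6,8,7,2,8,7], [2,4,2,5,6,8,7], [0,8,6,7,2,4,8,7,5], [0,2,3,2,4,5,7,2,4,8,7], [0,8,7,2,4,7,8],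
  [1,2,8,7,2,1,4,7,8], [0,2,4,5,4,7,2,4,8], [0,2,3,4,5,4,7,8], [2,3,4,5,4,7,5,8], [0,4,5,7,2,3,7,8],
  [1,2,4,5,7,2,1,5,8], [1,2,4,2,1,5,6,8], [2,1,3,5,7,2,7,5], [8,7,2,1,8,7], [4,5,7,2,3,8], [8,7,2,4,8],
  [1,4,5,7,2,1,8], [2,4,2,1,5,4,6,8], [2,6,8,7,2,7,5], [0,2,4,5,7,2,4,7,8], [0,2,4,5,7,2,3,8], [2,3,4,5,7,2,4,8,7],
  [2,3,4,5,7,2,3,8], [1,2,3,4,5,7,2,4,8], [1,2,3,4,5,7,2,3,8,7], [0,2,4,5,7,2,1,3,8], [0,4,5,7,2,7,5,8],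
  [1,2,3,4,2,5,8,7,8], [1,2,1,4,5,4,7,2,8], [0,2,1,4,5,4,7,2,8], [0,2,1,3,4,5,7,2,3,8], [0,8,7,2,1,4,7,5,8],
  [2,4,5,7,2,5,4,8,7,2,1], [6,8,7,2,7,8,7,5,4], [6,8,7,2,4,7,5,4,8], [0,2,4,5,4,7,2,4,8,7,2], [1,2,4,5,4,7,2,4,8],
  [0,2,3,4,5,7,2,4,8,7,2], [2,4,5,4,7,2,4,8,7], [8,7,2,4,7,5,8], [2,4,5,4,7,2,8], [0,2,4,5,4,7,2,1,8,7,2],
  [1,2,4,5,4,7,2,1,8], [0,2,4,5,4,7,2,8,7,5], [0,2,3,2,4,5,7,2,3,8,7,2], [2,4,5,4,7,2,3,8], [2,4,5,4,7,2,8,7,2,5],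
  [1,2,4,5,4,7,2,1,8,7], [1,8,7,2,1,4,7,5,8], [2,4,5,4,7,2,8,7], [0,2,3,4,5,6,7,2,1,7,8,7,2], [0,1,4,5,7,2,8],
  [2,6,8,7,8], [0,1,8,7,2,1,8], [2,1,3,4,8,7,8], [0,2,3,4,5,4,6,7], [0,2,1,3,4,5,4,7,2], [0,2,1,3,4,5,4],
  [0,2,3,4,2,5,7,2,4], [0,2,3,2,4,5,4,7], [2,4,6,7,5,8,7,2], [2,4,6,7,5,8], [0,2,3,4,2,3,5,8], [0,1,0,6,8,7,2,8],
  [1,2,6,8,7,8,6], [4,2,6,8,7,8], [0,2,3,5,6,7,8], [0,1,8,7,2,1,5,4], [0,1,0,8,6,7,2,5,4], [0,4,5,6,7,2,7,5],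
  [0,2,4,5,7,2,4], [2,3,7,8,7,2,5,4], [2,4,2,8,7,2,8], [0,3,4,2,7], [0,4,2,6], [0,2,1,4,2,5,6,7,2,7], [0,3,2,4,5],
  [1,2,8,7,8], [4,2,1,5,7,8,7], [0,2,1,4,2,5,7,2,1], [0,2,1,4,2,5,6,7], [2,5,4,6,7,8], [4,2,5,7,8,6],
  [2,8,7,2,3,5], [1,2,1,8,7,5], [2,1,3,8,7,5], [1,2,8,6,7,2,5], [2,1,4,2,5], [1,2,1,4,5,7,2],
  [1,2,1,4,5,6,7,2,1,0], [2,1,4,2,1,5,4], [0,2,4,5,7,2,1,4], [0,2,4,5,6,7,2,4,7], [4,2,3,6,8,7,5,8],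
  [0,1,8,7,2,5,4], [0,4,2,6,7], [0,3,4,2], [0,4,2,3,6,8,7,8], [0,2,4,2,1,8,7,8], [2,8,7,8,6], [0,1,2,5,8,7,5],
  [0,2,1,4,5,7,2,7], [0,2,4,5,6], [2,1,0,8,7,8], [1,4,2,5,7,8], [0,2,1,4,5,6,7,2,1], [0,2,1,4,5,7],
  [1,2,1,4,2,3,5], [2,1,4,5,6,7,2], [2,1,4,5,7,2,1,0], [1,2,1,4,2,1,5,7], [2,8,7,2,5,4,7], [2,1,8,6,7,5],
  [2,5,8,7,5], [2,8,7,2,5], [4,2,6,7,8,6], [0,3,8,7,2,4,7], [0,4,2,5,6,7,2,7], [0,2,5,4,2,6], [2,3,4,7,8,7],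
  [2,7,2,8,7,2,4,5], [0,8,7,2,1,4], [0,1,2,3,5,7], [0,3,4,5,7,2,1,0], [2,5,4,6,7,5,4], [2,5,4,7], [4,2,5,7],
  [1,4,2,1,5], [1,2,1,5,4], [8,6,7,2,4,7,2,1], [0,6,8,7,2,3,7], [2,1,6,8,7,2], [2,3,7,2,5,7], [1,4,5,7,2,3],
  [4,5,6,7,2,3,4], [0,1,2,6,8,6], [2,1,0,5,4,2,3,6], [1,6,8,6,7,2,4,7], [6,8,7,2,7], [2,1,3,5,7,8],
  [0,4,2,5,7,2,1], [2,7,5,4,8,7,2], [0,1,0,4,5,7,2], [1,4,2,6,7,8], [0,8,6,7,2,4,7], [0,2,8,7,2,3,4,7],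
  [0,3,2,5,4,2], [4,2,1,5,6], [2,1,5,4,6], [1,8,7,2,4,7,2,1], [0,3,6,8,6,7,2,3,7], [2,7,2,3,5,7,2],
  [0,2,8,6,7,5,8], [1,2,5,4,6,7], [1,4,2,5,6,7], [0,1,0,2,6,8], [1,2,1,0,5,4,2,3], [6,8,7,2,4,7], [1,6,8,6,7,2,7],
  [2,3,5,7,2], [0,1,2,1,6,8,7], [4,5,6,7,2,3], [1,4,5,7,2,3,4], [0,1,5,4], [2,7,5,8,6], [0,1,8,7,2,1,7,2],
  [0,2,1,8,6], [0,2,1,8], [0,1,2,1,5,4,2,1], [2,7,5,8], [0,1,5,4,6], [2,1,8,6,7,2,1,0], [0,3,2,8,7], [0,3,5,4,6,7],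
  [0,2,3,8,6,7], [0,2,3,8,7], [0,3,5,4,7], [0,3,2,8,6,7], [2,1,8,7,2,1,0], [2,5,7,8], [0,3,8,6,7,2,3,4],
  [0,2,4,2,8,7,2], [0,3,2,8,7,2,4], [0,2,1,5,4,7,2], [0,1,0,2,1,5,7], [0,3,8,7,2,3,4], [2,5,7,8,6],
  [0,2,8,7,2,1,4,7], [0,1,2,5,6], [2,6,8,6,7,2,8,7], [2,4,7,8,6], [2,4,7,8], [0,8,7,2,1,0,4,7], [0,1,2,5],
  [2,8,6,7,2,1,8,7], [0,1,2,1,8,7,2,7], [0,8,7,2,1,7], [0,1,2,3,5,4], [2,3,7,8,6], [4,2,5,6,7,2,8], [0,3,8,6,7,2],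
  [0,2,3,2,8,7,2], [0,2,5,8,6,7], [2,3,7,8], [0,1,2,3,5,4,6], [0,8,6,7,2,1,7], [0,1,2,1,8,6,7,2,7], [0,2,5,8,7],
  [2,1,0,5,8,7,2], [0,3,8,7,2], [0,3,2,8,7,2,3], [0,1,2,1,3,5,7], [0,2,3,4,8,7,5], [0,4,2,5,6,7,2,1,7],
  [0,3,8,7,2,1,4,7], [0,2,8,7,2,3,4], [0,8,6,7,2,4], [4,2,1,6,7,8], [0,2,1,5,4,8], [0,8,7,2,4], [2,8,6,7,2,3,8],
  [1,2,3,4,7,8], [0,1,0,2,3,5], [1,2,3,5,7,8], [0,1,4,5,7,2,1], [2,7,5,4,8,7,2,7], [0,4,2,5,7,2,1,7], [1,2,6,7,5],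
  [5,6,7,2,7], [2,7,5,4], [2,1,5,4,2,1], [1,2,3,4,2,8], [2,6,7,5,4], [5,7,2,7], [1,2,7,5], [1,2,5,4],
  [0,4,5,7,2,1,0,7], [1,4,2,5], [8,6,7,2,4,7,2], [8,7,2,4,7,2], [1,4,2,5,6], [2,7,2,3,5,7,2,7], [1,2,5,4,6],
  [2,1,0,5,7], [1,5,7,2,1], [0,2,3,4,6,8,7], [2,3,4,2,1,8,7], [1,2,1,5,4,2,7], [0,2,1,8,6,7,8], [1,5,6,7,2,1],
  [2,1,0,5,6,7], [2,1,0,5,4,7,2], [4,2,1,5,7], [0,3,6,8,7,2,3], [2,1,5,4,7], [2,1,5,4,6,7], [0,3,6,8,6,7,2,3],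
  [4,2,1,5,6,7], [2,1,0,5,4,7,5], [2,3,6,7,5], [2,1,4,2,3,8], [2,3,4,2,3,8,6], [1,2,3,7,5,4], [0,2,1,4,6,8],
  [2,3,4,2,3,8], [1,2,3,5,4,2], [2,3,7,5], [4,5,7,2,3,7], [2,3,5,6,7,2,7], [0,6,8,6,7,2,1,7,2], [1,2,3,7,2,5],
  [0,1,2,1,6,8], [0,6,8,7,2,1,7,2], [2,3,5,7,2,7], [4,5,6,7,2,3,7], [4,2,3,5,6], [0,3,6,8,7,2,1,7], [2,3,5,4,6],
  [2,3,5,7,2,5,7,2], [1,8,7,2,4,7,2,3], [2,3,5,4], [2,3,5,7,2,5,4,7], [4,2,3,5], [5,7,2,1,3], [0,2,6,8,6,7],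
  [0,3,2,4,6,8,7], [1,6,8,7,2,4,5], [2,1,5,4,2,3,7], [2,7,5,8,7,8], [0,2,6,8,7], [5,6,7,2,1,3], [6,8,6,7,2,4],
  [2,3,7,2,1,5,7], [1,6,8,7,2], [0,6,8,7,2,4,5], [1,2,3,5,7,2,1], [1,6,8,6,7,2], [0,1,0,2,6,8,7], [6,8,7,2,4],
  [0,6,8,6,7,2], [0,1,6,8,7,2,4], [0,2,4,6,8,6,7,5], [2,4,6,8,6,7], [2,4,6,8,7], [0,2,4,6,8,7,5], [0,1,2,6,8,7,5],
  [0,6,8,7,2], [1,2,3,4,2,1,5], [2,3,4,5,6,7,2], [2,3,4,5,7,2,3,4], [2,3,4,2,5,7], [2,3,4,2,1,5,7],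
  [1,2,3,4,5,7,2,7], [2,3,4,5,7,2], [1,2,3,4,2,5], [2,3,4,5,7,2,3,5], [1,2,3,4,5,6,7,2,5], [2,3,4,6,7,2,5],
  [1,2,3,4,6,7,2,5,7], [1,2,3,4,7,2,5,7], [2,3,4,7,2,5], [1,2,3,4,5,7,2,5], [2,3,4,5,6,7,2,3,5], [0,3,5,6,7,8],
  [0,5,4,6,7,8], [1,5,6,7,2,3,8], [5,6,7,2,1,8], [5,6,7,2,8], [1,5,6,7,2,1,3,8], [0,1,5,4,6,7,8], [0,1,0,5,6,7,8],
  [4,2,1,5,6,8,7,5], [2,6,8,6,7,2,4,5], [0,3,8,6,7,2,3,5,8], [1,4,2,6,8,7,5], [1,4,2,5,6,8,7,5],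
  [0,3,4,6,8,7,2,3,5], [2,6,8,7,2,4,5], [4,2,1,6,8,7,5], [1,8,6,7,2,5,8], [4,6,8,7,2,1,5], [0,3,8,6,7,5,8],
  [0,1,8,6,7,5,8], [0,1,4,6,8,7,5], [0,3,4,6,8,7,5], [8,6,7,2,1,5,8], [1,4,6,8,7,2,5], [1,5,4,6,7,5,8],
  [5,6,7,2,1,3,2,4,5,8], [0,1,0,5,4,6,7,2,5,4,8], [0,1,5,4,6,7,2,5,8], [0,1,5,4,6,7,2,5,8,7],
  [2,4,2,1,7,2,8,7,5,8], [5,6,7,2,1,3,2,4,5,8,7], [1,5,4,6,7,5,8,7], [4,2,5,7,2,1,0], [0,2,5,4,7,2,3],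
  [0,2,8,7,2,4,5], [0,3,4,5,7], [2,7,2,8,7,2,4,7], [2,7,5,4,2,8], [2,1,3,5,7,2,8,7,2], [0,1,4,5],
  [0,3,8,7,2,1,0,7], [2,8,7,5,8,6,7,2], [0,1,2,1,5,4,7], [2,1,0,8,7], [1,2,7,8], [0,1,0,2,5,4], [0,2,8,6,7,2],
  [0,8,7,2,3], [4,5,7,2,4,7], [1,4,5,6,7,2,7], [0,2,3,4,2,1,0,8], [4,2,7,5], [4,5,6,7,2,1], [1,4,5,7,2,1,4],
  [0,1,2,8,6,7,8], [2,1,0,5,4,2,6,7], [2,3,4,2,5,4], [2,3,4,2,3,5], [1,2,3,4,5,7,2,4], [2,3,4,5,7,2,4,7],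
  [4,2,6,8,7,2,5], [0,4,6,8,7,2,5], [0,1,4,6,8,7,2,5,4], [4,2,3,6,8,7,5], [0,3,4,5,6,7], [2,8,6,7,2,5,8],
  [2,1,0,8,7,2,4], [0,4,2,5,7,2,5], [0,1,4,5,6], [0,2,8,7,5,8,7,2,4], [2,7,5,4,2,8,6], [2,7,2,8,6,7,2,4,7],
  [0,1,0,2,5,4,6], [1,2,7,8,6], [0,8,6,7,2,3], [0,2,8,7,2], [2,8,7,5,8,7,2], [0,3,8,6,7,2,1,0,7], [1,2,5,4,7,8],
  [0,1,2,8,7,2,1], [4,2,6,7,5], [1,2,1,0,5,4,2,1], [1,4,5,7,2,7], [4,5,6,7,2,4,7], [2,1,0,5,4,2,7],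
  [0,1,2,3,6,8,7], [2,1,5,4,2,7,2], [4,5,7,2,1], [1,2,3,4,5,7,2,3], [2,3,4,5,7,2,3,7], [2,3,4,2,1,3,5],
  [2,3,4,2,1,5,4], [4,2,6,8,7,5,4], [0,1,2,6,8,7,2,4,5], [0,8,6,7,2,5,8], [4,2,5,6,8,7,2,5], [0,2,5,4,7,2,5,4],
  [0,2,8,6,7], [0,5,4,7], [0,2,3,2,8,7], [2,1,0,5,8,7], [0,5,4,6,7], [0,2,8,7], [0,1,2,1,5,4,2,7], [0,1,0,5,4,6],
  [1,2,7,5,8], [2,3,4,7,2,4,8,6], [0,3,2,1,8], [2,3,7,5,8], [2,3,4,7,2,4,8], [0,2,1,3,8], [0,1,0,5,4],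
  [0,2,1,5,4,7,2,1,7], [0,1,0,2,5], [0,3,8,7,2,1,0,4,7], [1,2,4,7,8], [1,2,4,7,8,6], [2,1,3,5,7,2,8,7],
  [0,1,0,2,5,6], [2,8,7,5,8,7,2,4], [0,2,4,8,7,5], [0,8,7,2,3,4], [0,1,2,1,5,7], [2,8,6,7,2,8], [0,2,8,7,2,4],
  [0,1,2,1,5,6,7], [0,8,6,7,2,3,4], [1,2,5,7,8], [0,2,8,7,2,3], [0,8,7,2], [0,2,3,8,6,7,2], [0,2,5,8,7,2],
  [4,2,5,7,2,5,8,7], [0,3,8,6,7,2,1,7], [2,4,2,1,6,7,8], [1,2,3,7,8], [2,1,0,3,8,7], [0,2,3,8,7,2], [0,8,6,7,2],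
  [0,2,8,6,7,2,3], [0,2,1,5,8], [0,1,0,2,3,5,4], [0,3,8,7,2,1,7], [2,8,7,2,5,8,7,5], [0,1,2,1,8,7,2,4,7],
  [0,8,6,7,2,1,4,7], [4,2,6,7,8,7], [2,3,5,7,8], [0,1,2,3,5], [2,3,4,7,8], [0,4,2,5,6,7,2], [0,3,8,7,2,4],
  [2,3,4,7,8,6], [0,1,2,3,5,6], [0,3,8,6,7,2,4], [0,4,2,5,7,2], [0,8,7,2,1,4,7], [2,7,2,8,7,2,4,5,7],
  [2,3,5,7,8,6], [4,2,6,7,8,6,7], [0,2,3,6,8,7], [5,6,7,2,1], [2,1,0,5,4,7], [2,1,5,4,2,7], [2,1,5,4,2,6,7],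
  [2,1,0,5,4,6,7], [5,7,2,1], [1,2,1,0,5,7], [0,2,1,8,6,7,5,8], [0,1,2,5,4,7,8], [0,6,8,6,7,2,3], [2,3,4,6,8,7],
  [1,2,1,5,4,7], [0,6,8,7,2,3], [1,4,2,1,5,7], [0,2,1,8,6,7,2,8], [2,7,5], [1,5,7,2,7], [1,2,6,7,5,4], [2,3,4,2,8],
  [2,3,4,2,8,6], [1,2,7,5,4], [2,1,4,2,8], [2,6,7,5], [2,5,4,6], [2,4,5,6,7,2,4,5], [4,2,5,6], [1,8,7,2,4,7,2],
  [1,8,6,7,2,4,7,2], [4,2,5], [2,4,5,7,2,4,5], [2,5,4], [1,5,6,7,2,1,3], [0,3,2,6,8,7], [0,2,4,6,8,6,7],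
  [6,8,6,7,2,4,5], [6,8,7,2,4,5], [0,2,4,6,8,7], [2,1,0,3,5,7], [1,5,7,2,1,3], [1,6,8,7,2,4], [0,1,2,6,8,7],
  [6,8,6,7,2], [2,3,5,7,2,1], [2,3,5,6,7,2,1], [6,8,7,2], [0,1,2,6,8,6,7], [1,6,8,6,7,2,4], [0,3,6,8,7,2],
  [4,2,1,3,5,6,7], [0,3,2,4,6,8,7,5], [1,2,4,6,8,7], [2,1,3,5,4,7], [2,7,5,8,7,5,8], [4,2,1,3,5,7],
  [0,3,6,8,6,7,2], [1,2,3,7,5], [2,3,5,4,2], [1,2,3,4,2,3,8], [2,3,6,7,5,4], [2,3,7,5,4], [2,1,5,4,2,1,3],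
  [2,3,5,4,2,6], [0,2,1,6,8], [1,4,5,6,7,2,3,7], [1,2,3,5,7,2,7], [4,5,7,2,3,4,7], [2,3,6,7,2,5], [2,3,7,2,5],
  [4,5,6,7,2,3,4,7], [2,1,6,8,7,2,7], [1,4,5,7,2,3,7], [1,4,2,3,5], [0,6,8,6,7,2,1,7], [1,2,3,5,4],
  [8,7,2,4,7,2,3], [8,6,7,2,4,7,2,3], [2,1,4,6,8], [0,6,8,7,2,1,7], [1,4,2,3,5,6], [0,1,4,6,8,7,2,5],
  [0,4,2,6,8,7,2,5], [0,4,6,8,7,2,3,5], [4,2,5,6,8,7,5], [4,2,6,8,7,5], [0,8,6,7,2,3,5,8], [2,1,3,5,7,2,4,5],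
  [0,1,8,6,7,2,5,8], [4,6,8,7,2,5], [1,8,6,7,2,1,5,8], [0,4,6,8,7,5], [0,1,0,4,6,8,7,5], [0,1,0,8,6,7,5,8],
  [0,8,6,7,5,8], [1,4,6,8,7,2,1,5], [8,6,7,2,5,8], [5,4,6,7,5,8,7], [4,2,1,3,2,4,8,7,5,8,7], [0,1,5,4,6,7,2,3,5,8],
  [0,1,0,5,4,6,7,2,5,8,7], [0,1,0,5,4,6,7,2,5,8], [0,1,5,4,6,7,2,5,4,8], [4,2,1,3,2,4,8,7,5,8], [5,4,6,7,5,8],
  [2,3,4,2,5], [1,2,3,4,5,7,2], [2,3,4,5,7,2,7], [2,3,4,2,3,5,4], [1,2,3,4,2,5,7], [2,3,4,5,6,7,2,7],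
  [1,2,3,4,5,6,7,2], [2,3,4,2,1,5], [2,3,4,5,7,2,4,7,5], [2,3,4,5,7,2,5], [1,2,3,4,7,2,5], [2,3,4,7,2,5,7],
  [2,3,4,6,7,2,5,7], [1,2,3,4,6,7,2,5], [2,3,4,5,6,7,2,5], [1,2,3,4,5,7,2,3,5], [0,1,5,6,7,8], [0,1,0,5,4,6,7,8],
  [5,6,7,2,1,3,8], [1,5,6,7,2,8], [1,5,6,7,2,1,8], [5,6,7,2,3,8], [0,3,5,4,6,7,8], [0,5,6,7,8],
  [0,4,2,5,7,2,1,5,7], [0,2,1,3,4,2,8], [2,8,7,2,5,4,8,7], [0,1,0,4,5,6], [0,2,8,7,2,3,4,5], [0,2,5,4,6,7,2],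
  [0,2,1,5,4,7,2,5], [0,4,5,6,7], [4,2,5,6,7,8,6], [2,5,4,7,8], [0,8,6,7,2,1,0,7], [0,2,8,7,2,1,7], [0,3,2,8,7,2],
  [0,3,8,6,7,2,3], [2,7,8,6], [0,1,2,5,4,6], [1,4,5,7,2,1], [4,5,6,7,2,1,4], [4,2,1,5,7,2], [1,2,1,0,5,4,2,7],
  [1,4,5,6,7,2,4,7], [4,5,7,2,7], [2,1,0,5,4,2,1], [1,4,2,6,7,5], [0,8,6,7,2,1,5,8], [0,3,8,6,7,2,5,8],
  [4,2,1,3,6,8,7,5], [1,4,2,6,8,7,5,4], [2,3,4,2,3,5,7], [2,3,4,2,5,4,7], [2,3,4,5,6,7,2,4], [2,3,4,5,7,2,3],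
  [0,1,0,4,5], [0,2,8,7,2,1,4,5,7], [1,2,7,5,4,2,8], [0,2,8,7,2,1,7,5,4], [0,4,5,7], [0,3,2,8,7,2,4,5],
  [0,2,5,4,7,2], [1,4,2,5,7,2,1,0], [0,3,8,7,2,3], [0,3,2,8,6,7,2], [0,1,2,5,4], [2,7,8], [1,2,1,0,8,7],
  [4,2,5,6,7,8], [0,2,8,6,7,2,1,7], [0,8,7,2,1,0,7], [0,2,3,4,2,6,8,7], [4,2,1,5,7,5], [4,5,7,2,1,4],
  [1,4,5,6,7,2,1], [1,4,2,7,5], [2,1,0,5,4,2,1,6], [4,5,6,7,2,7], [1,4,5,7,2,4,7], [1,4,2,3,6,8,7,5],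
  [4,2,1,6,8,7,5,4], [0,3,4,6,8,7,2,5], [0,2,6,8,7,2,4,5], [2,3,4,5,6,7,2,3], [2,3,4,5,7,2,4], [1,2,3,4,2,3,5],
  [1,2,3,4,2,5,4], [0,8,7,2,1,7,8], [0,8,7,2,7,8,7], [0,1,2,1,8,7,2,7,8], [1,2,8,7,2,7,8], [0,6,8,7,2,1,7,8,7],
  [0,6,8,7,2,7,8], [0,8,7,2,1,0,7,2,8], [8,7,2,7,8,7,2], [0,2,3,4,5,7,8,7], [0,2,1,3,4,5,7,8], [1,2,4,5,7,2,5,4,8],
  [0,2,1,4,5,7,2,1,3,8], [0,2,4,5,4,7,2,8,6,7], [0,2,4,5,4,7,2,1,8,6], [0,2,3,4,5,7,2,1,8,7], [0,2,3,4,5,7,2,8],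
  [0,2,6,8,7,2,7,8,6], [0,3,4,5,7,2,4,7,8], [8,7,2,4,7,2,8], [0,2,8,7,2,7,8], [0,2,4,5,4,7,2,3,8,6], [2,4,5,7,5,8],
  [0,2,1,4,5,7,2,8], [0,2,3,4,5,7,2,3,8,7], [0,2,6,8,7,2,7,5,8], [1,8,7,2,7,8,7], [6,8,7,2,7,8,7],
  [1,2,4,5,7,2,1,8], [4,5,7,2,1,7,8], [1,2,4,5,7,2,3,8], [2,4,5,4,7,2,3,8,7,2], [8,7,2,4,7,8,7],
  [0,4,5,7,2,1,0,7,8], [0,8,7,2,3,7,8], [2,8,7,2,7,5,8], [0,4,2,7,8,7,2,7,8], [0,2,4,5,7,8], [2,4,5,4,7,2,1,8,7,5],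
  [0,2,3,4,5,7,2,1,3,8], [0,6,8,7,2,4,7,5,8], [1,8,7,2,1,7,8], [0,3,8,7,2,7,8,7,5], [1,2,4,5,7,2,8,7],
  [4,5,7,2,3,7,8], [0,6,8,7,2,3,7,5,8], [4,5,7,2,7,8,7], [8,7,2,1,4,7,8], [2,3,4,5,7,2,4,8,7,2,1], [2,8,7,2,1,7,8],
  [2,7,8,7,2,7,8], [0,2,4,5,4,7,8,7,2], [0,2,3,2,4,5,7,2,1,8], [2,8,7,2,7,8,7], [1,8,7,2,4,7,2,3,8],
  [2,4,5,7,2,5,4,8,7], [0,2,3,2,4,5,7,2,8,7], [4,6,8,7,2,4,7,5], [1,5,6,8], [1,8,7,2,5,8,6], [1,8,7,8,6],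
  [8,7,2,5,8], [8,7,8], [0,2,4,5,6,8,7,2,1], [5,4,6,8], [0,3,8,7,2,7,8], [2,4,5,7,2,8,7,5], [0,2,3,2,4,5,7,8],
  [0,2,4,5,4,7,2,1,8,7], [2,6,8,7,2,7,8], [0,3,6,8,7,2,7,8,7], [1,2,3,4,5,7,5,8], [0,2,4,5,4,7,2,8]]

/-- transversal -/
def T_4 : List (List ℕ) := [
  [1,4,2,1,3,2,4], [8,7,2,7,8,7,5,8], [4,5,7,8], [8,7,2,1,5,8,6], [1,6,8,7,8], [1,8,7,2,1,5,8], [4,2,1,3,2],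
  [0,2,4,5,6,8,7,2,8], [0,1,0,8,7,5,8,7,2], [0,3,2,6,8,7,8], [0,2,1,6,8,7,8], [0,1,8,7,2,1,0,5,8],
  [0,2,4,2,3,5,4,6], [0,2,3], [0,2,3,2,1], [0,2,3,4,5,4,2,6], [0,2,4,2,1,3,5,4], [0,2,3,2,6], [0,2,1,3,6],
  [0,2,3,2,4,5,4,2], [0,1,8,7,5,8,6,7,2], [0,2,6,8,7,8,6], [0,2,3,2,4,8,7,8], [0,4,2,6,8,7,5,8], [0,2,4,2,7],
  [0,2,4,5,7,2,7], [0,2,4,2,1], [0,2,4,5,7,2,1], [0,1,0,8,7,2,1,5], [2,7,2,8,7,5], [0,1,8,7,2,5],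
  [0,2,1,5,8,7,2,5], [0,1,5,4,7,2,5,4], [2,5,6,7,5,8], [0,2,1], [0,2,4,2,1,5,4,6], [0,2,4,2,7,8,7,5,8],
  [0,2,3,6,8,7,8], [0,3,2], [0,2,4,5,8,7,2], [2,1,8,7,2,5], [1,8,7,5], [5,4,7,5], [1,2,1,8,7,2,1,5], [1,2,1,4,2],
  [1,2,1,0,4,2,5], [2,1,0,4,2,5,7], [2,1,4,2,1], [0,1,8,6,7,2,1,5], [0,4,2,5,7,8], [0,1,0,8,6,7,2,5],
  [2,3,7,8,7,2,5], [0,2,4,2,1,6,7], [0,2,4,5,6,7,2], [0,2,4,2,6], [0,2,4,5,6,7,2,1,7], [0,3,2,1,6], [0,2,4,2,5,4],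
  [0,1,0,5,4,6,7,2,5,4], [0,2,4,8,7,8], [0,2,6], [0,5,7,2,7,5], [2,6,7,2,5,7,8,7,5], [0,2,1,4,2,8,7,8],
  [2,1,4,2,3], [2,1,0,4,2,3,5], [1,2,1,0,4,2,5,4], [1,2,1,4,2,1,3], [2,3,5,8,7,2,5], [8,6,7,5], [1,5,4,6,7,5],
  [2,1,8,7,2,5,4], [0,3,5], [0,2,3,4,8,6], [0,2,1,5,4,2,3], [0,3,2,4,8,6], [2,7,5,4,8,6,7], [0,1,5,6,7],
  [0,2,1,4,8,7], [0,2,5,4,7,2,1,5], [1,2,4,2,8,7], [1,2,5,6,7], [2,3,4,8,7,2], [1,2,5,4,7,5], [2,1,5],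
  [2,4,2,1,8,6], [2,1,5,4,7,2,7], [2,1,0,4,5,4,2,7,5], [2,3,5,6,7], [2,3,5,6,7,2,5], [2,3,5,4,7,5], [2,4,2,3,8,7],
  [0,6,8,6,7,2,4,7], [2,6,8,6], [5,7,2,1,7,2,3], [2,4,5,6,8,7,5], [0,2,6,8,6,7,8], [0,1,0,5,7], [2,1,0,5,7,8],
  [2,3,4,7,2,8,6,7], [0,5,6], [0,2,3,2,4,8], [0,2,1,5,4,2,6], [0,2,4,8], [2,3,6,8], [1,2,4,2,1,8],
  [1,2,1,4,5,4,7,5], [0,6,8,7,2,3,4,7], [2,4,2,8,6,7], [2,5,7], [2,1,5,4,8,7,2], [2,5,4,6,7,5], [0,3,6,8,7,2,4,7],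
  [1,2,6,8], [2,4,2,1,3,8], [2,1,3,4,5,4,7,5], [1,2,3,5,7], [1,2,3,5,7,2,5], [2,1,4,6,8,7,5], [2,7,2,5,7,2,3],
  [0,8,7,2,3,7,8,7,5], [1,4,5,7,2,7,8], [6,8,7,2,4,7,8], [0,2,4,5,4,7,2,8,7,2,1,5], [8,7,2,1,7,8,7],
  [2,4,5,7,2,1,3,8], [2,4,5,7,2,8], [4,6,8,7,2,7,8], [2,8,7,5,8,7,2,8], [0,2,1,4,2,5,7,2,1,8], [0,2,4,5,4,7,8,7,5],
  [0,2,3,2,4,5,7,2,1,3,8,7], [0,2,6,8,7,2,1,7,8], [0,2,4,5,7,8,6,7], [0,2,3,4,8,7,2,7,8], [0,2,4,5,4,7,2,1,3,8],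
  [0,2,4,2,3], [2,3,8,7,2,8,7], [0,2,4,5,7,2,3], [0,1,8,7,2,1,3,5], [0,4,2,7,8,7,5], [0,2,4,2,1,3,6],
  [2,4,2,7,8,6,7,5], [0,2,4,5,6,7,2,3,7], [2,7,2,8,7,2], [1,2,1,0,8,7,2,1], [2,8,6,7,2,1,0,7], [0,3,8,6],
  [0,2,8,7,2,3,7,2], [0,8], [0,4,2,5,7,2,5,8], [1,2,5,4,7,2,1,8], [8,7,2,7,8], [2,4,5,7,2,4,8], [2,4,5,7,2,1,8,7],
  [1,8,7,2,4,7,8], [0,8,7,2,1,7,8,7,5], [4,5,7,2,4,7,8], [1,6,8,7,2,7,8], [0,2,3,4,5,7,2,4,8,7,5], [2,8,7,2,3,7,8],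
  [2,3,4,5,7,5,4,2,8], [1,8,7,2,4,7,2,8,7], [0,2,3,2,4,5,7,2,3,8], [0,2,6,8,7,2,7,8,7], [0,2,1,4,2,5,7,8],
  [0,3,6,8,7,2,3,7,8], [0,2,4,5,4,7,2,3,8,7], [0,2,3,4,5,4,7,2,4], [0,1,0,8,7,2,3,5], [0,2,1,3,2,1,4],
  [1,2,3,8,7,2,8], [0,1,8,6,7,2,3,5], [0,2,4,5,6,7,2,1,3], [2,3,8,7,2,8,6], [0,2,1,3,2,4,6], [0,1,8,7],
  [1,2,8,7,2,5,8], [1,2,5,4,7,2,8,7], [0,2,8,6,7,2,7,5], [1,2,1,0,8,7,2,7], [0,3,2,8,7,2,7,5], [0,1,0,8,6,7],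
  [2,8,7,2,5,8,6], [0,5,7], [0,2,4,8,6,7], [0,1,0,5,6], [0,2,1,4,2,8], [2,3,5,7,5,8], [0,2,1,5,4,2,7],
  [0,2,1,3,4,8], [2,3,4,7,2,8], [2,8,7,2,5,8,7], [0,1,0,8], [2,7,2,8,6,7,2,1], [2,5,4,7,2,8], [0,2,1,3,2,4,2,8],
  [0,2,8,7,2,1,7,5], [0,8,6,7], [1,2,8,6,7,2,1,0], [2,5,6], [1,2,3,4,8,7,2,7], [2,4,5,4,7,5], [2,4,2,8],
  [0,6,8,6,7,2,3,4], [1,2,1,5,7], [0,1,2,5,7,8], [1,2,1,5,4,7,2], [2,3,4,6,7,2,4], [1,2,3,4,2,1,3], [2,3,4,2,1],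
  [1,2,3,4,7,2], [1,5,7,2,1,3,2,4,5], [0,3,4,2,6,8,7,5,4], [0,4,2,5,6,8,7,5], [4,6,8,7,5], [1,2,4,2,3,8],
  [0,2,1,6,8,7,2,7], [2,1,3,5,7], [1,2,4,6,8,7,5], [2,1,6,8], [1,2,3,4,5,4,7,5], [0,1,0,2,3,5,7,8],
  [2,3,5,7,2,1,5], [0,1,5], [0,2,1,4,8,6], [0,3,5,6,7], [0,3,2,4,8,7], [2,7,5,4,8], [0,2,1,5,4,2,1], [0,2,3,4,8,7],
  [0,2,5,4,7,2,3,5], [2,8,7,2,5,7,8], [2,1,0,8,7,2], [0,2,8,7,5,8,6,7,2], [0,1,8,6], [0,3,8,7], [2,8,7,2,1,0],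
  [2,7,2,5,4,2,8], [2,7,2,8,6,7,2,7], [0,3,6,8,7,2,3,4], [2,1,5,6,7], [2,4,2,1,8,7], [2,1,5,4,7,5], [1,2,5],
  [2,3,4,8,6,7,2,7], [1,2,4,5,4,6,7,5], [1,2,4,2,8,6], [5,6,7,2,1,3,2,4,5], [0,4,2,3,6,8,7,5], [0,3,4,2,6,8,7,5],
  [1,8,6,7,5,8], [1,2,3,4,7,2,4], [2,3,4,2,3], [1,2,3,4,2], [2,3,4,6,7,2], [2,6,8,7], [2,4,6,8,6,7,5],
  [2,4,2,3,8,6], [2,3,5,7,2,5,7], [0,1,6,8,7,2], [0,6,8,7,2,4], [2,3,5], [2,3,4,5,4,6,7,5], [0,2,3,2,4,5,7,2,8],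
  [0,2,3,2,4,5,7,2,1,8,7], [0,2,4,5,4,7,2,1,8], [0,2,4,5,4,7,2,8,7], [0,2,4,5,4,7,8,7,2,7], [2,4,5,7,2,5,4,8],
  [0,2,1,3,4,5,7,8,6], [0,2,3,2,4,5,7,8,7], [1,8,7,2,7,8,7,2], [2,7,8,7,2,1,7,8], [0,3,6,8,7,2,7,8],
  [2,6,7,8,7,2,7,8], [2,8,7,2,7,8], [2,8,7,2,1,7,8,7], [0,3,8,7,2,7,8,7], [0,3,8,7,2,1,7,8], [0,2,4,5,4,7,8,7,2,3],
  [0,2,3,2,4,5,7,2,1,3,8], [0,2,4,5,4,7,2,1,3,8,7], [0,2,4,5,7,8,6], [2,7,8,7,2,3,7,8], [1,2,8,7,2,7,5,8],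
  [0,3,8,7,2,3,7,8], [2,4,5,7,2,4,5,8], [0,2,3,4,5,7,2,1,4,8,7,5], [1,8,7,2,1,4,7,8], [1,4,5,7,2,7,8,7],
  [2,4,5,7,2,1,4,8], [1,4,5,7,2,3,7,8], [2,4,5,7,2,8,7], [0,8,7,2,7,8,7,5], [8,7,2,1,7,8], [0,2,3,2,4,5,7,2,3,8,7],
  [0,2,1,4,2,5,7,2,8], [1,2,4,5,7,5,8], [0,2,4,5,4,7,2,3,8], [0,2,8,7,2,7,8,6], [1,8,7,2,4,7,2,8],
  [0,4,5,7,2,4,7,8], [0,2,6,8,7,2,7,8], [1,8,7,2,4,7,8,7], [0,2,4,5,4,7,2,8,7,2,5], [2,4,5,7,2,3,8],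
  [1,4,5,7,2,1,7,8], [2,4,5,7,2,1,8], [1,6,8,7,2,7,8,7], [8,7,2,7,8,7], [2,4,5,7,2,1,8,7,2], [0,2,4,5,4,7,2,8,6],
  [2,3,4,5,7,5,8], [0,6,8,7,2,7,8,7], [0,8,7,2,1,7,8,7], [0,2,4,5,4,7,2,1,8,6,7], [0,2,3,4,5,7,8],
  [0,6,8,7,2,1,7,8], [0,8,7,2,7,8], [0,2,4,5,6,8,7,2], [1,4,2,1,3,2], [8,7,2,1,5,8], [6,8,7,8], [8,7,2,4,8,7,5],
  [1,4,5,7,8], [1,8,7,2,7,8,7,5,8], [4,2,1,3,2,4], [0,2,3,4,5,7,2,8,7], [0,2,1,4,5,7,2,3,8], [8,7,2,4,7,2,3,8],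
  [0,2,8,7,2,3,7,8], [0,2,3,4,5,7,2,1,8], [0,2,3,4,2,5,6,8,7,8], [1,2,7,8,7,2,7,8], [1,2,8,7,2,1,7,8], [2,1,3,2],
  [8,6,7,2,4,8,7,5], [1,8,7,8], [1,8,7,2,5,8], [8,7,8,6], [8,7,2,5,8,6], [5,6,8], [0,6,8,7,2,4,7,2,5],
  [0,3,4,2,6,8,7,5,8], [0,2,3,4,8,7,8], [0,3,2,6,8,7,8,6], [0,1,0,8,7,5,8,6,7,2], [0,2,3,4,5,4,2], [2,6,7,5,8],
  [0,2,3,6], [0,2,4,2,3,5,4], [0,2,4,5,8,7,2,3], [0,2,1,3], [0,2,3,2], [0,2,4,2,1,3,5,4,6], [0,2,4,2,7,8,7,5,4],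
  [2,3,5,6,7,5,8], [0,2,6,8,7,8], [0,1,8,7,5,8,7,2], [0,2,4,5,6,7,2,1], [0,2,4,2,1,6], [0,2,4,5,6,7,2,7],
  [0,2,4,2,6,7], [0,4,2,5,7,8,7], [0,1,8,6,7,2,5], [0,3,4,2,5,7,8], [2,7,5,8,7,2,4,5], [0,2,1,4,8,7,8],
  [0,4,2,3,6,8,7,5,8], [0,3,5,7,2,7,5], [0,3,2,6], [0,3,2,4,8,7,8], [0,1,5,4,6,7,2,5,4], [0,2,4,2,1,5,4],
  [0,2,1,6], [1,2,1,8,7,2,5,4], [5,4,6,7,5], [1,8,6,7,5], [2,1,8,6,7,2,5], [2,1,4,2,1,3], [2,1,0,4,2,5,4],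
  [1,2,1,0,4,2,3,5], [1,2,1,4,2,3], [2,7,2,5,8,7,5], [0,1,0,8,7,2,5], [0,4,2,5,7,8,6], [0,1,8,7,2,1,5],
  [0,2,4,5,7,2,1,7], [0,2,4,2], [0,2,4,5,7,2], [0,2,4,2,1,7], [0,5,6,7,2,7,5], [0,2], [2,1,0,5,6,7,8],
  [0,1,8,7,2,1,0,5,4], [0,2,4,2,5,4,6], [0,3,2,1], [2,4,8,7,2,8], [0,1,0,5,4,7,2,5,4], [1,2,1,4,2,1],
  [1,2,1,0,4,2,5,7], [2,1,0,4,2,5], [2,1,4,2], [2,1,8,7,2,1,5], [1,5,4,7,5], [8,7,5], [1,2,1,8,7,2,5], [0,3,2,4,8],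
  [2,3,4,6,7,2,8], [0,2,3,4,8], [0,3,5,6], [0,2,1,5,4,2,1,7], [0,2,1,4,8,6,7], [0,1,5,7], [2,7,5,4,8,7],
  [1,2,5,4,6,7,5], [2,3,4,8,6,7,2], [1,2,5,7], [2,7,2,5,7,2], [0,3,6,8,7,2,3,4,7], [2,1,4,5,4,7,5], [2,4,2,1,8],
  [2,1,5,6], [2,4,2,3,8,6,7], [2,3,5,4,6,7,5], [2,3,5,7,2,5], [2,3,5,7], [2,4,5,6,8,6,7,5], [0,1,6,8,7,2,7],
  [2,6,8], [0,6,8,7,2,4,7], [2,3,4,7,2,8,7], [0,2,1,4,2,8,7], [0,1,0,5,6,7], [0,2,1,3,4,8,7], [0,2,4,8,6],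
  [0,2,1,5,4,2], [2,1,0,5,4,8], [0,5], [0,6,8,6,7,2,3,4,7], [1,2,1,5,4,7,2,7], [5,7,2,1,7,2], [1,2,1,5],
  [2,5,4,7,5], [1,2,3,4,8,7,2], [2,5,6,7], [2,4,2,8,7], [1,2,4,5,6,8,7,5], [2,4,2,1,3,8,6], [2,1,3,5],
  [2,3,5,7,2,1,5,7], [0,1,6,8,7,2,1], [1,2,3,5,4,7,5], [0,2,1,6,8,7,2], [2,1,6,8,7], [2,3,4,5,7,2,4,8,7,2],
  [6,8,7,2,7,8], [1,4,5,7,2,4,7,8], [2,6,8,7,2,7,5,8], [8,7,2,4,7,8], [0,6,8,7,2,7,5,8], [1,2,4,5,7,2,4,8],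
  [1,8,7,2,7,8], [2,4,5,4,7,2,8,7,5], [0,6,8,7,2,3,7,8], [0,2,1,4,5,7,8], [0,8,7,2,1,0,7,8], [0,2,3,4,5,7,2,3,8],
  [8,7,2,4,7,2,8,7], [0,2,1,4,5,7,2,8,7], [0,2,8,7,2,7,8,7], [2,6,7,2,5,4,8], [0,4,2,3,5,7,8],
  [0,2,3,4,5,4,6,7,2,4], [0,1,0,8,6,7,2,3,5], [2,3,8,7,2,8], [0,2,1,3,2,4], [0,1,8,7,2,3,5], [0,2,4,5,7,2,1,3],
  [1,2,8,7,2,5,8,6], [0,1,8,6,7], [0,2,8,7,2,7,5], [2,1,0,8,7,2,7], [0,2,8,6,7,2,7,5,8], [2,5,4,7,2,8,7],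
  [2,8,7,2,5,8], [0,1,0,8,7], [1,4,6,8,7,2,7,8], [1,2,4,5,7,2,8], [0,6,8,7,2,7,5,4,8], [1,8,7,2,1,7,8,7],
  [2,4,5,4,7,2,3,8,7,2,1], [1,6,8,7,2,4,7,8], [4,5,7,2,7,8], [0,2,6,8,7,2,1,7,5,8], [0,1,2,1,8,7,2,4,7,5,8],
  [0,2,1,4,5,7,2,4,5,8], [0,2,4,5,7,8,7], [0,8,7,2,3,7,8,7], [0,2,3,4,5,7,2,1,3,8,7], [8,7,2,4,7,2,1,8],
  [0,2,1,4,5,7,2,1,8], [0,2,8,7,2,1,7,8], [0,2,4,5,6,7,2,3], [0,1,8,6,7,2,1,3,5], [0,2,4,2,3,6], [2,3,7,8,7,2,8],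
  [2,4,2,7,8,7,5], [0,2,4,5,7,2,3,7], [0,2,4,2,6,8,7,8], [0,2,4,2,1,3], [2,5,4,7,2,1,8], [2,7,2,8,6,7,2], [0,3,8],
  [2,8,7,2,1,0,7], [0,8,6], [0,2,8,6,7,2,3,7,2], [2,1,0,8,7,2,1], [1,2,7,2,8,7,2], [0,2,5,4,7,2,5],
  [0,2,3,2,4,8,7], [2,3,4,7,2,8,6], [1,2,7,5,4,8], [0,2,4,8,7], [0,5,6,7], [2,3,7,5,4,8], [0,1,0,5],
  [0,2,8,6,7,2,1,7,5], [1,2,7,2,5,4,2,8], [1,2,8,7,2,1,0], [0,8,7], [0,1,0,8,6], [2,8,7,2,5,8,6,7],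
  [1,2,1,0,8,7,2], [2,7,2,8,7,2,1], [2,4,2,8,6], [2,4,5,4,6,7,5], [2,1,5,4,8,7,2,7], [2,5], [1,2,1,5,4,7,5],
  [0,1,2,5,7,8,6], [2,3,6,8,7], [0,6,8,7,2,3,4], [1,2,3,4,6,7,2], [2,3,4,2], [1,2,3,4,2,3], [2,3,4,7,2,4],
  [8,6,7,5,8], [0,4,2,6,8,7,5], [0,3,4,2,3,6,8,7,5], [4,2,1,3,2,4,8,7,5], [2,1,4,5,6,8,7,5], [1,2,3,5],
  [0,3,6,8,7,2,4], [0,1,0,6,8,7,2], [1,2,3,5,7,2,5,7], [1,2,4,2,3,8,6], [2,1,3,5,4,7,5], [1,2,6,8,7],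
  [1,2,3,4,7,2,8], [2,7,5,4,8,6], [0,2,1,5,4,2,3,7], [0,2,3,4,8,6,7], [0,2,1,4,8], [0,1,5,6], [2,5,7,5,8],
  [0,3,5,7], [2,8,6,7,2,1,0], [0,3,8,6,7], [2,7,2,8,7,2,7], [2,7,2,5,4,2,8,6], [1,2,5,4,7,2,8], [0,4,2,5,7,2,5,4],
  [0,1,8], [0,2,8,7,5,8,7,2], [2,1,5,4,7,2], [0,1,0,2,5,7,8], [2,1,5,7], [2,1,0,5,4,2,7,2], [1,2,4,2,8],
  [1,2,4,5,4,7,5], [2,3,4,8,7,2,7], [1,2,5,6], [1,4,6,8,7,5], [0,3,4,2,5,6,8,7,5], [0,4,2,6,8,7,5,4],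
  [5,7,2,1,3,2,4,5], [2,3,4,7,2], [1,2,3,4,2,1], [2,3,4,2,1,3], [1,2,3,4,6,7,2,4], [0,6,8,6,7,2,4],
  [0,1,2,3,5,7,8], [2,3,4,5,4,7,5], [2,3,5,6], [2,4,6,8,7,5], [2,6,8,6,7], [2,3,5,6,7,2,5,7], [2,4,2,3,8]]

/-- transversal -/
def T : List (List ℕ) := T_0 ++ (T_1 ++ (T_2 ++ (T_3 ++ (T_4))))

/-- the generators of the next level as words -/
def U : List (List ℕ) := [[4,8,5,4],[1,2,4,7,0,2,4,1,2,0]]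

/-- generators of the next level -/
def gs' : List ℕ := [0x20008000800100020008001000100020004000800100040008000800200020008001000100040008000000000040000000800100020008000000100020004000800100000000000800200000008001000100040008001000100020004000000200000004000800200040008001000200020004001000100000000000800200020000000800200020004001000000000004000800200040008001000200000004001000100040004000800000000004000800200020004000000000040004000000000040008001000200020004001000000040004000800200020004000800200040008000800100020000001000100020004000800000000008000800000020008001000100040000001000100040000000800100000008001000100020000000800100040008000000000020008001000100040008001000100020004001000200000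004000800000040008001000000020000001000100040004000000200020004000800200020004001000200040004000800200000008001000200020004001000000000004000000000020004000800200020004001000200040004000000200040000001000200020004001000100040004000000200000000000800200020004001000200040004000800200040008000000200020000001000000040000000800200000004000800200020004001000200040000000800000040008001000200020004000000100000004000800200000004000800200040000000800000020000001000100020004000800100040008000800200020000000000100040008001000100040000000800100020008001000000020004000000100040008000800200020008001000000040000001000100020004001000200040004000000200040008001000000020004000000100040000000800000020004000800200040008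0008001000000000000001000000040000001000400080008002000200080010001000400080010001000200000000002000400040008002000000080010000000200040010001000400040008002000000040008002000400080000001000200080010001000200040000001000000080000002000200080000001000400080010001000400080008001000200080010000000000000008001000000080008002000200000010001000400080010001000200040010000000400040008002000000080010002000200000000001000400040008002000200000008002000400080008000000200080010001000200000000000000400080008002000000080010001000400080010001000400080000001000200000010001000200000008001000400000008002000200080010000000400080010001000000080008001000200080010001000200040008001000400080008002000200080010001000400080008000000000040010002000400040008002000400080010002000200040010001000400040008002000200040000001,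 0x200000000000000000000000000000000000000000000000000000000000000000000000000000000000000000000000000000000000000000000000000000010000000000000000000000000000000000000000000000000000000000000000000000000000000000000000000001000000000000000000000000000000000000000000000000000000008000000000000000000000000000000000000000000000000000000000000000000000000000000000000000000000000000040000000000000000000000000000000000000000000000000000000000000000000000000000000000000000000000000000000000000000000000000010000000000000000000000000000000000000000000000000000000000000000000000000000000000000000000000000000000000000000200000000000000000080000000000000000000000000000000000000000000000000000000000000000000000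000000000000000000000000000000000000000000000000000000000000000000000000000400000000000000000000000000000000000000000000000000010000000000000000000000000000000000000000000000000000000000000000000000000000000000000000000001000000000000000000000000000000000000000000000000000000000000000000000000001000000000000000000000000000000000000000000000000000000000000000000000000000000000000000000000000000000000000000000000000000000080000000000000000000000000000000000000000000000000000000000000000000000000000000000000000000000000000000080000000000000000000000000000000000000000400000000000000000000000000000000000000000000000000000000000000000000000000000000000000000000000000000000400000000000000000000000000000000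000000000000000000000000000000000000000000000000000000000000000000000000000000000002000000000000000000000000000000000000000000000000000000000000000000000000000000200000000000000000000000000000000000000000000000000000000000000000000000000000000000000000000000000000000000000008000000000000000000000000000000000000000000000000000000000000000000000000000000000000000000002000000000000000000000000000000000000000000000000000040000000000000000000000000000000000000000000000000000000000000000000000000000000000000000000000000000000000000000000000000000000000000080000000000000000000000000000000000000000000000000000000000000000000000000000000000000000000008000000000000000000000000000000000000000000000000000000000000000000000000000000000000000000001]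

theorem row : (Nat.blt V (2 ^ (15 * 24)) && allBelow (fun i => Nat.blt (dg 15 V i) 3) 24) = true := by decide +kernel

theorem inc : incr gs V T = true := by decide +kernel

theorem len : T.length = 4600 := by decide +kernel

theorem word_0 : wordIs gs (U.getD 0 []) (gs'.getD 0 0) = true := by decide +kernel

theorem fixr_0 : Nat.beq (run cfg [gs'.getD 0 0] V) V = true := by decide +kernel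

theorem word_1 : wordIs gs (U.getD 1 []) (gs'.getD 1 0) = true := by decide +kernel

theorem fixr_1 : Nat.beq (run cfg [gs'.getD 1 0] V) V = true := by decide +kernel

end Cfsg.Agent.Co2Type.Chain0
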