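import Cfsg.Agent.Co2Type.TGroup
import Cfsg.Agent.SporadicStructure.XiMap
set_option linter.all false

/-!
Kernel checks for `Cfsg.Agent.Co2Type.TClass`.
-/

set_option autoImplicit false

namespace Cfsg.Agent.Co2Type.TChecks

open Cfsg Cfsg.Agent.SporadicA.GolayBase Cfsg.Agent.SporadicA.GolayPerm
open Cfsg.Agent.SporadicStructure.M24El
open Cfsg.Agent.SporadicStructure
open Cfsg.Agent.Co2Type.Mono Cfsg.Agent.Co2Type.TData Cfsg.Agent.Co2Type.TGroup

/-- The sextet. -/
def Tm (p : GolayPt) : Fin 6 := Fin.ofNat 6 (tet.getD (idx p) 0)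

theorem isSextet : XiMap.IsSextetMap Tm where
  card_fiber := by decide +kernel
  union_mem := by
    intro t u htu
    rw [mem_golayCode_iff]
    revert t u
    decide +kernel

theorem ok_sig : ok sig = true := by decide +kernel

/-- Entries of `ξ` (times 8): coordinate `p` of the image of `8 e_j`. -/
def xe (j p : ℕ) : ℤ :=
  (if tet.getD p 0 = 0 then -1 else 1) *
    ((if j = p then 8 else 0) - (if tet.getD j 0 = tet.getD p 0 then 4 else 0))

theorem tm_zero_iff (p : GolayPt) : Tm p = 0 ↔ tet.getD (idx p) 0 = 0 := by
  revert p; decide +kernel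

theorem tm_eq_iff (p q : GolayPt) : Tm p = Tm q ↔ tet.getD (idx p) 0 = tet.getD (idx q) 0 := by
  revert p q; decide +kernel

/-- Check of the relation `k0 * mo c P = mo e idP * k0`. -/
def relOK (c P e : ℕ) : Bool :=
  (List.range 24).all fun i => (List.range 24).all fun q =>
    decide ((if c.testBit (papp P i) then -1 else 1) * xe (papp P i) q =
      (if e.testBit (papp sig q) then -1 else 1) * xe i q)

theorem k0_leechU_check : ∀ q : GolayPt, XiMap.xiFun Tm Spor.vecU q =
    if papp sig (idx q) = 0 ∨ papp sig (idx q) = 23 then 4 else 0 := by decide +kernel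

theorem PT_ok : (PT.all fun P => okP P && Nat.blt P (2 ^ 120)) = true := by decide +kernel

/-- The representative permutation of type `k`. -/
def pt3 (k : ℕ) : ℕ := PT.getD k idP

theorem reps_check : (reps.all fun r => inE r.2.1 && inE r.2.2 && relOK r.2.1 (pt3 r.1) r.2.2) = true := by
  decide +kernel

theorem cosG_ok : (cosG.all fun P => okP P) = true := by decide +kernel

/-- Check of a row of `cos`. -/
def cosOK (x : ℕ × ℕ × ℕ × ℕ × ℕ) : Bool :=
  inE x.2.1 && inE x.2.2.2.1 && reps.any fun r => Nat.beq r.1 x.1 &&
    Nat.beq (pcomp (cosG.getD x.2.2.1 idP) (pt3 x.1)) (pcomp (pt3 x.1) (cosG.getD x.2.2.1 idP)) &&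
    Nat.beq (Nat.xor x.2.2.2.1 (pimg (cosG.getD x.2.2.1 idP) x.2.1))
      (Nat.xor r.2.1 (pimg (pt3 x.1) x.2.2.2.1))

theorem cos_check : (cos.all cosOK) = true := by decide +kernel

theorem cos_cover : ((List.range 3).all fun k =>
    allSp2 (B10.map fun b => (b, pimg (pt3 k) b)) (fun n n' => cond (Nat.beq n n')
      (cos.any fun x => Nat.beq x.1 k && Nat.beq x.2.1 n) true) 0 0) = true := by decide +kernel

theorem rows_check : (rows.all fun r => memL r.P L22 && okP r.h && Nat.blt r.k 3 &&
    Nat.beq (pcomp r.h r.P) (pcomp (pt3 r.k) r.h) && Nat.beq (pcomp r.P r.P) idP) = true := by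
  decide +kernel

theorem rows_cover : (L22.all fun P => cond (Nat.beq (pcomp P P) idP)
    (Nat.beq P idP || rows.any fun r => Nat.beq r.P P) true) = true := by decide +kernel

theorem mg_ok : (mg.all fun P => okP P && Nat.blt P (2 ^ 120)) = true := by decide +kernel

/-- Check of a tree: every node is the image of its parent. -/
def chkT : Tr → ℕ → Bool
  | .leaf, _ => true
  | .node g m c s, a => Nat.beq (pimg (mg.getD g idP) a) m && chkT c m && chkT s a

/-- Membership in a tree. -/
def memT (x : ℕ) : Tr → Bool
  | .leaf => false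
  | .node _ m c s => cond (Nat.beq m x) true (memT x c || memT x s)

theorem chkZ : chkT treeZ mz = true := by decide +kernel
theorem chkY : chkT treeY my = true := by decide +kernel
theorem chkV : chkT treeV mv = true := by decide +kernel

theorem E_cover : allSp B10 (fun m => Nat.beq m 0 || Nat.beq m mz || Nat.beq m my || Nat.beq m mv ||
    memT m treeZ || memT m treeY || memT m treeV) 0 = true := by decide +kernel

theorem inE_mz : inE mz = true := by decide +kernel
theorem inE_my : inE my = true := by decide +kernel
theorem inE_mv : inE mv = true := by decide +kernel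

end Cfsg.Agent.Co2Type.TChecks
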